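import Groth.Agent.Limits.DescentSetup

/-!
# Descent in the form "base change of `f₀` along the system"
-/

set_option backward.isDefEq.respectTransparency false
set_option backward.defeqAttrib.useBackward true

universe u

open CategoryTheory Limits AlgebraicGeometry

namespace Groth.Limits

variable {I : Type u} [Category.{u} I] {D : I ⥤ Scheme.{u}} {T : Scheme.{u}}

instance isAffineHom_const_map {i j : I} (m : i ⟶ j) :
    IsAffineHom (((Functor.const I).obj T).map m) :=
  inferInstanceAs (IsAffineHom (𝟙 T))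

/-- The system above `i₀`, base changed along `g₀`, maps to the source of `g₀`. -/
noncomputable def pullbackTrans (D : I ⥤ Scheme.{u}) {i₀ : I} {Y₀ : Scheme.{u}}
    (g₀ : Y₀ ⟶ D.obj i₀) : pullbackDiagram D i₀ g₀ ⟶ (Functor.const (Over i₀)).obj Y₀ where
  app j := pullback.snd (D.map j.hom) g₀
  naturality j k m := by
    simp [pullbackDiagram]

/-- The system above `i₀` maps to the stage `i₀`. -/
noncomputable def overTrans (D : I ⥤ Scheme.{u}) (i₀ : I) :
    Over.forget i₀ ⋙ D ⟶ (Functor.const (Over i₀)).obj (D.obj i₀) where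
  app j := D.map j.hom
  naturality j k m := by simp [← D.map_comp]

section

variable {i₀ : I} {X₀ Y₀ X Y : Scheme.{u}} {f₀ : X₀ ⟶ Y₀} {g₀ : Y₀ ⟶ D.obj i₀} {f : X ⟶ Y}
  {c : Cone D} {g : Y ⟶ c.pt} {qY : Y ⟶ Y₀} {qX : X ⟶ X₀}

theorem prop_snd_of_isPullback (P : MorphismProperty Scheme.{u}) [P.RespectsIso]
    (hY : IsPullback qY g g₀ (c.π.app i₀)) (hX : IsPullback qX f f₀ qY) (h : P f) :
    P (pullback.snd f₀ (pullback.snd (c.π.app i₀) g₀)) := by
  let e := hY.flip.isoPullback
  have he : e.inv ≫ qY = pullback.snd (c.π.app i₀) g₀ := hY.flip.isoPullback_inv_snd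
  have h' : IsPullback qX (f ≫ e.hom) f₀ (pullback.snd (c.π.app i₀) g₀) :=
    hX.of_iso (Iso.refl _) (Iso.refl _) e (Iso.refl _) (by simp) (by simp) (by simp)
      (by simp [← he])
  rw [← h'.isoPullback_inv_snd, P.cancel_left_of_respectsIso, P.cancel_right_of_respectsIso]
  exact h

/-- A property of a stage passes to the base change to the limit. -/
theorem prop_of_stage (P : MorphismProperty Scheme.{u}) [P.IsStableUnderBaseChange]
    (hY : IsPullback qY g g₀ (c.π.app i₀)) (hX : IsPullback qX f f₀ qY) {j : I} (φ : j ⟶ i₀)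
    {Xj Yj : Scheme.{u}} {fj : Xj ⟶ Yj} {gj : Yj ⟶ D.obj j} {pY : Yj ⟶ Y₀} {pX : Xj ⟶ X₀}
    (hYj : IsPullback pY gj g₀ (D.map φ)) (hXj : IsPullback pX fj f₀ pY) (h : P fj) : P f := by
  let r : Y ⟶ Yj := hYj.lift qY (g ≫ c.π.app j) (by rw [hY.w, Category.assoc, c.w])
  have hr : r ≫ pY = qY := hYj.lift_fst _ _ _
  let s : X ⟶ Xj := hXj.lift qX (f ≫ r) (by rw [hX.w, Category.assoc, hr])
  have hs : IsPullback s f fj r := by
    refine IsPullback.of_right ?_ (hXj.lift_snd _ _ _) hXj
    rw [show s ≫ pX = qX from hXj.lift_fst _ _ _, hr]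
    exact hX
  exact P.of_isPullback hs h

variable [IsCofiltered I] [∀ (i j : I) (m : i ⟶ j), IsAffineHom (D.map m)]

theorem compactSpace_pullbackDiagram [CompactSpace Y₀] :
    CompactSpace ((pullbackDiagram D i₀ g₀).obj (Over.mk (𝟙 i₀))) :=
  QuasiCompact.compactSpace_of_compactSpace (pullback.snd (D.map (𝟙 i₀)) g₀)

variable (hc : IsLimit c) (hY : IsPullback qY g g₀ (c.π.app i₀)) (hX : IsPullback qX f f₀ qY)

include hc hY hX in
/-- If the base change of `f₀` to the limit is affine, so is it at some stage. -/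
theorem exists_isAffineHom_stage [CompactSpace Y₀] [QuasiCompact f₀] [QuasiSeparated f₀]
    [IsAffineHom f] : ∃ j : Over i₀,
      IsAffineHom (pullback.snd f₀ (pullback.snd (D.map j.hom) g₀)) := by
  have := compactSpace_pullbackDiagram (g₀ := g₀)
  let t := pullbackTrans D g₀
  have : ∀ j, QuasiCompact ((bcTrans t f₀).app j) := fun j ↦
    inferInstanceAs (QuasiCompact (pullback.snd f₀ (t.app j)))
  have : ∀ j, QuasiSeparated ((bcTrans t f₀).app j) := fun j ↦
    inferInstanceAs (QuasiSeparated (pullback.snd f₀ (t.app j)))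
  have hτ : ∀ j, (pullbackCone D i₀ g₀ c).π.app j ≫ t.app j = pullback.snd (c.π.app i₀) g₀ :=
    fun j ↦ pullback.lift_snd _ _ _
  have : IsAffineHom (pullback.snd f₀ (pullback.snd (c.π.app i₀) g₀)) :=
    prop_snd_of_isPullback @IsAffineHom hY hX inferInstance
  obtain ⟨j, -, hj⟩ := exists_isAffineHom (bcTrans t f₀) (isLimitBcCone t f₀ _ _ hτ
      (isLimitPullbackCone D i₀ g₀ hc)) (isLimitPullbackCone D i₀ g₀ hc) _ (bcCone_w t f₀ _ _ hτ)
    (Over.mk (𝟙 i₀))
  exact ⟨j, hj⟩

include hc hY hX in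
/-- If the base change of `f₀` to the limit is a closed immersion, so is it at some stage. -/
theorem exists_isClosedImmersion_stage [CompactSpace Y₀] [QuasiCompact f₀] [QuasiSeparated f₀]
    [LocallyOfFiniteType f₀] [IsClosedImmersion f] : ∃ j : Over i₀,
      IsClosedImmersion (pullback.snd f₀ (pullback.snd (D.map j.hom) g₀)) := by
  have := compactSpace_pullbackDiagram (g₀ := g₀)
  let t := pullbackTrans D g₀
  have : ∀ j, QuasiCompact ((bcTrans t f₀).app j) := fun j ↦
    inferInstanceAs (QuasiCompact (pullback.snd f₀ (t.app j)))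
  have : ∀ j, QuasiSeparated ((bcTrans t f₀).app j) := fun j ↦
    inferInstanceAs (QuasiSeparated (pullback.snd f₀ (t.app j)))
  have : ∀ j, LocallyOfFiniteType ((bcTrans t f₀).app j) := fun j ↦
    inferInstanceAs (LocallyOfFiniteType (pullback.snd f₀ (t.app j)))
  have hτ : ∀ j, (pullbackCone D i₀ g₀ c).π.app j ≫ t.app j = pullback.snd (c.π.app i₀) g₀ :=
    fun j ↦ pullback.lift_snd _ _ _
  have : IsClosedImmersion (pullback.snd f₀ (pullback.snd (c.π.app i₀) g₀)) :=
    prop_snd_of_isPullback @IsClosedImmersion hY hX inferInstance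
  obtain ⟨j, -, hj⟩ := exists_isClosedImmersion (bcTrans t f₀) (isLimitBcCone t f₀ _ _ hτ
      (isLimitPullbackCone D i₀ g₀ hc)) (isLimitPullbackCone D i₀ g₀ hc) _ (bcCone_w t f₀ _ _ hτ)
    (Over.mk (𝟙 i₀)) (fun _ _ _ ↦ liftMap_bcTrans t f₀ @IsClosedImmersion _)
  exact ⟨j, hj⟩

include hc hY hX in
/-- If the base change of `f₀` to the limit is integral, it is finite at some stage. -/
theorem exists_isFinite_stage [CompactSpace Y₀] [QuasiCompact f₀] [QuasiSeparated f₀]
    [LocallyOfFiniteType f₀] [IsIntegralHom f] : ∃ j : Over i₀,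
      IsFinite (pullback.snd f₀ (pullback.snd (D.map j.hom) g₀)) := by
  have := compactSpace_pullbackDiagram (g₀ := g₀)
  let t := pullbackTrans D g₀
  have : ∀ j, QuasiCompact ((bcTrans t f₀).app j) := fun j ↦
    inferInstanceAs (QuasiCompact (pullback.snd f₀ (t.app j)))
  have : ∀ j, QuasiSeparated ((bcTrans t f₀).app j) := fun j ↦
    inferInstanceAs (QuasiSeparated (pullback.snd f₀ (t.app j)))
  have : ∀ j, LocallyOfFiniteType ((bcTrans t f₀).app j) := fun j ↦
    inferInstanceAs (LocallyOfFiniteType (pullback.snd f₀ (t.app j)))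
  have hτ : ∀ j, (pullbackCone D i₀ g₀ c).π.app j ≫ t.app j = pullback.snd (c.π.app i₀) g₀ :=
    fun j ↦ pullback.lift_snd _ _ _
  have : IsIntegralHom (pullback.snd f₀ (pullback.snd (c.π.app i₀) g₀)) :=
    prop_snd_of_isPullback @IsIntegralHom hY hX inferInstance
  obtain ⟨j, -, hj⟩ := exists_isFinite (bcTrans t f₀) (isLimitBcCone t f₀ _ _ hτ
      (isLimitPullbackCone D i₀ g₀ hc)) (isLimitPullbackCone D i₀ g₀ hc) _ (bcCone_w t f₀ _ _ hτ)
    (Over.mk (𝟙 i₀)) (fun _ _ _ ↦ liftMap_bcTrans t f₀ @IsFinite _)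
  exact ⟨j, hj⟩

include hc hY hX in
/-- If the base change of `f₀` to the limit is separated, so is it at some stage. -/
theorem exists_isSeparated_stage [CompactSpace Y₀] [QuasiCompact f₀] [QuasiSeparated f₀]
    [IsSeparated f] : ∃ j : Over i₀,
      IsSeparated (pullback.snd f₀ (pullback.snd (D.map j.hom) g₀)) := by
  have := compactSpace_pullbackDiagram (g₀ := g₀)
  let t := pullbackTrans D g₀
  have : ∀ j, QuasiCompact ((bcTrans t f₀).app j) := fun j ↦
    inferInstanceAs (QuasiCompact (pullback.snd f₀ (t.app j)))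
  have : ∀ j, QuasiSeparated ((bcTrans t f₀).app j) := fun j ↦
    inferInstanceAs (QuasiSeparated (pullback.snd f₀ (t.app j)))
  have : CompactSpace ((bcDiagram t f₀).obj (Over.mk (𝟙 i₀))) :=
    QuasiCompact.compactSpace_of_compactSpace ((bcTrans t f₀).app (Over.mk (𝟙 i₀)))
  have hτ : ∀ j, (pullbackCone D i₀ g₀ c).π.app j ≫ t.app j = pullback.snd (c.π.app i₀) g₀ :=
    fun j ↦ pullback.lift_snd _ _ _
  have : IsSeparated (pullback.snd f₀ (pullback.snd (c.π.app i₀) g₀)) :=
    prop_snd_of_isPullback @IsSeparated hY hX inferInstance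
  obtain ⟨j, -, hj⟩ := exists_isSeparated (bcTrans t f₀) _ (bcCone_w t f₀ _ _ hτ)
    (isLimitBcCone t f₀ _ _ hτ (isLimitPullbackCone D i₀ g₀ hc))
    (isLimitPullbackCone D i₀ g₀ hc) (Over.mk (𝟙 i₀))
  exact ⟨j, hj⟩

end

section structureMap

variable [IsCofiltered I] (t : D ⟶ (Functor.const I).obj T) {c : Cone D} (hc : IsLimit c)
  [∀ (i j : I) (m : i ⟶ j), IsAffineHom (D.map m)]

include hc in
/-- An eventually affine structure map. -/
theorem exists_isAffineHom_app [CompactSpace T] (i₀ : I) [QuasiCompact (t.app i₀)]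
    [QuasiSeparated (t.app i₀)] [IsAffineHom (c.π.app i₀ ≫ t.app i₀)] :
    ∃ i₁ : I, ∀ (i : I) (_ : i ⟶ i₁), IsAffineHom (t.app i) := by
  have : IsConnected I := IsCofiltered.isConnected I
  have : CompactSpace (((Functor.const I).obj T).obj i₀) := inferInstanceAs (CompactSpace T)
  obtain ⟨k, -, hk⟩ := exists_isAffineHom t hc (isLimitConstCone I T) (c.π.app i₀ ≫ t.app i₀)
    (fun j ↦ (Category.comp_id _).trans (π_app_comp_eq t c i₀ j)) i₀
  exact ⟨k, fun i m ↦ app_of_hom t @IsAffineHom m hk (isAffineHom_liftMap t m)⟩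

include hc in
/-- An eventually separated structure map. -/
theorem exists_isSeparated_app (i₀ : I) [CompactSpace (D.obj i₀)] [∀ i, QuasiCompact (t.app i)]
    [∀ i, QuasiSeparated (t.app i)] [IsSeparated (c.π.app i₀ ≫ t.app i₀)] :
    ∃ i₁ : I, ∀ (i : I) (_ : i ⟶ i₁), IsSeparated (t.app i) := by
  have : IsConnected I := IsCofiltered.isConnected I
  obtain ⟨k, -, hk⟩ := exists_isSeparated t (cY := constCone I T) (c.π.app i₀ ≫ t.app i₀)
    (fun j ↦ (Category.comp_id _).trans (π_app_comp_eq t c i₀ j)) hc (isLimitConstCone I T) i₀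
  refine ⟨k, fun i m ↦ app_of_hom t @IsSeparated m hk ?_⟩
  have := isAffineHom_liftMap t m
  infer_instance

include hc in
/-- An eventually closed immersion structure map. -/
theorem exists_isClosedImmersion_app [CompactSpace T] (i₀ : I) [∀ i, QuasiCompact (t.app i)]
    [∀ i, QuasiSeparated (t.app i)] [∀ i, LocallyOfFiniteType (t.app i)]
    (hD : ∀ (i j : I) (m : i ⟶ j), IsClosedImmersion (D.map m))
    [IsClosedImmersion (c.π.app i₀ ≫ t.app i₀)] :
    ∃ i₁ : I, ∀ (i : I) (_ : i ⟶ i₁), IsClosedImmersion (t.app i) := by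
  have : IsConnected I := IsCofiltered.isConnected I
  have : CompactSpace (((Functor.const I).obj T).obj i₀) := inferInstanceAs (CompactSpace T)
  have hl (j k : I) (m : k ⟶ j) : IsClosedImmersion (liftMap t m) :=
    liftMap_const_of_map t @IsClosedImmersion m (hD _ _ m)
  obtain ⟨k, -, hk⟩ := exists_isClosedImmersion t hc (isLimitConstCone I T)
    (c.π.app i₀ ≫ t.app i₀) (fun j ↦ (Category.comp_id _).trans (π_app_comp_eq t c i₀ j)) i₀ hl
  exact ⟨k, fun i m ↦ app_of_hom t @IsClosedImmersion m hk (hl _ _ m)⟩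

include hc in
/-- An eventually finite structure map. -/
theorem exists_isFinite_app [CompactSpace T] (i₀ : I) [∀ i, QuasiCompact (t.app i)]
    [∀ i, QuasiSeparated (t.app i)] [∀ i, LocallyOfFiniteType (t.app i)]
    (hD : ∀ (i j : I) (m : i ⟶ j), IsFinite (D.map m))
    [IsIntegralHom (c.π.app i₀ ≫ t.app i₀)] :
    ∃ i₁ : I, ∀ (i : I) (_ : i ⟶ i₁), IsFinite (t.app i) := by
  have : IsConnected I := IsCofiltered.isConnected I
  have : CompactSpace (((Functor.const I).obj T).obj i₀) := inferInstanceAs (CompactSpace T)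
  have hl (j k : I) (m : k ⟶ j) : IsFinite (liftMap t m) :=
    liftMap_const_of_map t @IsFinite m (hD _ _ m)
  obtain ⟨k, -, hk⟩ := exists_isFinite t hc (isLimitConstCone I T)
    (c.π.app i₀ ≫ t.app i₀) (fun j ↦ (Category.comp_id _).trans (π_app_comp_eq t c i₀ j)) i₀ hl
  exact ⟨k, fun i m ↦ app_of_hom t @IsFinite m hk (hl _ _ m)⟩

end structureMap

/-- A closed subscheme of the limit of finite type is a closed subscheme of a stage. -/
theorem exists_isClosedImmersion_comp_π [IsCofiltered I]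
    [∀ (i j : I) (m : i ⟶ j), IsAffineHom (D.map m)] [∀ i, CompactSpace (D.obj i)] {c : Cone D}
    (hc : IsLimit c) {Y : Scheme.{u}} (h : Y ⟶ c.pt) (hh : IsClosedImmersion h)
    (hlft : ∀ i, LocallyOfFiniteType (h ≫ c.π.app i)) :
    ∃ i : I, IsClosedImmersion (h ≫ c.π.app i) := by
  have : IsConnected I := IsCofiltered.isConnected I
  obtain ⟨i₀⟩ := IsCofiltered.nonempty (C := I)
  let φ : (Functor.const I).obj Y ⟶ D :=
    { app := fun i ↦ h ≫ c.π.app i
      naturality := fun i j m ↦ by simp }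
  have := fun i ↦ isAffineHom_π_app _ _ hc i
  have : ∀ i, QuasiCompact (φ.app i) := fun i ↦ inferInstanceAs (QuasiCompact (h ≫ c.π.app i))
  have : ∀ i, QuasiSeparated (φ.app i) := fun i ↦
    inferInstanceAs (QuasiSeparated (h ≫ c.π.app i))
  have : ∀ i, LocallyOfFiniteType (φ.app i) := hlft
  obtain ⟨k, -, hk⟩ := exists_isClosedImmersion φ (isLimitConstCone I Y) hc h
    (fun j ↦ (Category.id_comp _).symm) i₀ (fun j k m ↦ by
      have : IsAffineHom (pullback.fst (φ.app j) (D.map m)) :=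
        MorphismProperty.pullback_fst _ _ inferInstance
      have : IsClosedImmersion (liftMap φ m ≫ pullback.fst (φ.app j) (D.map m)) := by
        rw [pullback.lift_fst]
        exact inferInstanceAs (IsClosedImmersion (𝟙 Y))
      exact IsClosedImmersion.of_comp (liftMap φ m) (pullback.fst (φ.app j) (D.map m)))
  exact ⟨k, hk⟩

/-- Base change along a composite. -/
theorem prop_snd_comp (P : MorphismProperty Scheme.{u}) [P.IsStableUnderBaseChange]
    {X₀ Y₀ A B : Scheme.{u}} (f₀ : X₀ ⟶ Y₀) (r : A ⟶ B) (p : B ⟶ Y₀) (q : A ⟶ Y₀) (h : r ≫ p = q)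
    (hP : P (pullback.snd f₀ p)) : P (pullback.snd f₀ q) := by
  subst h
  refine P.of_isPullback (f := r) (g := pullback.snd f₀ p)
    (f' := pullback.lift (pullback.fst _ _) (pullback.snd _ _ ≫ r)
      (by rw [pullback.condition, Category.assoc])) ?_ hP
  refine IsPullback.of_right ?_ (pullback.lift_snd _ _ _) (IsPullback.of_hasPullback f₀ p)
  rw [pullback.lift_fst]
  exact IsPullback.of_hasPullback f₀ (r ≫ p)

end Groth.Limits
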