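import Groth.Agent.Limits.ProperApprox
import Groth.Agent.Limits.DescentStage

/-!
# Descent of properness along limits, for morphisms locally of finite type
-/

set_option backward.isDefEq.respectTransparency false
set_option backward.defeqAttrib.useBackward true

universe u

open CategoryTheory Limits AlgebraicGeometry

namespace Groth.Limits

variable {I : Type u} [Category.{u} I] [IsCofiltered I] {D : I ⥤ Scheme.{u}}
  [∀ (i j : I) (a : i ⟶ j), IsAffineHom (D.map a)]
  [∀ i, CompactSpace (D.obj i)] [∀ i, QuasiSeparatedSpace (D.obj i)] {c : Cone D} (hc : IsLimit c)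

include hc in
/-- A proper scheme over the limit is a closed subscheme of the base change of a proper scheme of
finite presentation over a stage. -/
theorem exists_proper_fp_stage {Y : Scheme.{u}} (h : Y ⟶ c.pt) [IsProper h] :
    ∃ (i : I) (P : Scheme.{u}) (p : P ⟶ D.obj i) (q : Y ⟶ P) (w : h ≫ c.π.app i = q ≫ p),
      IsProper p ∧ LocallyOfFinitePresentation p ∧ IsClosedImmersion (pullback.lift h q w) := by
  obtain ⟨i₀⟩ := IsCofiltered.nonempty (C := I)
  have : CompactSpace c.pt := Scheme.compactSpace_of_isLimit D c hc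
  have : QuasiSeparatedSpace c.pt := quasiSeparatedSpace_pt D c hc (i := i₀)
  obtain ⟨M⟩ := exists_properModel h
  obtain ⟨b⟩ := M.nonempty
  let b' : M.Iᵒᵖ := Opposite.op b
  have := M.compact b'
  have := M.locallyOfFiniteType b'
  have := M.proper b'
  have : IsLocallyNoetherian (M.DS.obj b') := LocallyOfFiniteType.isLocallyNoetherian
    (Limits.IsTerminal.from specULiftZIsTerminal (M.DS.obj b'))
  have : LocallyOfFinitePresentation (M.φ.app b') :=
    LocallyOfFinitePresentation.iff_locallyOfFiniteType.2 inferInstance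
  have := locallyOfFinitePresentation_from (X := M.DS.obj b')
  let t : D ⟶ (Functor.const I).obj (Spec (CommRingCat.of (ULift.{u} ℤ))) :=
    { app := fun i ↦ specULiftZIsTerminal.from _
      naturality := fun _ _ _ ↦ specULiftZIsTerminal.hom_ext _ _ }
  obtain ⟨i, g, hg, -⟩ := Scheme.exists_π_app_comp_eq_of_locallyOfFinitePresentation D t
    (Limits.IsTerminal.from specULiftZIsTerminal (M.DS.obj b')) c hc (M.πS.app b')
    (by ext i : 2; exact specULiftZIsTerminal.hom_ext _ _)
  let q : Y ⟶ pullback (M.φ.app b') g := pullback.lift (M.πX.app b') (h ≫ c.π.app i)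
    (by rw [M.w, Category.assoc, hg])
  refine ⟨i, _, pullback.snd (M.φ.app b') g, q, (pullback.lift_snd _ _ _).symm, inferInstance,
    inferInstance, ?_⟩
  let k : pullback (c.π.app i) (pullback.snd (M.φ.app b') g) ⟶
      pullback (M.φ.app b') (M.πS.app b') :=
    pullback.lift (pullback.snd _ _ ≫ pullback.fst _ _) (pullback.fst _ _) (by
      rw [Category.assoc, pullback.condition, ← pullback.condition_assoc, hg])
  have e : pullback.lift h q (pullback.lift_snd _ _ _).symm ≫ k =
      pullback.lift (M.πX.app b') h (M.w b') := by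
    apply pullback.hom_ext
    · simp [k, q]
    · simp [k, q]
  have : IsSeparated k := by
    have : IsSeparated (k ≫ pullback.snd (M.φ.app b') (M.πS.app b')) := by
      rw [pullback.lift_snd]
      exact MorphismProperty.pullback_fst (P := @IsSeparated) _ _ inferInstance
    exact IsSeparated.of_comp k (pullback.snd (M.φ.app b') (M.πS.app b'))
  have : IsClosedImmersion (pullback.lift h q (pullback.lift_snd _ _ _).symm ≫ k) := by
    rw [e]; exact M.isClosedImmersion b'
  exact IsClosedImmersion.of_comp _ k

include hc in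
/-- A proper scheme over the limit, of finite type over a base, is proper over a stage. -/
theorem exists_isProper_comp_π {S : Scheme.{u}} (t : D ⟶ (Functor.const I).obj S) (i₀ : I)
    {Y : Scheme.{u}} (h : Y ⟶ c.pt) [IsProper h]
    [LocallyOfFiniteType (h ≫ c.π.app i₀ ≫ t.app i₀)] :
    ∃ i₁ : I, ∀ (i : I) (_ : i ⟶ i₁), IsProper (h ≫ c.π.app i) := by
  obtain ⟨i, P, p, q, w, hp, hlfp, hcl⟩ := exists_proper_fp_stage hc h
  let l : Y ⟶ (pullbackCone D i p c).pt := pullback.lift h q w
  have hl : IsClosedImmersion l := hcl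
  have : ∀ j, CompactSpace ((pullbackDiagram D i p).obj j) := fun j ↦
    QuasiCompact.compactSpace_of_compactSpace (pullback.fst (D.map j.hom) p)
  have key : ∀ j, LocallyOfFiniteType (l ≫ (pullbackCone D i p c).π.app j) := fun j ↦ by
    have e : (l ≫ (pullbackCone D i p c).π.app j) ≫ pullback.fst (D.map j.hom) p ≫ t.app j.left =
        h ≫ c.π.app i₀ ≫ t.app i₀ := by
      rw [π_app_comp_eq t c i₀ j.left, Category.assoc]
      have e0 : (pullbackCone D i p c).π.app j ≫ pullback.fst (D.map j.hom) p =
          pullback.fst (c.π.app i) p ≫ c.π.app j.left := pullback.lift_fst _ _ _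
      rw [reassoc_of% e0]
      exact pullback.lift_fst_assoc _ _ _ _
    have : LocallyOfFiniteType ((l ≫ (pullbackCone D i p c).π.app j) ≫
        pullback.fst (D.map j.hom) p ≫ t.app j.left) := by
      rw [e]; infer_instance
    exact locallyOfFiniteType_of_comp _ (pullback.fst (D.map j.hom) p ≫ t.app j.left)
  obtain ⟨j, hj⟩ := exists_isClosedImmersion_comp_π (isLimitPullbackCone D i p hc) l hl key
  refine ⟨j.left, fun k a ↦ ?_⟩
  have : IsProper (pullback.fst (D.map j.hom) p) := MorphismProperty.pullback_fst _ _ hp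
  have : IsClosedImmersion (l ≫ (pullbackCone D i p c).π.app j) := hj
  have e : (l ≫ (pullbackCone D i p c).π.app j) ≫ pullback.fst (D.map j.hom) p =
      h ≫ c.π.app k ≫ D.map a := by
    rw [c.w a, Category.assoc]
    refine (congrArg (l ≫ ·) (pullback.lift_fst _ _ _)).trans ?_
    exact pullback.lift_fst_assoc _ _ _ _
  have : IsProper ((h ≫ c.π.app k) ≫ D.map a) := by
    rw [Category.assoc, ← e]; infer_instance
  exact IsProper.of_comp _ (D.map a)

include hc in
/-- If the base change of a morphism locally of finite type to the limit is proper, so is it at some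
stage. -/
theorem exists_isProper_bcTrans {T X₀ : Scheme.{u}} (t : D ⟶ (Functor.const I).obj T) (τ : c.pt ⟶ T)
    (hτ : ∀ i, c.π.app i ≫ t.app i = τ) (f₀ : X₀ ⟶ T) [QuasiCompact f₀] [QuasiSeparated f₀]
    [LocallyOfFiniteType f₀] [IsProper (pullback.snd f₀ τ)] :
    ∃ j, IsProper (pullback.snd f₀ (t.app j)) := by
  let f := pullback.snd f₀ τ
  obtain ⟨i, P, p, q, w, hp, hlfp, hcl⟩ := exists_proper_fp_stage hc f
  let DX := Over.forget i ⋙ bcDiagram t f₀
  let DY := Over.forget i ⋙ D
  let hX := (Functor.Initial.isLimitWhiskerEquiv (Over.forget i) (bcCone t f₀ c τ hτ)).symm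
    (isLimitBcCone t f₀ c τ hτ hc)
  -- the morphism to `P` descends
  let s : DX ⟶ (Functor.const (Over i)).obj (D.obj i) :=
    Functor.whiskerLeft (Over.forget i) (bcTrans t f₀) ≫ overTrans D i
  have : ∀ j, CompactSpace (DX.obj j) := fun j ↦
    QuasiCompact.compactSpace_of_compactSpace (pullback.snd f₀ (t.app j.left))
  have : ∀ j, QuasiSeparatedSpace (DX.obj j) := fun j ↦
    quasiSeparatedSpace_of_quasiSeparated (pullback.snd f₀ (t.app j.left))
  have : ∀ {j k : Over i} (a : j ⟶ k), IsAffineHom (DX.map a) := fun a ↦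
    isAffineHom_bcDiagram_map t f₀ _ _ _
  obtain ⟨k, u, hu, hup⟩ := Scheme.exists_π_app_comp_eq_of_locallyOfFinitePresentation DX s p
    ((bcCone t f₀ c τ hτ).whisker (Over.forget i)) hX q (by
      ext j : 2
      change (bcCone t f₀ c τ hτ).π.app j.left ≫ (bcTrans t f₀).app j.left ≫ D.map j.hom = q ≫ p
      rw [← Category.assoc, ← bcCone_w t f₀ c τ hτ j.left, Category.assoc, c.w]
      exact w)
  -- the system above `k`
  let DX' := Over.forget k ⋙ DX
  let ψ : DX' ⟶ Over.forget k ⋙ pullbackDiagram D i p :=
    { app := fun l ↦ pullback.lift (pullback.snd f₀ (t.app l.left.left)) (DX.map l.hom ≫ u) (by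
        rw [Category.assoc, hup]
        exact (s.naturality l.hom).trans (Category.comp_id _) |>.symm)
      naturality := fun a b m ↦ by
        apply pullback.hom_ext
        · refine ((Category.assoc _ _ _).trans ((congrArg (_ ≫ ·) (pullback.lift_fst _ _ _)).trans ?_))
          refine Eq.trans ?_ (Category.assoc _ _ _).symm
          refine Eq.trans ?_ (congrArg (_ ≫ ·) (pullback.lift_fst _ _ _)).symm
          refine Eq.trans ?_ (Category.assoc _ _ _)
          refine Eq.trans ?_ (congrArg (· ≫ _) (pullback.lift_fst _ _ _)).symm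
          exact (bcTrans t f₀).naturality m.left.left
        · refine ((Category.assoc _ _ _).trans ((congrArg (_ ≫ ·) (pullback.lift_snd _ _ _)).trans ?_))
          refine Eq.trans ?_ (Category.assoc _ _ _).symm
          refine Eq.trans ?_ (congrArg (_ ≫ ·) (pullback.lift_snd _ _ _)).symm
          refine Eq.trans ?_ (pullback.lift_snd _ _ _).symm
          refine (Category.assoc _ _ _).symm.trans (congrArg (· ≫ u) ?_)
          exact (DX.map_comp _ _).symm.trans (congrArg DX.map (Over.w m)) }
  let cX' := ((bcCone t f₀ c τ hτ).whisker (Over.forget i)).whisker (Over.forget k)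
  let hX' : IsLimit cX' := (Functor.Initial.isLimitWhiskerEquiv (Over.forget k) _).symm hX
  let cY' := (pullbackCone D i p c).whisker (Over.forget k)
  let hY' : IsLimit cY' := (Functor.Initial.isLimitWhiskerEquiv (Over.forget k) _).symm
    (isLimitPullbackCone D i p hc)
  let fl : cX'.pt ⟶ cY'.pt := pullback.lift f q w
  have hfl : IsClosedImmersion fl := hcl
  have hw : ∀ l, fl ≫ cY'.π.app l = cX'.π.app l ≫ ψ.app l := fun l ↦ by
    apply pullback.hom_ext
    · refine (Category.assoc _ _ _).trans ((congrArg (fl ≫ ·) (pullback.lift_fst _ _ _)).trans ?_)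
      refine (pullback.lift_fst_assoc _ _ _ _).trans ?_
      refine Eq.trans ?_ ((Category.assoc _ _ _).trans
        (congrArg (_ ≫ ·) (pullback.lift_fst _ _ _))).symm
      exact bcCone_w t f₀ c τ hτ _
    · refine (Category.assoc _ _ _).trans ((congrArg (fl ≫ ·) (pullback.lift_snd _ _ _)).trans ?_)
      refine (pullback.lift_snd _ _ _).trans ?_
      refine Eq.trans ?_ ((Category.assoc _ _ _).trans
        (congrArg (_ ≫ ·) (pullback.lift_snd _ _ _))).symm
      refine hu.symm.trans ?_
      exact (congrArg (· ≫ u) (((bcCone t f₀ c τ hτ).whisker (Over.forget i)).w l.hom).symm).trans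
        (Category.assoc _ _ _)
  have hfst : ∀ l, IsProper (pullback.fst (D.map (l : Over k).left.hom) p) := fun l ↦
    MorphismProperty.pullback_fst _ _ hp
  have hψfst : ∀ l : Over k, ψ.app l ≫ pullback.fst (D.map l.left.hom) p =
      pullback.snd f₀ (t.app l.left.left) := fun l ↦ pullback.lift_fst _ _ _
  have hψsnd : ∀ l : Over k, ψ.app l ≫ pullback.snd (D.map l.left.hom) p = DX.map l.hom ≫ u :=
    fun l ↦ pullback.lift_snd _ _ _
  have : ∀ (a b : Over k) (m : a ⟶ b),
      IsAffineHom ((Over.forget k ⋙ pullbackDiagram D i p).map m) := fun a b m ↦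
    isAffineHom_pullbackDiagram_map D i p _ _ _
  have : ∀ l, LocallyOfFiniteType (ψ.app l) := fun l ↦ by
    have : LocallyOfFiniteType (ψ.app l ≫ pullback.fst (D.map l.left.hom) p) := by
      rw [hψfst]; infer_instance
    exact locallyOfFiniteType_of_comp _ (pullback.fst (D.map l.left.hom) p)
  have : ∀ l, QuasiSeparated (ψ.app l) := fun l ↦ by
    have : QuasiSeparated (ψ.app l ≫ pullback.fst (D.map l.left.hom) p) := by
      rw [hψfst]; infer_instance
    exact QuasiSeparated.of_comp _ (pullback.fst (D.map l.left.hom) p)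
  have : ∀ l, QuasiCompact (ψ.app l) := fun l ↦ by
    have : QuasiCompact (ψ.app l ≫ pullback.fst (D.map l.left.hom) p) := by
      rw [hψfst]; infer_instance
    have := hfst l
    exact QuasiCompact.of_comp _ (pullback.fst (D.map l.left.hom) p)
  have hl : ∀ (a b : Over k) (m : b ⟶ a), IsClosedImmersion (liftMap ψ m) := fun a b m ↦ by
    have hsq := isPullback_bcTrans t f₀ m.left.left
    let r : pullback (ψ.app a) ((Over.forget k ⋙ pullbackDiagram D i p).map m) ⟶ DX'.obj b :=
      hsq.lift (pullback.fst _ _) (pullback.snd _ _ ≫ pullback.fst (D.map b.left.hom) p) (by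
        refine (congrArg (_ ≫ ·) (hψfst a).symm).trans ?_
        refine (pullback.condition_assoc _).trans ?_
        refine Eq.trans ?_ (Category.assoc _ _ _).symm
        exact congrArg (pullback.snd _ _ ≫ ·) (pullback.lift_fst _ _ _))
    have hr1 : r ≫ (bcDiagram t f₀).map m.left.left = pullback.fst _ _ := hsq.lift_fst _ _ _
    have hr2 : r ≫ pullback.snd f₀ (t.app b.left.left) =
        pullback.snd _ _ ≫ pullback.fst (D.map b.left.hom) p := hsq.lift_snd _ _ _
    have e1 : r ≫ liftMap ψ m = 𝟙 _ := by
      apply pullback.hom_ext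
      · rw [Category.assoc, pullback.lift_fst, Category.id_comp]
        exact hr1
      · rw [Category.assoc, pullback.lift_snd, Category.id_comp]
        apply pullback.hom_ext
        · refine (Category.assoc _ _ _).trans ((congrArg (r ≫ ·) (hψfst b)).trans ?_)
          exact hr2
        · refine (Category.assoc _ _ _).trans ((congrArg (r ≫ ·) (pullback.lift_snd _ _ _)).trans ?_)
          have hb : DX.map b.hom = DX'.map m ≫ DX.map a.hom :=
            (congrArg DX.map (Over.w m)).symm.trans (DX.map_comp _ _)
          refine (congrArg (fun z ↦ r ≫ z ≫ u) hb).trans ?_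
          rw [Category.assoc, ← Category.assoc r, show r ≫ DX'.map m = pullback.fst _ _ from hr1]
          refine (congrArg (pullback.fst _ _ ≫ ·) (hψsnd a).symm).trans ?_
          refine (pullback.condition_assoc _).trans ?_
          have hm : (pullbackDiagram D i p).map m.left ≫ pullback.snd (D.map a.left.hom) p =
              pullback.snd (D.map b.left.hom) p := pullback.lift_snd _ _ _
          exact congrArg (pullback.snd _ _ ≫ ·) hm
    have e2 : liftMap ψ m ≫ r = 𝟙 _ := by
      apply hsq.hom_ext
      · rw [Category.assoc, hr1, pullback.lift_fst, Category.id_comp]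
        rfl
      · change (liftMap ψ m ≫ r) ≫ pullback.snd f₀ (t.app b.left.left) = 𝟙 _ ≫ pullback.snd f₀ _
        rw [Category.assoc, hr2, pullback.lift_snd_assoc, hψfst, Category.id_comp]
        rfl
    have : IsIso (liftMap ψ m) := ⟨⟨r, e2, e1⟩⟩
    infer_instance
  have : CompactSpace ((Over.forget k ⋙ pullbackDiagram D i p).obj (Over.mk (𝟙 k))) :=
    QuasiCompact.compactSpace_of_compactSpace
      (pullback.fst (D.map (Over.mk (𝟙 k)).left.hom) p)
  have : ∀ (a b : Over k) (m : a ⟶ b), IsAffineHom (DX'.map m) := fun a b m ↦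
    isAffineHom_bcDiagram_map t f₀ _ _ _
  obtain ⟨l, -, hl'⟩ := exists_isClosedImmersion ψ hX' hY' fl hw (Over.mk (𝟙 k)) hl
  refine ⟨l.left.left, ?_⟩
  have := hfst l
  rw [← hψfst l]
  infer_instance

end Groth.Limits
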