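import Groth.Agent.Limits.Approximation
import Mathlib.AlgebraicGeometry.IdealSheaf.Functorial
import Mathlib.AlgebraicGeometry.Morphisms.ClosedImmersion

/-!
# Closed subschemes as limits of finitely presented closed subschemes
-/

set_option backward.isDefEq.respectTransparency false
set_option backward.defeqAttrib.useBackward true

universe u

open CategoryTheory Limits AlgebraicGeometry Opposite TopologicalSpace

namespace Groth.Limits

section idealSystem

variable {X Y : Scheme.{u}} {I : Type u} [Preorder I] (F : I →o Y.IdealSheafData) (ι : X ⟶ Y)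

/-- The system of closed subschemes of a monotone family of ideal sheaves. -/
noncomputable def idealSystem : Iᵒᵖ ⥤ Over Y :=
  F.monotone.functor.op ⋙ Scheme.IdealSheafData.subschemeFunctor Y

theorem idealSystem_hom (i : Iᵒᵖ) : ((idealSystem F).obj i).hom = (F i.unop).subschemeι := rfl

instance (i : Iᵒᵖ) : IsClosedImmersion ((idealSystem F).obj i).hom :=
  inferInstanceAs (IsClosedImmersion (F i.unop).subschemeι)

theorem isClosedImmersion_idealSystem_map {i j : Iᵒᵖ} (a : i ⟶ j) :
    IsClosedImmersion ((idealSystem F).map a).left := by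
  have : IsClosedImmersion (((idealSystem F).map a).left ≫ ((idealSystem F).obj j).hom) := by
    rw [Over.w]
    infer_instance
  exact IsClosedImmersion.of_comp _ ((idealSystem F).obj j).hom

variable {F ι}

/-- The cone on a closed subscheme containing all the ideal sheaves. -/
noncomputable def idealCone (h : ∀ i, F i ≤ ι.ker) : Cone (idealSystem F) where
  pt := Over.mk ι
  π :=
    { app := fun i ↦ Over.homMk
        (IsClosedImmersion.lift (F i.unop).subschemeι ι (by simpa using h i.unop))
        (IsClosedImmersion.lift_fac _ _ _)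
      naturality := fun i j a ↦ by
        ext1
        rw [← cancel_mono ((idealSystem F).obj j).hom]
        simp [idealSystem_hom]
        exact (IsClosedImmersion.lift_fac _ _ _).symm.trans
          (congrArg (_ ≫ ·) (Over.w ((idealSystem F).map a)).symm) }

/-- If the ideal sheaves generate the kernel, the cone is a limit. -/
noncomputable def isLimitIdealCone [IsClosedImmersion ι] (h : ∀ i, F i ≤ ι.ker)
    (hsup : ι.ker ≤ ⨆ i, F i) : IsLimit (idealCone h) where
  lift s := Over.homMk (IsClosedImmersion.lift ι s.pt.hom (hsup.trans (iSup_le fun i ↦ by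
      have := Scheme.Hom.le_ker_comp (s.π.app (op i)).left ((idealSystem F).obj (op i)).hom
      rw [Over.w] at this
      simpa [idealSystem_hom] using this)))
    (IsClosedImmersion.lift_fac _ _ _)
  fac s i := by
    ext1
    rw [← cancel_mono ((idealSystem F).obj i).hom]
    simp [idealCone, idealSystem_hom]
    exact (Over.w (s.π.app i)).symm
  uniq s m hm := by
    ext1
    rw [← cancel_mono ι]
    exact (Over.w m).trans (IsClosedImmersion.lift_fac _ _ _).symm

end idealSystem

variable {X P : Scheme.{u}} (ι : X ⟶ P) [IsClosedImmersion ι] (A : ZSystem P)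

/-- The image of a closed subscheme at a stage, pulled back. -/
noncomputable def ZSystem.stageIdeal : A.I →o P.IdealSheafData where
  toFun i := (ι ≫ A.π.app (op i)).ker.comap (A.π.app (op i))
  monotone' i j h := by
    dsimp only
    conv_lhs => arg 2; rw [← A.π_trans h]
    rw [Scheme.IdealSheafData.comap_comp]
    refine Scheme.IdealSheafData.comap_mono _ ?_
    rw [← Scheme.IdealSheafData.le_map_iff_comap_le, Scheme.IdealSheafData.map_ker, Category.assoc,
      A.π_trans h]

theorem ZSystem.stageIdeal_le (i : A.I) : A.stageIdeal ι i ≤ ι.ker := by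
  show Scheme.IdealSheafData.comap _ _ ≤ _
  rw [← Scheme.IdealSheafData.le_map_iff_comap_le, Scheme.IdealSheafData.map_ker]

theorem ZSystem.locallyOfFinitePresentation_stageIdeal (i : A.I) :
    LocallyOfFinitePresentation (A.stageIdeal ι i).subschemeι := by
  let K := (ι ≫ A.π.app (op i)).ker
  have : IsLocallyNoetherian (A.D.obj (op i)) := inferInstance
  have : LocallyOfFinitePresentation K.subschemeι :=
    LocallyOfFinitePresentation.iff_locallyOfFiniteType.2 inferInstance
  show LocallyOfFinitePresentation (K.comap (A.π.app (op i))).subschemeι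
  rw [← Scheme.IdealSheafData.comapIso_hom_fst]
  infer_instance

theorem ZSystem.ker_le_iSup_stageIdeal : ι.ker ≤ ⨆ i, A.stageIdeal ι i := by
  obtain ⟨i₀⟩ := A.nonempty
  have haff (i : A.I) : IsAffineHom (A.π.app (op i)) :=
    isAffineHom_π_app _ _ A.isLimit (op i)
  refine Scheme.IdealSheafData.le_of_iSup_eq_top
    (fun W : (A.D.obj (op i₀)).affineOpens ↦ ⟨A.π.app (op i₀) ⁻¹ᵁ W.1, W.2.preimage _⟩) ?_ ?_
  · exact eq_top_iff.2 fun x _ ↦ by
      obtain ⟨_, ⟨W, hW, rfl⟩, hx, -⟩ := (A.D.obj (op i₀)).isBasis_affineOpens.exists_subset_of_mem_open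
        (Set.mem_univ (A.π.app (op i₀) x)) isOpen_univ
      exact Opens.mem_iSup.2 ⟨⟨W, hW⟩, hx⟩
  intro W x hx
  obtain ⟨j, hj, z, hz⟩ := A.exists_section W.1 rfl x
  let Wj : (A.D.obj (op j)).affineOpens := ⟨A.pullOpen hj W.1, W.2.preimage _⟩
  have e : A.π.app (op j) ⁻¹ᵁ Wj.1 = A.π.app (op i₀) ⁻¹ᵁ W.1 := A.preimage_pullOpen hj W.1
  -- `z` lies in the ideal of the image at stage `j`
  have hz' : z ∈ (ι ≫ A.π.app (op j)).ker.ideal Wj := by
    rw [Scheme.Hom.ker_apply, RingHom.mem_ker] at hx ⊢
    have ele : ι ⁻¹ᵁ (A.π.app (op i₀) ⁻¹ᵁ W.1) = (ι ≫ A.π.app (op j)) ⁻¹ᵁ Wj.1 := by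
      rw [Scheme.Hom.comp_preimage, e]
    have h0 : (ι ≫ A.π.app (op j)).appLE Wj.1 (ι ⁻¹ᵁ (A.π.app (op i₀) ⁻¹ᵁ W.1)) ele.le z = 0 := by
      rw [← appLE_appLE rfl e.ge le_rfl ele.le z, ← Scheme.Hom.app_eq_appLE]
      erw [hz]
      exact hx
    have h4 : (ι ≫ A.π.app (op j)).app Wj.1 =
        (ι ≫ A.π.app (op j)).appLE Wj.1 (ι ⁻¹ᵁ (A.π.app (op i₀) ⁻¹ᵁ W.1)) ele.le ≫
          X.presheaf.map (eqToHom ele.symm).op := by
      rw [Scheme.Hom.appLE_map, Scheme.Hom.app_eq_appLE]
    change (ι ≫ A.π.app (op j)).app Wj.1 z = 0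
    rw [h4, CommRingCat.comp_apply, h0, map_zero]
  have h1 := Scheme.IdealSheafData.le_map_comap (ι ≫ A.π.app (op j)).ker (A.π.app (op j)) Wj hz'
  rw [Scheme.IdealSheafData.ideal_map_of_isAffineHom, Ideal.mem_comap] at h1
  let U₁ : P.affineOpens := ⟨_, Wj.2.preimage (A.π.app (op j))⟩
  let U₂ : P.affineOpens := ⟨_, W.2.preimage (A.π.app (op i₀))⟩
  have h2 := (A.stageIdeal ι j).ideal_le_comap_ideal (U := U₂) (V := U₁) e.ge h1
  rw [Ideal.mem_comap] at h2
  have h3 : x ∈ (A.stageIdeal ι j).ideal U₂ := by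
    rw [← hz]
    exact h2
  exact (Scheme.IdealSheafData.le_def.1 (le_iSup (A.stageIdeal ι) j) U₂) h3

omit A in
/-- A closed subscheme of a quasi-compact quasi-separated scheme is the limit of finitely presented
closed subschemes. -/
theorem exists_closedApprox [CompactSpace P] [QuasiSeparatedSpace P] :
    ∃ (I : Type u) (_ : Preorder I) (_ : IsDirected I (fun a b => a ≤ b)) (_ : Nonempty I)
      (D : Iᵒᵖ ⥤ Over P) (c : Cone D) (_ : IsLimit c) (e : c.pt ≅ Over.mk ι),
      (∀ i, IsClosedImmersion (D.obj i).hom ∧ LocallyOfFinitePresentation (D.obj i).hom) ∧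
      (∀ (i j : Iᵒᵖ) (a : i ⟶ j), IsClosedImmersion (D.map a).left) := by
  obtain ⟨A⟩ := exists_zsystem P
  exact ⟨A.I, inferInstance, inferInstance, inferInstance, idealSystem (A.stageIdeal ι),
    idealCone (A.stageIdeal_le ι), isLimitIdealCone _ (A.ker_le_iSup_stageIdeal ι), Iso.refl _,
    fun i ↦ ⟨inferInstance, A.locallyOfFinitePresentation_stageIdeal ι i.unop⟩,
    fun i j a ↦ isClosedImmersion_idealSystem_map _ a⟩

end Groth.Limits
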