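import Groth.Agent.Limits.RelApprox
import Groth.Agent.Limits.ClosedApprox

/-!
# Consequences of relative Noetherian approximation
-/

set_option backward.isDefEq.respectTransparency false
set_option backward.defeqAttrib.useBackward true

universe u

open CategoryTheory Limits AlgebraicGeometry Opposite TopologicalSpace

namespace Groth.Limits

namespace RelSystem

variable {X S : Scheme.{u}} {f : X ⟶ S} (R : RelSystem f)

instance (i : R.Iᵒᵖ) : QuasiCompact (R.structureMap.app i) := R.quasiCompact i
instance (i : R.Iᵒᵖ) : QuasiSeparated (R.structureMap.app i) := R.quasiSeparated i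
instance (i : R.Iᵒᵖ) : LocallyOfFiniteType (R.structureMap.app i) := by
  have := R.locallyOfFinitePresentation i
  exact inferInstanceAs (LocallyOfFiniteType (R.D.obj i).hom)

/-- If the morphism is separated, so are all sufficiently large stages. -/
theorem exists_isSeparated [IsSeparated f] :
    ∃ i₁ : R.I, ∀ i : R.I, i₁ ≤ i → IsSeparated (R.D.obj (op i)).hom := by
  have : ∀ (i j : R.Iᵒᵖ) (a : i ⟶ j), IsAffineHom (R.left.map a) := R.affine
  have i₀ : R.Iᵒᵖ := op (Classical.arbitrary R.I)
  have : CompactSpace (R.left.obj i₀) := R.compact i₀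
  have : IsSeparated (R.leftCone.π.app i₀ ≫ R.structureMap.app i₀) := by
    rw [R.π_structureMap]; infer_instance
  obtain ⟨i₁, h⟩ := exists_isSeparated_app R.structureMap R.isLimitLeftCone i₀
  exact ⟨i₁.unop, fun i hi ↦ h (op i) (homOfLE hi).op⟩

/-- If the morphism is affine and the base quasi-compact, so are all sufficiently large stages. -/
theorem exists_isAffineHom [CompactSpace S] [IsAffineHom f] :
    ∃ i₁ : R.I, ∀ i : R.I, i₁ ≤ i → IsAffineHom (R.D.obj (op i)).hom := by
  have : ∀ (i j : R.Iᵒᵖ) (a : i ⟶ j), IsAffineHom (R.left.map a) := R.affine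
  have i₀ : R.Iᵒᵖ := op (Classical.arbitrary R.I)
  have : IsAffineHom (R.leftCone.π.app i₀ ≫ R.structureMap.app i₀) := by
    rw [R.π_structureMap]; infer_instance
  obtain ⟨i₁, h⟩ := exists_isAffineHom_app R.structureMap R.isLimitLeftCone i₀
  exact ⟨i₁.unop, fun i hi ↦ h (op i) (homOfLE hi).op⟩

/-- If the morphism is locally of finite type, it is a closed subscheme of all sufficiently large
stages. -/
theorem exists_isClosedImmersion [LocallyOfFiniteType f] :
    ∃ i : R.I, IsClosedImmersion (R.π.app (op i)).left := by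
  have : ∀ (i j : R.Iᵒᵖ) (a : i ⟶ j), IsAffineHom (R.left.map a) := R.affine
  have : ∀ i, CompactSpace (R.left.obj i) := R.compact
  obtain ⟨i, hi⟩ := exists_isClosedImmersion_comp_π R.isLimitLeftCone
    (𝟙 R.leftCone.pt) inferInstance fun i ↦ by
      rw [Category.id_comp]
      have : LocallyOfFiniteType (R.leftCone.π.app i ≫ R.structureMap.app i) := by
        rw [R.π_structureMap]; infer_instance
      exact locallyOfFiniteType_of_comp _ (R.structureMap.app i)
  rw [Category.id_comp] at hi
  exact ⟨i.unop, hi⟩

end RelSystem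

/-- An affine morphism followed by a morphism of finite presentation. -/
theorem exists_affine_fp_factorization {X Y : Scheme.{u}} (f : Y ⟶ X)
    [QuasiSeparatedSpace X] [CompactSpace Y] [QuasiSeparatedSpace Y] :
    ∃ (Z : Scheme.{u}) (g : Y ⟶ Z) (h : Z ⟶ X), IsAffineHom g ∧ LocallyOfFinitePresentation h ∧
      QuasiCompact h ∧ QuasiSeparated h ∧ (IsSeparated f → IsSeparated h) ∧ g ≫ h = f := by
  obtain ⟨R⟩ := exists_relSystem f
  by_cases hf : IsSeparated f
  · obtain ⟨i, hi⟩ := R.exists_isSeparated
    exact ⟨_, (R.π.app (op i)).left, (R.D.obj (op i)).hom, R.isAffineHom_π _,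
      R.locallyOfFinitePresentation _, R.quasiCompact _, R.quasiSeparated _,
      fun _ ↦ hi i le_rfl, Over.w _⟩
  · obtain ⟨i⟩ := R.nonempty
    exact ⟨_, (R.π.app (op i)).left, (R.D.obj (op i)).hom, R.isAffineHom_π _,
      R.locallyOfFinitePresentation _, R.quasiCompact _, R.quasiSeparated _,
      fun h ↦ absurd h hf, Over.w _⟩

/-- A morphism locally of finite type is a closed subscheme of one of finite presentation, which is
separated if the morphism is. -/
theorem exists_closedImmersion_fp {X S : Scheme.{u}} (f : X ⟶ S) [LocallyOfFiniteType f]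
    [CompactSpace X] [QuasiSeparatedSpace X] [QuasiSeparatedSpace S] :
    ∃ (X' : Scheme.{u}) (f' : X' ⟶ S) (j : X ⟶ X'), LocallyOfFinitePresentation f' ∧
      QuasiCompact f' ∧ QuasiSeparated f' ∧ IsClosedImmersion j ∧ CompactSpace X' ∧
      (IsSeparated f → IsSeparated f') ∧ j ≫ f' = f := by
  obtain ⟨R⟩ := exists_relSystem f
  by_cases hf : IsSeparated f
  · obtain ⟨i₁, h₁⟩ := R.exists_isSeparated
    obtain ⟨i, hi⟩ := (R.above i₁).exists_isClosedImmersion
    exact ⟨_, ((R.above i₁).D.obj (op i)).hom, ((R.above i₁).π.app (op i)).left,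
      (R.above i₁).locallyOfFinitePresentation _, (R.above i₁).quasiCompact _,
      (R.above i₁).quasiSeparated _, hi, (R.above i₁).compact _, fun _ ↦ h₁ _ i.2, Over.w _⟩
  · obtain ⟨i, hi⟩ := R.exists_isClosedImmersion
    exact ⟨_, (R.D.obj (op i)).hom, (R.π.app (op i)).left, R.locallyOfFinitePresentation _,
      R.quasiCompact _, R.quasiSeparated _, hi, R.compact _, fun h ↦ absurd h hf, Over.w _⟩

/-- A morphism locally of finite type is a limit of morphisms of finite presentation with closed
immersions as transition maps and as projections; all stages are closed subschemes of one of them. -/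
theorem exists_closedRelSystem {X S : Scheme.{u}} (f : X ⟶ S) [LocallyOfFiniteType f]
    [CompactSpace X] [QuasiSeparatedSpace X] [QuasiSeparatedSpace S] :
    ∃ R : RelSystem f, (∀ (i j : R.Iᵒᵖ) (a : i ⟶ j), IsClosedImmersion (R.D.map a).left) ∧
      (∀ i, IsClosedImmersion (R.π.app i).left) ∧
      (IsSeparated f → ∀ i, IsSeparated (R.D.obj i).hom) := by
  obtain ⟨P, h, ι, hlfp, hqc, hqs, hι, hP, hsep, rfl⟩ := exists_closedImmersion_fp f
  have : QuasiSeparatedSpace P := quasiSeparatedSpace_of_quasiSeparated h
  obtain ⟨A⟩ := exists_zsystem P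
  let D := idealSystem (A.stageIdeal ι)
  let cc : Cone D := idealCone (A.stageIdeal_le ι)
  have : IsConnected A.Iᵒᵖ := IsCofiltered.isConnected _
  let R₀ : RelSystem ι :=
    { I := A.I
      D := D
      π := cc.π
      isLimit := isLimitIdealCone (A.stageIdeal_le ι) (A.ker_le_iSup_stageIdeal ι)
      affine := fun i j a ↦ by
        have := isClosedImmersion_idealSystem_map (A.stageIdeal ι) a
        infer_instance
      compact := fun i ↦ QuasiCompact.compactSpace_of_compactSpace (D.obj i).hom
      locallyOfFinitePresentation := fun i ↦ A.locallyOfFinitePresentation_stageIdeal ι i.unop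
      quasiCompact := fun i ↦ inferInstance
      quasiSeparated := fun i ↦ inferInstance }
  refine ⟨R₀.mapBase h, fun i j a ↦ isClosedImmersion_idealSystem_map (A.stageIdeal ι) a,
    fun i ↦ ?_, fun hf i ↦ ?_⟩
  · change IsClosedImmersion (cc.π.app i).left
    have : IsClosedImmersion ((cc.π.app i).left ≫ (D.obj i).hom) := by
      rw [Over.w]
      exact hι
    exact IsClosedImmersion.of_comp _ (D.obj i).hom
  · have := hsep hf
    exact inferInstanceAs (IsSeparated ((D.obj i).hom ≫ h))

/-- A finite morphism is a limit of finite morphisms of finite presentation with closed immersions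
as transition maps. -/
theorem exists_finiteRelSystem {X S : Scheme.{u}} (f : X ⟶ S) [IsFinite f] [CompactSpace S]
    [QuasiSeparatedSpace S] :
    ∃ R : RelSystem f, (∀ (i j : R.Iᵒᵖ) (a : i ⟶ j), IsClosedImmersion (R.D.map a).left) ∧
      (∀ i, IsClosedImmersion (R.π.app i).left) ∧ (∀ i, IsFinite (R.D.obj i).hom) := by
  have : CompactSpace X := QuasiCompact.compactSpace_of_compactSpace f
  have : QuasiSeparatedSpace X := quasiSeparatedSpace_of_quasiSeparated f
  obtain ⟨R, hR, hπ, -⟩ := exists_closedRelSystem f
  have : ∀ (i j : R.Iᵒᵖ) (a : i ⟶ j), IsAffineHom (R.left.map a) := R.affine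
  have hfin : ∀ (i j : R.Iᵒᵖ) (a : i ⟶ j), IsFinite (R.left.map a) := fun i j a ↦ by
    have : IsClosedImmersion (R.left.map a) := hR i j a
    infer_instance
  have i₀ : R.Iᵒᵖ := op (Classical.arbitrary R.I)
  have : IsIntegralHom (R.leftCone.π.app i₀ ≫ R.structureMap.app i₀) := by
    rw [R.π_structureMap]; infer_instance
  obtain ⟨i₁, h⟩ := exists_isFinite_app R.structureMap R.isLimitLeftCone i₀ hfin
  exact ⟨R.above i₁.unop, fun i j a ↦ hR _ _ _, fun i ↦ hπ _,
    fun i ↦ h _ (homOfLE (R.above_le i₁.unop i)).op⟩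

/-- An affine morphism is a limit of affine morphisms of finite presentation. -/
theorem exists_affineRelSystem {X S : Scheme.{u}} (f : X ⟶ S) [IsAffineHom f] [CompactSpace S]
    [QuasiSeparatedSpace S] : ∃ R : RelSystem f, ∀ i, IsAffineHom (R.D.obj i).hom := by
  have : CompactSpace X := QuasiCompact.compactSpace_of_compactSpace f
  have : QuasiSeparatedSpace X := quasiSeparatedSpace_of_quasiSeparated f
  obtain ⟨R⟩ := exists_relSystem f
  obtain ⟨i₁, h⟩ := R.exists_isAffineHom
  exact ⟨R.above i₁, fun i ↦ h _ (R.above_le i₁ i)⟩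

/-- A cofiltered limit of affine schemes over a base is affine over it. -/
theorem isAffineHom_of_isLimit {X Y : Scheme.{u}} {f : Y ⟶ X} {I : Type u} [Category.{u} I]
    [IsCofiltered I] (D : I ⥤ Over X) (hD : ∀ i, IsAffineHom (D.obj i).hom) {c : Cone D}
    (hc : IsLimit c) (e : c.pt ≅ Over.mk f) : IsAffineHom f := by
  have : IsConnected I := IsCofiltered.isConnected I
  obtain ⟨i⟩ := IsCofiltered.nonempty (C := I)
  have : ∀ (i j : I) (a : i ⟶ j), IsAffineHom ((D ⋙ Over.forget X).map a) := fun i j a ↦ by
    have := hD j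
    have : IsAffineHom ((D.map a).left ≫ (D.obj j).hom) := by
      rw [Over.w]; exact hD i
    exact IsAffineHom.of_comp (D.map a).left (D.obj j).hom
  have h := isAffineHom_π_app (D ⋙ Over.forget X) _ (isLimitOfPreserves (Over.forget X) hc) i
  have := hD i
  have : IsAffineHom (c.π.app i).left := h
  have e1 : e.inv.left ≫ (c.π.app i).left ≫ (D.obj i).hom = f := by
    rw [Over.w]
    exact Over.w e.inv
  have : IsIso e.inv.left := inferInstanceAs (IsIso ((Over.forget X).map e.inv))
  rw [← e1]
  infer_instance

end Groth.Limits
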