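import Groth.Agent.Limits.ImageSystem
import Groth.Agent.Limits.RelApproxCor
import Groth.Agent.Chow.Lemma
import Groth.Agent.Variety2.ProjBasics

/-!
# Proper morphisms as limits of proper morphisms between schemes of finite type over `ℤ`
-/

set_option backward.isDefEq.respectTransparency false
set_option backward.defeqAttrib.useBackward true

universe u

open CategoryTheory Limits AlgebraicGeometry Opposite TopologicalSpace

namespace Groth.Limits

section cover

variable {S : Scheme.{u}} (A : ZSystem S) (i : A.I) {P₀ P' Q₀ : Scheme.{u}}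
  (g : P₀ ⟶ A.D.obj (op i)) (π₀ : P' ⟶ P₀) (tb : Q₀ ⟶ A.D.obj (op i)) (jI : P' ⟶ Q₀)
  (w : jI ≫ tb = π₀ ≫ g) {DZ : (Set.Ici i)ᵒᵖ ⥤ Scheme.{u}} (ι : DZ ⟶ baseChangeDiagram A i g)

/-- The images, mapped to the fixed scheme. -/
noncomputable abbrev toFixed : DZ ⟶ (Functor.const _).obj P₀ := ι ≫ baseChangeSnd A i g

/-- The covering system mapped to the projective spaces. -/
noncomputable def coverTrans :
    bcDiagram (toFixed A i g ι) π₀ ⟶ baseChangeDiagram A i tb where
  app b := pullback.lift (pullback.snd _ _ ≫ ι.app b ≫ baseChangeFst A i g b)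
    (pullback.fst _ _ ≫ jI) (by
      rw [Category.assoc, Category.assoc, Category.assoc, w, pullback.condition_assoc]
      simp only [toFixed, NatTrans.comp_app, Category.assoc]
      exact congrArg (pullback.snd _ _ ≫ ι.app b ≫ ·) (baseChange_condition A i g b))
  naturality a b m := by
    apply pullback.hom_ext
    · refine (Category.assoc _ _ _).trans ((congrArg (_ ≫ ·) (pullback.lift_fst _ _ _)).trans ?_)
      refine Eq.trans ?_ (Category.assoc _ _ _).symm
      refine Eq.trans ?_ (congrArg (_ ≫ ·) (baseChangeFst_naturality A i tb m)).symm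
      refine Eq.trans ?_ (Category.assoc _ _ _)
      refine Eq.trans ?_ (congrArg (· ≫ _) (pullback.lift_fst _ _ _)).symm
      simp only [bcDiagram, pullback.lift_snd_assoc, Category.assoc, ι.naturality_assoc,
        baseChangeFst_naturality]
    · refine (Category.assoc _ _ _).trans ((congrArg (_ ≫ ·) (pullback.lift_snd _ _ _)).trans ?_)
      refine Eq.trans ?_ (Category.assoc _ _ _).symm
      refine Eq.trans ?_ (congrArg (_ ≫ ·)
        ((baseChangeSnd A i tb).naturality m |>.trans (Category.comp_id _))).symm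
      exact (Category.assoc _ _ _).symm.trans ((congrArg (· ≫ _) (pullback.lift_fst _ _ _)).trans
        (pullback.lift_snd _ _ _).symm)

theorem coverTrans_fst (b : (Set.Ici i)ᵒᵖ) :
    (coverTrans A i g π₀ tb jI w ι).app b ≫ baseChangeFst A i tb b =
      pullback.snd π₀ ((toFixed A i g ι).app b) ≫ ι.app b ≫ baseChangeFst A i g b :=
  pullback.lift_fst _ _ _

theorem coverTrans_snd (b : (Set.Ici i)ᵒᵖ) :
    (coverTrans A i g π₀ tb jI w ι).app b ≫ (baseChangeSnd A i tb).app b =
      pullback.fst π₀ ((toFixed A i g ι).app b) ≫ jI :=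
  pullback.lift_snd _ _ _

theorem isSeparated_coverTrans [IsSeparated g] [IsSeparated π₀] [IsSeparated tb]
    [∀ b, IsClosedImmersion (ι.app b)] (b : (Set.Ici i)ᵒᵖ) :
    IsSeparated ((coverTrans A i g π₀ tb jI w ι).app b) := by
  have : IsSeparated (baseChangeFst A i g b) := inferInstanceAs (IsSeparated (pullback.fst _ g))
  have : IsSeparated ((coverTrans A i g π₀ tb jI w ι).app b ≫ baseChangeFst A i tb b) := by
    rw [coverTrans_fst]
    infer_instance
  exact IsSeparated.of_comp _ (baseChangeFst A i tb b)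

theorem isClosedImmersion_liftMap_coverTrans [IsSeparated g] [IsSeparated π₀] [IsSeparated tb]
    [∀ b, IsClosedImmersion (ι.app b)] {a b : (Set.Ici i)ᵒᵖ} (m : b ⟶ a) :
    IsClosedImmersion (liftMap (coverTrans A i g π₀ tb jI w ι) m) := by
  let φ := coverTrans A i g π₀ tb jI w ι
  let r := A.trans (leOfHom m.unop : (a.unop : A.I) ≤ b.unop)
  have hr : r ≫ A.trans a.unop.2 = A.trans b.unop.2 := A.trans_comp _ _
  have hq : (baseChangeDiagram A i tb).map m ≫ baseChangeFst A i tb a =
      baseChangeFst A i tb b ≫ r := baseChangeFst_naturality A i tb m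
  let q₁ : pullback (φ.app a) ((baseChangeDiagram A i tb).map m) ⟶ P' :=
    pullback.fst _ _ ≫ pullback.fst _ _
  let q₂ : pullback (φ.app a) ((baseChangeDiagram A i tb).map m) ⟶ A.D.obj (op (b.unop : A.I)) :=
    pullback.snd _ _ ≫ baseChangeFst A i tb b
  have hcond : q₂ ≫ A.trans b.unop.2 = (q₁ ≫ π₀) ≫ g := by
    have h1 : q₂ ≫ r = pullback.fst _ _ ≫ φ.app a ≫ baseChangeFst A i tb a := by
      rw [Category.assoc, ← hq, pullback.condition_assoc]
    rw [← hr, ← Category.assoc, h1, Category.assoc, Category.assoc,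
      baseChange_condition A i tb a, ← Category.assoc (φ.app a), coverTrans_snd]
    simp only [q₁, Category.assoc, w]
  let k : pullback (φ.app a) ((baseChangeDiagram A i tb).map m) ⟶
      pullback π₀ ((baseChangeSnd A i g).app b) :=
    pullback.lift q₁ (pullback.lift q₂ (q₁ ≫ π₀) hcond) (pullback.lift_snd _ _ _).symm
  have hk : k ≫ pullback.snd _ _ ≫ baseChangeFst A i g b = q₂ := by
    rw [← Category.assoc, pullback.lift_snd]
    exact pullback.lift_fst _ _ _
  have : IsSeparated k := by
    have : IsSeparated (φ.app a) := isSeparated_coverTrans A i g π₀ tb jI w ι a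
    have : IsSeparated (baseChangeFst A i g b) := inferInstanceAs (IsSeparated (pullback.fst _ g))
    have : IsSeparated (baseChangeFst A i tb b) := inferInstanceAs (IsSeparated (pullback.fst _ tb))
    have : IsSeparated (k ≫ pullback.snd _ _ ≫ baseChangeFst A i g b) := by
      rw [hk]; infer_instance
    exact IsSeparated.of_comp k (pullback.snd _ _ ≫ baseChangeFst A i g b)
  have e : liftMap φ m ≫ k = pullback.map π₀ ((toFixed A i g ι).app b) π₀
      ((baseChangeSnd A i g).app b) (𝟙 _) (ι.app b) (𝟙 _) (by simp) (by simp) := by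
    have h1 : (liftMap φ m ≫ k) ≫ pullback.fst _ _ = pullback.fst π₀ ((toFixed A i g ι).app b) := by
      rw [Category.assoc, pullback.lift_fst, pullback.lift_fst_assoc]
      exact pullback.lift_fst _ _ _
    apply pullback.hom_ext
    · rw [h1]; simp
    · rw [pullback.lift_snd, Category.assoc, pullback.lift_snd]
      apply pullback.hom_ext
      · refine (Category.assoc _ _ _).trans ((congrArg (_ ≫ ·) (pullback.lift_fst _ _ _)).trans ?_)
        refine (pullback.lift_snd_assoc _ _ _ _).trans ?_
        exact (coverTrans_fst A i g π₀ tb jI w ι b).trans (Category.assoc _ _ _).symm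
      · refine (Category.assoc _ _ _).trans ((congrArg (_ ≫ ·) (pullback.lift_snd _ _ _)).trans ?_)
        have h1' : liftMap φ m ≫ q₁ = pullback.fst π₀ ((toFixed A i g ι).app b) :=
          (pullback.lift_fst_assoc _ _ _ _).trans (pullback.lift_fst _ _ _)
        refine ((Category.assoc _ _ _).symm.trans (congrArg (· ≫ π₀) h1')).trans ?_
        exact pullback.condition.trans (Category.assoc _ _ _).symm
  have : IsClosedImmersion (liftMap φ m ≫ k) := by
    rw [e]
    exact MorphismProperty.pullbackMap (P := @IsClosedImmersion)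
      (inferInstanceAs (IsClosedImmersion (𝟙 P'))) (inferInstance : IsClosedImmersion (ι.app b))
      (by simp) (by simp)
  exact IsClosedImmersion.of_comp _ k

end cover

/-- A model of a proper morphism by proper morphisms between schemes of finite type over `ℤ`. -/
structure ProperModel {X S : Scheme.{u}} (f : X ⟶ S) where
  /-- The index set. -/
  I : Type u
  [preorder : Preorder I]
  [directed : IsDirected I (fun a b => a ≤ b)]
  [nonempty : Nonempty I]
  /-- The system of sources. -/
  DX : Iᵒᵖ ⥤ Scheme.{u}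
  /-- The system of targets. -/
  DS : Iᵒᵖ ⥤ Scheme.{u}
  /-- The morphisms at the stages. -/
  φ : DX ⟶ DS
  /-- The projections of the source. -/
  πX : (Functor.const Iᵒᵖ).obj X ⟶ DX
  /-- The projections of the target. -/
  πS : (Functor.const Iᵒᵖ).obj S ⟶ DS
  isLimitX : IsLimit (Cone.mk X πX)
  isLimitS : IsLimit (Cone.mk S πS)
  affineX : ∀ (i j : Iᵒᵖ) (a : i ⟶ j), IsAffineHom (DX.map a)
  affineS : ∀ (i j : Iᵒᵖ) (a : i ⟶ j), IsAffineHom (DS.map a)
  proper : ∀ i, IsProper (φ.app i)
  compact : ∀ i, CompactSpace (DS.obj i)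
  locallyOfFiniteType : ∀ i,
    LocallyOfFiniteType (Limits.IsTerminal.from specULiftZIsTerminal (DS.obj i))
  w : ∀ i, πX.app i ≫ φ.app i = f ≫ πS.app i
  /-- The source embeds in the base changes of the stages. -/
  isClosedImmersion : ∀ i,
    IsClosedImmersion (pullback.lift (πX.app i) f (w i) : X ⟶ pullback (φ.app i) (πS.app i))

attribute [instance] ProperModel.preorder ProperModel.directed ProperModel.nonempty

/-- A separated model of finite type of a separated morphism, containing it as a closed subscheme. -/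
theorem exists_separatedStage {X S : Scheme.{u}} (f : X ⟶ S) [LocallyOfFiniteType f] [IsSeparated f]
    [CompactSpace S] [QuasiSeparatedSpace S] (B : ZSystem X) (A : ZSystem S) :
    ∃ c : HomIndex f B A, IsSeparated c.g ∧
      IsClosedImmersion (pullback.lift (B.π.app (op c.j)) f c.w) := by
  have : ∀ (a b : (HomIndex f B A)ᵒᵖ) (m : a ⟶ b),
      IsAffineHom ((HomIndex.toSource f B A ⋙ B.D).map m) := fun a b m ↦ B.affine _ _ _
  have : ∀ (a b : (HomIndex f B A)ᵒᵖ) (m : a ⟶ b),
      IsAffineHom ((HomIndex.toTarget f B A ⋙ A.D).map m) := fun a b m ↦ A.affine _ _ _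
  let φ := HomIndex.natTrans f B A
  have hsepB : ∀ a, QuasiSeparatedSpace ((HomIndex.toSource f B A ⋙ B.D).obj a) := fun a ↦
    inferInstanceAs (QuasiSeparatedSpace (B.D.obj _))
  have : ∀ a, CompactSpace ((HomIndex.toSource f B A ⋙ B.D).obj a) := fun a ↦ B.compact _
  have : ∀ a, QuasiSeparatedSpace ((HomIndex.toTarget f B A ⋙ A.D).obj a) := fun a ↦
    inferInstanceAs (QuasiSeparatedSpace (A.D.obj _))
  have : ∀ a, QuasiSeparated (φ.app a) := fun a ↦ inferInstance
  have : ∀ a, QuasiCompact (φ.app a) := fun a ↦ inferInstance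
  let c₀ : HomIndex f B A := Classical.arbitrary _
  obtain ⟨k, -, hk⟩ := exists_isSeparated φ (cY := A.cone.whisker (HomIndex.toTarget f B A)) f
    (cX := B.cone.whisker (HomIndex.toSource f B A)) (fun a ↦ a.unop.w.symm)
    ((Functor.Initial.isLimitWhiskerEquiv _ _).symm B.isLimit)
    ((Functor.Initial.isLimitWhiskerEquiv _ _).symm A.isLimit) (op c₀)
  obtain ⟨c, hc⟩ := ((relSystem f B A).above k.unop).exists_isClosedImmersion
  refine ⟨c.1, ?_, hc⟩
  let m : (op c.1 : (HomIndex f B A)ᵒᵖ) ⟶ k := (homOfLE c.2).op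
  have := isAffineHom_liftMap φ m
  exact app_of_hom φ @IsSeparated m hk inferInstance

/-- A proper morphism has a proper model. -/
theorem exists_properModel {X S : Scheme.{u}} (f : X ⟶ S) [IsProper f] [CompactSpace S]
    [QuasiSeparatedSpace S] : Nonempty (ProperModel f) := by
  have : CompactSpace X := QuasiCompact.compactSpace_of_compactSpace f
  have : QuasiSeparatedSpace X := quasiSeparatedSpace_of_quasiSeparated f
  obtain ⟨A⟩ := exists_zsystem S
  obtain ⟨B⟩ := exists_zsystem X
  obtain ⟨c, hgsep, hcl⟩ := exists_separatedStage f B A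
  have := hgsep
  have : CompactSpace (B.D.obj (op c.j)) := B.compact _
  have : LocallyOfFiniteType c.g := by
    have : LocallyOfFiniteType
        (c.g ≫ Limits.IsTerminal.from specULiftZIsTerminal (A.D.obj (op c.i))) := by
      rw [show c.g ≫ Limits.IsTerminal.from specULiftZIsTerminal (A.D.obj (op c.i)) =
        Limits.IsTerminal.from specULiftZIsTerminal _ from specULiftZIsTerminal.hom_ext _ _]
      exact B.locallyOfFiniteType _
    exact locallyOfFiniteType_of_comp c.g (Limits.IsTerminal.from specULiftZIsTerminal _)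
  have : QuasiCompact c.g := inferInstance
  -- `X` in the limit `P` of the base changes of the stage
  let h : X ⟶ pullback (A.π.app (op c.i)) c.g :=
    pullback.lift f (B.π.app (op c.j)) c.w.symm
  have : IsClosedImmersion h := by
    have := hcl
    have e : pullback.lift (B.π.app (op c.j)) f c.w ≫ (pullbackSymmetry _ _).hom = h := by
      apply pullback.hom_ext <;> simp [h] <;> exact pullback.lift_snd _ _ _
    rw [← e]
    infer_instance
  let AP := baseChangeSystem A c.i c.g
  let DZ := AP.images h
  let ι : DZ ⟶ baseChangeDiagram A c.i c.g := AP.imagesι h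
  have hιcl : ∀ b, IsClosedImmersion (ι.app b) := fun b ↦
    inferInstanceAs (IsClosedImmersion ((AP.imagesι h).app b))
  have hZlim := AP.isLimitImagesCone h
  have : ∀ (a b : (Set.Ici c.i)ᵒᵖ) (m : a ⟶ b), IsAffineHom (DZ.map m) := fun a b m ↦
    AP.isAffineHom_images_map h m
  -- Chow's lemma at the stage
  obtain ⟨N, P', π₀, jI, hjI, hjb, hπ, hsurj, -⟩ := Groth.Chow.exists_chow c.g
    TopologicalSpace.NoetherianSpace.finite_irreducibleComponents
  let tb := CohB1.ProjSpaceOver.toBase N (A.D.obj (op c.i))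
  have : IsProper tb := inferInstance
  let t : DZ ⟶ (Functor.const _).obj (B.D.obj (op c.j)) := toFixed A c.i c.g ι
  have hτ : ∀ b, (AP.imagesCone h).π.app b ≫ t.app b = B.π.app (op c.j) := fun b ↦ by
    have e1 := AP.imagesCone_w h b
    refine (Category.assoc _ _ _).symm.trans ((congrArg (· ≫ _) e1.symm).trans ?_)
    exact (Category.assoc _ _ _).trans ((congrArg (h ≫ ·) (baseChangeCone_π_snd A c.i c.g b)).trans
      (pullback.lift_snd _ _ _))
  let ψ := coverTrans A c.i c.g π₀ tb jI hjb ι
  -- the limit map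
  let p : pullback π₀ (B.π.app (op c.j)) ⟶ P' := pullback.fst _ _
  let q : pullback π₀ (B.π.app (op c.j)) ⟶ X := pullback.snd _ _
  have hpq : p ≫ π₀ = q ≫ B.π.app (op c.j) := pullback.condition
  let fl : pullback π₀ (B.π.app (op c.j)) ⟶ pullback (A.π.app (op c.i)) tb :=
    pullback.lift (q ≫ f) (p ≫ jI)
      (by rw [Category.assoc, Category.assoc, hjb, reassoc_of% hpq, c.w])
  have hflfst : fl ≫ pullback.fst _ _ = q ≫ f := pullback.lift_fst _ _ _
  have : IsClosedImmersion fl := by
    have : IsProper q := inferInstanceAs (IsProper (pullback.snd π₀ _))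
    have : IsProper (fl ≫ pullback.fst (A.π.app (op c.i)) tb) := by rw [hflfst]; infer_instance
    have hp : IsProper fl := IsProper.of_comp fl (pullback.fst (A.π.app (op c.i)) tb)
    have hm : Mono fl := by
      constructor
      intro W a b hab
      have e1 : a ≫ p = b ≫ p := by
        have : Mono jI := inferInstance
        rw [← cancel_mono jI, Category.assoc, Category.assoc,
          show p ≫ jI = fl ≫ pullback.snd _ _ from (pullback.lift_snd _ _ _).symm,
          reassoc_of% hab]
      have e2 : a ≫ q = b ≫ q := by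
        rw [← cancel_mono h]
        apply pullback.hom_ext
        · simp only [h, Category.assoc, pullback.lift_fst]
          rw [← hflfst, reassoc_of% hab]
        · simp only [h, Category.assoc, pullback.lift_snd]
          rw [← hpq, reassoc_of% e1]
      exact pullback.hom_ext e1 e2
    exact (IsClosedImmersion.iff_isProper_and_mono fl).2 ⟨hp, hm⟩
  have hcomm : ∀ b, fl ≫ (baseChangeCone A c.i tb).π.app b =
      (bcCone t π₀ (AP.imagesCone h) (B.π.app (op c.j)) hτ).π.app b ≫ ψ.app b := fun b ↦ by
    have e1 := AP.imagesCone_w h b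
    apply pullback.hom_ext
    · refine (Category.assoc _ _ _).trans ((congrArg (fl ≫ ·) (baseChangeCone_π_fst A c.i tb b)).trans ?_)
      refine ((Category.assoc _ _ _).symm.trans (congrArg (· ≫ _) hflfst)).trans ?_
      refine Eq.trans ?_ ((Category.assoc _ _ _).trans
        (congrArg (_ ≫ ·) (coverTrans_fst A c.i c.g π₀ tb jI hjb ι b))).symm
      refine Eq.trans ?_ (Category.assoc _ _ _)
      refine Eq.trans ?_ (congrArg (· ≫ _) (pullback.lift_snd _ _ _)).symm
      refine Eq.trans ?_ (Category.assoc _ _ _).symm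
      refine (Category.assoc _ _ _).trans (congrArg (q ≫ ·) ?_)
      refine Eq.trans ?_ (Category.assoc _ _ _)
      refine Eq.trans ?_ (congrArg (· ≫ _) e1)
      refine Eq.trans ?_ (Category.assoc _ _ _).symm
      refine Eq.trans ?_ (congrArg (h ≫ ·) (baseChangeCone_π_fst A c.i c.g b)).symm
      exact (pullback.lift_fst_assoc _ _ _ _).symm
    · refine (Category.assoc _ _ _).trans ((congrArg (fl ≫ ·) (baseChangeCone_π_snd A c.i tb b)).trans ?_)
      refine (pullback.lift_snd _ _ _).trans ?_
      refine Eq.trans ?_ ((Category.assoc _ _ _).trans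
        (congrArg (_ ≫ ·) (coverTrans_snd A c.i c.g π₀ tb jI hjb ι b))).symm
      exact (pullback.lift_fst_assoc _ _ _ _).symm
  have hlift := fun (a b : (Set.Ici c.i)ᵒᵖ) (m : b ⟶ a) ↦
    isClosedImmersion_liftMap_coverTrans A c.i c.g π₀ tb jI hjb ι m
  have hbf : ∀ b, LocallyOfFiniteType (ι.app b ≫ baseChangeFst A c.i c.g b) ∧
      QuasiCompact (ι.app b ≫ baseChangeFst A c.i c.g b) ∧
      IsSeparated (ι.app b ≫ baseChangeFst A c.i c.g b) := fun b ↦ by
    have : LocallyOfFiniteType (baseChangeFst A c.i c.g b) :=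
      inferInstanceAs (LocallyOfFiniteType (pullback.fst _ c.g))
    have : QuasiCompact (baseChangeFst A c.i c.g b) :=
      inferInstanceAs (QuasiCompact (pullback.fst _ c.g))
    have : IsSeparated (baseChangeFst A c.i c.g b) :=
      inferInstanceAs (IsSeparated (pullback.fst _ c.g))
    exact ⟨inferInstance, inferInstance, inferInstance⟩
  have hsepψ : ∀ b, IsSeparated (ψ.app b) := fun b ↦
    isSeparated_coverTrans A c.i c.g π₀ tb jI hjb ι b
  have htbf : ∀ b, IsProper (baseChangeFst A c.i tb b) := fun b ↦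
    inferInstanceAs (IsProper (pullback.fst _ tb))
  have : ∀ b, LocallyOfFiniteType (ψ.app b) := fun b ↦ by
    have := (hbf b).1
    have : LocallyOfFiniteType (ψ.app b ≫ baseChangeFst A c.i tb b) := by
      rw [coverTrans_fst]; infer_instance
    exact locallyOfFiniteType_of_comp _ (baseChangeFst A c.i tb b)
  have : ∀ b, QuasiCompact (ψ.app b) := fun b ↦ by
    have := (hbf b).2.1
    have : QuasiCompact (ψ.app b ≫ baseChangeFst A c.i tb b) := by
      rw [coverTrans_fst]; infer_instance
    exact QuasiCompact.of_comp _ (baseChangeFst A c.i tb b)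
  let b₀ : (Set.Ici c.i)ᵒᵖ := op ⟨c.i, le_rfl⟩
  have : CompactSpace ((baseChangeDiagram A c.i tb).obj b₀) := by
    have : CompactSpace (A.D.obj (op c.i)) := A.compact _
    exact QuasiCompact.compactSpace_of_compactSpace (baseChangeFst A c.i tb b₀)
  obtain ⟨k, -, hk⟩ := exists_isClosedImmersion ψ (isLimitBcCone t π₀ _ _ hτ hZlim)
    (isLimitBaseChangeCone A c.i tb) fl hcomm b₀ hlift
  -- properness above `k`
  let R := Set.Ici (k.unop)
  have : Nonempty (Set.Ici k.unop) := ⟨⟨k.unop, le_rfl⟩⟩
  haveI hdir : IsDirected (Set.Ici k.unop) (fun a b => a ≤ b) :=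
    ⟨fun a b ↦ by
      obtain ⟨e, h₁, h₂⟩ := exists_ge_ge (a : Set.Ici c.i) b
      exact ⟨⟨e, le_trans a.2 h₁⟩, h₁, h₂⟩⟩
  let F : (Set.Ici k.unop)ᵒᵖ ⥤ (Set.Ici c.i)ᵒᵖ :=
    (Monotone.functor (f := fun b : Set.Ici k.unop ↦ (b : Set.Ici c.i)) fun _ _ h ↦ h).op
  have : F.Initial := by
    refine Functor.initial_of_exists_of_isCofiltered _ (fun d ↦ ?_)
      fun {d a} s s' ↦ ⟨a, 𝟙 _, Subsingleton.elim _ _⟩
    obtain ⟨e, h₁, h₂⟩ := exists_ge_ge k.unop d.unop
    exact ⟨op ⟨e, h₁⟩, ⟨(homOfLE h₂).op⟩⟩
  let G : (Set.Ici c.i)ᵒᵖ ⥤ A.Iᵒᵖ :=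
    (Monotone.functor (f := fun b : Set.Ici c.i ↦ (b : A.I)) fun _ _ h ↦ h).op
  have : G.Initial := by
    refine Functor.initial_of_exists_of_isCofiltered _ (fun d ↦ ?_)
      fun {d a} s s' ↦ ⟨a, 𝟙 _, Subsingleton.elim _ _⟩
    obtain ⟨e, h₁, h₂⟩ := exists_ge_ge c.i d.unop
    exact ⟨op ⟨e, h₁⟩, ⟨(homOfLE h₂).op⟩⟩
  let θ : DZ ⟶ G ⋙ A.D :=
    { app := fun b ↦ ι.app b ≫ baseChangeFst A c.i c.g b
      naturality := fun a b m ↦ by
        refine (ι.naturality_assoc m _).trans ?_
        refine Eq.trans ?_ (Category.assoc _ _ _).symm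
        exact congrArg (ι.app a ≫ ·) (baseChangeFst_naturality A c.i c.g m) }
  refine ⟨{
    I := Set.Ici k.unop
    DX := F ⋙ DZ
    DS := F ⋙ G ⋙ A.D
    φ := Functor.whiskerLeft F θ
    πX := ((AP.imagesCone h).whisker F).π
    πS := ((A.cone.whisker G).whisker F).π
    isLimitX := (Functor.Initial.isLimitWhiskerEquiv F _).symm hZlim
    isLimitS := (Functor.Initial.isLimitWhiskerEquiv F (A.cone.whisker G)).symm
      ((Functor.Initial.isLimitWhiskerEquiv G A.cone).symm A.isLimit)
    affineX := fun a b m ↦ AP.isAffineHom_images_map h _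
    affineS := fun a b m ↦ A.affine _ _ _
    proper := ?_
    compact := fun b ↦ A.compact _
    locallyOfFiniteType := fun b ↦ A.locallyOfFiniteType _
    w := ?_
    isClosedImmersion := ?_ }⟩
  · intro b
    obtain ⟨h1, h2, h3⟩ := hbf (F.obj b)
    let m : F.obj b ⟶ k := (homOfLE b.unop.2).op
    have hψ : IsClosedImmersion (ψ.app (F.obj b)) :=
      app_of_hom ψ @IsClosedImmersion m hk (hlift _ _ m)
    have : UniversallyClosed
        (pullback.snd π₀ (t.app (F.obj b)) ≫ ι.app (F.obj b) ≫ baseChangeFst A c.i c.g (F.obj b)) := by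
      rw [← coverTrans_fst A c.i c.g π₀ tb jI hjb ι]
      have := htbf (F.obj b)
      infer_instance
    have : Surjective (pullback.snd π₀ (t.app (F.obj b))) := inferInstance
    have : UniversallyClosed (ι.app (F.obj b) ≫ baseChangeFst A c.i c.g (F.obj b)) :=
      UniversallyClosed.of_comp_surjective (pullback.snd π₀ (t.app (F.obj b))) _
    show IsProper (ι.app (F.obj b) ≫ baseChangeFst A c.i c.g (F.obj b))
    exact ⟨⟩
  · intro b
    have e1 := AP.imagesCone_w h (F.obj b)
    refine (Category.assoc _ _ _).symm.trans ((congrArg (· ≫ _) e1.symm).trans ?_)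
    refine (Category.assoc _ _ _).trans ((congrArg (h ≫ ·) (baseChangeCone_π_fst A c.i c.g _)).trans ?_)
    exact pullback.lift_fst_assoc _ _ _ _
  · intro b
    let b' := F.obj b
    let σ := A.π.app (op (b'.unop : A.I))
    let l : X ⟶ pullback (ι.app b' ≫ baseChangeFst A c.i c.g b') σ :=
      pullback.lift ((AP.imagesCone h).π.app b') f (by
        have e1 := AP.imagesCone_w h b'
        refine (Category.assoc _ _ _).symm.trans ((congrArg (· ≫ _) e1.symm).trans ?_)
        refine (Category.assoc _ _ _).trans ((congrArg (h ≫ ·) (baseChangeCone_π_fst A c.i c.g _)).trans ?_)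
        exact pullback.lift_fst_assoc _ _ _ _)
    have hsep := (hbf b').2.2
    let k' : pullback (ι.app b' ≫ baseChangeFst A c.i c.g b') σ ⟶ pullback (A.π.app (op c.i)) c.g :=
      pullback.lift (pullback.snd _ _) (pullback.fst _ _ ≫ ι.app b' ≫ (baseChangeSnd A c.i c.g).app b') (by
        refine (congrArg (pullback.snd _ _ ≫ ·) (A.π_trans b'.unop.2).symm).trans ?_
        refine (Category.assoc _ _ _).symm.trans ((congrArg (· ≫ _) pullback.condition.symm).trans ?_)
        simp only [Category.assoc]
        exact congrArg (pullback.fst _ _ ≫ ι.app b' ≫ ·) (baseChange_condition A c.i c.g b'))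
    have : IsSeparated (k' ≫ pullback.fst (A.π.app (op c.i)) c.g) := by
      rw [pullback.lift_fst]; infer_instance
    have : IsSeparated k' := IsSeparated.of_comp k' (pullback.fst (A.π.app (op c.i)) c.g)
    have e : l ≫ k' = h := by
      apply pullback.hom_ext
      · simp [l, k', h]
      · simp only [k', h, Category.assoc, pullback.lift_snd]
        exact (pullback.lift_fst_assoc _ _ _ _).trans (hτ b')
    have : IsClosedImmersion (l ≫ k') := e ▸ inferInstance
    exact IsClosedImmersion.of_comp l k'

end Groth.Limits
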