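import Groth.Agent.Limits.FibreDimLimit
import Groth.Agent.Limits.ProperModel
import Groth.Agent.HTopHyper.StdHDescent
import Groth.Agent.SpectralTopology.NoethSystem
import Groth.Agent.FibreDim.Semicontinuity

/-!
# Noetherian models of proper morphisms with a bound on the dimension of the fibres

Over an affine base, a proper morphism with fibres of dimension `≤ d` factors as a closed immersion
into the base change of a proper morphism over a Noetherian ring with fibres of dimension `≤ d`.
-/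

set_option backward.isDefEq.respectTransparency false
set_option backward.defeqAttrib.useBackward true
set_option backward.isDefEq.respectTransparency.types false

universe u

open CategoryTheory Limits AlgebraicGeometry TopologicalSpace Opposite

namespace Groth.Limits

/-- A proper scheme is a closed subscheme of one of finite presentation with the same bound on the
dimension of the fibres. -/
theorem exists_properFP_dim_fiber_le {X S : Scheme.{u}} (q : X ⟶ S) [IsProper q] [CompactSpace S]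
    [QuasiSeparatedSpace S] (d : ℕ) (hd : ∀ s : S, topologicalKrullDim ↥(q.fiber s) ≤ d) :
    ∃ (X₁ : Scheme.{u}) (q₁ : X₁ ⟶ S) (j : X ⟶ X₁), IsProper q₁ ∧
      LocallyOfFinitePresentation q₁ ∧ IsClosedImmersion j ∧ j ≫ q₁ = q ∧
      ∀ s : S, topologicalKrullDim ↥(q₁.fiber s) ≤ d := by
  obtain ⟨M⟩ := exists_properModel q
  obtain ⟨b⟩ := M.nonempty
  let b' : M.Iᵒᵖ := Opposite.op b
  have := M.compact b'
  have := M.locallyOfFiniteType b'
  have hp := M.proper b'
  have : IsLocallyNoetherian (M.DS.obj b') := LocallyOfFiniteType.isLocallyNoetherian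
    (Limits.IsTerminal.from specULiftZIsTerminal (M.DS.obj b'))
  have : LocallyOfFinitePresentation (M.φ.app b') :=
    LocallyOfFinitePresentation.iff_locallyOfFiniteType.2 inferInstance
  let P := pullback (M.φ.app b') (M.πS.app b')
  let p : P ⟶ S := pullback.snd _ _
  let ι : X ⟶ P := pullback.lift (M.πX.app b') q (M.w b')
  haveI : IsClosedImmersion ι := M.isClosedImmersion b'
  haveI : IsProper p := MorphismProperty.pullback_snd _ _ hp
  haveI : LocallyOfFinitePresentation p := MorphismProperty.pullback_snd _ _ inferInstance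
  have hι : ι ≫ p = q := pullback.lift_snd _ _ _
  obtain ⟨Z, ι', k, hcl, hlfp, hk, hZ⟩ :=
    exists_fp_closedSubscheme_dim_fiber_le p d ι (fun s => by rw [hι]; exact hd s)
  refine ⟨Z, ι' ≫ p, k, inferInstance, inferInstance, ?_, by rw [← hι, ← hk, Category.assoc], hZ⟩
  have : IsClosedImmersion (k ≫ ι') := hk ▸ inferInstance
  exact IsClosedImmersion.of_comp k ι'

/-- A proper scheme of finite presentation over a ring is the base change of a proper scheme over a
Noetherian ring. -/
theorem exists_proper_stageModel {I : Type u} [Category.{u} I] [IsCofiltered I] {D : I ⥤ Scheme.{u}}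
    [∀ i, IsAffine (D.obj i)] [∀ (i j : I) (f : i ⟶ j), IsAffineHom (D.map f)] {c : Cone D}
    (hc : IsLimit c) {Y : Scheme.{u}} (g : Y ⟶ c.pt) [IsProper g]
    [LocallyOfFinitePresentation g] :
    ∃ (i : I) (N : SpectralTopology.StageModel g i), IsProper N.hom := by
  obtain ⟨i₀⟩ := IsCofiltered.nonempty (C := I)
  have : CompactSpace c.pt := Scheme.compactSpace_of_isLimit D c hc
  have : QuasiSeparatedSpace c.pt := quasiSeparatedSpace_pt D c hc (i := i₀)
  obtain ⟨i, ⟨N₀⟩⟩ := SpectralTopology.exists_stageModel hc g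
  have : IsProper (pullback.snd N₀.hom (c.π.app i)) := by
    rw [← N₀.sq.isoPullback_inv_snd]; infer_instance
  have : ∀ (a b : Over i) (m : a ⟶ b), IsAffineHom ((Over.forget i ⋙ D).map m) := fun _ _ m =>
    inferInstanceAs (IsAffineHom (D.map m.left))
  have : ∀ a : Over i, CompactSpace ↥((Over.forget i ⋙ D).obj a) := fun a =>
    inferInstanceAs (CompactSpace ↥(D.obj a.left))
  have : ∀ a : Over i, QuasiSeparatedSpace ↥((Over.forget i ⋙ D).obj a) := fun a =>
    inferInstanceAs (QuasiSeparatedSpace ↥(D.obj a.left))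
  obtain ⟨j, hj⟩ := exists_isProper_bcTrans
    ((Functor.Initial.isLimitWhiskerEquiv (Over.forget i) c).symm hc) (overTrans D i) (c.π.app i)
    (fun j => c.w j.hom) N₀.hom
  have hjp : IsProper (pullback.snd N₀.hom (D.map j.hom)) := hj
  refine ⟨j.left, N₀.pull j.hom, ?_⟩
  show IsProper (pullback.fst (D.map j.hom) N₀.hom)
  rw [← pullbackSymmetry_hom_comp_snd]; infer_instance

/-- Noetherian models with a bound on the dimension of the fibres. -/
theorem exists_noetherian_model_dim_fiber_le {A : Type u} [CommRing A] {X : Scheme.{u}}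
    (q : X ⟶ Spec (CommRingCat.of A)) [IsProper q] [LocallyOfFinitePresentation q] (d : ℕ)
    (hd : ∀ P, topologicalKrullDim ↥(q.fiber P) ≤ d) :
    ∃ (A₀ : Type u) (_ : CommRing A₀) (_ : IsNoetherianRing A₀) (φ : A₀ →+* A) (X₀ : Scheme.{u})
      (q₀ : X₀ ⟶ Spec (CommRingCat.of A₀)) (g : X ⟶ X₀), IsProper q₀ ∧
      (∀ P, topologicalKrullDim ↥(q₀.fiber P) ≤ d) ∧
      IsPullback g q q₀ (Spec.map (CommRingCat.ofHom φ)) := by
  classical
  let AA : CommRingCat.{u} := CommRingCat.of A
  have hc := SpectralTopology.isLimitFgCone AA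
  haveI : ∀ i, IsAffine ((SpectralTopology.fgSchemes AA).obj i) := fun i =>
    inferInstanceAs (IsAffine (Spec _))
  haveI : IsDirectedOrder (SpectralTopology.FGSub AA) :=
    ⟨fun s t => ⟨⟨s.1 ⊔ t.1, s.2.sup t.2⟩, (le_sup_left : s.1 ≤ s.1 ⊔ t.1),
      (le_sup_right : t.1 ≤ s.1 ⊔ t.1)⟩⟩
  haveI : Nonempty (SpectralTopology.FGSub AA) := ⟨⟨⊥, Subalgebra.fg_bot⟩⟩
  haveI : IsFiltered (SpectralTopology.FGSub AA) := isFiltered_of_directed_le_nonempty _
  haveI : IsCofiltered (SpectralTopology.FGSub AA)ᵒᵖ := isCofiltered_op_of_isFiltered _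
  obtain ⟨i, N, hN⟩ := exists_proper_stageModel hc (Y := X) q
  let s := i.unop
  have : IsNoetherianRing s.1 :=
    have : Algebra.FiniteType ℤ s.1 := s.1.fg_iff_finiteType.1 s.2
    Algebra.FiniteType.isNoetherianRing ℤ _
  let U : Set ((SpectralTopology.fgSchemes AA).obj i) :=
    {y | topologicalKrullDim ↥(N.hom.fiber y) ≤ d}
  have hU : IsOpen U := FibreDim.isOpen_dim_fiber_le N.hom N.hom.isClosedMap _
  obtain ⟨J, hJ⟩ := (PrimeSpectrum.isClosed_iff_zeroLocus_ideal (R := s.1) Uᶜ).1 hU.isClosed_compl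
  have hJA : J.map s.1.val.toRingHom = ⊤ := by
    by_contra hne
    obtain ⟨m, hm, hle⟩ := Ideal.exists_le_maximal _ hne
    let P : Spec AA := (⟨m, hm.isPrime⟩ : PrimeSpectrum A)
    have hP : (SpectralTopology.fgCone AA).π.app i P ∈ U := by
      refine (FibreDim.dim_fiber_baseChange N.hom _ q N.map N.sq P).ge.trans (hd P)
    have hP' : PrimeSpectrum.comap s.1.val.toRingHom (⟨m, hm.isPrime⟩ : PrimeSpectrum A) ∈
        PrimeSpectrum.zeroLocus (J : Set s.1) := fun a ha =>
      hle (Ideal.mem_map_of_mem _ ha)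
    rw [← hJ] at hP'
    exact hP' hP
  obtain ⟨G, hG⟩ := (IsNoetherian.noetherian J : J.FG)
  have hspan : Ideal.span ((fun a : s.1 => (a : A)) '' (G : Set s.1)) = ⊤ := by
    rw [← hJA, ← hG, Ideal.map_span]
    rfl
  obtain ⟨b, hb⟩ := (Submodule.mem_span_finset (s := G.image fun a : s.1 => (a : A))).1
    (show (1 : A) ∈ Ideal.span ((G.image fun a : s.1 => (a : A) : Finset A) : Set A) by
      rw [Finset.coe_image, hspan]; trivial)
  let B : Finset A := (G.image fun a : s.1 => (a : A)).image b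
  let s' : SpectralTopology.FGSub AA :=
    ⟨s.1 ⊔ Algebra.adjoin ℤ (B : Set A), s.2.sup (Subalgebra.fg_adjoin_finset _)⟩
  let ψ : op s' ⟶ i := (homOfLE (le_sup_left : s.1 ≤ s'.1)).op
  let N' := N.pull ψ
  have hN' : IsNoetherianRing s'.1 :=
    have : Algebra.FiniteType ℤ s'.1 := s'.1.fg_iff_finiteType.1 s'.2
    Algebra.FiniteType.isNoetherianRing ℤ _
  haveI : LocallyOfFiniteType N.hom := inferInstance
  refine ⟨s'.1, inferInstance, hN', s'.1.val.toRingHom, N'.obj, N'.hom, N'.map,
    MorphismProperty.pullback_fst _ _ hN, fun P => ?_, N'.sq⟩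
  have hsq : IsPullback (N.proj ψ) N'.hom N.hom ((SpectralTopology.fgSchemes AA).map ψ) :=
    (IsPullback.of_hasPullback _ _).flip
  refine (FibreDim.dim_fiber_baseChange N.hom _ N'.hom (N.proj ψ) hsq P).le.trans ?_
  change (SpectralTopology.fgSchemes AA).map ψ P ∈ U
  by_contra hP
  have hP' : PrimeSpectrum.comap (Subalgebra.inclusion (le_sup_left : s.1 ≤ s'.1)).toRingHom
      (P : PrimeSpectrum s'.1) ∈ PrimeSpectrum.zeroLocus (J : Set s.1) := by
    rw [← hJ]; exact hP
  let Q : Ideal s'.1 := (P : PrimeSpectrum s'.1).asIdeal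
  have hQ : Q.IsPrime := (P : PrimeSpectrum s'.1).isPrime
  have hmem : ∀ a ∈ G.image (fun a : s.1 => (a : A)),
      ∃ h : b a • a ∈ s'.1, (⟨b a • a, h⟩ : s'.1) ∈ Q := fun a ha => by
    obtain ⟨a₀, ha₀, rfl⟩ := Finset.mem_image.1 ha
    have h1 : (Subalgebra.inclusion (le_sup_left : s.1 ≤ s'.1) a₀ : s'.1) ∈ Q :=
      hP' (hG ▸ Ideal.subset_span ha₀)
    have hb' : b (a₀ : A) ∈ s'.1 :=
      (le_sup_right : _ ≤ s'.1) (Algebra.subset_adjoin (Finset.mem_image_of_mem b
        (Finset.mem_image_of_mem (fun a : s.1 => (a : A)) ha₀)))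
    exact ⟨s'.1.mul_mem hb' ((le_sup_left : s.1 ≤ s'.1) a₀.2),
      Q.mul_mem_left ⟨_, hb'⟩ h1⟩
  refine hQ.ne_top (Q.eq_top_iff_one.2 ?_)
  have hsum : (1 : s'.1) = ∑ a ∈ (G.image fun a : s.1 => (a : A)).attach,
      (⟨b a.1 • a.1, (hmem a.1 a.2).1⟩ : s'.1) := by
    apply Subtype.ext
    rw [AddSubmonoidClass.coe_finsetSum]
    simp only [OneMemClass.coe_one]
    rw [Finset.sum_attach _ (fun a => b a • a)]
    exact hb.2.symm
  rw [hsum]
  exact Ideal.sum_mem _ fun a _ => (hmem a.1 a.2).2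

end Groth.Limits
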