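import Groth.Agent.Limits.Descend
import Mathlib.AlgebraicGeometry.Morphisms.Flat
import Mathlib.RingTheory.Flat.EquationalCriterion

/-!
# Local rings of a cofiltered limit of schemes with affine transition maps
-/

universe u

open CategoryTheory Limits AlgebraicGeometry

namespace Groth.Limits

variable {I : Type u} [Category.{u} I] [IsCofiltered I] (D : I ⥤ Scheme.{u})
  [∀ (i j : I) (f : i ⟶ j), IsAffineHom (D.map f)] (c : Cone D) (hc : IsLimit c)

set_option backward.defeqAttrib.useBackward true in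
set_option backward.isDefEq.respectTransparency false in
open Scheme.Opens in
include hc in
/-- Sections over the preimage of an affine open come from a stage. -/
theorem exists_appLE_eq {i : I} {V : (D.obj i).Opens} (hV : IsAffineOpen V)
    (s : Γ(c.pt, c.π.app i ⁻¹ᵁ V)) :
    ∃ (j : I) (φ : j ⟶ i) (t : Γ(D.obj j, D.map φ ⁻¹ᵁ V))
      (h : c.π.app i ⁻¹ᵁ V ≤ c.π.app j ⁻¹ᵁ D.map φ ⁻¹ᵁ V),
      (c.π.app j).appLE (D.map φ ⁻¹ᵁ V) (c.π.app i ⁻¹ᵁ V) h t = s := by
  have (j : Over i) : IsAffine ((opensDiagram D i V).obj j) := hV.preimage _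
  obtain ⟨j, t, ht⟩ := exists_appTop_π_eq_of_isAffine_of_isLimit _ _
    (isLimitOpensCone D c hc i V) ((c.π.app i ⁻¹ᵁ V).topIso.inv s)
  obtain ⟨t, rfl⟩ := (D.map j.hom ⁻¹ᵁ V).topIso.symm.commRingCatIsoToRingEquiv.surjective t
  have h : c.π.app j.left ⁻¹ᵁ D.map j.hom ⁻¹ᵁ V = c.π.app i ⁻¹ᵁ V := congr($(c.w j.hom) ⁻¹ᵁ V)
  refine ⟨j.left, j.hom, t, h.ge, ?_⟩
  rw [eq_comm]
  convert!
    show s = ((topIso _).inv ≫ ((opensCone D c i V).π.app j).appTop ≫ (topIso _).hom) t from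
      (c.π.app i ⁻¹ᵁ V).topIso.commRingCatIsoToRingEquiv.symm_apply_eq.mp ht.symm using 3
  simp [Scheme.Hom.app_eq_appLE, Scheme.Hom.resLE_appLE]

omit [IsCofiltered I] [∀ (i j : I) (f : i ⟶ j), IsAffineHom (D.map f)] in
theorem stalkMap_π_factor {i j : I} (φ : j ⟶ i) (s : c.pt) :
    (c.π.app i).stalkMap s =
      ((D.obj i).presheaf.stalkCongr (.of_eq (π_map_apply D c φ s).symm)).hom ≫
        (D.map φ).stalkMap (c.π.app j s) ≫ (c.π.app j).stalkMap s := by
  have h := Scheme.Hom.stalkMap_congr_hom _ _ (c.w φ).symm s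
  rw [h]
  congr 1
  exact Scheme.Hom.stalkMap_comp _ _ _

include hc in
/-- The stalk of the limit is the union of the images of the stalks of the stages over `i`. -/
theorem exists_stalkMap_eq (i : I) (s : c.pt) (a : c.pt.presheaf.stalk s) :
    ∃ (j : I) (_ : j ⟶ i) (b : (D.obj j).presheaf.stalk (c.π.app j s)),
      (c.π.app j).stalkMap s b = a := by
  obtain ⟨U, hsU, σ, rfl⟩ := TopCat.Presheaf.exists_germ_eq c.pt.presheaf a
  obtain ⟨_, ⟨k, V, hV, rfl⟩, hsV, hVU⟩ :=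
    TopologicalSpace.Opens.isBasis_iff_nbhd.mp (isBasis_preimage_isAffineOpen D c hc) hsU
  let m := IsCofiltered.min k i
  let f := IsCofiltered.minToLeft k i
  have hW : IsAffineOpen (D.map f ⁻¹ᵁ V) := hV.preimage _
  have hle : c.π.app m ⁻¹ᵁ D.map f ⁻¹ᵁ V ≤ U := by
    rw [← Scheme.Hom.comp_preimage, c.w f]
    exact hVU
  obtain ⟨j, φ, t, h, ht⟩ := exists_appLE_eq D c hc hW
    (c.pt.presheaf.map (homOfLE hle).op σ)
  have hs : s ∈ c.π.app m ⁻¹ᵁ D.map f ⁻¹ᵁ V := by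
    rw [← Scheme.Hom.comp_preimage, c.w f]
    exact hsV
  refine ⟨j, φ ≫ IsCofiltered.minToRight k i,
    (D.obj j).presheaf.germ (D.map φ ⁻¹ᵁ D.map f ⁻¹ᵁ V) (c.π.app j s) (h hs) t, ?_⟩
  rw [Scheme.Hom.germ_stalkMap_apply, ← TopCat.Presheaf.germ_res_apply _ (homOfLE hle) s hs σ, ← ht,
    Scheme.Hom.appLE]
  exact (TopCat.Presheaf.germ_res_apply _ _ s hs _).symm

include hc in
/-- An element of the stalk of a stage which dies in the limit dies at a later stage. -/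
theorem exists_stalkMap_eq_zero {i : I} (s : c.pt) (b : (D.obj i).presheaf.stalk (c.π.app i s))
    (hb : (c.π.app i).stalkMap s b = 0) :
    ∃ (j : I) (φ : j ⟶ i), (D.map φ).stalkMap (c.π.app j s)
      (((D.obj i).presheaf.stalkCongr (.of_eq (π_map_apply D c φ s).symm)).hom b) = 0 := by
  obtain ⟨U, hsU, σ, rfl⟩ := TopCat.Presheaf.exists_germ_eq (D.obj i).presheaf b
  rw [Scheme.Hom.germ_stalkMap_apply,
    ← map_zero (c.pt.presheaf.germ (c.π.app i ⁻¹ᵁ U) s hsU).hom] at hb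
  obtain ⟨W, hsW, hWU, hWU', e⟩ := TopCat.Presheaf.germ_eq c.pt.presheaf s hsU hsU _ _ hb
  obtain ⟨_, ⟨k, V, hV, rfl⟩, hsV, hVW⟩ :=
    TopologicalSpace.Opens.isBasis_iff_nbhd.mp (isBasis_preimage_isAffineOpen D c hc) hsW
  let m := IsCofiltered.min k i
  let f := IsCofiltered.minToLeft k i
  let g := IsCofiltered.minToRight k i
  obtain ⟨V', hV', hsV', hV'le⟩ := exists_isAffineOpen_mem_and_subset (X := D.obj m)
    (x := c.π.app m s) (U := D.map f ⁻¹ᵁ V ⊓ D.map g ⁻¹ᵁ U) (by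
      refine ⟨?_, ?_⟩
      · show D.map f (c.π.app m s) ∈ V
        rw [π_map_apply D c f]
        exact hsV
      · show D.map g (c.π.app m s) ∈ U
        rw [π_map_apply D c g]
        exact hsU)
  have hle₁ : c.π.app m ⁻¹ᵁ V' ≤ c.π.app i ⁻¹ᵁ U := fun x hx ↦ by
    have := (hV'le hx).2
    show c.π.app i x ∈ U
    rw [← π_map_apply D c g]
    exact this
  have hle₂ : c.π.app m ⁻¹ᵁ V' ≤ W := fun x hx ↦ hVW (by
    have := (hV'le hx).1
    show c.π.app k x ∈ V
    rw [← π_map_apply D c f]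
    exact this)
  let τ := (D.map g).appLE U V' (fun x hx ↦ (hV'le hx).2) σ
  have hτ : (c.π.app m).app V' τ = 0 := by
    have e' := congr(c.pt.presheaf.map (homOfLE hle₂).op $e)
    simp only [map_zero, ← ConcreteCategory.comp_apply, Category.assoc, ← Functor.map_comp] at e'
    have : (c.π.app i).appLE U (c.π.app m ⁻¹ᵁ V') hle₁ σ = 0 := by
      rw [Scheme.Hom.appLE]
      exact e'
    rw [Scheme.Hom.app_eq_appLE]
    simp only [τ, ← ConcreteCategory.comp_apply, Scheme.Hom.appLE_comp_appLE]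
    have key : ∀ (f' : c.pt ⟶ D.obj i) (_ : f' = c.π.app i) (h' : c.π.app m ⁻¹ᵁ V' ≤ f' ⁻¹ᵁ U),
        f'.appLE U (c.π.app m ⁻¹ᵁ V') h' σ = 0 := by
      rintro _ rfl h'
      exact this
    exact key _ (c.w g) _
  obtain ⟨j, ψ, hj⟩ := exists_app_map_eq_zero_of_isLimit D c hc hV'.isCompact τ hτ
  refine ⟨j, ψ ≫ g, ?_⟩
  simp only [TopCat.Presheaf.stalkCongr_hom, TopCat.Presheaf.germ_stalkSpecializes_apply]
  rw [Scheme.Hom.germ_stalkMap_apply]
  have hxj : c.π.app j s ∈ D.map ψ ⁻¹ᵁ V' := by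
    show D.map ψ (c.π.app j s) ∈ V'
    rw [π_map_apply D c ψ]
    exact hsV'
  have hle₃ : D.map ψ ⁻¹ᵁ V' ≤ D.map (ψ ≫ g) ⁻¹ᵁ U := by
    intro x hx
    show D.map (ψ ≫ g) x ∈ U
    rw [D.map_comp, Scheme.Hom.comp_apply]
    exact (hV'le hx).2
  rw [← TopCat.Presheaf.germ_res_apply _ (homOfLE hle₃) _ hxj]
  have : (D.obj j).presheaf.map (homOfLE hle₃).op ((D.map (ψ ≫ g)).app U σ) = 0 := by
    rw [← hj]
    simp only [τ, Scheme.Hom.app_eq_appLE, ← ConcreteCategory.comp_apply,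
      Scheme.Hom.appLE_comp_appLE, Scheme.Hom.appLE_map, ← D.map_comp]
  rw [this, map_zero]

/-- The transition map between the stalks of the stages along a point of the limit. -/
noncomputable def stalkTrans {i j : I} (φ : j ⟶ i) (s : c.pt) :
    (D.obj i).presheaf.stalk (c.π.app i s) ⟶ (D.obj j).presheaf.stalk (c.π.app j s) :=
  ((D.obj i).presheaf.stalkCongr (.of_eq (π_map_apply D c φ s).symm)).hom ≫
    (D.map φ).stalkMap (c.π.app j s)

omit [IsCofiltered I] [∀ (i j : I) (f : i ⟶ j), IsAffineHom (D.map f)] in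
theorem stalkTrans_π {i j : I} (φ : j ⟶ i) (s : c.pt) :
    stalkTrans D c φ s ≫ (c.π.app j).stalkMap s = (c.π.app i).stalkMap s := by
  rw [stalkTrans, Category.assoc, ← stalkMap_π_factor]

omit [IsCofiltered I] [∀ (i j : I) (f : i ⟶ j), IsAffineHom (D.map f)] in
theorem stalkTrans_comp {i j k : I} (ψ : k ⟶ j) (φ : j ⟶ i) (s : c.pt) :
    stalkTrans D c (ψ ≫ φ) s = stalkTrans D c φ s ≫ stalkTrans D c ψ s := by
  refine TopCat.Presheaf.stalk_hom_ext _ fun U hU ↦ ?_
  simp only [stalkTrans, TopCat.Presheaf.stalkCongr_hom, Category.assoc,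
    TopCat.Presheaf.germ_stalkSpecializes_assoc, Scheme.Hom.germ_stalkMap,
    Scheme.Hom.germ_stalkMap_assoc]
  have key : ∀ (f : D.obj k ⟶ D.obj i) (_ : f = D.map ψ ≫ D.map φ) (h : f (c.π.app k s) ∈ U),
      f.app U ≫ (D.obj k).presheaf.germ (f ⁻¹ᵁ U) (c.π.app k s) h =
        (D.map φ).app U ≫ (D.map ψ).app (D.map φ ⁻¹ᵁ U) ≫
          (D.obj k).presheaf.germ ((D.map ψ ≫ D.map φ) ⁻¹ᵁ U) (c.π.app k s) (by subst f; exact h) := by
    rintro _ rfl h
    rw [Scheme.Hom.comp_app]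
    exact Category.assoc _ _ _
  exact key _ (D.map_comp ψ φ) _

set_option backward.isDefEq.respectTransparency false in
include hc in
/-- S4764: flatness of the projections. -/
theorem flat_π {i : I} (hf : ∀ (j : I) (φ : j ⟶ i), Flat (D.map φ)) : Flat (c.π.app i) := by
  classical
  refine Flat.of_stalkMap _ fun s ↦ ?_
  have hg {j : I} (φ : j ⟶ i) : (stalkTrans D c φ s).hom.Flat := by
    rw [stalkTrans, CommRingCat.hom_comp]
    have := hf j φ
    refine RingHom.Flat.comp (.of_bijective ?_) (Flat.stalkMap (D.map φ) _)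
    exact ((D.obj i).presheaf.stalkCongr _).commRingCatIsoToRingEquiv.bijective
  algebraize [((c.π.app i).stalkMap s).hom]
  refine Module.Flat.iff_forall_isTrivialRelation.mpr fun {l f x} hx ↦ ?_
  choose j φ b hb using fun k ↦ exists_stalkMap_eq D c hc i s (x k)
  obtain ⟨m, μ, ν, hν⟩ := IsCofiltered.wideCospan φ
  let y : Fin l → (D.obj m).presheaf.stalk (c.π.app m s) := fun k ↦ stalkTrans D c (ν k) s (b k)
  have hy (k) : (c.π.app m).stalkMap s (y k) = x k := by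
    rw [← hb k]
    exact congr($(stalkTrans_π D c (ν k) s) (b k))
  have hsum : (c.π.app m).stalkMap s (∑ k, stalkTrans D c μ s (f k) * y k) = 0 := by
    rw [map_sum, ← hx]
    refine Finset.sum_congr rfl fun k _ ↦ ?_
    rw [map_mul, hy k, Algebra.smul_def]
    congr 1
    exact congr($(stalkTrans_π D c μ s) (f k))
  obtain ⟨n, ψ, hψ⟩ := exists_stalkMap_eq_zero D c hc s _ hsum
  replace hψ : stalkTrans D c ψ s (∑ k, stalkTrans D c μ s (f k) * y k) = 0 := hψ
  algebraize [(stalkTrans D c (ψ ≫ μ) s).hom]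
  have : Module.Flat ((D.obj i).presheaf.stalk (c.π.app i s))
      ((D.obj n).presheaf.stalk (c.π.app n s)) := hg (ψ ≫ μ)
  have hrel : ∑ k, f k • stalkTrans D c ψ s (y k) = 0 := by
    rw [← hψ, map_sum]
    refine Finset.sum_congr rfl fun k _ ↦ ?_
    rw [map_mul, Algebra.smul_def, RingHom.algebraMap_toAlgebra, stalkTrans_comp]
    rfl
  obtain ⟨p, a, z, h₁, h₂⟩ := Module.Flat.isTrivialRelation_of_sum_smul_eq_zero hrel
  refine ⟨p, a, fun q ↦ (c.π.app n).stalkMap s (z q), fun k ↦ ?_, h₂⟩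
  have h := congr((c.π.app n).stalkMap s $(h₁ k))
  rw [map_sum] at h
  have hxk : (c.π.app n).stalkMap s (stalkTrans D c ψ s (y k)) = x k := by
    rw [← hy k]
    exact congr($(stalkTrans_π D c ψ s) (y k))
  rw [hxk] at h
  rw [h]
  refine Finset.sum_congr rfl fun q _ ↦ ?_
  rw [Algebra.smul_def, Algebra.smul_def, map_mul]
  congr 1
  exact congr($(stalkTrans_π D c (ψ ≫ μ) s) (a k q))

end Groth.Limits
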