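import Groth.Agent.Limits.Existence

/-!
# The underlying space of a cofiltered limit with affine transition maps is the limit of the spaces
-/

universe u

open CategoryTheory Limits AlgebraicGeometry TopologicalSpace

namespace Groth.Limits

variable {I : Type u} [Category.{u} I] [IsCofiltered I] (D : I ⥤ Scheme.{u})
  [∀ (i j : I) (f : i ⟶ j), IsAffineHom (D.map f)] (c : Cone D) (hc : IsLimit c)

include hc in
/-- Every open neighbourhood contains a basic one coming from a stage. -/
theorem exists_preimage_π_subset_of_isOpen {U : Set c.pt} (hU : IsOpen U) {x : c.pt} (hx : x ∈ U) :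
    ∃ (j : I) (V : (D.obj j).Opens), c.π.app j x ∈ V ∧ ∀ y : c.pt, c.π.app j y ∈ V → y ∈ U := by
  obtain ⟨_, ⟨j, V, -, rfl⟩, hxW, hWU⟩ :=
    Opens.isBasis_iff_nbhd.mp (isBasis_preimage_isAffineOpen D c hc)
      (U := (⟨U, hU⟩ : c.pt.Opens)) hx
  exact ⟨j, V, hxW, fun y hy ↦ hWU hy⟩

include hc in
/-- Points of the limit are determined by their images in the stages. -/
theorem eq_of_forall_π_eq {x y : c.pt} (h : ∀ j, c.π.app j x = c.π.app j y) : x = y := by
  refine Inseparable.eq (inseparable_iff_forall_isOpen.mpr fun U hU ↦ ⟨fun hx ↦ ?_, fun hy ↦ ?_⟩)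
  · obtain ⟨j, V, h₁, h₂⟩ := exists_preimage_π_subset_of_isOpen D c hc hU hx
    exact h₂ y (by simpa only [← h j] using h₁)
  · obtain ⟨j, V, h₁, h₂⟩ := exists_preimage_π_subset_of_isOpen D c hc hU hy
    exact h₂ x (by simpa only [h j] using h₁)

section

variable (s : ∀ j, D.obj j) (hs : ∀ (i j : I) (f : i ⟶ j), D.map f (s i) = s j)

/-- The transition map between residue field spectra of a compatible family of points. -/
noncomputable def pointTrans {i j : I} (f : i ⟶ j) :
    Spec ((D.obj i).residueField (s i)) ⟶ Spec ((D.obj j).residueField (s j)) :=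
  Spec.map ((D.map f).residueFieldMap (s i)) ≫
    Spec.map ((D.obj j).residueFieldCongr (hs i j f).symm).hom

omit [IsCofiltered I] [∀ (i j : I) (f : i ⟶ j), IsAffineHom (D.map f)] in
theorem pointTrans_comp {i j : I} (f : i ⟶ j) :
    pointTrans D s hs f ≫ (D.obj j).fromSpecResidueField (s j) =
      (D.obj i).fromSpecResidueField (s i) ≫ D.map f :=
  (Category.assoc _ _ _).trans ((congrArg _ (Scheme.residueFieldCongr_fromSpecResidueField _)).trans
    (Scheme.Hom.SpecMap_residueFieldMap_fromSpecResidueField _ _))

/-- The system of residue field spectra of a compatible family of points. -/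
noncomputable def pointDiagram : I ⥤ Scheme.{u} where
  obj j := Spec ((D.obj j).residueField (s j))
  map := pointTrans D s hs
  map_id i := (cancel_mono ((D.obj i).fromSpecResidueField (s i))).mp
    ((pointTrans_comp D s hs _).trans (by rw [D.map_id, Category.comp_id, Category.id_comp]))
  map_comp {i j k} f g := (cancel_mono ((D.obj k).fromSpecResidueField (s k))).mp
    ((pointTrans_comp D s hs _).trans (by
      rw [D.map_comp, Category.assoc, pointTrans_comp, ← Category.assoc, ← Category.assoc,
        pointTrans_comp]))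

instance (j : I) : IsAffine ((pointDiagram D s hs).obj j) :=
  inferInstanceAs (IsAffine (Spec ((D.obj j).residueField (s j))))

instance (i j : I) (f : i ⟶ j) : IsAffineHom ((pointDiagram D s hs).map f) :=
  inferInstance

instance (j : I) : Nonempty ((pointDiagram D s hs).obj j) :=
  inferInstanceAs (Nonempty (Spec ((D.obj j).residueField (s j))))

/-- The system of points maps to the original system. -/
noncomputable def pointNatTrans : pointDiagram D s hs ⟶ D where
  app j := (D.obj j).fromSpecResidueField (s j)
  naturality _ _ f := pointTrans_comp D s hs f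

include hc hs in
/-- A compatible family of points comes from a point of the limit. -/
theorem exists_forall_π_eq : ∃ x : c.pt, ∀ j, c.π.app j x = s j := by
  have : HasLimit (pointDiagram D s hs) := hasLimit_of_isAffineHom _
  obtain ⟨z⟩ := Scheme.nonempty_of_isLimit _ (limit.cone (pointDiagram D s hs)) (limit.isLimit _)
  obtain ⟨w, hw⟩ : ∃ w : limit (pointDiagram D s hs) ⟶ c.pt, ∀ j, w ≫ c.π.app j =
      limit.π (pointDiagram D s hs) j ≫ (D.obj j).fromSpecResidueField (s j) :=
    ⟨hc.lift ((Cone.postcompose (pointNatTrans D s hs)).obj (limit.cone _)), fun j ↦ hc.fac _ j⟩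
  refine ⟨w z, fun j ↦ ?_⟩
  have h := Scheme.Hom.comp_apply w (c.π.app j) z
  rw [hw j, Scheme.Hom.comp_apply] at h
  exact h.symm.trans (Scheme.fromSpecResidueField_apply (s j) _)

end

include hc in
/-- S2152 -/
theorem nonempty_isLimit_forgetToTop_mapCone :
    Nonempty (IsLimit (Scheme.forgetToTop.mapCone c)) := by
  classical
  have hex (t : Cone (D ⋙ Scheme.forgetToTop)) (z : t.pt) :
      ∃ x : c.pt, ∀ j, c.π.app j x = t.π.app j z :=
    exists_forall_π_eq D c hc (fun j ↦ t.π.app j z) fun i j f ↦ by
      have := t.w f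
      exact congr($(this) z)
  choose g hg using hex
  refine ⟨{
    lift := fun t ↦ TopCat.ofHom ⟨g t, continuous_def.mpr fun U hU ↦ ?_⟩
    fac := fun t j ↦ by
      ext z
      exact hg t z j
    uniq := fun t m hm ↦ by
      ext z
      refine eq_of_forall_π_eq D c hc fun j ↦ ?_
      refine Eq.trans ?_ (hg t z j).symm
      rw [← hm j]
      rfl }⟩
  refine isOpen_iff_forall_mem_open.mpr fun z hz ↦ ?_
  obtain ⟨j, V, h₁, h₂⟩ := exists_preimage_π_subset_of_isOpen D c hc hU hz
  refine ⟨t.π.app j ⁻¹' (V : Set (D.obj j)), fun w hw ↦ h₂ _ (Set.mem_of_eq_of_mem (hg t w j) hw),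
    (V.2).preimage (t.π.app j).hom.continuous, ?_⟩
  exact Set.mem_preimage.mpr (Set.mem_of_eq_of_mem (hg t z j).symm h₁)

end Groth.Limits
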