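import Groth.Agent.Limits.OpenPullback
import Groth.Agent.Limits.TopLimit
import Groth.Agent.Limits.Stalk
import Mathlib.AlgebraicGeometry.Morphisms.UniversallyOpen
import Mathlib.CategoryTheory.CofilteredSystem

/-!
# Closures of pro-constructible sets and flat limits; maximal points of limits
-/

universe u

open CategoryTheory Limits AlgebraicGeometry Topology

namespace Groth.Limits

theorem exists_specializes_of_mem_closure {X : Scheme.{u}} {Z : Set X} (hZ : PC Z) {y : X}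
    (hy : y ∈ closure Z) : ∃ z ∈ Z, z ⤳ y := by
  obtain ⟨W, hW, hyW, -⟩ := exists_isAffineOpen_mem_and_subset (U := (⊤ : X.Opens)) (Set.mem_univ y)
  have : IsAffine W.toScheme := hW
  let κ := {B : W.toScheme.Opens // IsAffineOpen B ∧ (⟨y, hyW⟩ : W) ∈ B}
  have : Nonempty κ := ⟨⟨⊤, isAffineOpen_top _, trivial⟩⟩
  obtain ⟨z, hz⟩ := nonempty_iInter_of_directed (fun B : κ ↦ ⇑W.ι ⁻¹' Z ∩ (B.1 : Set W))
    (fun B ↦ (hZ.preimage W.ι).inter
      (pc_of_isConstructible (B.2.1.isCompact.isConstructible B.1.isOpen)))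
    (fun B B' ↦ by
      obtain ⟨V, hV, hyV, hVsub⟩ := exists_isAffineOpen_mem_and_subset (U := B.1 ⊓ B'.1)
        (⟨B.2.2, B'.2.2⟩ : (⟨y, hyW⟩ : W) ∈ B.1 ⊓ B'.1)
      exact ⟨⟨V, hV, hyV⟩, fun x hx ↦ ⟨hx.1, (hVsub hx.2).1⟩, fun x hx ↦ ⟨hx.1, (hVsub hx.2).2⟩⟩)
    (fun B ↦ by
      obtain ⟨x, hx, hxZ⟩ := mem_closure_iff.mp hy (W.ι ''ᵁ B.1) (W.ι ''ᵁ B.1).isOpen
        ⟨⟨y, hyW⟩, B.2.2, rfl⟩
      obtain ⟨x', hx', rfl⟩ := hx
      exact ⟨x', hxZ, hx'⟩)
  simp only [Set.mem_iInter, Set.mem_inter_iff, Set.mem_preimage] at hz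
  have hzy : z ⤳ (⟨y, hyW⟩ : W) := by
    refine specializes_iff_forall_open.mpr fun O hO hyO ↦ ?_
    obtain ⟨V, hV, hyV, hVsub⟩ := exists_isAffineOpen_mem_and_subset (U := ⟨O, hO⟩) hyO
    exact hVsub (hz ⟨V, hV, hyV⟩).2
  exact ⟨W.ι z, (hz ⟨⊤, isAffineOpen_top _, trivial⟩).1, hzy.map W.ι.continuous⟩

/-- Flat morphisms: preimages commute with closures of pro-constructible sets. -/
theorem preimage_closure_eq {X Y : Scheme.{u}} (f : X ⟶ Y) [Flat f] {Z : Set Y} (hZ : PC Z) :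
    ⇑f ⁻¹' closure Z = closure (⇑f ⁻¹' Z) := by
  refine Set.Subset.antisymm (fun x hx ↦ ?_) (f.continuous.closure_preimage_subset Z)
  obtain ⟨z, hz, hzx⟩ := exists_specializes_of_mem_closure hZ hx
  obtain ⟨x', hx', rfl⟩ := Flat.generalizingMap f hzx
  exact hx'.mem_closed isClosed_closure (subset_closure hz)

variable {I : Type u} [Category.{u} I] [IsCofiltered I] (D : I ⥤ Scheme.{u})
  [∀ (i j : I) (f : i ⟶ j), IsAffineHom (D.map f)] (c : Cone D) (hc : IsLimit c)

include hc in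
/-- Containment in a closure descends along flat systems. -/
theorem preimage_subset_closure_iff (i : I) [CompactSpace (D.obj i)]
    (hfl : ∀ (j k : I) (φ : j ⟶ k), Flat (D.map φ)) {Z' Z'' : Set (D.obj i)} (hZ' : PC Z')
    (hZ'' : PC Z'') (hcl : Topology.IsConstructible (closure Z')) :
    (⇑(c.π.app i) ⁻¹' Z'' : Set c.pt) ⊆ closure (⇑(c.π.app i) ⁻¹' Z' : Set c.pt) ↔
      ∃ (j : I) (φ : j ⟶ i), ⇑(D.map φ) ⁻¹' Z'' ⊆ closure (⇑(D.map φ) ⁻¹' Z') := by
  have := fun k ↦ flat_π D c hc (i := k) fun j φ ↦ hfl j k φ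
  refine ⟨fun h ↦ ?_, fun ⟨j, φ, h⟩ ↦ ?_⟩
  · have h' := h.trans_eq (preimage_closure_eq (c.π.app i) hZ').symm
    obtain ⟨j, φ, hj⟩ := exists_preimage_subset D c hc hZ''.qcImage
      (pc_compl_of_isConstructible hcl) h'
    have := hfl j i φ
    exact ⟨j, φ, hj.trans_eq (preimage_closure_eq (D.map φ) hZ')⟩
  · rw [← preimage_π D c φ Z'', ← preimage_π D c φ Z']
    refine (Set.preimage_mono h).trans_eq ?_
    exact preimage_closure_eq (c.π.app j) (hZ'.preimage _)

section Maximal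

variable {X : Scheme.{u}}

/-- Every point has a maximal generization. -/
theorem exists_maximal_specializes (x : X) : ∃ z : X, (∀ w, w ⤳ z → w = z) ∧ z ⤳ x := by
  have hC := irreducibleComponent_mem_irreducibleComponents x
  obtain ⟨η, hη⟩ := QuasiSober.sober hC.1 (isClosed_of_mem_irreducibleComponents _ hC)
  refine ⟨η, fun w hw ↦ ?_, hη.specializes mem_irreducibleComponent⟩
  have h1 : irreducibleComponent x ⊆ closure {w} := by
    rw [← hη.def]
    exact specializes_iff_closure_subset.mp hw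
  have h2 : closure ({w} : Set X) ⊆ irreducibleComponent x :=
    hC.2 isIrreducible_singleton.closure h1
  exact (Specializes.antisymm (hη.specializes (h2 (subset_closure rfl))) hw).eq.symm

/-- A dense open contains the maximal points when these are finitely many. -/
theorem maximal_mem_of_dense (hfin : {s : X | ∀ z : X, z ⤳ s → z = s}.Finite) (V : X.Opens)
    (hV : Dense (V : Set X)) {s : X} (hs : ∀ z : X, z ⤳ s → z = s) : s ∈ V := by
  let T := {s : X | ∀ z : X, z ⤳ s → z = s} \ {s}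
  have hW : IsOpen (⋃ t ∈ T, closure ({t} : Set X))ᶜ :=
    ((hfin.subset Set.sdiff_subset).isClosed_biUnion fun t _ ↦ isClosed_closure).isOpen_compl
  have hsW : s ∈ (⋃ t ∈ T, closure ({t} : Set X))ᶜ := by
    simp only [Set.mem_compl_iff, Set.mem_iUnion, not_exists]
    exact fun t ht hst ↦ ht.2 (hs t (specializes_iff_mem_closure.mpr hst))
  obtain ⟨y, hyW, hyV⟩ := hV.inter_open_nonempty _ hW ⟨s, hsW⟩
  obtain ⟨z, hz, hzy⟩ := exists_maximal_specializes y
  have : z = s := by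
    by_contra hne
    exact hyW (Set.mem_biUnion (show z ∈ T from ⟨hz, hne⟩) (specializes_iff_mem_closure.mp hzy))
  exact this ▸ hzy.mem_open V.isOpen hyV

/-- An open containing all maximal points is dense. -/
theorem dense_of_maximal_mem (V : X.Opens) (hV : ∀ s : X, (∀ z : X, z ⤳ s → z = s) → s ∈ V) :
    Dense (V : Set X) := fun x ↦ by
  obtain ⟨z, hz, hzx⟩ := exists_maximal_specializes x
  exact hzx.mem_closed isClosed_closure (subset_closure (hV z hz))

variable (hfin : ∀ i : I, {s : ↥(D.obj i) | ∀ z : ↥(D.obj i), z ⤳ s → z = s}.Finite)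
  (hsys : ∀ (i j : I) (g : i ⟶ j) (s : ↥(D.obj i)), (∀ z : ↥(D.obj i), z ⤳ s → z = s) →
      ∀ z : ↥(D.obj j), z ⤳ D.map g s → z = D.map g s)

include hc hfin hsys in
/-- A compatible system of nonempty sets of maximal points has a limit point. -/
theorem exists_maximal_of_forall (P : ∀ i, Set (D.obj i))
    (hP : ∀ i, ∀ z ∈ P i, ∀ w, w ⤳ z → w = z) (hne : ∀ i, (P i).Nonempty)
    (hPm : ∀ (i j : I) (g : i ⟶ j) z, z ∈ P i → D.map g z ∈ P j) :
    ∃ s : c.pt, ∀ i, c.π.app i s ∈ P i := by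
  let F : I ⥤ Type u :=
  { obj := fun i ↦ P i
    map := fun {i j} g ↦ TypeCat.ofHom (fun z ↦ ⟨D.map g z.1, hPm i j g z.1 z.2⟩)
    map_id := fun i ↦ by
      ext z
      change D.map (𝟙 i) z.1 = z.1
      rw [D.map_id]
      rfl
    map_comp := fun {i j k} f g ↦ by
      ext z
      change D.map (f ≫ g) z.1 = D.map g (D.map f z.1)
      rw [D.map_comp]
      rfl }
  have (i : I) : Finite (F.obj i) := ((hfin i).subset (hP i)).to_subtype
  have (i : I) : Nonempty (F.obj i) := (hne i).to_subtype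
  obtain ⟨u, hu⟩ := nonempty_sections_of_finite_cofiltered_system F
  obtain ⟨s, hs⟩ := exists_forall_π_eq D c hc (fun i ↦ (u i).1)
    fun i j f ↦ congrArg Subtype.val (hu f)
  exact ⟨s, fun i ↦ (hs i).symm ▸ (u i).2⟩

include hc hfin hsys in
/-- S5106 -/
theorem maximal_iff (s : c.pt) :
    (∀ z : c.pt, z ⤳ s → z = s) ↔
      ∀ (i : I) (z : D.obj i), z ⤳ c.π.app i s → z = c.π.app i s := by
  refine ⟨fun h ↦ ?_, fun h z hz ↦ eq_of_forall_π_eq D c hc fun i ↦
    h i _ (hz.map (c.π.app i).continuous)⟩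
  obtain ⟨z, hz⟩ := exists_maximal_of_forall D c hc hfin hsys
    (fun i ↦ {z | (∀ w, w ⤳ z → w = z) ∧ z ⤳ c.π.app i s}) (fun i z hz ↦ hz.1)
    (fun i ↦ exists_maximal_specializes _)
    (fun i j g z hz ↦ ⟨hsys i j g z hz.1,
      π_map_apply D c g s ▸ hz.2.map (D.map g).continuous⟩)
  have hzs : z = s := h z <| specializes_iff_forall_open.mpr fun U hU hsU ↦ by
    obtain ⟨j, V, hsV, hVU⟩ := exists_preimage_π_subset_of_isOpen D c hc hU hsU
    exact hVU z ((hz j).2.mem_open V.isOpen hsV)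
  exact fun i ↦ hzs ▸ (hz i).1

end Maximal

end Groth.Limits
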