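import Groth.Agent.Limits.Descend

/-!
# Universally open projections, and pullbacks of limit systems
-/

universe u

open CategoryTheory Limits AlgebraicGeometry MorphismProperty

namespace Groth.Limits

section

variable {I : Type u} [Category.{u} I] (D : I ⥤ Scheme.{u})
  [∀ (i j : I) (f : i ⟶ j), IsAffineHom (D.map f)] (i : I) {T : Scheme.{u}} (a : T ⟶ D.obj i)

/-- The base change of the system above `i` along `a : T ⟶ D i`. -/
noncomputable abbrev pullbackDiagram : Over i ⥤ Scheme.{u} :=
  Over.post D ⋙ Over.pullback a ⋙ Over.forget _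

/-- The base change of a cone along `a : T ⟶ D i`. -/
noncomputable abbrev pullbackCone (c : Cone D) : Cone (pullbackDiagram D i a) :=
  (Over.pullback a ⋙ Over.forget _).mapCone ((Over.conePost D i).obj c)

/-- The base change of a limit cone is a limit cone. -/
noncomputable def isLimitPullbackCone [IsCofiltered I] {c : Cone D} (hc : IsLimit c) :
    IsLimit (pullbackCone D i a c) :=
  have : IsConnected I := IsCofiltered.isConnected I
  isLimitOfPreserves (Over.pullback a ⋙ Over.forget _) (Over.isLimitConePost _ hc)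

instance isAffineHom_pullbackDiagram_map (j k : Over i) (f : j ⟶ k) :
    IsAffineHom ((pullbackDiagram D i a).map f) :=
  overPullbackMap (P := @IsAffineHom) a ((Over.post D).map f)
    (inferInstanceAs (IsAffineHom (D.map f.left)))

theorem pullbackDiagram_map_π (j : Over i) :
    (pullbackDiagram D i a).map (Over.homMk j.hom : j ⟶ Over.mk (𝟙 i)) ≫
      pullback.snd (D.map (𝟙 i)) a = pullback.snd (D.map j.hom) a := by
  simp [pullbackDiagram]
  exact pullback.lift_snd _ _ _

end

end Groth.Limits

namespace Groth.Limits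

theorem universallyOpen_iff_pullback_snd {X Y : Scheme.{u}} (f : X ⟶ Y) :
    UniversallyOpen f ↔ ∀ (T : Scheme.{u}) (a : T ⟶ Y), IsOpenMap ⇑(pullback.snd f a) := by
  refine ⟨fun h T a ↦ (pullback.snd f a).isOpenMap, fun h ↦ ⟨fun {X' Y'} i₁ i₂ f' sq ↦ ?_⟩⟩
  have := h _ i₂
  rw [← sq.flip.isoPullback_inv_snd] at this
  have h' : IsOpenMap ⇑(sq.flip.isoPullback.hom ≫ sq.flip.isoPullback.inv ≫ f') := by
    have := this.comp sq.flip.isoPullback.hom.isOpenEmbedding.isOpenMap
    rwa [Scheme.Hom.comp_base, TopCat.coe_comp]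
  rw [Iso.hom_inv_id_assoc] at h'
  exact h'

end Groth.Limits

namespace Groth.Limits

variable {I : Type u} [Category.{u} I] [IsCofiltered I] (D : I ⥤ Scheme.{u})
  [∀ (i j : I) (f : i ⟶ j), IsAffineHom (D.map f)]

include D in
/-- S4766 -/
theorem universallyOpen_π_iff (c : Cone D) (hc : IsLimit c) (i : I)
    (hs : ∀ (j : I), (j ⟶ i) → Surjective (c.π.app j)) :
    UniversallyOpen (c.π.app i) ↔ ∀ (j : I) (φ : j ⟶ i), UniversallyOpen (D.map φ) := by
  have key (T : Scheme.{u}) (a : T ⟶ D.obj i) :
      IsOpenMap ⇑(pullback.snd (c.π.app i) a) ↔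
        ∀ (j : I) (φ : j ⟶ i), IsOpenMap ⇑(pullback.snd (D.map φ) a) := by
    have : IsIso (D.map (𝟙 i)) := by rw [D.map_id]; infer_instance
    let e : (pullbackDiagram D i a).obj (Over.mk (𝟙 i)) ⟶ T :=
      pullback.snd ((Over.post D).obj (Over.mk (𝟙 i))).hom a
    have he : IsIso e := pullback_snd_iso_of_left_iso (D.map (𝟙 i)) a
    have h := isOpenMap_π_comp_iff (pullbackDiagram D i a) (pullbackCone D i a c)
      (isLimitPullbackCone D i a hc) (Over.mk (𝟙 i))
      e (fun j _ ↦ by
        refine overPullbackMap (P := @Surjective) a (((Over.conePost D i).obj c).π.app j) ?_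
        exact hs j.left j.hom)
    have h1 : (pullbackCone D i a c).π.app (Over.mk (𝟙 i)) ≫
        pullback.snd ((Over.post D).obj (Over.mk (𝟙 i))).hom a = pullback.snd (c.π.app i) a :=
      Over.w ((Over.pullback a).map (((Over.conePost D i).obj c).π.app (Over.mk (𝟙 i))))
    have h2 (j : Over i) (φ : j ⟶ Over.mk (𝟙 i)) : (pullbackDiagram D i a).map φ ≫
        pullback.snd ((Over.post D).obj (Over.mk (𝟙 i))).hom a = pullback.snd (D.map j.hom) a :=
      Over.w ((Over.pullback a).map ((Over.post D).map φ))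
    change (IsOpenMap ⇑((pullbackCone D i a c).π.app (Over.mk (𝟙 i)) ≫
      pullback.snd ((Over.post D).obj (Over.mk (𝟙 i))).hom a) ↔ _) at h
    rw [h1] at h
    refine h.trans ⟨fun H j φ ↦ ?_, fun H j φ ↦ ?_⟩
    · have := H (Over.mk φ) (Over.homMk φ)
      rw [h2] at this
      exact this
    · rw [h2]
      exact H _ _
  simp only [universallyOpen_iff_pullback_snd]
  exact ⟨fun h j φ T a ↦ (key T a).mp (h T a) j φ,
    fun h T a ↦ (key T a).mpr fun j φ ↦ h j φ T a⟩

end Groth.Limits
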