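import Groth.Agent.Limits.PropDescent
import Groth.Agent.Limits.OpenPullback

/-!
# Morphisms of systems to which descent applies

Base change of a fixed morphism along a system over a base, systems over a fixed base, and the
diagonal of a morphism of systems.
-/

set_option backward.isDefEq.respectTransparency false
set_option backward.defeqAttrib.useBackward true

universe u

open CategoryTheory Limits AlgebraicGeometry

namespace Groth.Limits

variable {I : Type u} [Category.{u} I] {D : I ⥤ Scheme.{u}} {T : Scheme.{u}}
  (t : D ⟶ (Functor.const I).obj T) {X₀ : Scheme.{u}} (f₀ : X₀ ⟶ T)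

theorem map_comp_app {i j : I} (m : i ⟶ j) : D.map m ≫ t.app j = t.app i := by
  simpa using t.naturality m

theorem liftMap_const {i j : I} (m : i ⟶ j) :
    liftMap t m ≫ pullback.fst (t.app j) (((Functor.const I).obj T).map m) = D.map m :=
  pullback.lift_fst _ _ _

/-- For a system over a base, the comparison maps inherit the properties of the transition maps. -/
theorem liftMap_const_of_map (P : MorphismProperty Scheme.{u}) [P.RespectsIso] {i j : I}
    (m : i ⟶ j) (h : P (D.map m)) : P (liftMap t m) := by
  have : IsIso (((Functor.const I).obj T).map m) := inferInstanceAs (IsIso (𝟙 T))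
  rw [← P.cancel_right_of_respectsIso (liftMap t m)
    (pullback.fst (t.app j) (((Functor.const I).obj T).map m)), liftMap_const]
  exact h

/-- The base change of `f₀ : X₀ ⟶ T` along a system over `T`. -/
noncomputable def bcDiagram : I ⥤ Scheme.{u} where
  obj i := pullback f₀ (t.app i)
  map {i j} m := pullback.lift (pullback.fst _ _) (pullback.snd _ _ ≫ D.map m)
    (by rw [Category.assoc, map_comp_app, pullback.condition])
  map_id i := by apply pullback.hom_ext <;> simp
  map_comp m n := by apply pullback.hom_ext <;> simp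

/-- The projection of the base change of `f₀` to the system. -/
noncomputable def bcTrans : bcDiagram t f₀ ⟶ D where
  app i := pullback.snd f₀ (t.app i)
  naturality i j m := by simp [bcDiagram]

theorem bcTrans_app (i : I) : (bcTrans t f₀).app i = pullback.snd f₀ (t.app i) := rfl

theorem isPullback_bcTrans {i j : I} (m : i ⟶ j) :
    IsPullback ((bcDiagram t f₀).map m) ((bcTrans t f₀).app i) ((bcTrans t f₀).app j) (D.map m) := by
  refine IsPullback.of_right ?_ ((bcTrans t f₀).naturality m)
    (IsPullback.of_hasPullback f₀ (t.app j))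
  convert IsPullback.of_hasPullback f₀ (t.app i) using 1
  all_goals first | rfl | exact map_comp_app t m | exact pullback.lift_fst _ _ _

instance isAffineHom_bcDiagram_map [∀ (i j : I) (m : i ⟶ j), IsAffineHom (D.map m)] (i j : I)
    (m : i ⟶ j) : IsAffineHom ((bcDiagram t f₀).map m) :=
  MorphismProperty.of_isPullback (P := @IsAffineHom) (isPullback_bcTrans t f₀ m).flip inferInstance

theorem liftMap_bcTrans (P : MorphismProperty Scheme.{u}) [P.ContainsIdentities] [P.RespectsIso]
    {i j : I} (m : i ⟶ j) : P (liftMap (bcTrans t f₀) m) := by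
  have h := isPullback_bcTrans t f₀ m
  have : liftMap (bcTrans t f₀) m = h.isoPullback.hom := by
    apply pullback.hom_ext <;> simp
  rw [this]
  exact MorphismProperty.of_isIso P _

section cone

variable (c : Cone D) (τ : c.pt ⟶ T) (hτ : ∀ i, c.π.app i ≫ t.app i = τ)

/-- The base change of a cone along `f₀`. -/
noncomputable def bcCone : Cone (bcDiagram t f₀) where
  pt := pullback f₀ τ
  π :=
  { app := fun i ↦ pullback.lift (pullback.fst _ _) (pullback.snd _ _ ≫ c.π.app i)
      (by rw [Category.assoc, hτ, pullback.condition])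
    naturality := fun i j m ↦ by
      apply pullback.hom_ext <;> simp [bcDiagram] }

theorem bcCone_w (i : I) : pullback.snd f₀ τ ≫ c.π.app i =
    (bcCone t f₀ c τ hτ).π.app i ≫ (bcTrans t f₀).app i := by
  simp [bcCone, bcTrans]

/-- The base change of a limit cone is a limit cone. -/
noncomputable def isLimitBcCone [IsCofiltered I] (hc : IsLimit c) :
    IsLimit (bcCone t f₀ c τ hτ) :=
  have : IsConnected I := IsCofiltered.isConnected I
  let i₀ : I := IsCofiltered.nonempty.some
  let s' (s : Cone (bcDiagram t f₀)) : Cone D :=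
    (Cone.postcompose (bcTrans t f₀)).obj s
  { lift := fun s ↦ pullback.lift (s.π.app i₀ ≫ pullback.fst _ _) (hc.lift (s' s)) (by
      rw [← hτ i₀, hc.fac_assoc, Category.assoc, pullback.condition]
      simp [s', bcTrans])
    fac := fun s i ↦ by
      apply pullback.hom_ext
      · simp only [bcCone, Category.assoc, pullback.lift_fst]
        refine constant_of_preserves_morphisms (fun i ↦ s.π.app i ≫ pullback.fst f₀ (t.app i))
          (fun j k m ↦ ?_) i₀ i
        change s.π.app j ≫ _ = s.π.app k ≫ _
        rw [← s.w m, Category.assoc]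
        simp [bcDiagram]
      · simp only [bcCone, Category.assoc, pullback.lift_snd, pullback.lift_snd_assoc, hc.fac]
        simp [s', bcTrans]
    uniq := fun s m hm ↦ by
      apply pullback.hom_ext
      · simp [← hm i₀, bcCone]
      · refine hc.hom_ext fun i ↦ ?_
        simp [s', bcTrans, hc.fac, ← hm i, bcCone] }

theorem exists_τ [IsCofiltered I] : ∃ τ : c.pt ⟶ T, ∀ i, c.π.app i ≫ t.app i = τ := by
  have : IsConnected I := IsCofiltered.isConnected I
  refine ⟨c.π.app IsCofiltered.nonempty.some ≫ t.app _, fun i ↦ ?_⟩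
  exact constant_of_preserves_morphisms (fun i ↦ c.π.app i ≫ t.app i)
    (fun j k m ↦ by change _ = c.π.app k ≫ t.app k; rw [← c.w m, Category.assoc, map_comp_app]) _ _

theorem π_app_comp_eq [IsCofiltered I] (i j : I) : c.π.app i ≫ t.app i = c.π.app j ≫ t.app j := by
  obtain ⟨τ, h⟩ := exists_τ t c
  rw [h, h]

end cone

section diag

variable {DX DY : I ⥤ Scheme.{u}} (φ : DX ⟶ DY)

/-- The fibre product of a system with itself over another. -/
noncomputable def sqDiagram : I ⥤ Scheme.{u} where
  obj i := pullback (φ.app i) (φ.app i)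
  map {i j} m := pullback.map _ _ _ _ (DX.map m) (DX.map m) (DY.map m)
    (φ.naturality m).symm (φ.naturality m).symm
  map_id i := by apply pullback.hom_ext <;> simp
  map_comp m n := by apply pullback.hom_ext <;> simp

/-- The diagonal morphism of systems. -/
noncomputable def diagTrans : DX ⟶ sqDiagram φ where
  app i := pullback.diagonal (φ.app i)
  naturality i j m := by apply pullback.hom_ext <;> simp [sqDiagram]

theorem isAffineHom_pullbackMap_comp {i j : I} (m : i ⟶ j) [IsAffineHom (DY.map m)] :
    IsAffineHom (pullback.map (pullback.snd (φ.app j) (DY.map m))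
      (pullback.snd (φ.app j) (DY.map m)) (φ.app j) (φ.app j) (pullback.fst _ _) (pullback.fst _ _)
      (DY.map m) pullback.condition.symm pullback.condition.symm) := by
  refine MorphismProperty.of_isPullback (P := @IsAffineHom)
    (f := pullback.fst (φ.app j) (φ.app j) ≫ φ.app j) (g := DY.map m)
    (f' := pullback.fst _ _ ≫ pullback.snd (φ.app j) (DY.map m)) ?_ inferInstance
  refine IsPullback.flip ⟨⟨by simp [pullback.condition]⟩,
    ⟨PullbackCone.IsLimit.mk _ (fun s ↦ pullback.lift
      (pullback.lift (s.fst ≫ pullback.fst _ _) s.snd (by simpa using s.condition))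
      (pullback.lift (s.fst ≫ pullback.snd _ _) s.snd
        (by simpa [pullback.condition] using s.condition)) (by simp)) ?_ ?_ ?_⟩⟩
  · intro s
    apply pullback.hom_ext <;> simp
  · intro s
    simp
  · intro s m h₁ h₂
    have h₃ := h₁ =≫ pullback.fst _ _
    have h₄ := h₁ =≫ pullback.snd _ _
    simp only [Category.assoc, pullback.lift_fst, pullback.lift_snd] at h₃ h₄
    apply pullback.hom_ext <;> apply pullback.hom_ext
    · simpa using h₃
    · simpa using h₂
    · simpa using h₄
    · simp only [Category.assoc, pullback.lift_snd]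
      rw [← h₂, ← pullback.condition]

instance isAffineHom_sqDiagram_map [∀ (i j : I) (m : i ⟶ j), IsAffineHom (DX.map m)]
    [∀ (i j : I) (m : i ⟶ j), IsAffineHom (DY.map m)] (i j : I) (m : i ⟶ j) :
    IsAffineHom ((sqDiagram φ).map m) := by
  have := isAffineHom_liftMap φ m
  have := isAffineHom_pullbackMap_comp φ m
  have h : IsAffineHom (pullback.map (φ.app i) (φ.app i) (pullback.snd (φ.app j) (DY.map m))
      (pullback.snd (φ.app j) (DY.map m)) (liftMap φ m) (liftMap φ m) (𝟙 _)
      (by simp) (by simp)) :=
    MorphismProperty.pullbackMap (P := @IsAffineHom) ‹_› ‹_› (by simp) (by simp)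
  have e : (sqDiagram φ).map m = pullback.map (φ.app i) (φ.app i)
      (pullback.snd (φ.app j) (DY.map m)) (pullback.snd (φ.app j) (DY.map m)) (liftMap φ m)
      (liftMap φ m) (𝟙 _) (by simp) (by simp) ≫ pullback.map _ _ (φ.app j) (φ.app j)
        (pullback.fst _ _) (pullback.fst _ _) (DY.map m) pullback.condition.symm
        pullback.condition.symm := by
    apply pullback.hom_ext <;> simp [sqDiagram]
  rw [e]
  infer_instance

theorem isClosedImmersion_liftMap_diagTrans {i j : I} (m : i ⟶ j) [IsAffineHom (DX.map m)]
    [IsAffineHom (DY.map m)] : IsClosedImmersion (liftMap (diagTrans φ) m) := by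
  have := isAffineHom_liftMap φ m
  let g : pullback ((diagTrans φ).app j) ((sqDiagram φ).map m) ⟶
      pullback (liftMap φ m) (liftMap φ m) :=
    pullback.lift (pullback.snd _ _ ≫ pullback.fst _ _) (pullback.snd _ _ ≫ pullback.snd _ _) (by
      have h₁ := (pullback.condition (f := (diagTrans φ).app j) (g := (sqDiagram φ).map m)) =≫
        pullback.fst (φ.app j) (φ.app j)
      have h₂ := (pullback.condition (f := (diagTrans φ).app j) (g := (sqDiagram φ).map m)) =≫
        pullback.snd (φ.app j) (φ.app j)
      simp [diagTrans, sqDiagram] at h₁ h₂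
      apply pullback.hom_ext
      · simp only [Category.assoc, pullback.lift_fst]
        exact h₁.symm.trans h₂
      · simp [pullback.condition])
  have : Mono g := ⟨fun {W} a b h ↦ by
    have h₁ := h =≫ pullback.fst _ _
    have h₂ := h =≫ pullback.snd _ _
    simp [g] at h₁ h₂
    apply pullback.hom_ext
    · have := (pullback.condition (f := (diagTrans φ).app j) (g := (sqDiagram φ).map m)) =≫
        pullback.fst (φ.app j) (φ.app j)
      have h₀ : pullback.fst ((diagTrans φ).app j) ((sqDiagram φ).map m) =
          pullback.snd _ _ ≫ pullback.fst (φ.app i) (φ.app i) ≫ DX.map m := by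
        simpa [diagTrans, sqDiagram] using this
      have h₃ := h₁ =≫ DX.map m
      simp only [Category.assoc] at h₃
      rw [h₀]
      exact h₃
    · apply pullback.hom_ext <;> simpa using ‹_›⟩
  have : liftMap (diagTrans φ) m ≫ g = pullback.diagonal (liftMap φ m) := by
    apply pullback.hom_ext <;> simp [g, diagTrans]
  have : IsClosedImmersion (liftMap (diagTrans φ) m ≫ g) := by
    rw [this]
    infer_instance
  exact IsClosedImmersion.of_comp (liftMap (diagTrans φ) m) g

variable {cX : Cone DX} {cY : Cone DY} (f : cX.pt ⟶ cY.pt)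
  (hf : ∀ j, f ≫ cY.π.app j = cX.π.app j ≫ φ.app j)

/-- The fibre product of the limit map with itself, as a cone on `sqDiagram`. -/
noncomputable def sqCone : Cone (sqDiagram φ) where
  pt := pullback f f
  π :=
  { app := fun i ↦ pullback.map _ _ _ _ (cX.π.app i) (cX.π.app i) (cY.π.app i) (hf i) (hf i)
    naturality := fun i j m ↦ by
      apply pullback.hom_ext <;> simp [sqDiagram] }

theorem sqCone_w (i : I) : pullback.diagonal f ≫ (sqCone φ f hf).π.app i =
    cX.π.app i ≫ (diagTrans φ).app i := by
  apply pullback.hom_ext <;> simp [sqCone, diagTrans]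

/-- `sqCone` is a limit cone. -/
noncomputable def isLimitSqCone (hX : IsLimit cX) (hY : IsLimit cY) :
    IsLimit (sqCone φ f hf) :=
  let p (s : Cone (sqDiagram φ)) : Cone DX :=
    { pt := s.pt
      π :=
      { app := fun i ↦ s.π.app i ≫ pullback.fst _ _
        naturality := fun i j m ↦ by simp [← s.w m, sqDiagram] } }
  let q (s : Cone (sqDiagram φ)) : Cone DX :=
    { pt := s.pt
      π :=
      { app := fun i ↦ s.π.app i ≫ pullback.snd _ _
        naturality := fun i j m ↦ by simp [← s.w m, sqDiagram] } }
  { lift := fun s ↦ pullback.lift (hX.lift (p s)) (hX.lift (q s)) (hY.hom_ext fun i ↦ by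
      simp only [Category.assoc, hf, hX.fac_assoc, p, q]
      simp [pullback.condition])
    fac := fun s i ↦ by
      apply pullback.hom_ext <;> simp [sqCone, hX.fac, p, q]
    uniq := fun s m hm ↦ by
      apply pullback.hom_ext <;> refine hX.hom_ext fun i ↦ ?_ <;>
        simp [hX.fac, p, q, ← hm i, sqCone] }

variable [IsCofiltered I] [∀ (i j : I) (m : i ⟶ j), IsAffineHom (DX.map m)]
  [∀ (i j : I) (m : i ⟶ j), IsAffineHom (DY.map m)] (hX : IsLimit cX) (hY : IsLimit cY)

include hX hY hf in
/-- Separatedness descends along morphisms of systems. -/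
theorem exists_isSeparated (i : I) [CompactSpace (DX.obj i)] [∀ k, QuasiCompact (φ.app k)]
    [∀ k, QuasiSeparated (φ.app k)] [IsSeparated f] :
    ∃ (k : I) (_ : k ⟶ i), IsSeparated (φ.app k) := by
  have : CompactSpace ((sqDiagram φ).obj i) :=
    QuasiCompact.compactSpace_of_compactSpace (pullback.fst (φ.app i) (φ.app i))
  have : ∀ k, QuasiCompact ((diagTrans φ).app k) := fun k ↦
    inferInstanceAs (QuasiCompact (pullback.diagonal (φ.app k)))
  have : ∀ k, QuasiSeparated ((diagTrans φ).app k) := fun k ↦
    inferInstanceAs (QuasiSeparated (pullback.diagonal (φ.app k)))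
  have : ∀ k, LocallyOfFiniteType ((diagTrans φ).app k) := fun k ↦
    inferInstanceAs (LocallyOfFiniteType (pullback.diagonal (φ.app k)))
  have : IsClosedImmersion (pullback.diagonal f) := inferInstance
  obtain ⟨k, m, hk⟩ := exists_isClosedImmersion (diagTrans φ) hX (isLimitSqCone φ f hf hX hY)
    (pullback.diagonal f) (sqCone_w φ f hf) i
    (fun _ _ m ↦ isClosedImmersion_liftMap_diagTrans φ m)
  exact ⟨k, m, ⟨hk⟩⟩

end diag

/-- Turn a property of a stage of a base changed system into the form of the descent statements. -/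
theorem exists_isPullback_of_stage (D : I ⥤ Scheme.{u}) {i₀ : I} {X₀ Y₀ : Scheme.{u}} (f₀ : X₀ ⟶ Y₀)
    (g₀ : Y₀ ⟶ D.obj i₀) (P : MorphismProperty Scheme.{u}) (j : Over i₀)
    (h : P (pullback.snd f₀ (pullback.snd (D.map j.hom) g₀))) :
    ∃ (i : I) (φ : i ⟶ i₀) (Xi Yi : Scheme.{u}) (fi : Xi ⟶ Yi) (gi : Yi ⟶ D.obj i) (pY : Yi ⟶ Y₀)
      (pX : Xi ⟶ X₀), IsPullback pY gi g₀ (D.map φ) ∧ IsPullback pX fi f₀ pY ∧ P fi :=
  ⟨j.left, j.hom, _, _, _, _, _, _, (IsPullback.of_hasPullback (D.map j.hom) g₀).flip,
    IsPullback.of_hasPullback f₀ (pullback.snd (D.map j.hom) g₀), h⟩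

end Groth.Limits
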