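import Groth.Agent.Limits.RingPropDescent
import Mathlib.AlgebraicGeometry.Morphisms.Smooth
import Mathlib.AlgebraicGeometry.Morphisms.Etale

/-!
# Descending smooth and étale morphisms along limits
-/

set_option backward.isDefEq.respectTransparency false
set_option backward.defeqAttrib.useBackward true

universe u

open CategoryTheory Limits AlgebraicGeometry

namespace Groth.Limits

variable {I : Type u} [Category.{u} I] [IsCofiltered I] {D : I ⥤ Scheme.{u}}
  [∀ (i j : I) (m : i ⟶ j), IsAffineHom (D.map m)] {c : Cone D}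
  {i₀ : I} {X₀ Y₀ X Y : Scheme.{u}} {f₀ : X₀ ⟶ Y₀} {g₀ : Y₀ ⟶ D.obj i₀} {f : X ⟶ Y}
  {g : Y ⟶ c.pt} {qY : Y ⟶ Y₀} {qX : X ⟶ X₀}

/-- If the base change of `f₀` to the limit has a property given by a property of ring maps which
descends, so does it at some stage. -/
theorem exists_prop_stage (P : MorphismProperty Scheme.{u})
    {Q : ∀ {R S : Type u} [CommRing R] [CommRing S], (R →+* S) → Prop} [HasRingHomProperty P Q]
    [P.IsStableUnderComposition] [P.IsStableUnderBaseChange] (hQ : RingDescends.{u} Q)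
    (hopen : @IsOpenImmersion ≤ P) (hc : IsLimit c) (hY : IsPullback qY g g₀ (c.π.app i₀))
    (hX : IsPullback qX f f₀ qY) [CompactSpace X₀] [LocallyOfFinitePresentation f₀] (h : P f) :
    ∃ j : Over i₀, P (pullback.snd f₀ (pullback.snd (D.map j.hom) g₀)) := by
  have hlim := prop_snd_of_isPullback P hY hX h
  let D' := pullbackDiagram D i₀ g₀
  let k₀ : Over i₀ := Over.mk (𝟙 i₀)
  let p₀ := pullback.snd (D.map k₀.hom) g₀
  let x₀ := pullback.snd f₀ p₀
  have : CompactSpace (pullback f₀ p₀ : Scheme.{u}) := by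
    have : IsIso p₀ := pullback_snd_iso_of_left_iso (D.map (𝟙 i₀)) g₀
    exact QuasiCompact.compactSpace_of_compactSpace (pullback.fst f₀ p₀)
  have hπ : (pullbackCone D i₀ g₀ c).π.app k₀ ≫ p₀ = pullback.snd (c.π.app i₀) g₀ :=
    pullback.lift_snd _ _ _
  obtain ⟨j, hj⟩ := exists_stage_of_ringDescends P hQ hopen D' _ (isLimitPullbackCone D i₀ g₀ hc) k₀
    x₀ (by
      rw [← P.cancel_left_of_respectsIso
        (pullbackLeftPullbackSndIso f₀ p₀ ((pullbackCone D i₀ g₀ c).π.app k₀)).inv]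
      have : (pullbackLeftPullbackSndIso f₀ p₀ ((pullbackCone D i₀ g₀ c).π.app k₀)).inv ≫
          pullback.snd x₀ ((pullbackCone D i₀ g₀ c).π.app k₀) = pullback.snd f₀ _ := by
        rw [Iso.inv_comp_eq, pullbackLeftPullbackSndIso_hom_snd]
      rw [this]
      exact prop_snd_comp P _ (𝟙 _) _ _ ((Category.id_comp _).trans hπ.symm) hlim)
  refine ⟨j.left, ?_⟩
  have hb : D'.map j.hom ≫ p₀ = pullback.snd (D.map j.left.hom) g₀ := pullback.lift_snd _ _ _
  have h3 : P (pullback.snd f₀ (D'.map j.hom ≫ p₀)) := by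
    have := hj
    rwa [← pullbackLeftPullbackSndIso_hom_snd f₀ p₀ (D'.map j.hom),
      P.cancel_left_of_respectsIso] at this
  exact prop_snd_comp P _ (𝟙 _) _ _ ((Category.id_comp _).trans hb) h3

theorem ringDescends_smooth : RingDescends.{u} RingHom.Smooth := by
  intro ι _ _ _ A₀ _ G _ _ A _ _ f g H C _ _ _ h
  rw [RingHom.smooth_algebraMap] at h
  obtain ⟨n, -, hn⟩ := H.exists_smooth (B := A₀) (C := C) h.formallySmooth (Classical.arbitrary ι)
  exact ⟨n, RingHom.smooth_algebraMap.2 hn⟩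

theorem ringDescends_etale : RingDescends.{u} RingHom.Etale := by
  intro ι _ _ _ A₀ _ G _ _ A _ _ f g H C _ _ _ h
  rw [RingHom.etale_algebraMap] at h
  obtain ⟨n, -, hn⟩ := H.exists_etale (B := A₀) (C := C) inferInstance inferInstance
    (Classical.arbitrary ι)
  exact ⟨n, RingHom.etale_algebraMap.2 hn⟩

end Groth.Limits
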