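import Groth.Agent.Limits.Topology
import Mathlib.AlgebraicGeometry.Morphisms.UniversallyOpen
import Mathlib.AlgebraicGeometry.Morphisms.UnderlyingMap

/-!
# Descent of open and constructible subsets along limits; open projections
-/

universe u

open CategoryTheory Limits AlgebraicGeometry Topology

namespace Groth.Limits

variable {I : Type u} [Category.{u} I] [IsCofiltered I] (D : I ⥤ Scheme.{u})
  [∀ (i j : I) (f : i ⟶ j), IsAffineHom (D.map f)] (c : Cone D) (hc : IsLimit c)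

omit [IsCofiltered I] in
theorem isCompact_preimage_map {i j : I} (f : i ⟶ j) {U : Set (D.obj j)} (hU : IsOpen U)
    (hU' : IsCompact U) : IsCompact (⇑(D.map f) ⁻¹' U) :=
  QuasiCompact.isCompact_preimage (f := D.map f) _ hU hU'

omit [IsCofiltered I] in
theorem qcImage_isOpen_isCompact {i : I} (U : (D.obj i).Opens) (hU : IsCompact (U : Set (D.obj i))) :
    QCImage (U : Set (D.obj i)) := by
  simpa using pc_univ.qcImage_inter_isCompact U hU

include hc in
/-- A quasi-compact open of the limit comes from a quasi-compact open at a stage over `i₀`. -/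
theorem exists_isCompact_preimage_eq (i₀ : I) (U : c.pt.Opens) (hU : IsCompact (U : Set c.pt)) :
    ∃ (j : I) (_ : j ⟶ i₀) (V : (D.obj j).Opens),
      IsCompact (V : Set (D.obj j)) ∧ ⇑(c.π.app j) ⁻¹' (V : Set (D.obj j)) = (U : Set c.pt) := by
  obtain ⟨i, V, hV, rfl⟩ := exists_preimage_eq D c hc U hU
  let k := IsCofiltered.min i i₀
  refine ⟨k, IsCofiltered.minToRight i i₀, D.map (IsCofiltered.minToLeft i i₀) ⁻¹ᵁ V,
    isCompact_preimage_map D _ V.isOpen hV, ?_⟩
  exact preimage_π D c _ _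

/-- Stability of emptiness of a preimage further down. -/
theorem preimage_eq_empty_of_hom {i j k : I} (ψ : k ⟶ j) (φ : j ⟶ i) {E : Set (D.obj i)}
    (h : ⇑(D.map φ) ⁻¹' E = ∅) : ⇑(D.map (ψ ≫ φ)) ⁻¹' E = ∅ := by
  rw [preimage_map_comp, h, Set.preimage_empty]

include hc in
/-- S4759: constructible subsets descend. -/
theorem exists_isConstructible_preimage {i₀ : I} [CompactSpace (D.obj i₀)]
    [QuasiSeparatedSpace (D.obj i₀)] {Z : Set c.pt} (hZ : IsConstructible Z) :
    ∃ (i : I) (_ : i ⟶ i₀) (Zi : Set (D.obj i)),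
      IsConstructible Zi ∧ ⇑(c.π.app i) ⁻¹' Zi = Z := by
  have := compactSpace_pt D c hc (i := i₀)
  induction hZ using IsConstructible.empty_union_induction with
  | open_retrocompact U hU hU' =>
    obtain ⟨j, φ, V, hV, hVU⟩ := exists_isCompact_preimage_eq D c hc i₀ ⟨U, hU⟩ hU'.isCompact
    have := quasiSeparatedSpace_obj D φ
    exact ⟨j, φ, V, hV.isConstructible V.isOpen, hVU⟩
  | union s hs t ht hs' ht' =>
    obtain ⟨i, a, A, hA, rfl⟩ := hs'
    obtain ⟨j, b, B, hB, rfl⟩ := ht'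
    obtain ⟨k, f, g, e⟩ := IsCofiltered.cospan a b
    have := quasiSeparatedSpace_obj D a
    have := quasiSeparatedSpace_obj D b
    have := compactSpace_obj D (f ≫ a)
    have hpre {l : I} (h : k ⟶ l) [CompactSpace (D.obj l)] [QuasiSeparatedSpace (D.obj l)]
        {S : Set (D.obj l)} (hS : IsConstructible S) : IsConstructible (⇑(D.map h) ⁻¹' S) := by
      have := quasiSeparatedSpace_obj D h
      refine hS.preimage (D.map h).continuous fun U hU hU' ↦ ?_
      exact (isCompact_preimage_map D h hU hU'.isCompact).isRetrocompact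
        (hU.preimage (D.map h).continuous)
    have := compactSpace_obj D a
    have := compactSpace_obj D b
    refine ⟨k, f ≫ a, ⇑(D.map f) ⁻¹' A ∪ ⇑(D.map g) ⁻¹' B, (hpre f hA).union (hpre g hB), ?_⟩
    rw [Set.preimage_union, preimage_π, preimage_π]
  | compl s hs hs' =>
    obtain ⟨i, a, A, hA, rfl⟩ := hs'
    exact ⟨i, a, Aᶜ, hA.compl, rfl⟩

include hc in
/-- S4761 -/
theorem exists_isOpen_preimage {i : I} [CompactSpace (D.obj i)] {Z : Set (D.obj i)}
    (hZ : IsConstructible Z) (h : IsOpen (⇑(c.π.app i) ⁻¹' Z)) :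
    ∃ (j : I) (φ : j ⟶ i), IsOpen (⇑(D.map φ) ⁻¹' Z) := by
  have := isAffineHom_π_app D c hc i
  have hc' : IsCompact (⇑(c.π.app i) ⁻¹' Z) :=
    ((pc_of_isConstructible hZ).qcImage.preimage (c.π.app i)).isCompact
  obtain ⟨j, φ, V, hV, hVZ⟩ := exists_isCompact_preimage_eq D c hc i ⟨_, h⟩ hc'
  have hqV := qcImage_isOpen_isCompact D V hV
  have := compactSpace_obj D φ
  have hqZ : QCImage (⇑(D.map φ) ⁻¹' Z) := ((pc_of_isConstructible hZ).preimage _).qcImage
  have hqB : QCImage (⇑(D.map φ) ⁻¹' Z ∩ (V : Set (D.obj j))ᶜ) :=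
    hqZ.inter_pc (pc_of_isClosed V.isOpen.isClosed_compl)
  have hqA : QCImage ((V : Set (D.obj j)) ∩ ⇑(D.map φ) ⁻¹' Zᶜ) :=
    hqV.inter_pc ((pc_compl_of_isConstructible hZ).preimage _)
  obtain ⟨k, ψ, hk⟩ := exists_preimage_eq_empty D c hc (hqB.union hqA) (by
    have hπ : ⇑(c.π.app j) ⁻¹' (⇑(D.map φ) ⁻¹' Z) = ⇑(c.π.app j) ⁻¹' (V : Set (D.obj j)) := by
      rw [preimage_π, hVZ]; rfl
    rw [Set.preimage_union, Set.preimage_inter, Set.preimage_inter, Set.preimage_compl (s := Z)]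
    simp only [Set.preimage_compl, hπ, Set.inter_compl_self, Set.union_self])
  refine ⟨k, ψ ≫ φ, ?_⟩
  rw [preimage_map_comp]
  have : ⇑(D.map ψ) ⁻¹' (⇑(D.map φ) ⁻¹' Z) = ⇑(D.map ψ) ⁻¹' (V : Set (D.obj j)) := by
    ext x
    have h1 := Set.eq_empty_iff_forall_notMem.mp hk x
    simp only [Set.mem_preimage, Set.mem_union, Set.mem_inter_iff, Set.mem_compl_iff] at h1 ⊢
    tauto
  rw [this]
  exact V.isOpen.preimage (D.map ψ).continuous

/-- A locally closed quasi-compact subset is the trace of a quasi-compact open on its closure. -/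
theorem exists_isCompact_inter_closure {X : Scheme.{u}} {Z : Set X} (hZ : IsLocallyClosed Z)
    (hZ' : IsCompact Z) :
    ∃ U : X.Opens, IsCompact (U : Set X) ∧ Z ⊆ (U : Set X) ∧ (U : Set X) ∩ closure Z = Z := by
  classical
  have ho : IsOpen (coborder Z) := hZ.isOpen_coborder
  obtain ⟨t, ht⟩ := hZ'.elim_finite_subcover
    (fun W : {W : X.Opens // IsAffineOpen W ∧ (W : Set X) ⊆ coborder Z} ↦ (W.1 : Set X))
    (fun W ↦ W.1.isOpen) fun x hx ↦ by
      obtain ⟨W, hW, hxW, hWs⟩ :=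
        exists_isAffineOpen_mem_and_subset (U := (⟨_, ho⟩ : X.Opens)) (subset_coborder hx)
      exact Set.mem_iUnion.mpr ⟨⟨W, hW, hWs⟩, hxW⟩
  refine ⟨⟨⋃ W ∈ t, (W.1 : Set X), isOpen_biUnion fun W _ ↦ W.1.isOpen⟩,
    t.finite_toSet.isCompact_biUnion fun W _ ↦ W.2.1.isCompact, ht, ?_⟩
  refine Set.Subset.antisymm ?_ (Set.subset_inter ht subset_closure)
  exact (Set.inter_subset_inter_left _ (Set.iUnion₂_subset fun W _ ↦ W.2.2)).trans
    coborder_inter_closure.le

include hc in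
/-- S4760 -/
theorem exists_isLocallyClosed_preimage {i₀ : I} [CompactSpace (D.obj i₀)]
    [QuasiSeparatedSpace (D.obj i₀)] {Z : Set c.pt} (hZ : IsConstructible Z)
    (hZ' : IsLocallyClosed Z) :
    ∃ (i : I) (_ : i ⟶ i₀) (Zi : Set (D.obj i)),
      IsConstructible Zi ∧ IsLocallyClosed Zi ∧ ⇑(c.π.app i) ⁻¹' Zi = Z := by
  have := compactSpace_pt D c hc (i := i₀)
  have := quasiSeparatedSpace_pt D c hc (i := i₀)
  obtain ⟨U, hU, hZU, hUZ⟩ :=
    exists_isCompact_inter_closure hZ' (pc_of_isConstructible hZ).qcImage.isCompact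
  have hW : IsOpen ((U : Set c.pt) \ Z) := by
    have : (U : Set c.pt) \ Z = (U : Set c.pt) \ closure Z := by
      conv_lhs => rw [← hUZ]
      simp [Set.sdiff_self_inter]
    rw [this]
    exact U.isOpen.sdiff isClosed_closure
  have hW' : IsCompact ((U : Set c.pt) \ Z) :=
    (pc_of_isConstructible ((hU.isConstructible U.isOpen).sdiff hZ)).qcImage.isCompact
  obtain ⟨j₁, a₁, V₁, hV₁, e₁⟩ := exists_isCompact_preimage_eq D c hc i₀ U hU
  obtain ⟨j₂, a₂, V₂, hV₂, e₂⟩ := exists_isCompact_preimage_eq D c hc i₀ ⟨_, hW⟩ hW'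
  obtain ⟨k, f, g, -⟩ := IsCofiltered.cospan a₁ a₂
  have := quasiSeparatedSpace_obj D (f ≫ a₁)
  refine ⟨k, f ≫ a₁, ⇑(D.map f) ⁻¹' (V₁ : Set _) \ ⇑(D.map g) ⁻¹' (V₂ : Set _),
    ((isCompact_preimage_map D f V₁.isOpen hV₁).isConstructible
      (V₁.isOpen.preimage (D.map f).continuous)).sdiff
    ((isCompact_preimage_map D g V₂.isOpen hV₂).isConstructible
      (V₂.isOpen.preimage (D.map g).continuous)),
    by
      rw [Set.sdiff_eq]
      exact (V₁.isOpen.preimage (D.map f).continuous).isLocallyClosed.inter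
        (V₂.isOpen.preimage (D.map g).continuous).isClosed_compl.isLocallyClosed, ?_⟩
  rw [Set.preimage_sdiff, preimage_π, preimage_π, e₁, e₂]
  exact Set.sdiff_sdiff_cancel_left hZU

include hc in
/-- S4762 -/
theorem exists_isLocallyClosed_preimage_map {i : I} [CompactSpace (D.obj i)] {Z : Set (D.obj i)}
    (hZ : IsConstructible Z) (h : IsLocallyClosed (⇑(c.π.app i) ⁻¹' Z)) :
    ∃ (j : I) (φ : j ⟶ i), IsLocallyClosed (⇑(D.map φ) ⁻¹' Z) := by
  have := compactSpace_pt D c hc (i := i)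
  have := isAffineHom_π_app D c hc i
  let Z' : Set c.pt := ⇑(c.π.app i) ⁻¹' Z
  have hpc : PC Z' := (pc_of_isConstructible hZ).preimage _
  obtain ⟨U, hU, hZU, hUZ⟩ :=
    exists_isCompact_inter_closure (X := c.pt) (Z := Z') h hpc.qcImage.isCompact
  have hW : IsOpen ((U : Set c.pt) \ Z') := by
    have : (U : Set c.pt) \ Z' = (U : Set c.pt) \ closure Z' := by
      conv_lhs => rw [← hUZ]
      simp [Z', Set.sdiff_self_inter]
    rw [this]
    exact U.isOpen.sdiff isClosed_closure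
  have hW' : IsCompact ((U : Set c.pt) \ Z') := by
    have hqU : QCImage (U : Set c.pt) := by simpa using pc_univ.qcImage_inter_isCompact U hU
    rw [Set.sdiff_eq]
    exact (hqU.inter_pc ((pc_compl_of_isConstructible hZ).preimage _)).isCompact
  obtain ⟨j₁, a₁, V₁, hV₁, e₁⟩ := exists_isCompact_preimage_eq D c hc i U hU
  obtain ⟨j₂, a₂, V₂, hV₂, e₂⟩ := exists_isCompact_preimage_eq D c hc i ⟨_, hW⟩ hW'
  obtain ⟨k, f, g, -⟩ := IsCofiltered.cospan a₁ a₂
  have := compactSpace_obj D (f ≫ a₁)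
  let A : (D.obj k).Opens := D.map f ⁻¹ᵁ V₁
  let B : (D.obj k).Opens := D.map g ⁻¹ᵁ V₂
  have hA : IsCompact (A : Set (D.obj k)) := isCompact_preimage_map D f V₁.isOpen hV₁
  have hB : IsCompact (B : Set (D.obj k)) := isCompact_preimage_map D g V₂.isOpen hV₂
  let C : Set (D.obj k) := ⇑(D.map (f ≫ a₁)) ⁻¹' Z
  have hC : PC C := (pc_of_isConstructible hZ).preimage _
  have hC' : PC Cᶜ := (pc_compl_of_isConstructible hZ).preimage _
  -- the part of `C` outside `A \ B` and of `A \ B` outside `C`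
  have h₁ : QCImage (C ∩ (A : Set (D.obj k))ᶜ ∪ (B : Set (D.obj k)) ∩ C ∪
      (A : Set (D.obj k)) ∩ ((B : Set (D.obj k))ᶜ ∩ Cᶜ)) :=
    ((hC.qcImage.inter_pc (pc_of_isClosed A.isOpen.isClosed_compl)).union
      ((qcImage_isOpen_isCompact D B hB).inter_pc hC)).union
      ((qcImage_isOpen_isCompact D A hA).inter_pc
        ((pc_of_isClosed B.isOpen.isClosed_compl).inter hC'))
  obtain ⟨l, ψ, hl⟩ := exists_preimage_eq_empty D c hc h₁ (by
    have eA : ⇑(c.π.app k) ⁻¹' (A : Set (D.obj k)) = (U : Set c.pt) := (preimage_π D c f _).trans e₁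
    have eB : ⇑(c.π.app k) ⁻¹' (B : Set (D.obj k)) = (U : Set c.pt) \ Z' :=
      (preimage_π D c g _).trans e₂
    have eC : ⇑(c.π.app k) ⁻¹' C = Z' := preimage_π D c _ _
    simp only [Set.preimage_union, Set.preimage_inter, Set.preimage_compl, eA, eB, eC]
    ext x
    have := @hZU x
    simp only [Set.mem_union, Set.mem_inter_iff, Set.mem_compl_iff, Set.mem_sdiff,
      Set.mem_empty_iff_false]
    tauto)
  refine ⟨l, ψ ≫ f ≫ a₁, ?_⟩
  rw [preimage_map_comp]
  have : ⇑(D.map ψ) ⁻¹' C = ⇑(D.map ψ) ⁻¹' ((A : Set (D.obj k)) ∩ (B : Set (D.obj k))ᶜ) := by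
    ext x
    have h1 := Set.eq_empty_iff_forall_notMem.mp hl x
    simp only [Set.mem_preimage, Set.mem_union, Set.mem_inter_iff, Set.mem_compl_iff] at h1 ⊢
    tauto
  rw [show ⇑(D.map ψ) ⁻¹' (⇑(D.map (f ≫ a₁)) ⁻¹' Z) = _ from this]
  exact (A.isOpen.isLocallyClosed.inter B.isOpen.isClosed_compl.isLocallyClosed).preimage
    (D.map ψ).continuous

include hc in
/-- S4765, with the target changed by a homeomorphism. -/
theorem isOpenMap_π_comp_iff (i : I) {T : Scheme.{u}} (e : D.obj i ⟶ T) [IsIso e]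
    (hs : ∀ (j : I), (j ⟶ i) → Surjective (c.π.app j)) :
    IsOpenMap ⇑(c.π.app i ≫ e) ↔ ∀ (j : I) (φ : j ⟶ i), IsOpenMap ⇑(D.map φ ≫ e) := by
  constructor
  · intro h j φ U hU
    have := hs j φ
    have := h _ (hU.preimage (c.π.app j).continuous)
    convert this using 1
    rw [← c.w φ, Category.assoc, Scheme.Hom.comp_base (c.π.app j), TopCat.coe_comp, Set.image_comp,
      Set.image_preimage_eq _ (c.π.app j).surjective]
  · intro h U hU
    rw [isOpen_iff_forall_mem_open]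
    rintro _ ⟨x, hx, rfl⟩
    obtain ⟨_, ⟨k, V, -, rfl⟩, hxV, hVU⟩ :=
      TopologicalSpace.Opens.isBasis_iff_nbhd.mp (isBasis_preimage_isAffineOpen D c hc)
        (show x ∈ (⟨U, hU⟩ : c.pt.Opens) from hx)
    let m := IsCofiltered.min k i
    have := hs m (IsCofiltered.minToRight k i)
    refine ⟨⇑(c.π.app i ≫ e) '' ((c.π.app k ⁻¹ᵁ V : c.pt.Opens) : Set c.pt), Set.image_mono hVU,
      ?_, Set.mem_image_of_mem _ hxV⟩
    have h' := h m (IsCofiltered.minToRight k i) _
      (V.isOpen.preimage (D.map (IsCofiltered.minToLeft k i)).continuous)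
    convert h' using 1
    rw [← c.w (IsCofiltered.minToRight k i), Category.assoc, Scheme.Hom.comp_base (c.π.app m),
      TopCat.coe_comp, Set.image_comp]
    congr 1
    show ⇑(c.π.app m) '' (⇑(c.π.app k) ⁻¹' (V : Set (D.obj k))) =
      ⇑(D.map (IsCofiltered.minToLeft k i)) ⁻¹' (V : Set (D.obj k))
    rw [← preimage_π D c (IsCofiltered.minToLeft k i)]
    exact Set.image_preimage_eq _ (c.π.app m).surjective

end Groth.Limits
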