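import Groth.Agent.Limits.DescentStage
import Groth.Agent.Limits.Descend
import Mathlib.AlgebraicGeometry.AffineTransitionLimit

/-!
# Descending morphisms out of base changes along limits

For `x₀ : X₀ ⟶ S_i` the stages are `X_φ = X₀ ×_{S_i} S_j` (`φ : j ⟶ i`) and `stageMap` is the
transition `X_ψ ⟶ X_φ`.
-/

set_option backward.isDefEq.respectTransparency false
set_option backward.defeqAttrib.useBackward true

universe u

open CategoryTheory Limits AlgebraicGeometry

namespace Groth.Limits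

variable {I : Type u} [Category.{u} I] (D : I ⥤ Scheme.{u}) {i : I} {X₀ : Scheme.{u}}
  (x₀ : X₀ ⟶ D.obj i)

/-- The transition map between stages of a base change. -/
noncomputable abbrev stageMap {j l : I} (φ : j ⟶ i) (ψ : l ⟶ i) (q : l ⟶ j) (h : q ≫ φ = ψ) :
    pullback x₀ (D.map ψ) ⟶ pullback x₀ (D.map φ) :=
  pullback.lift (pullback.fst _ _) (pullback.snd _ _ ≫ D.map q)
    (by rw [Category.assoc, ← D.map_comp, h, pullback.condition])

theorem stageMap_comp {j l m : I} (φ : j ⟶ i) (ψ : l ⟶ i) (χ : m ⟶ i) (q : l ⟶ j) (r : m ⟶ l)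
    (h : q ≫ φ = ψ) (h' : r ≫ ψ = χ) :
    stageMap D x₀ ψ χ r h' ≫ stageMap D x₀ φ ψ q h =
      stageMap D x₀ φ χ (r ≫ q) (by rw [Category.assoc, h, h']) := by
  apply pullback.hom_ext <;> simp

variable (c : Cone D)

/-- The projection from the limit of a base change to a stage. -/
noncomputable abbrev stageProj {j : I} (φ : j ⟶ i) :
    pullback x₀ (c.π.app i) ⟶ pullback x₀ (D.map φ) :=
  pullback.lift (pullback.fst _ _) (pullback.snd _ _ ≫ c.π.app j)
    (by rw [Category.assoc, c.w, pullback.condition])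

theorem stageProj_stageMap {j l : I} (φ : j ⟶ i) (ψ : l ⟶ i) (q : l ⟶ j) (h : q ≫ φ = ψ) :
    stageProj D x₀ c ψ ≫ stageMap D x₀ φ ψ q h = stageProj D x₀ c φ := by
  apply pullback.hom_ext <;> simp

variable [IsCofiltered I] [∀ (i j : I) (f : i ⟶ j), IsAffineHom (D.map f)]

instance isAffineHom_overForget_map {j k : Over i} (f : j ⟶ k) :
    IsAffineHom ((Over.forget i ⋙ D).map f) :=
  inferInstanceAs (IsAffineHom (D.map f.left))

/-- The system of stages of a base change. -/
noncomputable abbrev stages : Over i ⥤ Scheme.{u} := bcDiagram (overTrans D i) x₀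

/-- The structure map of the system of stages. -/
noncomputable def stagesTrans : stages D x₀ ⟶ (Functor.const (Over i)).obj (D.obj i) :=
  bcTrans (overTrans D i) x₀ ≫ overTrans D i

variable {c} (hc : IsLimit c)

/-- The limit cone of the system of stages. -/
noncomputable abbrev stagesCone : Cone (stages D x₀) :=
  bcCone (overTrans D i) x₀ (c.whisker (Over.forget i)) (c.π.app i) fun j ↦ c.w j.hom

/-- `stagesCone` is a limit cone. -/
noncomputable def isLimitStagesCone : IsLimit (stagesCone D x₀ (c := c)) :=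
  isLimitBcCone _ _ _ _ _ ((Functor.Initial.isLimitWhiskerEquiv (Over.forget i) c).symm hc)

omit [IsCofiltered I] in
theorem compactSpace_stage [CompactSpace X₀] {j : I} (φ : j ⟶ i) :
    CompactSpace ↥(pullback x₀ (D.map φ)) :=
  QuasiCompact.compactSpace_of_compactSpace (pullback.fst x₀ (D.map φ))

omit [IsCofiltered I] in
theorem quasiSeparatedSpace_stage [QuasiSeparatedSpace X₀] {j : I} (φ : j ⟶ i) :
    QuasiSeparatedSpace ↥(pullback x₀ (D.map φ)) :=
  quasiSeparatedSpace_of_quasiSeparated (pullback.fst x₀ (D.map φ))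

omit [IsCofiltered I] [∀ (i j : I) (f : i ⟶ j), IsAffineHom (D.map f)] in
theorem stagesTrans_app (j : Over i) :
    (stagesTrans D x₀).app j = pullback.fst x₀ (D.map j.hom) ≫ x₀ :=
  pullback.condition.symm

include hc in
/-- Morphisms from a stage into a scheme of finite type which agree in the limit agree eventually. -/
theorem exists_stageMap_comp_eq [CompactSpace X₀] {Z : Scheme.{u}} (z : Z ⟶ D.obj i)
    [LocallyOfFiniteType z] {j : I} (φ : j ⟶ i) (a b : pullback x₀ (D.map φ) ⟶ Z)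
    (ha : a ≫ z = pullback.fst _ _ ≫ x₀) (hb : b ≫ z = pullback.fst _ _ ≫ x₀)
    (h : stageProj D x₀ c φ ≫ a = stageProj D x₀ c φ ≫ b) :
    ∃ (l : I) (q : l ⟶ j),
      stageMap D x₀ φ (q ≫ φ) q rfl ≫ a = stageMap D x₀ φ (q ≫ φ) q rfl ≫ b := by
  have (k : Over i) : CompactSpace ((stages D x₀).obj k) := compactSpace_stage D x₀ k.hom
  obtain ⟨k, q, hk⟩ := Scheme.exists_hom_comp_eq_comp_of_locallyOfFiniteType (stages D x₀)
    (stagesTrans D x₀) z (stagesCone D x₀) (isLimitStagesCone D x₀ hc) (i := Over.mk φ) a b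
    ((stagesTrans_app D x₀ _).trans ha.symm) ((stagesTrans_app D x₀ _).trans hb.symm) h
  have hw : q.left ≫ φ = k.hom := Over.w q
  have hk' : stageMap D x₀ φ k.hom q.left hw ≫ a = stageMap D x₀ φ k.hom q.left hw ≫ b := hk
  refine ⟨k.left, q.left, ?_⟩
  have e : stageMap D x₀ φ (q.left ≫ φ) q.left rfl =
      stageMap D x₀ k.hom (q.left ≫ φ) (𝟙 _) (by rw [Category.id_comp, hw]) ≫
        stageMap D x₀ φ k.hom q.left hw := by
    apply pullback.hom_ext <;> simp
  rw [e, Category.assoc, Category.assoc, hk']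

include hc in
/-- A morphism from the limit into a scheme of finite presentation factors through a stage. -/
theorem exists_stageProj_comp_eq [CompactSpace X₀] [QuasiSeparatedSpace X₀] {Z : Scheme.{u}}
    (z : Z ⟶ D.obj i) [LocallyOfFinitePresentation z] (g : pullback x₀ (c.π.app i) ⟶ Z)
    (hg : g ≫ z = pullback.fst _ _ ≫ x₀) :
    ∃ (j : I) (φ : j ⟶ i) (gj : pullback x₀ (D.map φ) ⟶ Z),
      gj ≫ z = pullback.fst _ _ ≫ x₀ ∧ stageProj D x₀ c φ ≫ gj = g := by
  have (k : Over i) : CompactSpace ((stages D x₀).obj k) := compactSpace_stage D x₀ k.hom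
  have (k : Over i) : QuasiSeparatedSpace ((stages D x₀).obj k) :=
    quasiSeparatedSpace_stage D x₀ k.hom
  obtain ⟨k, gk, h₁, h₂⟩ := Scheme.exists_π_app_comp_eq_of_locallyOfFinitePresentation
    (stages D x₀) (stagesTrans D x₀) z (stagesCone D x₀) (isLimitStagesCone D x₀ hc) g (by
      ext k : 2
      simp only [NatTrans.comp_app, stagesTrans_app, Functor.const_map_app, hg]
      simp [bcCone]
      exact pullback.lift_fst_assoc _ _ _ _)
  exact ⟨k.left, k.hom, gk, h₂.trans (stagesTrans_app D x₀ k), h₁⟩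

include hc in
/-- A morphism from the limit into a monomorphism of finite presentation factors through a stage. -/
theorem exists_factor_mono [CompactSpace X₀] {Z : Scheme.{u}} (z : Z ⟶ D.obj i) [Mono z]
    [LocallyOfFinitePresentation z] (g : pullback x₀ (c.π.app i) ⟶ Z)
    (hg : g ≫ z = pullback.fst _ _ ≫ x₀) :
    ∃ (j : I) (φ : j ⟶ i) (gj : pullback x₀ (D.map φ) ⟶ Z),
      gj ≫ z = pullback.fst _ _ ≫ x₀ := by
  let 𝒰 := X₀.affineCover.finiteSubcover
  let w (a : 𝒰.I₀) : 𝒰.X a ⟶ D.obj i := 𝒰.f a ≫ x₀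
  obtain ⟨j, φ, hj⟩ := exists_forall_mem_of_finite (G := (Set.univ : Set 𝒰.I₀))
    (fun a ⦃k⦄ (m : k ⟶ i) ↦ ∃ k' : pullback (w a) (D.map m) ⟶ Z,
      k' ≫ z = pullback.fst _ _ ≫ w a)
    (fun a k l m q ⟨k', hk'⟩ ↦ ⟨stageMap D (w a) m (q ≫ m) q rfl ≫ k', by
      rw [Category.assoc, hk', pullback.lift_fst_assoc]⟩)
    Set.finite_univ fun a _ ↦ by
      have : IsAffine (𝒰.X a) := inferInstanceAs (IsAffine (Spec _))
      obtain ⟨j, φ, gj, hgj, -⟩ := exists_stageProj_comp_eq D (w a) hc z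
        (pullback.map (w a) (c.π.app i) x₀ (c.π.app i) (𝒰.f a) (𝟙 _) (𝟙 _) (by simp [w]) (by simp)
          ≫ g) (by simp [w, hg])
      exact ⟨j, φ, gj, hgj⟩
  choose k hk using fun a ↦ hj a trivial
  let 𝒱 : (pullback x₀ (D.map φ)).OpenCover := 𝒰.pullback₁ (pullback.fst x₀ (D.map φ))
  let r (a : 𝒰.I₀) : 𝒱.X a ⟶ pullback (w a) (D.map φ) :=
    pullback.lift (pullback.snd (pullback.fst x₀ (D.map φ)) (𝒰.f a))
      (pullback.fst (pullback.fst x₀ (D.map φ)) (𝒰.f a) ≫ pullback.snd x₀ (D.map φ)) (by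
        rw [Category.assoc, ← pullback.condition, pullback.condition_assoc])
  have hr (a : 𝒰.I₀) : r a ≫ k a ≫ z = 𝒱.f a ≫ pullback.fst x₀ (D.map φ) ≫ x₀ := by
    simp only [r, hk, pullback.lift_fst_assoc, w]
    exact pullback.condition_assoc _ |>.symm
  refine ⟨j, φ, 𝒱.glueMorphisms (fun a ↦ r a ≫ k a) (fun a b ↦ ?_), ?_⟩
  · rw [← cancel_mono z]
    simp only [Category.assoc]
    exact (congrArg _ (hr a)).trans ((pullback.condition_assoc _).trans (congrArg _ (hr b)).symm)
  · refine 𝒱.hom_ext _ _ fun a ↦ ?_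
    rw [← Category.assoc, Scheme.Cover.ι_glueMorphisms, Category.assoc]
    exact hr a

include hc in
/-- An isomorphism between base changes to the limit comes from a stage. -/
theorem exists_iso_stage [CompactSpace X₀] [QuasiSeparatedSpace X₀] {Y₀ : Scheme.{u}}
    [CompactSpace Y₀] [QuasiSeparatedSpace Y₀] (y₀ : Y₀ ⟶ D.obj i)
    [LocallyOfFinitePresentation x₀] [LocallyOfFinitePresentation y₀]
    (e : pullback x₀ (c.π.app i) ≅ pullback y₀ (c.π.app i))
    (he : e.hom ≫ pullback.snd _ _ = pullback.snd _ _) :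
    ∃ (j : I) (φ : j ⟶ i) (ej : pullback x₀ (D.map φ) ≅ pullback y₀ (D.map φ)),
      ej.hom ≫ pullback.snd _ _ = pullback.snd _ _ ∧
      stageProj D x₀ c φ ≫ ej.hom = e.hom ≫ stageProj D y₀ c φ := by
  have he' : e.inv ≫ pullback.snd _ _ = pullback.snd _ _ := by rw [Iso.inv_comp_eq, he]
  obtain ⟨j₁, φ₁, g₁, hg₁, hg₁'⟩ := exists_stageProj_comp_eq D x₀ hc y₀
    (e.hom ≫ pullback.fst _ _) (by
      rw [Category.assoc, pullback.condition, reassoc_of% he, pullback.condition])
  obtain ⟨j₂, φ₂, g₂, hg₂, hg₂'⟩ := exists_stageProj_comp_eq D y₀ hc x₀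
    (e.inv ≫ pullback.fst _ _) (by
      rw [Category.assoc, pullback.condition, reassoc_of% he', pullback.condition])
  obtain ⟨j, q₁, q₂, hq⟩ := IsCofiltered.cospan φ₁ φ₂
  let φ := q₁ ≫ φ₁
  let u : pullback x₀ (D.map φ) ⟶ pullback y₀ (D.map φ) :=
    pullback.lift (stageMap D x₀ φ₁ φ q₁ rfl ≫ g₁) (pullback.snd _ _) (by
      rw [Category.assoc, hg₁, pullback.lift_fst_assoc, pullback.condition])
  let v : pullback y₀ (D.map φ) ⟶ pullback x₀ (D.map φ) :=
    pullback.lift (stageMap D y₀ φ₂ φ q₂ hq.symm ≫ g₂) (pullback.snd _ _) (by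
      rw [Category.assoc, hg₂, pullback.lift_fst_assoc, pullback.condition])
  have hu : stageProj D x₀ c φ ≫ u = e.hom ≫ stageProj D y₀ c φ := by
    apply pullback.hom_ext
    · simp only [u, Category.assoc, pullback.lift_fst]
      rw [← Category.assoc, stageProj_stageMap, hg₁']
    · simp [u, reassoc_of% he]
  have hv : stageProj D y₀ c φ ≫ v = e.inv ≫ stageProj D x₀ c φ := by
    apply pullback.hom_ext
    · simp only [v, Category.assoc, pullback.lift_fst]
      rw [← Category.assoc, stageProj_stageMap, hg₂']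
    · simp [v, reassoc_of% he']
  obtain ⟨l₁, r₁, hr₁⟩ := exists_stageMap_comp_eq D x₀ hc x₀ φ (u ≫ v ≫ pullback.fst _ _)
    (pullback.fst _ _) (by
      rw [Category.assoc, Category.assoc, pullback.condition]
      simp only [v, u, pullback.lift_snd_assoc]) rfl (by
      rw [reassoc_of% hu, reassoc_of% hv, e.hom_inv_id_assoc])
  obtain ⟨l₂, r₂, hr₂⟩ := exists_stageMap_comp_eq D y₀ hc y₀ φ (v ≫ u ≫ pullback.fst _ _)
    (pullback.fst _ _) (by
      rw [Category.assoc, Category.assoc, pullback.condition]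
      simp only [v, u, pullback.lift_snd_assoc]) rfl (by
      rw [reassoc_of% hv, reassoc_of% hu, e.inv_hom_id_assoc])
  obtain ⟨l, s₁, s₂, hs⟩ := IsCofiltered.cospan r₁ r₂
  let ψ := s₁ ≫ r₁ ≫ φ
  let u' : pullback x₀ (D.map ψ) ⟶ pullback y₀ (D.map ψ) :=
    pullback.lift (stageMap D x₀ φ ψ (s₁ ≫ r₁) (Category.assoc _ _ _) ≫ u ≫ pullback.fst _ _)
      (pullback.snd _ _) (by
        simp only [u, pullback.lift_fst, Category.assoc, hg₁, pullback.lift_fst_assoc]
        exact pullback.condition)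
  let v' : pullback y₀ (D.map ψ) ⟶ pullback x₀ (D.map ψ) :=
    pullback.lift (stageMap D y₀ φ ψ (s₁ ≫ r₁) (Category.assoc _ _ _) ≫ v ≫ pullback.fst _ _)
      (pullback.snd _ _) (by
        simp only [v, pullback.lift_fst, Category.assoc, hg₂, pullback.lift_fst_assoc]
        exact pullback.condition)
  have hu' : u' ≫ stageMap D y₀ φ ψ (s₁ ≫ r₁) (Category.assoc _ _ _) =
      stageMap D x₀ φ ψ (s₁ ≫ r₁) (Category.assoc _ _ _) ≫ u := by
    apply pullback.hom_ext <;> simp [u', u]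
  have hv' : v' ≫ stageMap D x₀ φ ψ (s₁ ≫ r₁) (Category.assoc _ _ _) =
      stageMap D y₀ φ ψ (s₁ ≫ r₁) (Category.assoc _ _ _) ≫ v := by
    apply pullback.hom_ext <;> simp [v', v]
  refine ⟨l, ψ, ⟨u', v', ?_, ?_⟩, pullback.lift_snd _ _ _, ?_⟩
  · apply pullback.hom_ext
    · have := congrArg (stageMap D x₀ (r₁ ≫ φ) ψ s₁ rfl ≫ ·) hr₁
      simp only [← Category.assoc, stageMap_comp] at this
      simp only [Category.assoc, Category.id_comp] at this ⊢
      rw [show v' ≫ pullback.fst x₀ (D.map ψ) =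
        stageMap D y₀ φ ψ (s₁ ≫ r₁) (Category.assoc _ _ _) ≫ v ≫ pullback.fst _ _ from
          pullback.lift_fst _ _ _, reassoc_of% hu', this]
      exact pullback.lift_fst _ _ _
    · simp [u', v']
  · apply pullback.hom_ext
    · have := congrArg (stageMap D y₀ (r₂ ≫ φ) ψ s₂
        (by simp only [ψ]; rw [reassoc_of% hs]) ≫ ·) hr₂
      simp only [← Category.assoc, stageMap_comp] at this
      simp only [Category.assoc, Category.id_comp] at this ⊢
      rw [show u' ≫ pullback.fst y₀ (D.map ψ) =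
        stageMap D x₀ φ ψ (s₁ ≫ r₁) (Category.assoc _ _ _) ≫ u ≫ pullback.fst _ _ from
          pullback.lift_fst _ _ _, reassoc_of% hv']
      simp only [hs] at this ⊢
      rw [this]
      exact pullback.lift_fst _ _ _
    · simp [u', v']
  · apply pullback.hom_ext
    · simp only [u', Category.assoc, pullback.lift_fst]
      rw [← Category.assoc, stageProj_stageMap, reassoc_of% hu]
      simp
    · simp [u', reassoc_of% he]

omit [IsCofiltered I] in
/-- Base changing an isomorphism of stages to the limit. -/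
theorem exists_iso_limit_of_stage {Y₀ X Y : Scheme.{u}} (y₀ : Y₀ ⟶ D.obj i) {a : X ⟶ c.pt}
    {b : Y ⟶ c.pt} {qX : X ⟶ X₀} {qY : Y ⟶ Y₀} (hX : IsPullback qX a x₀ (c.π.app i))
    (hY : IsPullback qY b y₀ (c.π.app i)) {j : I} (φ : j ⟶ i) {Xj Yj : Scheme.{u}}
    {aj : Xj ⟶ D.obj j} {bj : Yj ⟶ D.obj j} {pX : Xj ⟶ X₀} {pY : Yj ⟶ Y₀}
    (hXj : IsPullback pX aj x₀ (D.map φ)) (hYj : IsPullback pY bj y₀ (D.map φ))
    (e : Xj ≅ Yj) (he : e.hom ≫ bj = aj) : ∃ e' : X ≅ Y, e'.hom ≫ b = a := by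
  let r := hXj.lift qX (a ≫ c.π.app j) (by rw [hX.w, Category.assoc, c.w])
  let s := hYj.lift qY (b ≫ c.π.app j) (by rw [hY.w, Category.assoc, c.w])
  have h₁ : IsPullback r a aj (c.π.app j) := by
    refine IsPullback.of_right ?_ (hXj.lift_snd _ _ _) hXj
    rw [show r ≫ pX = qX from hXj.lift_fst _ _ _, c.w]
    exact hX
  have h₂ : IsPullback s b bj (c.π.app j) := by
    refine IsPullback.of_right ?_ (hYj.lift_snd _ _ _) hYj
    rw [show s ≫ pY = qY from hYj.lift_fst _ _ _, c.w]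
    exact hY
  have h₁' : IsPullback (r ≫ e.hom) a bj (c.π.app j) :=
    h₁.of_iso (Iso.refl _) e (Iso.refl _) (Iso.refl _) (by simp) (by simp) (by simp [he]) (by simp)
  exact ⟨h₁'.isoIsPullback _ _ h₂, IsPullback.isoIsPullback_hom_snd _ _ _ _⟩

include hc in
/-- An immersion of finite presentation which is an open immersion in the limit is one at a stage. -/
theorem exists_isOpenImmersion_stage [CompactSpace (D.obj i)] [Mono x₀]
    [LocallyOfFinitePresentation x₀] [QuasiCompact x₀]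
    (h : IsOpenImmersion (pullback.snd x₀ (c.π.app i))) :
    ∃ (j : I) (φ : j ⟶ i), IsOpenImmersion (pullback.snd x₀ (D.map φ)) := by
  have := compactSpace_pt D c hc (i := i)
  let U : c.pt.Opens := (pullback.snd x₀ (c.π.app i)).opensRange
  have : CompactSpace ↥(((Functor.const I).obj c.pt).obj i) := this
  have : CompactSpace ↥(pullback x₀ (c.π.app i)) :=
    QuasiCompact.compactSpace_of_compactSpace (pullback.snd x₀ (c.π.app i))
  have hU : IsCompact (U : Set c.pt) := isCompact_range (pullback.snd x₀ (c.π.app i)).continuous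
  obtain ⟨j, φ, V, hV, hVU⟩ := exists_isCompact_preimage_eq D c hc i _ hU
  have : CompactSpace (V : Scheme) := isCompact_iff_compactSpace.mp hV
  have := compactSpace_obj D φ
  have : CompactSpace ↥(pullback x₀ (D.map φ)) :=
    QuasiCompact.compactSpace_of_compactSpace (pullback.snd x₀ (D.map φ))
  let w := pullback.snd x₀ (D.map φ)
  -- the preimage of `V` maps into the subscheme
  have hsub : Set.range (pullback.snd V.ι (c.π.app j)) ⊆
      Set.range (pullback.snd x₀ (c.π.app i)) := by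
    rintro _ ⟨y, rfl⟩
    refine hVU.le ?_
    show c.π.app j (pullback.snd V.ι (c.π.app j) y) ∈ V
    rw [← Scheme.Hom.comp_apply, ← pullback.condition, Scheme.Hom.comp_apply]
    exact (pullback.fst V.ι (c.π.app j) y).2
  let g₁ : pullback V.ι (c.π.app j) ⟶ pullback x₀ (D.map φ) :=
    IsOpenImmersion.lift (pullback.snd x₀ (c.π.app i)) (pullback.snd V.ι (c.π.app j)) hsub ≫
      stageProj D x₀ c φ
  obtain ⟨j₁, φ₁, k₁, hk₁⟩ := exists_factor_mono D V.ι hc w g₁ (by
    simp only [g₁, w, Category.assoc, pullback.lift_snd]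
    rw [IsOpenImmersion.lift_fac_assoc]
    exact pullback.condition.symm)
  -- the subscheme maps into `V`
  have hsub' : Set.range (pullback.fst w (c.π.app j) ≫ w) ⊆ Set.range V.ι := by
    rintro _ ⟨y, rfl⟩
    rw [Scheme.Opens.range_ι]
    let e : pullback w (c.π.app j) ⟶ pullback x₀ (c.π.app i) :=
      pullback.lift (pullback.fst _ _ ≫ pullback.fst x₀ (D.map φ)) (pullback.snd _ _) (by
        rw [Category.assoc, pullback.condition, pullback.condition_assoc, c.w])
    rw [pullback.condition, Scheme.Hom.comp_apply]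
    refine hVU.ge ⟨e y, ?_⟩
    rw [← Scheme.Hom.comp_apply, pullback.lift_snd]
    rfl
  obtain ⟨j₂, φ₂, k₂, hk₂⟩ := exists_factor_mono D w hc V.ι (IsOpenImmersion.lift V.ι _ hsub')
    (IsOpenImmersion.lift_fac _ _ _)
  obtain ⟨l, q₁, q₂, hq⟩ := IsCofiltered.cospan φ₁ φ₂
  refine ⟨l, q₁ ≫ φ₁ ≫ φ, ?_⟩
  -- at `l` the subscheme and the preimage of `V` agree
  let e₁ : pullback V.ι (D.map (q₁ ≫ φ₁)) ⟶ pullback w (D.map (q₁ ≫ φ₁)) :=
    pullback.lift (stageMap D V.ι φ₁ _ q₁ rfl ≫ k₁) (pullback.snd _ _) (by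
      rw [Category.assoc, hk₁, pullback.lift_fst_assoc, pullback.condition])
  let e₂ : pullback w (D.map (q₁ ≫ φ₁)) ⟶ pullback V.ι (D.map (q₁ ≫ φ₁)) :=
    pullback.lift (stageMap D w φ₂ _ q₂ hq.symm ≫ k₂) (pullback.snd _ _) (by
      rw [Category.assoc, hk₂, pullback.lift_fst_assoc, pullback.condition])
  have h₁ : e₂ ≫ e₁ = 𝟙 _ := by
    rw [← cancel_mono (pullback.snd w (D.map (q₁ ≫ φ₁)))]
    simp [e₁, e₂]
  have h₂ : e₁ ≫ e₂ = 𝟙 _ := by
    rw [← cancel_mono (pullback.snd V.ι (D.map (q₁ ≫ φ₁)))]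
    simp [e₁, e₂]
  have : IsIso e₂ := ⟨e₁, h₁, h₂⟩
  have h₃ : IsOpenImmersion (pullback.snd w (D.map (q₁ ≫ φ₁))) := by
    rw [← pullback.lift_snd (stageMap D w φ₂ _ q₂ hq.symm ≫ k₂) (pullback.snd w (D.map (q₁ ≫ φ₁)))
      (show _ = _ ≫ D.map (q₁ ≫ φ₁) by
        rw [Category.assoc, hk₂, pullback.lift_fst_assoc, pullback.condition])]
    exact MorphismProperty.comp_mem @IsOpenImmersion e₂ _ inferInstance
      (MorphismProperty.pullback_snd _ _ inferInstance)
  have h₄ : IsPullback (pullback.lift (pullback.fst x₀ (D.map (q₁ ≫ φ₁ ≫ φ)))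
      (pullback.snd _ _ ≫ D.map (q₁ ≫ φ₁))
      (by rw [Category.assoc, ← D.map_comp, Category.assoc, pullback.condition]))
      (pullback.snd x₀ (D.map (q₁ ≫ φ₁ ≫ φ))) w (D.map (q₁ ≫ φ₁)) := by
    refine IsPullback.of_right ?_ (pullback.lift_snd _ _ _) (IsPullback.of_hasPullback x₀ (D.map φ))
    rw [pullback.lift_fst, ← D.map_comp, Category.assoc]
    exact IsPullback.of_hasPullback _ _
  rw [← h₄.isoPullback_hom_snd]
  infer_instance

end Groth.Limits
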