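import Groth.Agent.Limits.SmoothDescent
import Groth.Agent.FlatMorOne.FlatLocusColimit
import Mathlib.AlgebraicGeometry.Morphisms.Flat

/-!
# Descending flat morphisms along limits
-/

set_option backward.isDefEq.respectTransparency false
set_option backward.defeqAttrib.useBackward true

universe u

open CategoryTheory Limits AlgebraicGeometry TensorProduct

namespace Groth.Limits

theorem flat_tensor_of_algHom {A₀ G G' C : Type u} [CommRing A₀] [CommRing G] [CommRing G']
    [CommRing C] [Algebra A₀ G] [Algebra A₀ G'] [Algebra A₀ C] (e : G →ₐ[A₀] G')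
    [Module.Flat G (G ⊗[A₀] C)] : Module.Flat G' (G' ⊗[A₀] C) := by
  letI := e.toRingHom.toAlgebra
  haveI : IsScalarTower A₀ G G' := .of_algebraMap_eq fun a ↦ (e.commutes a).symm
  exact Module.Flat.of_linearEquiv (AlgebraTensorModule.cancelBaseChange A₀ G G' G' C).symm

theorem ringDescends_flat : RingDescends.{u} RingHom.Flat := by
  intro ι _ _ _ A₀ _ G _ _ A _ _ f g H C _ _ _ h
  rw [RingHom.flat_algebraMap_iff] at h
  have : Module.Flat A (A ⊗[A₀] C) :=
    flat_tensor_of_algHom (Algebra.TensorProduct.lid A₀ A).toAlgHom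
  obtain ⟨n, hn⟩ := Groth.FlatMorOne.exists_flat_stage_of_colimit (A₀ := A₀) (B₀ := C) f g H.comp H.surj
    H.ker C
  refine ⟨n, RingHom.flat_algebraMap_iff.2 ?_⟩
  exact flat_tensor_of_algHom (Algebra.TensorProduct.lid A₀ (G n)).symm.toAlgHom

end Groth.Limits
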