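import Groth.Agent.Limits.DescentStage
import Groth.Agent.Limits.HomDescent
import Mathlib.AlgebraicGeometry.Morphisms.FinitePresentation

/-!
# Descending isomorphisms along limits
-/

set_option backward.isDefEq.respectTransparency false
set_option backward.defeqAttrib.useBackward true

universe u

open CategoryTheory Limits AlgebraicGeometry

namespace Groth.Limits

variable {I : Type u} [Category.{u} I] [IsCofiltered I] {D : I ⥤ Scheme.{u}}
  [∀ (i j : I) (m : i ⟶ j), IsAffineHom (D.map m)] {c : Cone D} (hc : IsLimit c)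
  {i₀ : I} {X₀ Y₀ X Y : Scheme.{u}} {f₀ : X₀ ⟶ Y₀} {g₀ : Y₀ ⟶ D.obj i₀} {f : X ⟶ Y}
  {g : Y ⟶ c.pt} {qY : Y ⟶ Y₀} {qX : X ⟶ X₀} (hY : IsPullback qY g g₀ (c.π.app i₀))
  (hX : IsPullback qX f f₀ qY)

include hc hY hX in
/-- If the base change of `f₀` to the limit is an isomorphism, so is it at some stage. -/
theorem exists_isIso_stage [CompactSpace Y₀] [QuasiCompact f₀] [QuasiSeparated f₀]
    [LocallyOfFinitePresentation f₀] [IsIso f] :
    ∃ j : Over i₀, IsIso (pullback.snd f₀ (pullback.snd (D.map j.hom) g₀)) := by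
  obtain ⟨j, hj⟩ := exists_isClosedImmersion_stage hc hY hX
  let t := pullbackTrans D g₀
  let c' := pullbackCone D i₀ g₀ c
  have hτ : ∀ j, c'.π.app j ≫ t.app j = pullback.snd (c.π.app i₀) g₀ :=
    fun j ↦ pullback.lift_snd _ _ _
  have hiso : IsIso (pullback.snd f₀ (pullback.snd (c.π.app i₀) g₀)) :=
    prop_snd_of_isPullback (MorphismProperty.isomorphisms _) hY hX
      ((MorphismProperty.isomorphisms.iff f).2 inferInstance)
  let s := pullback.snd f₀ (pullback.snd (c.π.app i₀) g₀)
  let z := pullback.snd f₀ (pullback.snd (D.map j.hom) g₀)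
  have : CompactSpace ((pullbackDiagram D i₀ g₀).obj j) :=
    QuasiCompact.compactSpace_of_compactSpace (pullback.snd (D.map j.hom) g₀)
  let sec : c'.pt ⟶ pullback f₀ (pullback.snd (D.map j.hom) g₀) :=
    pullback.lift (inv s ≫ pullback.fst _ _) (c'.π.app j) (by
      rw [Category.assoc, pullback.condition, ← Category.assoc, IsIso.inv_hom_id,
        Category.id_comp]
      exact (hτ j).symm)
  have hsec : sec ≫ z = c'.π.app j := pullback.lift_snd _ _ _
  obtain ⟨k, φ, gk, hgk⟩ := exists_factor_mono (pullbackDiagram D i₀ g₀)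
    (𝟙 ((pullbackDiagram D i₀ g₀).obj j)) (isLimitPullbackCone D i₀ g₀ hc) z
    (pullback.snd (𝟙 _) (c'.π.app j) ≫ sec)
    (by
      show (pullback.snd _ _ ≫ sec) ≫ z = _
      rw [Category.assoc, hsec]
      exact pullback.condition.symm)
  refine ⟨k, ?_⟩
  let e := pullback.snd (𝟙 ((pullbackDiagram D i₀ g₀).obj j)) ((pullbackDiagram D i₀ g₀).map φ)
  let b := (pullbackDiagram D i₀ g₀).map φ
  have hb : b ≫ pullback.snd (D.map j.hom) g₀ = pullback.snd (D.map k.hom) g₀ :=
    ((pullbackTrans D g₀).naturality φ).trans (Category.comp_id _)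
  let y := pullback.snd f₀ (pullback.snd (D.map k.hom) g₀)
  have hge : inv e ≫ gk ≫ z = b :=
    (congrArg (inv e ≫ ·) (hgk.trans (Category.comp_id _))).trans
      ((IsIso.inv_comp_eq e).2 ((Category.comp_id _).symm.trans pullback.condition))
  let r : (pullbackDiagram D i₀ g₀).obj k ⟶ pullback f₀ (pullback.snd (D.map k.hom) g₀) :=
    pullback.lift (inv e ≫ gk ≫ pullback.fst _ _) (𝟙 _) (by
      simp only [Category.assoc, Category.id_comp]
      rw [pullback.condition, ← Category.assoc gk, ← Category.assoc (inv e)]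
      exact (congrArg (· ≫ pullback.snd (D.map j.hom) g₀) hge).trans hb)
  have hr : r ≫ y = 𝟙 _ := pullback.lift_snd _ _ _
  have : Mono y := by
    have : IsClosedImmersion y :=
      prop_snd_comp @IsClosedImmersion f₀ b (pullback.snd (D.map j.hom) g₀) _ hb hj
    infer_instance
  exact ⟨r, by
    rw [← cancel_mono y]
    exact (Category.assoc _ _ _).trans ((congrArg (y ≫ ·) hr).trans
      ((Category.comp_id _).trans (Category.id_comp _).symm)), hr⟩

end Groth.Limits
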