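import Mathlib.AlgebraicGeometry.Morphisms.OpenImmersion
import Mathlib.AlgebraicGeometry.Morphisms.QuasiSeparated
import Mathlib.AlgebraicGeometry.AffineScheme

/-!
# Opens covered by affine basic opens as opens of an affine scheme

If an open `O` is covered by affine basic opens `D(g_l)` and a ring `R → Γ(O)` induces
bijections `R_{F_l} → Γ(D(g_l))`, then `O → Spec R` is an open immersion with image `⋃ D(F_l)`.
-/

set_option backward.isDefEq.respectTransparency false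

universe u

open CategoryTheory AlgebraicGeometry

namespace Groth.Limits

variable {X : Scheme.{u}} {O : X.Opens} {R : CommRingCat.{u}}

/-- The morphism `O ⟶ Spec R` attached to a ring map `R ⟶ Γ(O)`. -/
noncomputable def chartMap (O : X.Opens) {R : CommRingCat.{u}} (φ : R ⟶ Γ(X, O)) :
    O.toScheme ⟶ Spec R :=
  O.toSpecΓ ≫ Spec.map φ

theorem preimage_chartMap (φ : R ⟶ Γ(X, O)) (F : R) :
    chartMap O φ ⁻¹ᵁ PrimeSpectrum.basicOpen F = O.ι ⁻¹ᵁ X.basicOpen (φ F) := by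
  have h1 : Spec.map φ ⁻¹ᵁ PrimeSpectrum.basicOpen F = PrimeSpectrum.basicOpen (φ F) := rfl
  rw [chartMap, Scheme.Hom.comp_preimage, h1, Scheme.Opens.toSpecΓ, Scheme.Hom.comp_preimage]
  have h2 : Spec.map O.topIso.inv ⁻¹ᵁ PrimeSpectrum.basicOpen (φ F) =
      PrimeSpectrum.basicOpen (O.topIso.inv (φ F)) := rfl
  rw [h2, Scheme.toSpecΓ_preimage_basicOpen]
  apply O.ι.image_injective
  dsimp only
  rw [Scheme.Hom.image_preimage_eq_opensRange_inf, Scheme.Opens.opensRange_ι,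
    inf_eq_right.2 (X.basicOpen_le _), Scheme.image_basicOpen, Scheme.Opens.topIso_inv,
    Scheme.Opens.ι_appIso]
  refine Eq.trans ?_ (X.basicOpen_res_eq (φ F) (eqToHom (O.ι_image_top)).op)
  rfl

theorem comp_chartMap_of_le {O' : X.Opens} (h : O' ≤ O) (φ : R ⟶ Γ(X, O)) :
    X.homOfLE h ≫ chartMap O φ = chartMap O' (φ ≫ X.presheaf.map (homOfLE h).op) := by
  rw [chartMap, chartMap, Spec.map_comp, Scheme.Opens.toSpecΓ_SpecMap_presheaf_map_assoc]

theorem chartMap_naturality {Y : Scheme.{u}} (f : Y ⟶ X) {O' : Y.Opens} (h : O' ≤ f ⁻¹ᵁ O)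
    (φ : R ⟶ Γ(X, O)) :
    f.resLE O O' h ≫ chartMap O φ = chartMap O' (φ ≫ f.appLE O O' h) := by
  rw [chartMap, chartMap, Spec.map_comp, Scheme.Opens.toSpecΓ_SpecMap_appLE_assoc]

/-- Ring maps which are localizations away from `F` on an affine open give open immersions. -/
theorem isLocalization_away_of_conditions (φ : R ⟶ Γ(X, O)) (F : R)
    (inj : ∀ z, X.presheaf.map (homOfLE (X.basicOpen_le (φ F))).op (φ z) = 0 → ∃ n : ℕ, F ^ n * z = 0)
    (surj : ∀ x : Γ(X, X.basicOpen (φ F)), ∃ (z : R) (n : ℕ),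
      X.presheaf.map (homOfLE (X.basicOpen_le (φ F))).op (φ z) =
        x * X.presheaf.map (homOfLE (X.basicOpen_le (φ F))).op (φ F) ^ n) :
    letI := (φ ≫ X.presheaf.map (homOfLE (X.basicOpen_le (φ F))).op).hom.toAlgebra
    IsLocalization.Away F Γ(X, X.basicOpen (φ F)) := by
  let ψ := φ ≫ X.presheaf.map (homOfLE (X.basicOpen_le (φ F))).op
  letI := ψ.hom.toAlgebra
  have halg : ∀ z : R, algebraMap R Γ(X, X.basicOpen (φ F)) z =
      X.presheaf.map (homOfLE (X.basicOpen_le (φ F))).op (φ z) := fun _ ↦ rfl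
  constructor; constructor
  · rintro ⟨_, n, rfl⟩
    rw [map_pow, halg]
    exact IsUnit.pow n (RingedSpace.isUnit_res_basicOpen _ (φ F))
  · intro x
    obtain ⟨z, n, hz⟩ := surj x
    exact ⟨⟨z, ⟨F ^ n, n, rfl⟩⟩, by rw [map_pow, halg, halg]; exact hz.symm⟩
  · intro a b hab
    rw [halg, halg] at hab
    obtain ⟨n, hn⟩ := inj (a - b) (by rw [map_sub, map_sub, hab, sub_self])
    exact ⟨⟨F ^ n, n, rfl⟩, sub_eq_zero.1 (by rw [← mul_sub]; exact hn)⟩

/-- A basic affine piece of the chart. -/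
theorem isOpenImmersion_chartMap_basicOpen (φ : R ⟶ Γ(X, O)) (F : R)
    (haff : IsAffineOpen (X.basicOpen (φ F)))
    (inj : ∀ z, X.presheaf.map (homOfLE (X.basicOpen_le (φ F))).op (φ z) = 0 → ∃ n : ℕ, F ^ n * z = 0)
    (surj : ∀ x : Γ(X, X.basicOpen (φ F)), ∃ (z : R) (n : ℕ),
      X.presheaf.map (homOfLE (X.basicOpen_le (φ F))).op (φ z) =
        x * X.presheaf.map (homOfLE (X.basicOpen_le (φ F))).op (φ F) ^ n) :
    IsOpenImmersion (X.homOfLE (X.basicOpen_le (φ F)) ≫ chartMap O φ) ∧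
      Set.range (X.homOfLE (X.basicOpen_le (φ F)) ≫ chartMap O φ) =
        (PrimeSpectrum.basicOpen F : Set (PrimeSpectrum R)) := by
  let ψ := φ ≫ X.presheaf.map (homOfLE (X.basicOpen_le (φ F))).op
  letI := ψ.hom.toAlgebra
  have := isLocalization_away_of_conditions φ F inj surj
  rw [comp_chartMap_of_le, chartMap]
  have h1 : IsOpenImmersion (Spec.map (CommRingCat.ofHom (algebraMap R Γ(X, X.basicOpen (φ F))))) :=
    IsOpenImmersion.of_isLocalization F
  have h2 : IsIso (X.basicOpen (φ F)).toSpecΓ := haff.isoSpec.isIso_hom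
  have h1' : IsOpenImmersion (Spec.map ψ) := h1
  refine ⟨inferInstance, ?_⟩
  rw [Scheme.Hom.comp_base, TopCat.coe_comp, Set.range_comp,
    (X.basicOpen (φ F)).toSpecΓ.surjective.range_eq, Set.image_univ]
  exact PrimeSpectrum.localization_away_comap_range Γ(X, X.basicOpen (φ F)) F

/-- The chart is an open immersion onto the union of the basic opens. -/
theorem isOpenImmersion_chartMap {ι : Type*} (φ : R ⟶ Γ(X, O)) (F : ι → R)
    (haff : ∀ l, IsAffineOpen (X.basicOpen (φ (F l))))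
    (hcov : O ≤ ⨆ l, X.basicOpen (φ (F l)))
    (inj : ∀ l z, X.presheaf.map (homOfLE (X.basicOpen_le (φ (F l)))).op (φ z) = 0 →
      ∃ n : ℕ, F l ^ n * z = 0)
    (surj : ∀ l (x : Γ(X, X.basicOpen (φ (F l)))), ∃ (z : R) (n : ℕ),
      X.presheaf.map (homOfLE (X.basicOpen_le (φ (F l)))).op (φ z) =
        x * X.presheaf.map (homOfLE (X.basicOpen_le (φ (F l)))).op (φ (F l)) ^ n) :
    IsOpenImmersion (chartMap O φ) ∧
      Set.range (chartMap O φ) = ⋃ l, (PrimeSpectrum.basicOpen (F l) : Set (PrimeSpectrum R)) := by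
  have key := fun l ↦ isOpenImmersion_chartMap_basicOpen φ (F l) (haff l) (inj l) (surj l)
  have hmem : ∀ x : O.toScheme, ∃ l, ∃ x' : (X.basicOpen (φ (F l))).toScheme,
      X.homOfLE (X.basicOpen_le (φ (F l))) x' = x := fun x ↦ by
    obtain ⟨l, hl⟩ := TopologicalSpace.Opens.mem_iSup.1 (hcov x.2)
    exact ⟨l, ⟨x.1, hl⟩, Subtype.ext (by simp)⟩
  have hpre : ∀ l (x : O.toScheme), chartMap O φ x ∈ PrimeSpectrum.basicOpen (F l) →
      x.1 ∈ X.basicOpen (φ (F l)) := fun l x hx ↦ by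
    have : x ∈ chartMap O φ ⁻¹ᵁ PrimeSpectrum.basicOpen (F l) := hx
    rwa [preimage_chartMap] at this
  refine ⟨IsOpenImmersion.of_forall_source_exists _ (fun x y hxy ↦ ?_) fun x ↦ ?_, ?_⟩
  · obtain ⟨l, x', rfl⟩ := hmem x
    have hx : chartMap O φ (X.homOfLE (X.basicOpen_le (φ (F l))) x') ∈
        PrimeSpectrum.basicOpen (F l) := by
      rw [← SetLike.mem_coe, ← (key l).2, ← Scheme.Hom.comp_apply]
      exact ⟨x', rfl⟩
    have hy := hpre l y (hxy ▸ hx)
    have hy' : X.homOfLE (X.basicOpen_le (φ (F l))) ⟨y.1, hy⟩ = y := Subtype.ext (by simp)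
    have := (key l).1
    rw [← hy'] at hxy ⊢
    rw [← Scheme.Hom.comp_apply, ← Scheme.Hom.comp_apply] at hxy
    exact congrArg _
      ((X.homOfLE (X.basicOpen_le (φ (F l))) ≫ chartMap O φ).isOpenEmbedding.injective hxy)
  · obtain ⟨l, hl⟩ := hmem x
    exact ⟨_, X.homOfLE (X.basicOpen_le (φ (F l))), inferInstance, hl, (key l).1⟩
  · refine Set.Subset.antisymm ?_ (Set.iUnion_subset fun l ↦ ?_)
    · rintro _ ⟨x, rfl⟩
      obtain ⟨l, x', rfl⟩ := hmem x
      refine Set.mem_iUnion.2 ⟨l, ?_⟩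
      rw [← (key l).2, ← Scheme.Hom.comp_apply]
      exact ⟨x', rfl⟩
    · rw [← (key l).2, Scheme.Hom.comp_base, TopCat.coe_comp, Set.range_comp]
      exact Set.image_subset_range _ _

end Groth.Limits
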