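import Groth.Agent.Limits.ProperModel

/-!
# Proper morphisms are limits of proper morphisms of finite presentation
-/

set_option backward.isDefEq.respectTransparency false
set_option backward.defeqAttrib.useBackward true

universe u

open CategoryTheory Limits AlgebraicGeometry Opposite

namespace Groth.Limits

/-- A proper morphism is a closed subscheme of a proper morphism of finite presentation. -/
theorem exists_proper_fp_closedImmersion {X S : Scheme.{u}} (f : X ⟶ S) [IsProper f] [CompactSpace S]
    [QuasiSeparatedSpace S] :
    ∃ (P : Scheme.{u}) (p : P ⟶ S) (j : X ⟶ P), IsProper p ∧ LocallyOfFinitePresentation p ∧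
      IsClosedImmersion j ∧ j ≫ p = f := by
  obtain ⟨M⟩ := exists_properModel f
  obtain ⟨i⟩ := M.nonempty
  have := M.proper (op i)
  have := M.compact (op i)
  have := M.locallyOfFiniteType (op i)
  have : IsLocallyNoetherian (M.DS.obj (op i)) := LocallyOfFiniteType.isLocallyNoetherian
    (Limits.IsTerminal.from specULiftZIsTerminal (M.DS.obj (op i)))
  have : LocallyOfFinitePresentation (M.φ.app (op i)) :=
    LocallyOfFinitePresentation.iff_locallyOfFiniteType.2 inferInstance
  exact ⟨_, pullback.snd (M.φ.app (op i)) (M.πS.app (op i)),
    pullback.lift (M.πX.app (op i)) f (M.w (op i)), inferInstance, inferInstance,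
    M.isClosedImmersion _, pullback.lift_snd _ _ _⟩

/-- A proper morphism is a limit of proper morphisms of finite presentation with closed immersions
as transition maps and projections. -/
theorem exists_properRelSystem {X S : Scheme.{u}} (f : X ⟶ S) [IsProper f] [CompactSpace S]
    [QuasiSeparatedSpace S] :
    ∃ R : RelSystem f, (∀ (i j : R.Iᵒᵖ) (a : i ⟶ j), IsClosedImmersion (R.D.map a).left) ∧
      (∀ i, IsClosedImmersion (R.π.app i).left) ∧ (∀ i, IsProper (R.D.obj i).hom) := by
  obtain ⟨P, p, ι, hp, hlfp, hι, rfl⟩ := exists_proper_fp_closedImmersion f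
  have : CompactSpace P := QuasiCompact.compactSpace_of_compactSpace p
  have : QuasiSeparatedSpace P := quasiSeparatedSpace_of_quasiSeparated p
  obtain ⟨A⟩ := exists_zsystem P
  let D := idealSystem (A.stageIdeal ι)
  let cc : Cone D := idealCone (A.stageIdeal_le ι)
  let R₀ : RelSystem ι :=
    { I := A.I
      D := D
      π := cc.π
      isLimit := isLimitIdealCone (A.stageIdeal_le ι) (A.ker_le_iSup_stageIdeal ι)
      affine := fun i j a ↦ by
        have := isClosedImmersion_idealSystem_map (A.stageIdeal ι) a
        infer_instance
      compact := fun i ↦ QuasiCompact.compactSpace_of_compactSpace (D.obj i).hom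
      locallyOfFinitePresentation := fun i ↦ A.locallyOfFinitePresentation_stageIdeal ι i.unop
      quasiCompact := fun i ↦ inferInstance
      quasiSeparated := fun i ↦ inferInstance }
  refine ⟨R₀.mapBase p, fun i j a ↦ isClosedImmersion_idealSystem_map (A.stageIdeal ι) a,
    fun i ↦ ?_, fun i ↦ inferInstanceAs (IsProper ((D.obj i).hom ≫ p))⟩
  change IsClosedImmersion (cc.π.app i).left
  have : IsClosedImmersion ((cc.π.app i).left ≫ (D.obj i).hom) := by
    rw [Over.w]
    exact hι
  exact IsClosedImmersion.of_comp _ (D.obj i).hom

end Groth.Limits
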