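import Mathlib.AlgebraicGeometry.AffineTransitionLimit
import Mathlib.AlgebraicGeometry.RelativeGluing
import Mathlib.AlgebraicGeometry.Sites.SmallAffineZariski
import Mathlib.AlgebraicGeometry.Morphisms.Affine

/-!
# Cofiltered limits of schemes with affine transition maps exist

`Groth.Limits.exists_limit_of_isAffineHom` : a cofiltered diagram of schemes with affine transition
maps has a limit cone, all of whose projections are affine.
-/

set_option backward.isDefEq.respectTransparency false
set_option backward.defeqAttrib.useBackward true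

universe u

open CategoryTheory Limits AlgebraicGeometry Scheme
set_option maxHeartbeats 40000

namespace Groth.Limits

noncomputable section

variable {S : Scheme.{u}} {J : Type u} [Category.{u} J] [IsCofiltered J] (G : J ⥤ Over S)
  [∀ j, IsAffineHom (G.obj j).hom]

/-- Restriction of a diagram over `S` to an open. -/
def restrictDiagram (U : S.Opens) : J ⥤ Scheme.{u} :=
  G ⋙ Over.pullback U.ι ⋙ Over.forget _

instance (U : S.AffineZariskiSite) (j : J) :
    IsAffine ((restrictDiagram G U.toOpens).obj j) := by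
  have : IsAffine U.toOpens.toScheme := U.2
  have : IsAffineHom (pullback.snd (G.obj j).hom U.toOpens.ι) :=
    MorphismProperty.of_isPullback (P := @IsAffineHom) (IsPullback.of_hasPullback _ _) inferInstance
  exact isAffine_of_isAffineHom (pullback.snd (G.obj j).hom U.toOpens.ι)

omit [IsCofiltered J] [∀ j, IsAffineHom (G.obj j).hom] in
lemma hasLimit_of_forall_isAffine (F : J ⥤ Scheme.{u}) [∀ j, IsAffine (F.obj j)] : HasLimit F := by
  let e : F ⟶ (F ⋙ Scheme.Γ.rightOp) ⋙ Scheme.Spec := F.whiskerLeft ΓSpec.adjunction.unit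
  have (i : _) : IsIso (e.app i) := IsAffine.affine
  have : IsIso e := NatIso.isIso_of_isIso_app e
  exact hasLimit_of_iso (asIso e).symm

instance (U : S.AffineZariskiSite) : HasLimit (restrictDiagram G U.toOpens) :=
  hasLimit_of_forall_isAffine _

/-- The piece of the limit over an affine open. -/
abbrev piece (U : S.AffineZariskiSite) : Scheme.{u} := limit (restrictDiagram G U.toOpens)

/-- projections of the pieces -/
def pieceπ (U : S.AffineZariskiSite) (j : J) :
    piece G U ⟶ (G.obj j).left :=
  limit.π (restrictDiagram G U.toOpens) j ≫ pullback.fst _ _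

def pieceToBase (U : S.AffineZariskiSite) : piece G U ⟶ U.toOpens :=
  limit.π (restrictDiagram G U.toOpens) (IsCofiltered.nonempty (C := J)).some ≫ pullback.snd _ _

attribute [local instance] IsCofiltered.isConnected

lemma limitπ_snd (U : S.AffineZariskiSite) (j : J) :
    limit.π (restrictDiagram G U.toOpens) j ≫ pullback.snd _ _ = pieceToBase G U := by
  refine constant_of_preserves_morphisms (fun j : J ↦ (limit.π (restrictDiagram G U.toOpens) j ≫
    pullback.snd (G.obj j).hom U.toOpens.ι : piece G U ⟶ U.toOpens)) (fun i j f ↦ ?_) _ _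
  simp only [← limit.w (restrictDiagram G U.toOpens) f, Category.assoc]
  simp [restrictDiagram]

@[reassoc]
lemma pieceπ_hom (U : S.AffineZariskiSite) (j : J) :
    pieceπ G U j ≫ (G.obj j).hom = pieceToBase G U ≫ U.toOpens.ι := by
  rw [← limitπ_snd G U j, pieceπ, Category.assoc, Category.assoc, pullback.condition]

@[reassoc]
lemma pieceπ_w (U : S.AffineZariskiSite) {i j : J} (f : i ⟶ j) :
    pieceπ G U i ≫ (G.map f).left = pieceπ G U j := by
  simp only [pieceπ, ← limit.w (restrictDiagram G U.toOpens) f, Category.assoc]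
  simp [restrictDiagram]

lemma piece_hom_ext {U : S.AffineZariskiSite} {T : Scheme.{u}} {a b : T ⟶ piece G U}
    (h₁ : ∀ j, a ≫ pieceπ G U j = b ≫ pieceπ G U j)
    (h₂ : a ≫ pieceToBase G U = b ≫ pieceToBase G U) : a = b := by
  refine limit.hom_ext fun j ↦ pullback.hom_ext ?_ ?_
  · simpa [pieceπ] using h₁ j
  · simpa [limitπ_snd] using h₂

/-- lifting into a piece -/
def pieceLift {U : S.AffineZariskiSite} {T : Scheme.{u}} (b : T ⟶ U.toOpens)
    (a : ∀ j, T ⟶ (G.obj j).left) (w : ∀ j, a j ≫ (G.obj j).hom = b ≫ U.toOpens.ι)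
    (hw : ∀ {i j : J} (f : i ⟶ j), a i ≫ (G.map f).left = a j) : T ⟶ piece G U :=
  limit.lift (restrictDiagram G U.toOpens)
    { pt := T
      π :=
      { app j := pullback.lift (a j) b (w j)
        naturality {i j} f := by
          apply pullback.hom_ext <;> simp [restrictDiagram, hw] } }

lemma pieceLift_π {U : S.AffineZariskiSite} {T : Scheme.{u}} (b : T ⟶ U.toOpens)
    (a : ∀ j, T ⟶ (G.obj j).left) (w : ∀ j, a j ≫ (G.obj j).hom = b ≫ U.toOpens.ι)
    (hw : ∀ {i j : J} (f : i ⟶ j), a i ≫ (G.map f).left = a j) (j : J) :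
    pieceLift G b a w hw ≫ pieceπ G U j = a j := by
  simp [pieceLift, pieceπ]

lemma pieceLift_toBase {U : S.AffineZariskiSite} {T : Scheme.{u}} (b : T ⟶ U.toOpens)
    (a : ∀ j, T ⟶ (G.obj j).left) (w : ∀ j, a j ≫ (G.obj j).hom = b ≫ U.toOpens.ι)
    (hw : ∀ {i j : J} (f : i ⟶ j), a i ≫ (G.map f).left = a j) :
    pieceLift G b a w hw ≫ pieceToBase G U = b := by
  simp [pieceLift, pieceToBase]

def pieceMap {U V : S.AffineZariskiSite} (h : U ≤ V) : piece G U ⟶ piece G V :=
  pieceLift G (pieceToBase G U ≫ S.homOfLE (AffineZariskiSite.toOpens_mono h)) (pieceπ G U)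
    (fun j ↦ by rw [pieceπ_hom, Category.assoc, Scheme.homOfLE_ι]) (fun f ↦ pieceπ_w G U f)

lemma pieceMap_π {U V : S.AffineZariskiSite} (h : U ≤ V) (j : J) :
    pieceMap G h ≫ pieceπ G V j = pieceπ G U j :=
  pieceLift_π ..

lemma pieceMap_toBase {U V : S.AffineZariskiSite} (h : U ≤ V) :
    pieceMap G h ≫ pieceToBase G V =
      pieceToBase G U ≫ S.homOfLE (AffineZariskiSite.toOpens_mono h) :=
  pieceLift_toBase ..

lemma pieceMap_refl (U : S.AffineZariskiSite) : pieceMap G (le_refl U) = 𝟙 _ :=
  piece_hom_ext G (fun j ↦ by rw [pieceMap_π, Category.id_comp])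
    (by rw [pieceMap_toBase, Category.id_comp, Scheme.homOfLE_rfl, Category.comp_id])

lemma pieceMap_trans {U V W : S.AffineZariskiSite} (h : U ≤ V) (h' : V ≤ W) :
    pieceMap G (h.trans h') = pieceMap G h ≫ pieceMap G h' :=
  piece_hom_ext G (fun j ↦ by rw [pieceMap_π, Category.assoc, pieceMap_π, pieceMap_π])
    (by rw [pieceMap_toBase, Category.assoc, pieceMap_toBase, ← Category.assoc, pieceMap_toBase,
      Category.assoc, Scheme.homOfLE_homOfLE])

lemma isPullback_pieceMap {U V : S.AffineZariskiSite} (h : U ≤ V) :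
    IsPullback (pieceMap G h) (pieceToBase G U) (pieceToBase G V)
      (S.homOfLE (AffineZariskiSite.toOpens_mono h)) := by
  have w (s : PullbackCone (pieceToBase G V) (S.homOfLE (AffineZariskiSite.toOpens_mono h)))
      (j : J) : (s.fst ≫ pieceπ G V j) ≫ (G.obj j).hom = s.snd ≫ U.toOpens.ι := by
    rw [Category.assoc, pieceπ_hom, ← Category.assoc, s.condition, Category.assoc,
      Scheme.homOfLE_ι]
  refine ⟨⟨pieceMap_toBase G h⟩, ⟨PullbackCone.IsLimit.mk _ (fun s ↦
    pieceLift G s.snd (fun j ↦ s.fst ≫ pieceπ G V j) (w s)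
      (fun g ↦ by rw [Category.assoc, pieceπ_w])) (fun s ↦ ?_) (fun s ↦ ?_) (fun s m h₁ h₂ ↦ ?_)⟩⟩
  · refine piece_hom_ext G (fun j ↦ ?_) ?_
    · rw [Category.assoc, pieceMap_π, pieceLift_π]
    · rw [Category.assoc, pieceMap_toBase, ← Category.assoc, pieceLift_toBase]
      exact s.condition.symm
  · exact pieceLift_toBase ..
  · refine piece_hom_ext G (fun j ↦ ?_) ?_
    · rw [pieceLift_π, ← h₁, Category.assoc, pieceMap_π]
    · rw [pieceLift_toBase]
      exact h₂

/-- The functor of pieces. -/
def pieceFunctor : S.AffineZariskiSite ⥤ Scheme.{u} where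
  obj U := piece G U
  map f := pieceMap G (leOfHom f)
  map_id U := pieceMap_refl G U
  map_comp f g := pieceMap_trans G (leOfHom f) (leOfHom g)

/-- the relative gluing datum for the limit -/
def glueData : (AffineZariskiSite.directedCover S).RelativeGluingData where
  functor := pieceFunctor G
  natTrans :=
  { app U := pieceToBase G U
    naturality {U V} f := pieceMap_toBase G (leOfHom f) }
  equifibered {U V} f := isPullback_pieceMap G (leOfHom f)

instance : ((glueData G).functor ⋙ Scheme.forget).IsLocallyDirected :=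
  Cover.RelativeGluingData.instIsLocallyDirectedI₀CompFunctorForgetOfIsThin ..

instance {U V : S.AffineZariskiSite} (f : U ⟶ V) : IsOpenImmersion ((glueData G).functor.map f) :=
  (glueData G).instIsOpenImmersionMapI₀Functor f

/-- The limit scheme. -/
def limitScheme : Scheme.{u} := (glueData G).glued

def limitToBase : limitScheme G ⟶ S := (glueData G).toBase

def limitπ (j : J) : limitScheme G ⟶ (G.obj j).left :=
  colimit.desc (glueData G).functor
    { pt := (G.obj j).left
      ι :=
      { app U := pieceπ G U j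
        naturality {U V} f := by simpa [glueData] using! pieceMap_π G (leOfHom f) j } }

lemma ι_limitπ (U : S.AffineZariskiSite) (j : J) :
    colimit.ι (glueData G).functor U ≫ limitπ G j = pieceπ G U j := by
  simp [limitπ]

lemma ι_limitToBase (U : S.AffineZariskiSite) :
    colimit.ι (glueData G).functor U ≫ limitToBase G = pieceToBase G U ≫ U.toOpens.ι :=
  (glueData G).ι_toBase U

lemma limitπ_hom (j : J) : limitπ G j ≫ (G.obj j).hom = limitToBase G :=
  colimit.hom_ext fun U ↦ by
    rw [← Category.assoc, ι_limitπ, pieceπ_hom, ι_limitToBase]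

instance : IsAffineHom (limitToBase G) := by
  rw [IsZariskiLocalAtTarget.iff_of_iSup_eq_top (P := @IsAffineHom) _ (iSup_affineOpens_eq_top S)]
  intro U
  have : IsAffine (piece G U) :=
    Scheme.isAffine_of_isLimit _ (limit.isLimit (restrictDiagram G U.1))
  have hp : IsPullback (pieceToBase G U) (colimit.ι (glueData G).functor U) U.1.ι (limitToBase G) :=
    (glueData G).isPullback_natTrans_ι_toBase U
  have : IsAffine (limitToBase G ⁻¹ᵁ U.1).toScheme :=
    .of_isIso ((isPullback_morphismRestrict (limitToBase G) U.1).isoPullback ≪≫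
      hp.isoPullback.symm).hom
  have : IsAffine U.1.toScheme := U.2
  exact isAffineHom_of_isAffine _

/-- The cone over `G ⋙ forget`. -/
def limitCone : Cone (G ⋙ Over.forget S) where
  pt := limitScheme G
  π :=
  { app := limitπ G
    naturality {i j} f := by
      refine colimit.hom_ext fun U ↦ ?_
      simp only [Functor.const_obj_map, Category.id_comp]
      erw [ι_limitπ, ← Category.assoc, ι_limitπ]
      exact (pieceπ_w G U f).symm }

variable (s : Cone (G ⋙ Over.forget S))

/-- the structure map of a cone -/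
def coneBase : s.pt ⟶ S := s.π.app (IsCofiltered.nonempty (C := J)).some ≫ (G.obj _).hom

lemma cone_π_hom (j : J) : s.π.app j ≫ (G.obj j).hom = coneBase G s := by
  refine constant_of_preserves_morphisms
    (fun j : J ↦ (s.π.app j ≫ (G.obj j).hom : s.pt ⟶ S)) (fun i j f ↦ ?_) _ _
  simp only [← s.w f, Category.assoc]
  simp

/-- the opens of a cone -/
abbrev coneOpen (U : S.AffineZariskiSite) : s.pt.Opens := coneBase G s ⁻¹ᵁ U.toOpens

lemma coneOpen_w (U : S.AffineZariskiSite) {i j : J} (f : i ⟶ j) :
    ((coneOpen G s U).ι ≫ s.π.app i) ≫ (G.map f).left = (coneOpen G s U).ι ≫ s.π.app j :=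
  (Category.assoc _ _ _).trans (congrArg _ (s.w f))

/-- the local lift -/
def coneLocalLift (U : S.AffineZariskiSite) : (coneOpen G s U).toScheme ⟶ piece G U :=
  pieceLift G (coneBase G s ∣_ U.toOpens) (fun j ↦ (coneOpen G s U).ι ≫ s.π.app j)
    (fun j ↦ (Category.assoc _ _ _).trans
      ((congrArg _ (cone_π_hom G s j)).trans (morphismRestrict_ι _ _).symm))
    (coneOpen_w G s U)

lemma coneLocalLift_π (U : S.AffineZariskiSite) (j : J) :
    coneLocalLift G s U ≫ pieceπ G U j = (coneOpen G s U).ι ≫ s.π.app j :=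
  pieceLift_π G _ _ _ (coneOpen_w G s U) j

lemma coneLocalLift_toBase (U : S.AffineZariskiSite) :
    coneLocalLift G s U ≫ pieceToBase G U = coneBase G s ∣_ U.toOpens :=
  pieceLift_toBase G _ _ _ (coneOpen_w G s U)

lemma coneLocalLift_limitπ (U : S.AffineZariskiSite) (j : J) :
    (coneLocalLift G s U ≫ colimit.ι (glueData G).functor U) ≫ limitπ G j =
      (coneOpen G s U).ι ≫ s.π.app j :=
  (Category.assoc _ _ _).trans ((congrArg _ (ι_limitπ G U j)).trans (coneLocalLift_π G s U j))

lemma coneLocalLift_unique (U : S.AffineZariskiSite) {T : Scheme.{u}}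
    (p : T ⟶ (coneOpen G s U).toScheme) (m : T ⟶ limitScheme G)
    (hm : ∀ j, m ≫ limitπ G j = p ≫ (coneOpen G s U).ι ≫ s.π.app j) :
    m = p ≫ coneLocalLift G s U ≫ colimit.ι (glueData G).functor U := by
  have hp := (glueData G).isPullback_natTrans_ι_toBase U
  have hb : m ≫ limitToBase G = (p ≫ coneBase G s ∣_ U.toOpens) ≫ U.toOpens.ι := by
    rw [← limitπ_hom G (IsCofiltered.nonempty (C := J)).some]
    refine ((Category.assoc _ _ _).symm.trans (congrArg (· ≫ _) (hm _))).trans ?_
    refine Eq.trans ?_ ((congrArg _ (morphismRestrict_ι _ _).symm).trans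
      (Category.assoc _ _ _).symm)
    refine (Category.assoc _ _ _).trans (congrArg _ ((Category.assoc _ _ _).trans ?_))
    exact congrArg _ (cone_π_hom G s _)
  obtain ⟨l, hl₁, hl₂⟩ := hp.exists_lift (p ≫ coneBase G s ∣_ U.toOpens) m hb.symm
  have h : (l : T ⟶ piece G U) = p ≫ coneLocalLift G s U := by
    refine piece_hom_ext G (fun j ↦ ?_) ?_
    · refine Eq.trans ?_ ((congrArg _ (coneLocalLift_π G s U j).symm).trans
        (Category.assoc _ _ _).symm)
      refine Eq.trans ?_ (hm j)
      refine Eq.trans ?_ (congrArg (· ≫ limitπ G j) hl₂)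
      exact ((Category.assoc _ _ _).trans (congrArg _ (ι_limitπ G U j))).symm
    · exact hl₁.trans ((congrArg _ (coneLocalLift_toBase G s U).symm).trans
        (Category.assoc _ _ _).symm)
  exact hl₂.symm.trans ((congrArg (· ≫ colimit.ι (glueData G).functor U) h).trans
    (Category.assoc _ _ _))

/-- the cover of a cone point -/
abbrev coneCover : s.pt.OpenCover :=
  Scheme.openCoverOfIsOpenCover s.pt (coneOpen G s)
    (TopologicalSpace.IsOpenCover.comap (v := fun U : S.AffineZariskiSite ↦ U.toOpens)
      (iSup_affineOpens_eq_top S) (coneBase G s).base.hom)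

lemma exists_unique_coneLift :
    ∃! m : s.pt ⟶ limitScheme G, ∀ j, m ≫ limitπ G j = s.π.app j := by
  let g (U : S.AffineZariskiSite) :=
    coneLocalLift G s U ≫ colimit.ι (glueData G).functor U
  let m := (coneCover G s).glueMorphisms g (fun U V ↦ by
    have h₁ := coneLocalLift_unique G s U (pullback.fst (coneOpen G s U).ι (coneOpen G s V).ι)
      (pullback.snd (coneOpen G s U).ι (coneOpen G s V).ι ≫ g V)
      (fun j ↦ by
        refine (Category.assoc _ _ _).trans ((congrArg _ (coneLocalLift_limitπ G s V j)).trans ?_)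
        rw [← Category.assoc, ← pullback.condition, Category.assoc])
    exact h₁.symm)
  have hm (U : S.AffineZariskiSite) : (coneOpen G s U).ι ≫ m = g U :=
    (coneCover G s).ι_glueMorphisms _ _ U
  refine ⟨m, fun j ↦ (coneCover G s).hom_ext _ _ fun U ↦ ?_,
    fun m' hm' ↦ (coneCover G s).hom_ext _ _ fun U ↦ ?_⟩
  · exact (Category.assoc _ _ _).symm.trans
      ((congrArg (· ≫ limitπ G j) (hm U)).trans (coneLocalLift_limitπ G s U j))
  · have h := coneLocalLift_unique G s U (𝟙 _) ((coneOpen G s U).ι ≫ m') (fun j ↦ by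
      rw [Category.assoc, hm', Category.id_comp])
    exact h.trans ((Category.id_comp _).trans (hm U).symm)

/-- The limit cone is limiting. -/
def limitConeIsLimit : IsLimit (limitCone G) where
  lift s := (exists_unique_coneLift G s).choose
  fac s j := (exists_unique_coneLift G s).choose_spec.1 j
  uniq s m hm := (exists_unique_coneLift G s).choose_spec.2 m hm

end

/-- A cofiltered diagram of schemes with affine transition maps has a limit, whose projections are
affine. -/
theorem exists_limit_of_isAffineHom {I : Type u} [Category.{u} I] [IsCofiltered I]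
    (D : I ⥤ Scheme.{u}) [∀ (i j : I) (f : i ⟶ j), IsAffineHom (D.map f)] :
    ∃ (c : Cone D) (_ : IsLimit c), ∀ i, IsAffineHom (c.π.app i) := by
  obtain ⟨i₀⟩ := IsCofiltered.nonempty (C := I)
  let G : Over i₀ ⥤ Over (D.obj i₀) := Over.post D
  have : ∀ j, IsAffineHom (G.obj j).hom := fun j ↦ by dsimp [G]; infer_instance
  have : HasLimit (Over.forget i₀ ⋙ D) :=
    HasLimit.mk ⟨limitCone G, limitConeIsLimit G⟩
  have : HasLimit D := Functor.Initial.hasLimit_of_comp (Over.forget i₀)
  exact ⟨limit.cone D, limit.isLimit D, fun i ↦ isAffineHom_π_app _ _ (limit.isLimit D) i⟩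

theorem hasLimit_of_isAffineHom {I : Type u} [Category.{u} I] [IsCofiltered I]
    (D : I ⥤ Scheme.{u}) [∀ (i j : I) (f : i ⟶ j), IsAffineHom (D.map f)] : HasLimit D :=
  let ⟨c, hc, _⟩ := exists_limit_of_isAffineHom D
  HasLimit.mk ⟨c, hc⟩

end Groth.Limits
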