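import Groth.Agent.Limits.RingLemmas
import Groth.Agent.Limits.Existence
import Mathlib.AlgebraicGeometry.Morphisms.Finite
import Mathlib.AlgebraicGeometry.Morphisms.ClosedImmersion

/-!
# Descending closed immersions and finite morphisms between systems of affine schemes
-/

universe u

open CategoryTheory Limits AlgebraicGeometry

namespace Groth.Limits

variable {I : Type u} [Category.{u} I] {DX DY : I ⥤ Scheme.{u}} (φ : DX ⟶ DY)

/-- The comparison map `X_k ⟶ X_j ×_{Y_j} Y_k` of a morphism of systems. -/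
noncomputable abbrev liftMap {j k : I} (m : k ⟶ j) :
    DX.obj k ⟶ pullback (φ.app j) (DY.map m) :=
  pullback.lift (DX.map m) (φ.app k) (φ.naturality m)

variable [IsCofiltered I] [∀ j, IsAffine (DX.obj j)] [∀ j, IsAffine (DY.obj j)]
  {cX : Cone DX} {cY : Cone DY} (hX : IsLimit cX) (hY : IsLimit cY) (f : cX.pt ⟶ cY.pt)
  (hf : ∀ j, f ≫ cY.π.app j = cX.π.app j ≫ φ.app j)

omit [IsCofiltered I] [∀ j, IsAffine (DX.obj j)] [∀ j, IsAffine (DY.obj j)] in
theorem appTop_map_comp {i j k : I} (m : i ⟶ j) (n : j ⟶ k) (D : I ⥤ Scheme.{u})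
    (x : Γ(D.obj k, ⊤)) :
    (D.map (m ≫ n)).appTop x = (D.map m).appTop ((D.map n).appTop x) := by
  rw [D.map_comp, Scheme.Hom.comp_appTop, ConcreteCategory.comp_apply]

omit [IsCofiltered I] [∀ j, IsAffine (DX.obj j)] [∀ j, IsAffine (DY.obj j)] in
theorem appTop_naturality {j k : I} (m : k ⟶ j) :
    (φ.app j).appTop ≫ (DX.map m).appTop = (DY.map m).appTop ≫ (φ.app k).appTop := by
  simp only [← Scheme.Hom.comp_appTop, φ.naturality]

omit [∀ j, IsAffine (DX.obj j)] [∀ j, IsAffine (DY.obj j)] in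
/-- Finitely many eventually true properties are simultaneously true at some stage. -/
theorem exists_forall_mem_of_finite {α : Type*} {i : I} (P : α → ∀ ⦃k : I⦄, (k ⟶ i) → Prop)
    (mono : ∀ a ⦃k l : I⦄ (m : k ⟶ i) (q : l ⟶ k), P a m → P a (q ≫ m)) {G : Set α}
    (hG : G.Finite) (h : ∀ a ∈ G, ∃ (k : I) (m : k ⟶ i), P a m) :
    ∃ (k : I) (m : k ⟶ i), ∀ a ∈ G, P a m := by
  induction G, hG using Set.Finite.induction_on with
  | empty => exact ⟨i, 𝟙 i, fun a ha ↦ ha.elim⟩
  | insert _ _ ih =>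
    obtain ⟨k, m, hm⟩ := ih fun a ha ↦ h a (Set.mem_insert_of_mem _ ha)
    obtain ⟨k', m', hm'⟩ := h _ (Set.mem_insert _ _)
    obtain ⟨l, p, q, hpq⟩ : ∃ (l : I) (p : l ⟶ k) (q : l ⟶ k'), p ≫ m = q ≫ m' := by
      obtain ⟨l₀, p₀, q₀, -⟩ := IsCofilteredOrEmpty.cone_objs k k'
      obtain ⟨l, e, he⟩ := IsCofilteredOrEmpty.cone_maps (p₀ ≫ m) (q₀ ≫ m')
      exact ⟨l, e ≫ p₀, e ≫ q₀, by simpa only [Category.assoc] using he⟩
    refine ⟨l, p ≫ m, fun a ha ↦ ?_⟩
    rcases ha with rfl | ha
    · rw [hpq]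
      exact mono _ m' q hm'
    · exact mono _ m p (hm a ha)

omit [IsCofiltered I] [∀ j, IsAffine (DX.obj j)] [∀ j, IsAffine (DY.obj j)] in
theorem appTop_π_map {D : I ⥤ Scheme.{u}} (c : Cone D) {i k : I} (m : k ⟶ i)
    (x : Γ(D.obj i, ⊤)) :
    ((c.π.app k).appTop ((D.map m).appTop x) : Γ(c.pt, ⊤)) = (c.π.app i).appTop x := by
  rw [← c.w m, Scheme.Hom.comp_appTop]
  rfl

include hf in
omit [IsCofiltered I] [∀ j, IsAffine (DX.obj j)] [∀ j, IsAffine (DY.obj j)] in
theorem appTop_π_app (k : I) (x : Γ(DY.obj k, ⊤)) :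
    ((cX.π.app k).appTop ((φ.app k).appTop x) : Γ(cX.pt, ⊤)) =
      f.appTop ((cY.π.app k).appTop x) := by
  rw [← ConcreteCategory.comp_apply, ← Scheme.Hom.comp_appTop, ← hf, Scheme.Hom.comp_appTop]
  rfl

omit [IsCofiltered I] [∀ j, IsAffine (DX.obj j)] [∀ j, IsAffine (DY.obj j)] in
theorem appTop_map_app {j k : I} (m : k ⟶ j) (x : Γ(DY.obj j, ⊤)) :
    (φ.app k).appTop ((DY.map m).appTop x) = (DX.map m).appTop ((φ.app j).appTop x) := by
  rw [← ConcreteCategory.comp_apply, ← appTop_naturality]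
  rfl

include hX hY hf in
/-- A section of a stage whose image in the limit comes from `f` lies in the image at some stage. -/
theorem exists_map_mem_range_appTop (i : I) (g : Γ(DX.obj i, ⊤))
    (hg : (cX.π.app i).appTop g ∈ Set.range f.appTop) :
    ∃ (k : I) (m : k ⟶ i), (DX.map m).appTop g ∈ (φ.app k).appTop.hom.range := by
  obtain ⟨y, hy⟩ := hg
  obtain ⟨j, y, rfl⟩ := exists_appTop_π_eq_of_isAffine_of_isLimit DY cY hY y
  obtain ⟨k, m, n, -⟩ := IsCofilteredOrEmpty.cone_objs i j
  obtain ⟨l, p, hl⟩ := exists_appTop_map_eq_zero_of_isAffine_of_isLimit DX cX hX k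
    ((DX.map m).appTop g - (φ.app k).appTop ((DY.map n).appTop y)) (by
      rw [map_sub, sub_eq_zero]
      exact (appTop_π_map cX m g).trans (hy.symm.trans
        ((congrArg f.appTop (appTop_π_map cY n y).symm).trans (appTop_π_app φ f hf k _).symm)))
  rw [map_sub, sub_eq_zero] at hl
  refine ⟨l, p ≫ m, (DY.map p).appTop ((DY.map n).appTop y), ?_⟩
  rw [appTop_map_comp, hl]
  exact appTop_map_app φ p _

include hX hY hf in
/-- A section of a stage whose image in the limit is integral becomes integral at some stage. -/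
theorem exists_isIntegralElem_appTop (i : I) (g : Γ(DX.obj i, ⊤))
    (hg : f.appTop.hom.IsIntegralElem ((cX.π.app i).appTop g)) :
    ∃ (k : I) (m : k ⟶ i), (φ.app k).appTop.hom.IsIntegralElem ((DX.map m).appTop g) := by
  classical
  obtain ⟨p, hp, hpe⟩ := hg
  choose j y hy using fun n : ℕ ↦
    exists_appTop_π_eq_of_isAffine_of_isLimit DY cY hY (p.coeff n)
  obtain ⟨k, hk⟩ := IsCofiltered.inf_objs_exists
    (insert i ((Finset.range p.natDegree).image j))
  obtain ⟨a⟩ := hk (Finset.mem_insert_self _ _)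
  have b : ∀ n ∈ Finset.range p.natDegree, k ⟶ j n := fun n hn ↦
    (hk (Finset.mem_insert_of_mem (Finset.mem_image_of_mem j hn))).some
  let co (n : Finset.range p.natDegree) : Γ(DY.obj k, ⊤) :=
    (DY.map (b n.1 n.2)).appTop (y n.1)
  have hco (n : Finset.range p.natDegree) :
      ((cY.π.app k).appTop (co n) : Γ(cY.pt, ⊤)) = p.coeff n.1 :=
    (appTop_π_map cY (b n.1 n.2) (y n.1)).trans (hy n.1)
  let z : Γ(DX.obj k, ⊤) := ((DX.map a).appTop g) ^ p.natDegree +
    ∑ n : Finset.range p.natDegree, (φ.app k).appTop (co n) * ((DX.map a).appTop g) ^ n.1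
  have hz : (cX.π.app k).appTop z = 0 := by
    let π : Γ(DX.obj k, ⊤) →+* Γ(cX.pt, ⊤) := (cX.π.app k).appTop.hom
    let g₀ : Γ(cX.pt, ⊤) := (cX.π.app i).appTop g
    have h1 : π ((DX.map a).appTop g) = g₀ := appTop_π_map cX a g
    have h2 (n : Finset.range p.natDegree) : π ((φ.app k).appTop (co n)) =
        f.appTop.hom (p.coeff n.1) :=
      (appTop_π_app φ f hf k _).trans (congrArg f.appTop (hco n))
    change π z = 0
    replace hpe : Polynomial.eval₂ f.appTop.hom g₀ p = 0 := hpe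
    simp only [z, map_add, map_pow, map_sum, map_mul, h1, h2]
    rw [← hpe]
    conv_rhs => rw [hp.as_sum]
    simp only [Polynomial.eval₂_add, Polynomial.eval₂_X_pow, Polynomial.eval₂_finsetSum,
      Polynomial.eval₂_mul, Polynomial.eval₂_C]
    exact congrArg _ (Finset.sum_coe_sort (Finset.range p.natDegree)
      (fun n ↦ f.appTop.hom (p.coeff n) * g₀ ^ n))
  obtain ⟨l, q, hl⟩ := exists_appTop_map_eq_zero_of_isAffine_of_isLimit DX cX hX k z hz
  refine ⟨l, q ≫ a, Polynomial.X ^ p.natDegree +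
    ∑ n : Finset.range p.natDegree,
      Polynomial.C ((DY.map q).appTop (co n)) * Polynomial.X ^ n.1,
    Polynomial.monic_X_pow_add ?_, ?_⟩
  · refine (Polynomial.degree_sum_le _ _).trans_lt
      ((Finset.sup_lt_iff (WithBot.bot_lt_coe _)).mpr fun n _ ↦ ?_)
    exact (Polynomial.degree_C_mul_X_pow_le _ _).trans_lt (by exact_mod_cast Finset.mem_range.mp n.2)
  · simp only [z, map_add, map_pow, map_sum, map_mul] at hl
    simp only [Polynomial.eval₂_add, Polynomial.eval₂_X_pow, Polynomial.eval₂_finsetSum,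
      Polynomial.eval₂_mul, Polynomial.eval₂_C]
    rw [appTop_map_comp]
    refine Eq.trans ?_ hl
    congr 1
    refine Finset.sum_congr rfl fun n _ ↦ ?_
    congr 1
    exact appTop_map_app φ q _

omit [IsCofiltered I] in
theorem closure_range_appTop_fst_union_snd {j k : I} (m : k ⟶ j) :
    Subring.closure (Set.range (pullback.fst (φ.app j) (DY.map m)).appTop ∪
      Set.range (pullback.snd (φ.app j) (DY.map m)).appTop) = ⊤ :=
  closure_range_union_range_eq_top_of_isPushout
    (isPushout_appTop_of_isPullback (IsPullback.of_hasPullback (φ.app j) (DY.map m)))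

include hX hY hf in
/-- Closed immersions descend between systems of affine schemes. -/
theorem exists_isClosedImmersion_of_isAffine (i : I) [LocallyOfFiniteType (φ.app i)]
    (hl : ∀ (j k : I) (m : k ⟶ j), IsClosedImmersion (liftMap φ m)) [IsClosedImmersion f] :
    ∃ (k : I) (_ : k ⟶ i), IsClosedImmersion (φ.app k) := by
  classical
  have : IsAffine cX.pt := Scheme.isAffine_of_isLimit _ hX
  have : IsAffine cY.pt := Scheme.isAffine_of_isLimit _ hY
  have hsurj := (IsClosedImmersion.isAffine_surjective_of_isAffine f).2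
  obtain ⟨G, hGf, hG⟩ := exists_finite_closure_eq_top _
    ((HasRingHomProperty.iff_of_isAffine (P := @LocallyOfFiniteType)).mp
      (inferInstance : LocallyOfFiniteType (φ.app i)))
  obtain ⟨l, n, hn⟩ := exists_forall_mem_of_finite
    (fun g ⦃k⦄ (m : k ⟶ i) ↦ (DX.map m).appTop g ∈ (φ.app k).appTop.hom.range)
    (fun g k l m q ⟨y, hy⟩ ↦ ⟨(DY.map q).appTop y, by
      rw [appTop_map_comp, ← hy]
      exact appTop_map_app φ q y⟩)
    hGf fun g _ ↦ exists_map_mem_range_appTop φ hX hY f hf i g (hsurj _)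
  refine ⟨l, n, IsClosedImmersion.of_surjective_of_isAffine _ ?_⟩
  have hψ := hl i l n
  have hψs := (IsClosedImmersion.isAffine_surjective_of_isAffine (liftMap φ n)).2
  refine surjective_of_generators (φ.app i).appTop.hom (DY.map n).appTop.hom
    (φ.app l).appTop.hom (DX.map n).appTop.hom (liftMap φ n).appTop.hom
    (pullback.fst (φ.app i) (DY.map n)).appTop.hom (pullback.snd (φ.app i) (DY.map n)).appTop.hom
    ?_ ?_ ?_ (closure_range_appTop_fst_union_snd φ n) hψs G hG hn
  · rw [← CommRingCat.hom_comp, ← CommRingCat.hom_comp, appTop_naturality]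
  · rw [← CommRingCat.hom_comp, ← Scheme.Hom.comp_appTop, pullback.lift_fst]
  · rw [← CommRingCat.hom_comp, ← Scheme.Hom.comp_appTop, pullback.lift_snd]

include hX hY hf in
/-- Finite morphisms descend between systems of affine schemes. -/
theorem exists_isFinite_of_isAffine (i : I) [LocallyOfFiniteType (φ.app i)]
    (hl : ∀ (j k : I) (m : k ⟶ j), IsFinite (liftMap φ m)) [IsIntegralHom f] :
    ∃ (k : I) (_ : k ⟶ i), IsFinite (φ.app k) := by
  classical
  have : IsAffine cX.pt := Scheme.isAffine_of_isLimit _ hX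
  have : IsAffine cY.pt := Scheme.isAffine_of_isLimit _ hY
  have hint := ((HasAffineProperty.iff_of_isAffine (P := @IsIntegralHom) (f := f)).mp inferInstance).2
  obtain ⟨G, hGf, hG⟩ := exists_finite_closure_eq_top _
    ((HasRingHomProperty.iff_of_isAffine (P := @LocallyOfFiniteType)).mp
      (inferInstance : LocallyOfFiniteType (φ.app i)))
  obtain ⟨l, n, hn⟩ := exists_forall_mem_of_finite
    (fun g ⦃k⦄ (m : k ⟶ i) ↦ (φ.app k).appTop.hom.IsIntegralElem ((DX.map m).appTop g))
    (fun g k l m q ⟨p, hp, hpe⟩ ↦ ⟨p.map (DY.map q).appTop.hom, hp.map _, by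
      rw [Polynomial.eval₂_map, ← CommRingCat.hom_comp, ← appTop_naturality, CommRingCat.hom_comp,
        appTop_map_comp, ← Polynomial.hom_eval₂, hpe, map_zero]⟩)
    hGf fun g _ ↦ exists_isIntegralElem_appTop φ hX hY f hf i g (hint _)
  refine ⟨l, n, (HasAffineProperty.iff_of_isAffine (P := @IsFinite)).mpr ⟨inferInstance, ?_⟩⟩
  have hψ := hl i l n
  have : IsAffine (pullback (φ.app i) (DY.map n)) := inferInstance
  have hψs := ((HasAffineProperty.iff_of_isAffine (P := @IsFinite)).mp hψ).2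
  refine finite_of_generators (φ.app i).appTop.hom (DY.map n).appTop.hom
    (φ.app l).appTop.hom (DX.map n).appTop.hom (liftMap φ n).appTop.hom
    (pullback.fst (φ.app i) (DY.map n)).appTop.hom (pullback.snd (φ.app i) (DY.map n)).appTop.hom
    ?_ ?_ ?_ (closure_range_appTop_fst_union_snd φ n) hψs G hGf hG hn
  · rw [← CommRingCat.hom_comp, ← CommRingCat.hom_comp, appTop_naturality]
  · rw [← CommRingCat.hom_comp, ← Scheme.Hom.comp_appTop, pullback.lift_fst]
  · rw [← CommRingCat.hom_comp, ← Scheme.Hom.comp_appTop, pullback.lift_snd]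

end Groth.Limits
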