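import Groth.Agent.Limits.TopLimit
import Groth.Agent.Limits.Descend
import Groth.Agent.Limits.DescentAffine
import Mathlib.Topology.NoetherianSpace
import Mathlib.Topology.Sober
import Mathlib.AlgebraicGeometry.Properties

/-!
# Irreducible and connected components along limits with dense projections
-/

universe u

open CategoryTheory Limits AlgebraicGeometry Topology TopologicalSpace

namespace Groth.Limits

section Topology

variable {X Y : Type*} [TopologicalSpace X] [TopologicalSpace Y]

theorem exists_isGenericPoint_irreducibleComponent [QuasiSober X] {Z : Set X}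
    (hZ : Z ∈ irreducibleComponents X) : ∃ η, IsGenericPoint η Z :=
  QuasiSober.sober hZ.1 (isClosed_of_mem_irreducibleComponents Z hZ)

/-- Components of the closure of the image of a space with finitely many components. -/
theorem bijOn_irreducibleComponents_of_not_specializes [QuasiSober X] [QuasiSober Y]
    (hfin : (irreducibleComponents X).Finite) (f : X → Y) (hf : Continuous f) (hd : DenseRange f)
    (hsep : ∀ Z ∈ irreducibleComponents X, ∀ Z' ∈ irreducibleComponents X, ∀ η η',
      IsGenericPoint η Z → IsGenericPoint η' Z' → f η ⤳ f η' → Z = Z') :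
    Set.BijOn (fun Z : Set X ↦ closure (f '' Z)) (irreducibleComponents X)
      (irreducibleComponents Y) := by
  have hcl {Z : Set X} {η : X} (hη : IsGenericPoint η Z) : closure (f '' Z) = closure {f η} := by
    rw [← hη.def, closure_image_closure hf, Set.image_singleton]
  have hcover : (⋃ Z ∈ irreducibleComponents X, closure (f '' Z)) = Set.univ := by
    refine Set.eq_univ_of_univ_subset ?_
    rw [← hd.closure_range]
    refine closure_minimal ?_ (hfin.isClosed_biUnion fun Z _ ↦ isClosed_closure)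
    rintro _ ⟨x, rfl⟩
    exact Set.mem_biUnion (irreducibleComponent_mem_irreducibleComponents x)
      (subset_closure ⟨x, mem_irreducibleComponent, rfl⟩)
  have hirr {Z : Set X} (hZ : Z ∈ irreducibleComponents X) : IsIrreducible (closure (f '' Z)) :=
    (hZ.1.image f hf.continuousOn).closure
  have hle {W : Set Y} (hW : W ∈ irreducibleComponents Y) :
      ∃ Z ∈ irreducibleComponents X, W = closure (f '' Z) := by
    obtain ⟨ζ, hζ⟩ := exists_isGenericPoint_irreducibleComponent hW
    obtain ⟨Z, hZ, hζZ⟩ := Set.mem_iUnion₂.mp (hcover.ge (Set.mem_univ ζ))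
    have h1 : W ⊆ closure (f '' Z) := by
      rw [← hζ.def]
      exact closure_minimal (Set.singleton_subset_iff.mpr hζZ) isClosed_closure
    exact ⟨Z, hZ, Set.Subset.antisymm h1 (hW.2 (hirr hZ) h1)⟩
  have hmax {Z : Set X} (hZ : Z ∈ irreducibleComponents X) :
      closure (f '' Z) ∈ irreducibleComponents Y := by
    obtain ⟨η, hη⟩ := exists_isGenericPoint_irreducibleComponent hZ
    have hmem : f η ∈ closure (f '' Z) := subset_closure ⟨η, hη.mem, rfl⟩
    obtain ⟨W, hW, hsub⟩ := exists_mem_irreducibleComponents_subset_of_isIrreducible _ (hirr hZ)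
    obtain ⟨Z', hZ', hW'⟩ := hle hW
    obtain ⟨η', hη'⟩ := exists_isGenericPoint_irreducibleComponent hZ'
    have : Z' = Z := hsep Z' hZ' Z hZ η' η hη' hη (specializes_iff_mem_closure.mpr (by
      rw [← hcl hη', ← hW']
      exact hsub hmem))
    rw [← this, ← hW']
    exact hW
  refine ⟨fun Z hZ ↦ hmax hZ, fun Z hZ Z' hZ' h ↦ ?_, fun W hW ↦ ?_⟩
  · obtain ⟨η, hη⟩ := exists_isGenericPoint_irreducibleComponent hZ
    obtain ⟨η', hη'⟩ := exists_isGenericPoint_irreducibleComponent hZ'
    refine hsep Z hZ Z' hZ' η η' hη hη' (specializes_iff_mem_closure.mpr ?_)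
    rw [← hcl hη]
    simp only at h
    rw [h]
    exact subset_closure ⟨η', hη'.mem, rfl⟩
  · obtain ⟨Z, hZ, rfl⟩ := hle hW
    exact ⟨Z, hZ, rfl⟩

/-- A space with finitely many irreducible components has finitely many connected components. -/
theorem finite_range_connectedComponent (hfin : (irreducibleComponents X).Finite) :
    (Set.range (connectedComponent : X → Set X)).Finite := by
  have : ∀ Z ∈ irreducibleComponents X, ∃ x, x ∈ Z := fun Z hZ ↦ hZ.1.nonempty
  choose p hp using this
  have := hfin.to_subtype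
  refine (Set.finite_range
    (fun Z : irreducibleComponents X ↦ connectedComponent (p Z.1 Z.2))).subset ?_
  rintro _ ⟨x, rfl⟩
  refine ⟨⟨_, irreducibleComponent_mem_irreducibleComponents x⟩, connectedComponent_eq ?_⟩
  exact isIrreducible_irreducibleComponent.isConnected.isPreconnected.subset_connectedComponent
    (hp _ _) mem_irreducibleComponent

theorem isOpen_connectedComponent_of_finite (h : (Set.range (connectedComponent : X → Set X)).Finite)
    (x : X) : IsOpen (connectedComponent x) := by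
  have : connectedComponent x =
      (⋃ C ∈ (Set.range (connectedComponent : X → Set X)) \ {connectedComponent x}, C)ᶜ := by
    ext y
    simp only [Set.mem_compl_iff, Set.mem_iUnion, not_exists]
    refine ⟨fun hy C hC hyC ↦ ?_, fun hy ↦ ?_⟩
    · obtain ⟨⟨z, rfl⟩, hne⟩ := hC
      exact hne (by rw [Set.mem_singleton_iff, connectedComponent_eq hyC, connectedComponent_eq hy])
    · by_contra hyx
      refine hy (connectedComponent y) ⟨⟨y, rfl⟩, fun hh ↦ hyx ?_⟩ mem_connectedComponent
      rw [Set.mem_singleton_iff] at hh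
      exact hh ▸ mem_connectedComponent
  rw [this]
  refine ((h.subset Set.sdiff_subset).isClosed_biUnion fun C hC ↦ ?_).isOpen_compl
  obtain ⟨⟨z, rfl⟩, -⟩ := hC
  exact isClosed_connectedComponent

end Topology

variable {I : Type u} [Category.{u} I] [IsCofiltered I] (D : I ⥤ Scheme.{u})
  [∀ (i j : I) (f : i ⟶ j), IsAffineHom (D.map f)] (c : Cone D) (hc : IsLimit c)

include hc in
/-- Non-specializations in the limit are visible at a stage. -/
theorem exists_not_specializes {x y : c.pt} (h : ¬ x ⤳ y) :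
    ∃ j : I, ∀ (k : I) (_ : k ⟶ j), ¬ c.π.app k x ⤳ c.π.app k y := by
  rw [specializes_iff_forall_open] at h
  push Not at h
  obtain ⟨U, hU, hy, hx⟩ := h
  obtain ⟨j, V, hyV, hVU⟩ := exists_preimage_π_subset_of_isOpen D c hc hU hy
  refine ⟨j, fun k m hk ↦ hx (hVU x ?_)⟩
  have := (hk.map (D.map m).continuous).mem_open V.isOpen (by rwa [π_map_apply D c m])
  rwa [π_map_apply D c m] at this

include hc in
/-- With dense projections, components of a stage are the closures of images of those of the limit. -/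
theorem exists_bijOn_irreducibleComponents [NoetherianSpace c.pt] (i₀ : I)
    (hd : ∀ (j : I) (_ : j ⟶ i₀), DenseRange (c.π.app j)) :
    ∃ (i : I) (_ : i ⟶ i₀), ∀ (j : I) (_ : j ⟶ i),
      Set.BijOn (fun Y : Set c.pt => closure (⇑(c.π.app j) '' (Y : Set c.pt) : Set (D.obj j)))
        (irreducibleComponents c.pt) (irreducibleComponents (D.obj j)) := by
  classical
  have hfin := NoetherianSpace.finite_irreducibleComponents (α := c.pt)
  obtain ⟨i, a, hi⟩ := exists_forall_mem_of_finite (G := irreducibleComponents c.pt ×ˢ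
      irreducibleComponents c.pt)
    (fun (p : Set c.pt × Set c.pt) ⦃k⦄ (_ : k ⟶ i₀) ↦ ∀ (l : I) (_ : l ⟶ k) η η', IsGenericPoint η p.1 →
      IsGenericPoint η' p.2 → c.π.app l η ⤳ c.π.app l η' → p.1 = p.2)
    (fun p k l m q h n r ↦ h n (r ≫ q))
    (hfin.prod hfin) (fun p hp ↦ by
      by_cases hpe : p.1 = p.2
      · exact ⟨i₀, 𝟙 _, fun _ _ _ _ _ _ _ ↦ hpe⟩
      · obtain ⟨η, hη⟩ := exists_isGenericPoint_irreducibleComponent hp.1
        obtain ⟨η', hη'⟩ := exists_isGenericPoint_irreducibleComponent hp.2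
        have hns : ¬ η ⤳ η' := fun h ↦ hpe <| Set.Subset.antisymm (hp.2.2 hp.1.1 (by
          rw [← hη.def, ← hη'.def]; exact specializes_iff_closure_subset.mp h)) (by
          rw [← hη.def, ← hη'.def]; exact specializes_iff_closure_subset.mp h)
        obtain ⟨j, hj⟩ := exists_not_specializes D c hc hns
        obtain ⟨k, f, g, -⟩ := IsCofilteredOrEmpty.cone_objs j i₀
        refine ⟨k, g, fun l r ζ ζ' hζ hζ' hsp ↦ absurd ?_ (hj l (r ≫ f))⟩
        rwa [hη.eq hζ, hη'.eq hζ'])
  refine ⟨i, a, fun j b ↦ bijOn_irreducibleComponents_of_not_specializes hfin _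
    (c.π.app j).continuous (hd j (b ≫ a)) fun Z hZ Z' hZ' η η' hη hη' h ↦ ?_⟩
  exact hi (Z, Z') ⟨hZ, hZ'⟩ j b η η' hη hη' h

include hc in
/-- A finite clopen partition of the limit comes from one of a stage. -/
theorem exists_clopen_partition {κ : Type*} [Finite κ] (C : κ → Set c.pt)
    (hC : ∀ a, IsOpen (C a)) (hdis : ∀ a b, a ≠ b → Disjoint (C a) (C b))
    (hcov : ⋃ a, C a = Set.univ) (i₀ : I) [CompactSpace (D.obj i₀)]
    (hd : ∀ (j : I) (_ : j ⟶ i₀), DenseRange (c.π.app j)) :
    ∃ (i : I) (_ : i ⟶ i₀), ∀ (j : I) (_ : j ⟶ i), ∃ W : κ → Set (D.obj j),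
      (∀ a, IsOpen (W a)) ∧ (∀ a b, a ≠ b → Disjoint (W a) (W b)) ∧ (⋃ a, W a = Set.univ) ∧
      ∀ a, c.π.app j ⁻¹' W a = C a := by
  classical
  have := compactSpace_pt D c hc (i := i₀)
  have hcl (a : κ) : IsClosed (C a) := by
    refine ⟨?_⟩
    have : (C a)ᶜ = ⋃ b : {b // b ≠ a}, C b.1 := by
      ext x
      simp only [Set.mem_compl_iff, Set.mem_iUnion, Subtype.exists, exists_prop]
      constructor
      · intro hx
        obtain ⟨b, hb⟩ := Set.mem_iUnion.mp (hcov.ge (Set.mem_univ x))
        exact ⟨b, fun h ↦ hx (h ▸ hb), hb⟩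
      · rintro ⟨b, hne, hb⟩ hx
        exact Set.disjoint_left.mp (hdis b a hne) hb hx
    rw [this]
    exact isOpen_iUnion fun b ↦ hC b.1
  have key (a : κ) := exists_isCompact_preimage_eq D c hc i₀ ⟨C a, hC a⟩ (hcl a).isCompact
  choose k m V hV hVC using key
  cases nonempty_fintype κ
  obtain ⟨l, hl⟩ := IsCofiltered.inf_objs_exists (insert i₀ (Finset.univ.image k))
  let n : l ⟶ i₀ := (hl (Finset.mem_insert_self _ _)).some
  let r (a : κ) : l ⟶ k a :=
    (hl (Finset.mem_insert_of_mem (Finset.mem_image_of_mem k (Finset.mem_univ a)))).some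
  have := compactSpace_obj D n
  let U : Set (D.obj l) := ⋃ a, ⇑(D.map (r a)) ⁻¹' (V a : Set (D.obj (k a)))
  have hU : IsOpen U := isOpen_iUnion fun a ↦ (V a).isOpen.preimage (D.map (r a)).continuous
  have hUtop : ⇑(c.π.app l) ⁻¹' Uᶜ = ∅ := by
    have h1 : ∀ a, ⇑(c.π.app l) ⁻¹' (⇑(D.map (r a)) ⁻¹' (V a : Set (D.obj (k a)))) = C a :=
      fun a ↦ (preimage_π D c (r a) _).trans (hVC a)
    simp only [U, Set.preimage_compl, Set.preimage_iUnion]
    rw [Set.iUnion_congr h1, hcov, Set.compl_univ]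
  obtain ⟨l', s, hs⟩ := exists_preimage_eq_empty D c hc
    (pc_of_isClosed hU.isClosed_compl).qcImage hUtop
  refine ⟨l', s ≫ n, fun j t ↦ ?_⟩
  let W (a : κ) : Set (D.obj j) := ⇑(D.map (t ≫ s ≫ r a)) ⁻¹' (V a : Set (D.obj (k a)))
  have hW (a : κ) : IsOpen (W a) := (V a).isOpen.preimage (D.map _).continuous
  have hWC (a : κ) : c.π.app j ⁻¹' W a = C a :=
    (preimage_π D c (t ≫ s ≫ r a) _).trans (hVC a)
  refine ⟨W, hW, fun a b hab ↦ Set.disjoint_iff_inter_eq_empty.mpr ?_, ?_, hWC⟩
  · by_contra hne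
    obtain ⟨x, hx⟩ := (hd j (t ≫ s ≫ n)).exists_mem_open ((hW a).inter (hW b))
      (Set.nonempty_iff_ne_empty.mpr hne)
    refine Set.disjoint_left.mp (hdis a b hab) ((hWC a).le hx.1) ((hWC b).le hx.2)
  · refine Set.eq_univ_of_forall fun x ↦ ?_
    have hx : D.map s (D.map t x) ∈ U := by
      by_contra hxU
      exact Set.eq_empty_iff_forall_notMem.mp hs (D.map t x) hxU
    obtain ⟨a, ha⟩ := Set.mem_iUnion.mp hx
    refine Set.mem_iUnion.mpr ⟨a, ?_⟩
    simpa [W, Functor.map_comp] using ha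

include hc in
/-- With dense projections, connected components of a stage come from those of the limit. -/
theorem exists_bijOn_connectedComponents [NoetherianSpace c.pt] (i₀ : I) [CompactSpace (D.obj i₀)]
    (hd : ∀ (j : I) (_ : j ⟶ i₀), DenseRange (c.π.app j)) :
    ∃ (i : I) (_ : i ⟶ i₀), ∀ (j : I) (_ : j ⟶ i),
      Set.BijOn (fun C : Set c.pt => closure (⇑(c.π.app j) '' (C : Set c.pt) : Set (D.obj j)))
        (Set.range (connectedComponent : c.pt → Set c.pt))
        (Set.range (connectedComponent : D.obj j → Set (D.obj j))) := by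
  classical
  have hfin := finite_range_connectedComponent (NoetherianSpace.finite_irreducibleComponents (α := c.pt))
  have := hfin.to_subtype
  let K := Set.range (connectedComponent : c.pt → Set c.pt)
  obtain ⟨i, a, hi⟩ := exists_clopen_partition D c hc (fun C : K ↦ C.1)
    (fun ⟨C, x, hx⟩ ↦ hx ▸ isOpen_connectedComponent_of_finite hfin x)
    (fun ⟨C, x, hx⟩ ⟨C', y, hy⟩ hne ↦ Set.disjoint_left.mpr fun z hz hz' ↦ hne (Subtype.ext (by
      subst hx hy
      exact (connectedComponent_eq hz).trans (connectedComponent_eq hz').symm)))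
    (Set.eq_univ_of_forall fun x ↦ Set.mem_iUnion.mpr ⟨⟨_, x, rfl⟩, mem_connectedComponent⟩)
    i₀ hd
  refine ⟨i, a, fun j b ↦ ?_⟩
  obtain ⟨W, hWo, hWd, hWc, hWp⟩ := hi j b
  have hden := hd j (b ≫ a)
  have hWclosed (C : K) : IsClosed (W C) := by
    rw [← isOpen_compl_iff]
    have : (W C)ᶜ = ⋃ C' : {C' // C' ≠ C}, W C'.1 := by
      ext x
      simp only [Set.mem_compl_iff, Set.mem_iUnion]
      constructor
      · intro hx
        obtain ⟨C', hC'⟩ := Set.mem_iUnion.mp (hWc.ge (Set.mem_univ x))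
        exact ⟨⟨C', fun h ↦ hx (h ▸ hC')⟩, hC'⟩
      · rintro ⟨⟨C', hne⟩, hC'⟩ hx
        exact Set.disjoint_left.mp (hWd C' C hne) hC' hx
    rw [this]
    exact isOpen_iUnion fun C' ↦ hWo C'.1
  -- the closure of the image of a component is the corresponding clopen piece
  have hclos (C : K) : closure (⇑(c.π.app j) '' C.1) = W C := by
    refine Set.Subset.antisymm (closure_minimal ?_ (hWclosed C)) fun x hx ↦ ?_
    · rintro _ ⟨s, hs, rfl⟩
      exact (hWp C).ge hs
    · rw [mem_closure_iff]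
      intro O hO hxO
      obtain ⟨s, hs⟩ := hden.exists_mem_open (hO.inter (hWo C)) ⟨x, hxO, hx⟩
      exact ⟨c.π.app j s, hs.1, s, (hWp C).le hs.2, rfl⟩
  have hcomp (C : K) (x : D.obj j) (hx : x ∈ W C) : connectedComponent x = W C := by
    refine Set.Subset.antisymm (IsClopen.connectedComponent_subset ⟨hWclosed C, hWo C⟩ hx) ?_
    obtain ⟨y, hy⟩ := C.2
    refine IsPreconnected.subset_connectedComponent ?_ hx
    rw [← hclos C, ← hy]
    exact (isPreconnected_connectedComponent.image _ (c.π.app j).continuous.continuousOn).closure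
  have hne (C : K) : ∃ s, s ∈ C.1 := by
    obtain ⟨y, hy⟩ := C.2
    exact ⟨y, hy ▸ mem_connectedComponent⟩
  refine ⟨fun C hC ↦ ?_, fun C hC C' hC' h ↦ ?_, ?_⟩
  · obtain ⟨s, hs⟩ := hne ⟨C, hC⟩
    refine ⟨c.π.app j s, ?_⟩
    rw [hcomp ⟨C, hC⟩ _ ((hWp ⟨C, hC⟩).ge hs)]
    exact (hclos ⟨C, hC⟩).symm
  · change closure (⇑(c.π.app j) '' C) = closure (⇑(c.π.app j) '' C') at h
    rw [hclos ⟨C, hC⟩, hclos ⟨C', hC'⟩] at h
    by_contra hne'
    obtain ⟨s, hs⟩ := hne ⟨C, hC⟩
    exact Set.disjoint_left.mp (hWd ⟨C, hC⟩ ⟨C', hC'⟩ fun e ↦ hne' (congrArg Subtype.val e))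
      ((hWp ⟨C, hC⟩).ge hs) (h.le ((hWp ⟨C, hC⟩).ge hs))
  · rintro _ ⟨x, rfl⟩
    obtain ⟨C, hC⟩ := Set.mem_iUnion.mp (hWc.ge (Set.mem_univ x))
    exact ⟨C.1, C.2, (hclos C).trans (hcomp C x hC).symm⟩

end Groth.Limits

namespace Groth.Limits

/-- Reducedness descends along flat surjective morphisms. -/
theorem isReduced_of_flat_surjective {X Y : Scheme.{u}} (f : X ⟶ Y) [Flat f] [Surjective f]
    [IsReduced X] : IsReduced Y := by
  have : ∀ y : Y, _root_.IsReduced (Y.presheaf.stalk y) := by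
    intro y
    obtain ⟨x, rfl⟩ := f.surjective y
    let g : Y.presheaf.stalk (f x) →+* X.presheaf.stalk x := (f.stalkMap x).hom
    have hred : _root_.IsReduced (X.presheaf.stalk x) := inferInstance
    algebraize [g]
    have : RingHom.FaithfullyFlat g :=
      @Module.FaithfullyFlat.of_flat_of_isLocalHom _ _ _ _ _ _ _
        (Flat.stalkMap f x) (f.toLRSHom.prop x)
    exact isReduced_of_injective g this.injective
  exact isReduced_of_isReduced_stalk _

variable {I : Type u} [Category.{u} I] [IsCofiltered I] (D : I ⥤ Scheme.{u})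
  [∀ (i j : I) (f : i ⟶ j), IsAffineHom (D.map f)] (c : Cone D) (hc : IsLimit c)

include hc in
/-- For a system of embeddings with Noetherian stage, the projections are eventually dense. -/
theorem exists_denseRange_π_of_isEmbedding (i₀ : I) [NoetherianSpace (D.obj i₀)]
    (he : ∀ (i j : I) (φ : i ⟶ j), Topology.IsEmbedding ⇑(D.map φ)) :
    ∃ (i : I) (_ : i ⟶ i₀), ∀ (j : I) (_ : j ⟶ i), DenseRange (c.π.app j) := by
  let U : (D.obj i₀).Opens := ⟨(closure (Set.range (c.π.app i₀)))ᶜ, isClosed_closure.isOpen_compl⟩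
  obtain ⟨i, a, ha⟩ := exists_preimage_eq_empty D c hc
    (qcImage_isOpen_isCompact D U (NoetherianSpace.isCompact _))
    (Set.eq_empty_iff_forall_notMem.mpr fun s hs ↦ hs (subset_closure ⟨s, rfl⟩))
  refine ⟨i, a, fun j b x ↦ ?_⟩
  have hx : D.map (b ≫ a) x ∈ closure (Set.range (c.π.app i₀)) := by
    by_contra hx
    exact Set.eq_empty_iff_forall_notMem.mp ha (D.map b x) (by
      show D.map a (D.map b x) ∈ U
      rw [← Scheme.Hom.comp_apply, ← D.map_comp]
      exact hx)
  rw [(he j i₀ (b ≫ a)).toIsInducing.closure_eq_preimage_closure_image, Set.mem_preimage]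
  refine closure_mono ?_ hx
  rintro _ ⟨s, rfl⟩
  exact ⟨c.π.app j s, ⟨s, rfl⟩, π_map_apply D c _ s⟩

end Groth.Limits
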