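import Groth.Agent.Limits.ApproxLimit

/-!
# Noetherian approximation relative to a quasi-compact open

A system of schemes of finite type over `ℤ` on a quasi-compact open of a quasi-compact
quasi-separated scheme extends to the whole scheme; in particular every quasi-compact
quasi-separated scheme is a limit of schemes of finite type over `ℤ`.
-/

set_option backward.isDefEq.respectTransparency false

universe u

open CategoryTheory Limits AlgebraicGeometry Opposite TopologicalSpace

namespace Groth.Limits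

theorem ZSystem.compactSpace {X : Scheme.{u}} (A : ZSystem X) : CompactSpace X :=
  have : ∀ i, CompactSpace (A.D.obj i) := A.compact
  Scheme.compactSpace_of_isLimit A.D A.cone A.isLimit

/-- One step: adding an affine open. -/
theorem exists_extension_step {S : Scheme.{u}} [QuasiSeparatedSpace S] (V U : S.Opens)
    (hU : IsAffineOpen U) (hVU : V ⊔ U = ⊤) (A : ZSystem V.toScheme) :
    ∃ B : ZSystem S, Nonempty (ZExtension V.ι A B) := by
  have := A.compactSpace
  obtain ⟨d⟩ := exists_stepData V U (isCompact_iff_compactSpace.mpr this) hU A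
  exact ⟨d.system hVU, ⟨d.extension hVU⟩⟩

theorem exists_extension_aux : ∀ (n : ℕ) {V S : Scheme.{u}} [QuasiSeparatedSpace S] (v : V ⟶ S)
    [IsOpenImmersion v] (A : ZSystem V) (W : Fin n → S.Opens), (∀ l, IsAffineOpen (W l)) →
    v.opensRange ⊔ ⨆ l, W l = ⊤ → ∃ B : ZSystem S, Nonempty (ZExtension v A B)
  | 0, V, S, _, v, _, A, W, _, hcov => by
    have : IsIso v := isIso_of_isOpenImmersion_of_opensRange_eq_top v (by simpa using hcov)
    exact ⟨(ZExtension.ofIso (asIso v) A).1, ⟨(ZExtension.ofIso (asIso v) A).2⟩⟩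
  | n + 1, V, S, _, v, _, A, W, hW, hcov => by
    let O : S.Opens := v.opensRange ⊔ W 0
    let V' : O.toScheme.Opens := O.ι ⁻¹ᵁ v.opensRange
    let U' : O.toScheme.Opens := O.ι ⁻¹ᵁ W 0
    have : QuasiSeparatedSpace O.toScheme := .of_isOpenEmbedding O.ι.isOpenEmbedding
    have hU' : IsAffineOpen U' := (hW 0).preimage_of_isOpenImmersion O.ι
      (by rw [Scheme.Opens.opensRange_ι]; exact le_sup_right)
    have hVU : V' ⊔ U' = ⊤ := by
      rw [← Scheme.Hom.preimage_sup]
      exact Scheme.Opens.ι_preimage_self O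
    have hr : Set.range (V'.ι ≫ O.ι) = Set.range v := by
      rw [Scheme.Hom.comp_base, TopCat.coe_comp, Set.range_comp, Scheme.Opens.range_ι]
      show ⇑O.ι '' (⇑O.ι ⁻¹' Set.range v) = Set.range v
      rw [Set.image_preimage_eq_inter_range, Scheme.Opens.range_ι]
      exact Set.inter_eq_left.2 fun x hx ↦ Or.inl hx
    let e : V ≅ V'.toScheme := IsOpenImmersion.isoOfRangeEq v (V'.ι ≫ O.ι) hr.symm
    have he : e.hom ≫ V'.ι ≫ O.ι = v := IsOpenImmersion.lift_fac _ _ _
    obtain ⟨B₁, ⟨x₁⟩⟩ := exists_extension_step V' U' hU' hVU (ZExtension.ofIso e A).1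
    let x₀ : ZExtension (e.hom ≫ V'.ι) A B₁ := (ZExtension.ofIso e A).2.comp x₁
    obtain ⟨B, ⟨x₂⟩⟩ := exists_extension_aux n O.ι B₁ (fun l ↦ W l.succ) (fun l ↦ hW _) (by
      rw [Scheme.Opens.opensRange_ι, eq_top_iff, ← hcov]
      refine sup_le (le_sup_of_le_left le_sup_left) (iSup_le fun l ↦ ?_)
      refine Fin.cases (le_sup_of_le_left le_sup_right) (fun l' ↦ ?_) l
      exact le_sup_of_le_right (le_iSup (fun i : Fin n ↦ W i.succ) l'))
    have hv : (e.hom ≫ V'.ι) ≫ O.ι = v := (Category.assoc _ _ _).trans he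
    exact ⟨B, ⟨hv ▸ x₀.comp x₂⟩⟩

/-- Noetherian approximation relative to a quasi-compact open. -/
theorem exists_extension {V S : Scheme.{u}} [CompactSpace S] [QuasiSeparatedSpace S] (v : V ⟶ S)
    [IsOpenImmersion v] (A : ZSystem V) : ∃ B : ZSystem S, Nonempty (ZExtension v A B) := by
  classical
  obtain ⟨t, ht⟩ := isCompact_univ.elim_finite_subcover (fun W : S.affineOpens ↦ (W.1 : Set S))
    (fun W ↦ W.1.2) (fun x _ ↦ by
      obtain ⟨_, ⟨W, hW, rfl⟩, hx, -⟩ :=
        S.isBasis_affineOpens.exists_subset_of_mem_open (Set.mem_univ x) isOpen_univ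
      exact Set.mem_iUnion.mpr ⟨⟨W, hW⟩, hx⟩)
  refine exists_extension_aux t.card v A (fun l ↦ (t.equivFin.symm l).1.1)
    (fun l ↦ (t.equivFin.symm l).1.2) (eq_top_iff.2 fun x _ ↦ Or.inr ?_)
  obtain ⟨W, hW, hx⟩ := Set.mem_iUnion₂.mp (ht (Set.mem_univ x))
  exact Opens.mem_iSup.mpr ⟨t.equivFin ⟨W, hW⟩, by simpa using hx⟩

/-- Absolute Noetherian approximation. -/
theorem exists_zsystem (S : Scheme.{u}) [CompactSpace S] [QuasiSeparatedSpace S] :
    Nonempty (ZSystem S) := by
  have hO : IsEmpty (⊥ : S.Opens).toScheme := ⟨fun x ↦ x.2⟩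
  obtain ⟨B, -⟩ := exists_extension (⊥ : S.Opens).ι (ZSystem.ofIsEmpty _)
  exact ⟨B⟩

end Groth.Limits

namespace Groth.Limits

open CategoryTheory AlgebraicGeometry

/-- In a cartesian square of open immersions, the preimage of the range is the range. -/
theorem preimage_opensRange_of_isPullback {P X Y Z : Scheme.{u}} {fst : P ⟶ X} {snd : P ⟶ Y}
    {f : X ⟶ Z} {g : Y ⟶ Z} [IsOpenImmersion f] [IsOpenImmersion snd]
    (h : IsPullback fst snd f g) : g ⁻¹ᵁ f.opensRange = snd.opensRange := by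
  ext y
  constructor
  · rintro ⟨x, hxy⟩
    obtain ⟨p, hp, -⟩ := Scheme.Pullback.exists_preimage_pullback y x hxy.symm
    refine ⟨h.flip.isoPullback.inv p, ?_⟩
    rw [← Scheme.Hom.comp_apply, h.flip.isoPullback_inv_fst, hp]
  · rintro ⟨p, rfl⟩
    refine ⟨fst p, ?_⟩
    rw [← Scheme.Hom.comp_apply, h.w, Scheme.Hom.comp_apply]

end Groth.Limits
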