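import Groth.Agent.Limits.RelApproxCor
import Groth.Agent.Flatmor4.ThickFT
import Mathlib.AlgebraicGeometry.Morphisms.Finite

/-!
# Integral morphisms are limits of finite morphisms of finite presentation
-/

set_option backward.isDefEq.respectTransparency false
set_option backward.defeqAttrib.useBackward true

universe u

open CategoryTheory Limits AlgebraicGeometry Opposite TopologicalSpace

namespace Groth.Limits

/-- Pulling back keeps ideal sheaves of finite type. -/
theorem fg_comap {X Y : Scheme.{u}} (t : X ⟶ Y) (Q : Y.IdealSheafData)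
    (hQ : ∀ U : Y.affineOpens, (Q.ideal U).FG) (U : X.affineOpens) : ((Q.comap t).ideal U).FG := by
  have : LocallyOfFinitePresentation Q.subschemeι :=
    Groth.Flatmor4.lfp_of_ker_fg Q.subschemeι (by simpa using hQ)
  have : LocallyOfFinitePresentation (Q.comap t).subschemeι := by
    rw [← Scheme.IdealSheafData.comapIso_hom_fst]; infer_instance
  simpa using Groth.Flatmor4.ker_fg_of_lfp (Q.comap t).subschemeι U

namespace RelSystem

variable {X S : Scheme.{u}} {f : X ⟶ S} (R : RelSystem f)

/-- Finite closed subschemes of finite presentation of the stages containing `X`. -/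
structure FiniteIndex where
  /-- The stage. -/
  i : R.I
  /-- The ideal. -/
  Q : (R.D.obj (op i)).left.IdealSheafData
  fg : ∀ U, (Q.ideal U).FG
  le_ker : Q ≤ (R.π.app (op i)).left.ker
  isFinite : IsFinite (Q.subschemeι ≫ (R.D.obj (op i)).hom)

namespace FiniteIndex

variable {R}

/-- The transition map of the ambient stages. -/
noncomputable abbrev tr {i j : R.I} (h : i ≤ j) :
    (R.D.obj (op j)).left ⟶ (R.D.obj (op i)).left :=
  (R.D.map (homOfLE h).op).left

theorem π_tr {i j : R.I} (h : i ≤ j) :
    (R.π.app (op j)).left ≫ tr h = (R.π.app (op i)).left :=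
  congrArg CommaMorphism.left (R.cone.w (homOfLE h).op)

theorem tr_comp {i j k : R.I} (h : i ≤ j) (h' : j ≤ k) :
    tr (R := R) h' ≫ tr h = tr (h.trans h') := by
  rw [tr, tr, ← Over.comp_left, ← R.D.map_comp]
  rfl

theorem tr_refl (i : R.I) : tr (R := R) (le_refl i) = 𝟙 _ := by
  rw [tr, show (homOfLE (le_refl i)).op = 𝟙 (op i) from rfl, R.D.map_id, Over.id_left]

instance : Preorder R.FiniteIndex where
  le a b := ∃ h : a.i ≤ b.i, a.Q.comap (tr h) ≤ b.Q
  le_refl a := ⟨le_rfl, by rw [tr_refl, Scheme.IdealSheafData.comap_id]⟩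
  le_trans a b c := by
    rintro ⟨h, e⟩ ⟨h', e'⟩
    refine ⟨h.trans h', ?_⟩
    rw [← tr_comp h h', Scheme.IdealSheafData.comap_comp]
    exact (Scheme.IdealSheafData.comap_mono _ e).trans e'

theorem comap_le_ker {i j : R.I} (h : i ≤ j) {Q : (R.D.obj (op i)).left.IdealSheafData}
    (hQ : Q ≤ (R.π.app (op i)).left.ker) : Q.comap (tr h) ≤ (R.π.app (op j)).left.ker := by
  rw [← Scheme.IdealSheafData.le_map_iff_comap_le, Scheme.IdealSheafData.map_ker, π_tr]
  exact hQ

end FiniteIndex

variable [IsIntegralHom f] [CompactSpace S] [QuasiSeparatedSpace S]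

/-- Every affine stage contains a finite closed subscheme of finite presentation containing `X`. -/
theorem exists_finiteIndex (i : R.I) (hi : IsAffineHom (R.D.obj (op i)).hom) :
    ∃ a : R.FiniteIndex, a.i = i := by
  let p := (R.D.obj (op i)).hom
  let j := (R.π.app (op i)).left
  have := R.locallyOfFinitePresentation (op i)
  have hj : j ≫ p = f := Over.w (R.π.app (op i))
  have : IsIntegralHom (j ≫ p) := by rw [hj]; infer_instance
  have : IsIntegralHom j := IsIntegralHom.of_comp j p
  have : IsIntegralHom (j.toImage ≫ j.imageι) := by rw [Scheme.Hom.toImage_imageι]; infer_instance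
  have : IsIntegralHom j.toImage := IsIntegralHom.of_comp j.toImage j.imageι
  have : Surjective j.toImage := by
    refine ⟨fun z ↦ ?_⟩
    have hc : IsClosed (Set.range j.toImage) := j.toImage.isClosedMap.isClosed_range
    have hd : DenseRange j.toImage := IsDominant.denseRange
    exact (hc.closure_eq ▸ hd.closure_range).symm.subset (Set.mem_univ z)
  have : UniversallyClosed (j.toImage ≫ j.imageι ≫ p) := by
    rw [Scheme.Hom.toImage_imageι_assoc, hj]; infer_instance
  have : UniversallyClosed (j.imageι ≫ p) := UniversallyClosed.of_comp_surjective j.toImage _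
  have : IsIntegralHom (j.imageι ≫ p) :=
    IsIntegralHom.iff_universallyClosed_and_isAffineHom.2 ⟨inferInstance, inferInstance⟩
  have : IsFinite (j.imageι ≫ p) :=
    (IsFinite.iff_isIntegralHom_and_locallyOfFiniteType _).2 ⟨inferInstance, inferInstance⟩
  have : CompactSpace (R.D.obj (op i)).left := R.compact _
  have : QuasiSeparatedSpace (R.D.obj (op i)).left := quasiSeparatedSpace_of_quasiSeparated p
  obtain ⟨A⟩ := exists_zsystem (R.D.obj (op i)).left
  let D := idealSystem (A.stageIdeal j.imageι)
  let cc : Cone D := idealCone (A.stageIdeal_le j.imageι)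
  let R₀ : RelSystem j.imageι :=
    { I := A.I
      D := D
      π := cc.π
      isLimit := isLimitIdealCone (A.stageIdeal_le j.imageι) (A.ker_le_iSup_stageIdeal j.imageι)
      affine := fun a b m ↦ by
        have := isClosedImmersion_idealSystem_map (A.stageIdeal j.imageι) m
        infer_instance
      compact := fun a ↦ QuasiCompact.compactSpace_of_compactSpace (D.obj a).hom
      locallyOfFinitePresentation := fun a ↦
        A.locallyOfFinitePresentation_stageIdeal j.imageι a.unop
      quasiCompact := fun a ↦ inferInstance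
      quasiSeparated := fun a ↦ inferInstance }
  let R₁ := R₀.mapBase p
  have : ∀ (a b : R₁.Iᵒᵖ) (m : a ⟶ b), IsAffineHom (R₁.left.map m) := R₁.affine
  have hfin : ∀ (a b : R₁.Iᵒᵖ) (m : a ⟶ b), IsFinite (R₁.left.map m) := fun a b m ↦ by
    have : IsClosedImmersion (R₁.left.map m) :=
      isClosedImmersion_idealSystem_map (A.stageIdeal j.imageι) m
    infer_instance
  obtain ⟨a₀⟩ := A.nonempty
  have : IsIntegralHom (R₁.leftCone.π.app (op a₀) ≫ R₁.structureMap.app (op a₀)) := by
    rw [R₁.π_structureMap]; infer_instance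
  obtain ⟨k, hk⟩ := exists_isFinite_app R₁.structureMap R₁.isLimitLeftCone (op a₀) hfin
  let Q := A.stageIdeal j.imageι k.unop
  have := A.locallyOfFinitePresentation_stageIdeal j.imageι k.unop
  refine ⟨⟨i, Q, fun U ↦ ?_, (A.stageIdeal_le j.imageι k.unop).trans ?_, hk k (𝟙 k)⟩, rfl⟩
  · simpa using Groth.Flatmor4.ker_fg_of_lfp Q.subschemeι U
  · rw [Scheme.IdealSheafData.ker_subschemeι]

include R in
/-- An integral morphism is a limit of finite morphisms of finite presentation. -/
theorem exists_finite_fp_system : ∃ (I : Type u) (_ : Preorder I)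
    (_ : IsDirected I (fun a b => a ≤ b)) (_ : Nonempty I) (D : Iᵒᵖ ⥤ Over S) (c : Cone D)
    (_ : IsLimit c), (∀ i, IsFinite (D.obj i).hom ∧ LocallyOfFinitePresentation (D.obj i).hom) ∧
      Nonempty (c.pt ≅ Over.mk f) := by
  obtain ⟨i₁, hi₁⟩ := R.exists_isAffineHom
  have hdir : IsDirected R.FiniteIndex (fun a b => a ≤ b) := by
    refine ⟨fun a b ↦ ?_⟩
    obtain ⟨j, haj, hbj⟩ := exists_ge_ge a.i b.i
    obtain ⟨k, hjk, hk⟩ := exists_ge_ge j i₁
    obtain ⟨d, rfl⟩ := R.exists_finiteIndex k (hi₁ k hk)
    let Qa := a.Q.comap (FiniteIndex.tr (haj.trans hjk))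
    let Qb := b.Q.comap (FiniteIndex.tr (hbj.trans hjk))
    refine ⟨⟨d.i, Qa ⊔ Qb ⊔ d.Q, fun U ↦ ?_,
      sup_le (sup_le (FiniteIndex.comap_le_ker _ a.le_ker) (FiniteIndex.comap_le_ker _ b.le_ker))
        d.le_ker, ?_⟩, ⟨haj.trans hjk, le_sup_of_le_left le_sup_left⟩,
      ⟨hbj.trans hjk, le_sup_of_le_left le_sup_right⟩⟩
    · simp only [Scheme.IdealSheafData.ideal_sup, Pi.sup_apply]
      exact Submodule.FG.sup (Submodule.FG.sup (fg_comap _ _ a.fg U) (fg_comap _ _ b.fg U)) (d.fg U)
    · have hle : d.Q ≤ Qa ⊔ Qb ⊔ d.Q := le_sup_right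
      have := d.isFinite
      have : IsClosedImmersion (Scheme.IdealSheafData.inclusion hle) := by
        have : IsClosedImmersion (Scheme.IdealSheafData.inclusion hle ≫ d.Q.subschemeι) := by
          rw [Scheme.IdealSheafData.inclusion_subschemeι]; infer_instance
        exact IsClosedImmersion.of_comp _ d.Q.subschemeι
      rw [← Scheme.IdealSheafData.inclusion_subschemeι hle, Category.assoc]
      infer_instance
  have hne : Nonempty R.FiniteIndex := by
    obtain ⟨d, -⟩ := R.exists_finiteIndex i₁ (hi₁ i₁ le_rfl)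
    exact ⟨d⟩
  let pr : R.FiniteIndexᵒᵖ ⥤ R.Iᵒᵖ :=
    (Monotone.functor (f := fun a : R.FiniteIndex ↦ a.i) fun a b (h : a ≤ b) ↦ Exists.fst h).op
  have : pr.Initial := by
    refine Functor.initial_of_exists_of_isCofiltered _ (fun d ↦ ?_)
      fun {d c} s s' ↦ ⟨c, 𝟙 _, Subsingleton.elim _ _⟩
    obtain ⟨k, hk, hk'⟩ := exists_ge_ge d.unop i₁
    obtain ⟨a, rfl⟩ := R.exists_finiteIndex k (hi₁ k hk')
    exact ⟨op a, ⟨(homOfLE hk).op⟩⟩
  let le {a b : R.FiniteIndexᵒᵖ} (m : a ⟶ b) : b.unop.i ≤ a.unop.i :=
    Exists.fst (leOfHom m.unop)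
  let D : R.FiniteIndexᵒᵖ ⥤ Over S :=
    { obj := fun a ↦ Over.mk (a.unop.Q.subschemeι ≫ (R.D.obj (op a.unop.i)).hom)
      map := fun {a b} m ↦ Over.homMk
        (Scheme.IdealSheafData.subschemeMap a.unop.Q b.unop.Q (FiniteIndex.tr (le m))
          (Scheme.IdealSheafData.le_map_iff_comap_le.2 (Exists.snd (leOfHom m.unop)))) (by
          simp only [Over.mk_hom, Scheme.IdealSheafData.subschemeMap_subschemeι_assoc]
          exact congrArg (_ ≫ ·) (Over.w _))
      map_id := fun a ↦ by
        ext1
        rw [← cancel_mono a.unop.Q.subschemeι]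
        simp [FiniteIndex.tr_refl]
      map_comp := fun {a b d} m n ↦ by
        ext1
        rw [← cancel_mono d.unop.Q.subschemeι]
        simp [FiniteIndex.tr_comp] }
  let c : Cone D :=
    { pt := Over.mk f
      π :=
        { app := fun a ↦ Over.homMk
            (IsClosedImmersion.lift a.unop.Q.subschemeι (R.π.app (op a.unop.i)).left
              (by simpa using a.unop.le_ker))
            ((IsClosedImmersion.lift_fac_assoc _ _ _ _).trans (Over.w (R.π.app (op a.unop.i))))
          naturality := fun a b m ↦ by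
            ext1
            rw [← cancel_mono b.unop.Q.subschemeι]
            simp [D, FiniteIndex.π_tr] } }
  let η : D ⟶ pr ⋙ R.D :=
    { app := fun a ↦ Over.homMk a.unop.Q.subschemeι rfl
      naturality := fun a b m ↦ by
        ext1
        simp [D, pr]
        rfl }
  let hR := (Functor.Initial.isLimitWhiskerEquiv pr R.cone).symm R.isLimit
  have hη : ∀ a, c.π.app a ≫ η.app a = (R.cone.whisker pr).π.app a := fun a ↦ by
    ext1
    exact IsClosedImmersion.lift_fac _ _ _
  have hc : IsLimit c :=
    { lift := fun s ↦ hR.lift ((Cone.postcompose η).obj s)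
      fac := fun s a ↦ by
        have h1 := hR.fac ((Cone.postcompose η).obj s) a
        rw [← hη a] at h1
        have h2 := congrArg CommaMorphism.left h1
        ext1
        rw [← cancel_mono a.unop.Q.subschemeι]
        simpa [η] using h2
      uniq := fun s m hm ↦ hR.uniq ((Cone.postcompose η).obj s) m (fun a ↦ by
        rw [← hη a, ← Category.assoc, hm a]
        rfl) }
  refine ⟨R.FiniteIndex, inferInstance, hdir, hne, D, c, hc, fun a ↦ ⟨a.unop.isFinite, ?_⟩,
    ⟨Iso.refl _⟩⟩
  have := R.locallyOfFinitePresentation (op a.unop.i)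
  have : LocallyOfFinitePresentation a.unop.Q.subschemeι :=
    Groth.Flatmor4.lfp_of_ker_fg _ (by simpa using a.unop.fg)
  exact inferInstanceAs (LocallyOfFinitePresentation (_ ≫ _))

end RelSystem

end Groth.Limits
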