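import Groth.Agent.Limits.ApproxHom
import Groth.Agent.Limits.Approximation
import Groth.Agent.Limits.DescentStage
import Mathlib.CategoryTheory.Limits.Constructions.Over.Connected

/-!
# Relative Noetherian approximation

A morphism from a quasi-compact quasi-separated scheme to a quasi-separated scheme is a limit of
morphisms of finite presentation with affine transition morphisms.
-/

set_option backward.isDefEq.respectTransparency false
set_option backward.defeqAttrib.useBackward true

universe u

open CategoryTheory Limits AlgebraicGeometry Opposite TopologicalSpace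

namespace Groth.Limits

/-- An inverse system, over a nonempty directed set, of `S`-schemes of finite presentation with
affine transition maps, together with a limit cone on `f : X ⟶ S`. -/
structure RelSystem {X S : Scheme.{u}} (f : X ⟶ S) where
  /-- The index set. -/
  I : Type u
  [preorder : Preorder I]
  [directed : IsDirected I (fun a b => a ≤ b)]
  [nonempty : Nonempty I]
  /-- The system. -/
  D : Iᵒᵖ ⥤ Over S
  /-- The projections. -/
  π : (Functor.const Iᵒᵖ).obj (Over.mk f) ⟶ D
  /-- The cone is a limit. -/
  isLimit : IsLimit (Cone.mk (Over.mk f) π)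
  affine : ∀ (i j : Iᵒᵖ) (a : i ⟶ j), IsAffineHom (D.map a).left
  compact : ∀ i, CompactSpace (D.obj i).left
  locallyOfFinitePresentation : ∀ i, LocallyOfFinitePresentation (D.obj i).hom
  quasiCompact : ∀ i, QuasiCompact (D.obj i).hom
  quasiSeparated : ∀ i, QuasiSeparated (D.obj i).hom

attribute [instance] RelSystem.preorder RelSystem.directed RelSystem.nonempty

namespace RelSystem

variable {X S : Scheme.{u}} {f : X ⟶ S} (R : RelSystem f)

/-- The cone. -/
noncomputable abbrev cone : Cone R.D := Cone.mk (Over.mk f) R.π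

/-- The underlying system of schemes. -/
noncomputable abbrev left : R.Iᵒᵖ ⥤ Scheme.{u} := R.D ⋙ Over.forget S

/-- The underlying cone of schemes. -/
noncomputable abbrev leftCone : Cone R.left := (Over.forget S).mapCone R.cone

/-- The structure maps. -/
noncomputable def structureMap : R.left ⟶ (Functor.const R.Iᵒᵖ).obj S where
  app i := (R.D.obj i).hom
  naturality i j a := (Over.w (R.D.map a)).trans (Category.comp_id _).symm

theorem π_structureMap (i : R.Iᵒᵖ) : R.leftCone.π.app i ≫ R.structureMap.app i = f :=
  Over.w (R.π.app i)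

/-- The underlying cone of schemes is a limit. -/
noncomputable def isLimitLeftCone : IsLimit R.leftCone :=
  have : IsConnected R.Iᵒᵖ := IsCofiltered.isConnected _
  isLimitOfPreserves (Over.forget S) R.isLimit

theorem isAffineHom_left_map {i j : R.Iᵒᵖ} (a : i ⟶ j) : IsAffineHom (R.left.map a) :=
  R.affine i j a

theorem isAffineHom_π (i : R.Iᵒᵖ) : IsAffineHom (R.π.app i).left :=
  have : ∀ (i j : R.Iᵒᵖ) (a : i ⟶ j), IsAffineHom (R.left.map a) := R.affine
  isAffineHom_π_app R.left R.leftCone R.isLimitLeftCone i

/-- The inclusion of the indices above a given one. -/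
def aboveFunctor (i₀ : R.I) : (Set.Ici i₀)ᵒᵖ ⥤ R.Iᵒᵖ :=
  (Monotone.functor (f := fun i : Set.Ici i₀ ↦ (i : R.I)) fun _ _ h ↦ h).op

instance (i₀ : R.I) : IsDirected (Set.Ici i₀) (fun a b => a ≤ b) where
  directed a b := by
    obtain ⟨c, h₁, h₂⟩ := exists_ge_ge (a : R.I) b
    exact ⟨⟨c, le_trans a.2 h₁⟩, h₁, h₂⟩

instance (i₀ : R.I) : Nonempty (Set.Ici i₀) := ⟨⟨i₀, le_rfl⟩⟩

instance (i₀ : R.I) : (R.aboveFunctor i₀).Initial := by
  refine Functor.initial_of_exists_of_isCofiltered _ (fun d ↦ ?_)
    fun {d c} s s' ↦ ⟨c, 𝟙 _, Subsingleton.elim _ _⟩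
  obtain ⟨c, h₁, h₂⟩ := exists_ge_ge i₀ d.unop
  exact ⟨op ⟨c, h₁⟩, ⟨(homOfLE h₂).op⟩⟩

/-- The system above an index. -/
noncomputable def above (i₀ : R.I) : RelSystem f where
  I := Set.Ici i₀
  D := R.aboveFunctor i₀ ⋙ R.D
  π := (R.cone.whisker (R.aboveFunctor i₀)).π
  isLimit := (Functor.Initial.isLimitWhiskerEquiv (R.aboveFunctor i₀) R.cone).symm R.isLimit
  affine _ _ _ := R.affine _ _ _
  compact _ := R.compact _
  locallyOfFinitePresentation _ := R.locallyOfFinitePresentation _
  quasiCompact _ := R.quasiCompact _
  quasiSeparated _ := R.quasiSeparated _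

/-- The index in the whole system of an index above `i₀`. -/
theorem above_le (i₀ : R.I) (i : (R.above i₀).Iᵒᵖ) : i₀ ≤ ((R.aboveFunctor i₀).obj i).unop :=
  i.unop.2

end RelSystem

section qcqs

variable {X S : Scheme.{u}} (f : X ⟶ S) (B : ZSystem X) (A : ZSystem S)

variable {f B A}

theorem le_i {a b : (HomIndex f B A)ᵒᵖ} (h : a ⟶ b) : b.unop.i ≤ a.unop.i :=
  Exists.fst (leOfHom h.unop)

theorem le_j {a b : (HomIndex f B A)ᵒᵖ} (h : a ⟶ b) : b.unop.j ≤ a.unop.j :=
  Exists.fst (Exists.snd (leOfHom h.unop))

theorem comm {a b : (HomIndex f B A)ᵒᵖ} (h : a ⟶ b) :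
    a.unop.g ≫ A.trans (le_i h) = B.trans (le_j h) ≫ b.unop.g :=
  Exists.snd (Exists.snd (leOfHom h.unop))

variable (f B A)

/-- The stages of the relative approximation. -/
noncomputable def relDiagram : (HomIndex f B A)ᵒᵖ ⥤ Over S where
  obj a := Over.mk (pullback.snd a.unop.g (A.π.app (op a.unop.i)))
  map {a b} h := Over.homMk
    (pullback.map _ _ _ _ (B.trans (le_j h)) (𝟙 S) (A.trans (le_i h)) (comm h)
      ((A.π_trans (le_i h)).trans (Category.id_comp (A.π.app (op b.unop.i))).symm))
    (by simp)
  map_id a := by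
    ext1
    apply pullback.hom_ext <;> simp
  map_comp {a b c} h h' := by
    ext1
    apply pullback.hom_ext <;> simp [B.trans_comp]

/-- The projections. -/
noncomputable def relπ : (Functor.const (HomIndex f B A)ᵒᵖ).obj (Over.mk f) ⟶ relDiagram f B A where
  app a := Over.homMk (pullback.lift (B.π.app (op a.unop.j)) f a.unop.w) (pullback.lift_snd _ _ _)
  naturality a b h := by
    ext1
    apply pullback.hom_ext <;> simp [relDiagram]
    exact (B.π_trans (le_j h)).symm

/-- The first projections form a morphism of systems. -/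
noncomputable def relFst :
    relDiagram f B A ⋙ Over.forget S ⟶ HomIndex.toSource f B A ⋙ B.D where
  app a := pullback.fst _ _
  naturality a b h := pullback.lift_fst _ _ _

/-- The cone is a limit. -/
noncomputable def isLimitRelCone : IsLimit (Cone.mk (Over.mk f) (relπ f B A)) :=
  let hB := (Functor.Initial.isLimitWhiskerEquiv (HomIndex.toSource f B A) B.cone).symm B.isLimit
  let hA := (Functor.Initial.isLimitWhiskerEquiv (HomIndex.toTarget f B A) A.cone).symm A.isLimit
  { lift := fun s ↦ Over.homMk
      (hB.lift ((Cone.postcompose (relFst f B A)).obj ((Over.forget S).mapCone s)))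
      (hA.hom_ext fun a ↦ by
        have h1 := hB.fac ((Cone.postcompose (relFst f B A)).obj ((Over.forget S).mapCone s)) a
        have h2 : pullback.fst a.unop.g (A.π.app (op a.unop.i)) ≫ a.unop.g =
            pullback.snd _ _ ≫ A.π.app (op a.unop.i) := pullback.condition
        change (_ ≫ f) ≫ A.π.app (op a.unop.i) = s.pt.hom ≫ A.π.app (op a.unop.i)
        rw [Category.assoc, ← a.unop.w, ← Category.assoc]
        refine (congrArg (· ≫ a.unop.g) h1).trans ?_
        refine (Category.assoc _ _ _).trans ((congrArg ((s.π.app a).left ≫ ·) h2).trans ?_)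
        exact (Category.assoc _ _ _).symm.trans (congrArg (· ≫ _) (Over.w (s.π.app a))))
    fac := fun s a ↦ by
      ext1
      apply pullback.hom_ext
      · refine ((Category.assoc _ _ _).trans (congrArg (_ ≫ ·) (pullback.lift_fst _ _ _))).trans ?_
        exact hB.fac _ a
      · exact (Over.w (_ ≫ (relπ f B A).app a)).trans (Over.w (s.π.app a)).symm
    uniq := fun s m hm ↦ by
      ext1
      refine hB.hom_ext fun a ↦ ?_
      refine Eq.trans ?_
        (hB.fac ((Cone.postcompose (relFst f B A)).obj ((Over.forget S).mapCone s)) a).symm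
      change m.left ≫ B.π.app (op a.unop.j) = (s.π.app a).left ≫ pullback.fst _ _
      rw [← hm a]
      simp [relπ] }

/-- The relative approximation over a quasi-compact quasi-separated base. -/
noncomputable def relSystem [CompactSpace S] : RelSystem f where
  I := HomIndex f B A
  D := relDiagram f B A
  π := relπ f B A
  isLimit := isLimitRelCone f B A
  affine a b h := by
    have : IsAffineHom (A.π.app (op b.unop.i)) := isAffineHom_π_app _ _ A.isLimit _
    have : IsAffineHom (A.π.app (op a.unop.i)) := isAffineHom_π_app _ _ A.isLimit _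
    have : IsAffineHom (((relDiagram f B A).map h).left ≫
        pullback.fst b.unop.g (A.π.app (op b.unop.i))) := by
      rw [show ((relDiagram f B A).map h).left ≫ pullback.fst b.unop.g (A.π.app (op b.unop.i)) =
        pullback.fst _ _ ≫ B.trans (le_j h) from pullback.lift_fst _ _ _]
      have : IsAffineHom (B.trans (le_j h)) := B.affine _ _ _
      have : IsAffineHom (pullback.fst a.unop.g (A.π.app (op a.unop.i))) :=
        MorphismProperty.pullback_fst _ _ inferInstance
      infer_instance
    exact IsAffineHom.of_comp _ (pullback.fst b.unop.g (A.π.app (op b.unop.i)))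
  compact a := by
    have : CompactSpace (B.D.obj (op a.unop.j)) := B.compact _
    have : IsAffineHom (A.π.app (op a.unop.i)) := isAffineHom_π_app _ _ A.isLimit _
    exact QuasiCompact.compactSpace_of_compactSpace (pullback.fst a.unop.g (A.π.app (op a.unop.i)))
  locallyOfFinitePresentation a := by
    have : LocallyOfFiniteType
        (a.unop.g ≫ Limits.IsTerminal.from specULiftZIsTerminal (A.D.obj (op a.unop.i))) := by
      rw [show a.unop.g ≫ Limits.IsTerminal.from specULiftZIsTerminal (A.D.obj (op a.unop.i)) =
        Limits.IsTerminal.from specULiftZIsTerminal _ from specULiftZIsTerminal.hom_ext _ _]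
      exact B.locallyOfFiniteType _
    have := locallyOfFiniteType_of_comp a.unop.g
      (Limits.IsTerminal.from specULiftZIsTerminal (A.D.obj (op a.unop.i)))
    have : LocallyOfFinitePresentation a.unop.g :=
      LocallyOfFinitePresentation.iff_locallyOfFiniteType.2 this
    exact inferInstanceAs (LocallyOfFinitePresentation (pullback.snd _ _))
  quasiCompact a := inferInstanceAs (QuasiCompact (pullback.snd _ _))
  quasiSeparated a := inferInstanceAs (QuasiSeparated (pullback.snd _ _))

end qcqs

/-- Extend a system along a morphism of bases. -/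
noncomputable def RelSystem.mapBase {X U S : Scheme.{u}} {f : X ⟶ U} (R : RelSystem f) (v : U ⟶ S)
    [QuasiCompact v] [QuasiSeparated v] [LocallyOfFinitePresentation v] : RelSystem (f ≫ v) where
  I := R.I
  D := R.D ⋙ Over.map v
  π :=
    { app := fun i ↦ Over.homMk (R.π.app i).left (by simp)
      naturality := fun i j a ↦ by
        ext1
        simpa using congrArg CommaMorphism.left (R.π.naturality a) }
  isLimit :=
    have : IsConnected R.Iᵒᵖ := IsCofiltered.isConnected _
    isLimitOfReflects (Over.forget S) (IsLimit.ofIsoLimit R.isLimitLeftCone (Cone.ext (Iso.refl _)))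
  affine i j a := R.affine i j a
  compact i := R.compact i
  locallyOfFinitePresentation i := by
    have := R.locallyOfFinitePresentation i
    exact inferInstanceAs (LocallyOfFinitePresentation (_ ≫ v))
  quasiCompact i := by
    have := R.quasiCompact i
    exact inferInstanceAs (QuasiCompact (_ ≫ v))
  quasiSeparated i := by
    have := R.quasiSeparated i
    exact inferInstanceAs (QuasiSeparated (_ ≫ v))

/-- A quasi-compact open containing the image of a morphism from a quasi-compact scheme. -/
theorem exists_isCompact_open_range {X S : Scheme.{u}} (f : X ⟶ S) [CompactSpace X] :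
    ∃ U : S.Opens, IsCompact (U : Set S) ∧ f ⁻¹ᵁ U = ⊤ := by
  obtain ⟨t, ht⟩ := (isCompact_range f.continuous).elim_finite_subcover
    (fun W : S.affineOpens ↦ (W.1 : Set S)) (fun W ↦ W.1.2) (fun x _ ↦ by
      obtain ⟨_, ⟨W, hW, rfl⟩, hx, -⟩ :=
        S.isBasis_affineOpens.exists_subset_of_mem_open (Set.mem_univ x) isOpen_univ
      exact Set.mem_iUnion.mpr ⟨⟨W, hW⟩, hx⟩)
  refine ⟨⟨⋃ W ∈ t, (W.1 : Set S), isOpen_biUnion fun W _ ↦ W.1.2⟩,
    t.isCompact_biUnion fun W _ ↦ W.2.isCompact, ?_⟩
  exact eq_top_iff.2 fun x _ ↦ ht ⟨x, rfl⟩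

/-- Relative Noetherian approximation. -/
theorem exists_relSystem {X S : Scheme.{u}} (f : X ⟶ S) [CompactSpace X] [QuasiSeparatedSpace X]
    [QuasiSeparatedSpace S] : Nonempty (RelSystem f) := by
  obtain ⟨U, hU, hfU⟩ := exists_isCompact_open_range f
  have : CompactSpace U.toScheme := isCompact_iff_compactSpace.mp hU
  have : QuasiSeparatedSpace U.toScheme := .of_isOpenEmbedding U.ι.isOpenEmbedding
  have hr : Set.range f ⊆ Set.range U.ι := by
    rw [Scheme.Opens.range_ι]
    rintro _ ⟨x, rfl⟩
    exact hfU.ge (Set.mem_univ x)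
  let g := IsOpenImmersion.lift U.ι f hr
  have : QuasiCompact U.ι := inferInstance
  obtain ⟨A⟩ := exists_zsystem U.toScheme
  obtain ⟨B⟩ := exists_zsystem X
  have e : g ≫ U.ι = f := IsOpenImmersion.lift_fac _ _ _
  exact ⟨e ▸ (relSystem g B A).mapBase U.ι⟩

end Groth.Limits
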