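import Groth.Agent.Limits.DVRAlgebra
import Groth.Agent.Limits.FlatClosure
import Mathlib.AlgebraicGeometry.ValuativeCriterion
import Mathlib.AlgebraicGeometry.Morphisms.FiniteType
import Mathlib.AlgebraicGeometry.Noetherian
import Mathlib.AlgebraicGeometry.ResidueField

/-!
# Discrete valuation rings through specializations
-/

set_option backward.isDefEq.respectTransparency false

universe u

open CategoryTheory Limits AlgebraicGeometry IsLocalRing

namespace Groth.Limits

/-- The spectrum of a valuation subring's field of fractions, mapped to the valuation subring. -/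
noncomputable abbrev genericPointMap (A : Type u) [CommRing A] [IsDomain A] :
    Spec (CommRingCat.of (FractionRing A)) ⟶ Spec (CommRingCat.of A) :=
  Spec.map (CommRingCat.ofHom (algebraMap A (FractionRing A)))

/-- The composite `O_{Y,y'} ⟶ κ(x)` attached to a specialization of `p x`. -/
noncomputable def toResidue {U Y : Scheme.{u}} (p : U ⟶ Y) (x : U) {y' : Y} (hsp : p x ⤳ y') :
    Y.presheaf.stalk y' ⟶ U.residueField x :=
  Y.presheaf.stalkSpecializes hsp ≫ p.stalkMap x ≫ U.residue x

theorem toResidue_fromSpecStalk {U Y : Scheme.{u}} (p : U ⟶ Y) (x : U) {y' : Y} (hsp : p x ⤳ y') :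
    Spec.map (toResidue p x hsp) ≫ Y.fromSpecStalk y' = U.fromSpecResidueField x ≫ p := by
  rw [Scheme.fromSpecResidueField, Category.assoc, ← Scheme.SpecMap_stalkMap_fromSpecStalk,
    ← Scheme.SpecMap_stalkSpecializes_fromSpecStalk hsp, toResidue]
  simp_rw [← Spec.map_comp_assoc]
  rfl

theorem essFiniteType_toResidue {U Y : Scheme.{u}} (p : U ⟶ Y) [LocallyOfFiniteType p] (x : U)
    {y' : Y} (hsp : p x ⤳ y') : (toResidue p x hsp).hom.EssFiniteType := by
  obtain ⟨W, hW, hyW, -⟩ := exists_isAffineOpen_mem_and_subset (U := (⊤ : Y.Opens)) (Set.mem_univ y')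
  have hxW : p x ∈ W := hsp.mem_open W.isOpen hyW
  let g := (Y.presheaf.germ W y' hyW).hom
  refine RingHom.EssFiniteType.of_comp g ?_
  have h1 : (toResidue p x hsp).hom.comp g =
      ((U.residue x).hom.comp (p.stalkMap x).hom).comp (Y.presheaf.germ W (p x) hxW).hom := by
    rw [toResidue, ← Y.presheaf.germ_stalkSpecializes hyW hsp]
    rfl
  rw [h1]
  have h2 : (Y.presheaf.germ W (p x) hxW).hom.EssFiniteType := by
    letI := Y.presheaf.algebra_section_stalk ⟨p x, hxW⟩
    haveI := hW.isLocalization_stalk ⟨p x, hxW⟩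
    exact RingHom.essFiniteType_algebraMap.2
      (Algebra.EssFiniteType.of_isLocalization (R := Γ(Y, W)) (Y.presheaf.stalk (p x))
        (hW.primeIdealOf ⟨p x, hxW⟩).asIdeal.primeCompl)
  exact h2.comp ((LocallyOfFiniteType.stalkMap p x).comp
    (RingHom.FiniteType.essFiniteType
      (RingHom.FiniteType.of_surjective _ (U.residue_surjective x))))

/-- S4450: a specialization of the image of a point is realised by a discrete valuation ring of
the residue field. -/
theorem exists_dvr_residueField {U Y : Scheme.{u}} [IsLocallyNoetherian Y] (p : U ⟶ Y)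
    [LocallyOfFiniteType p] (x : U) (y' : Y) (hsp : p x ⤳ y') (hne : y' ≠ p x) :
    ∃ (A : ValuationSubring (U.residueField x)) (h : Spec (CommRingCat.of A) ⟶ Y),
      IsDiscreteValuationRing A ∧ h (closedPoint A) = y' ∧
      Spec.map (CommRingCat.ofHom A.subtype) ≫ h = U.fromSpecResidueField x ≫ p := by
  have h0 : ∃ r ∈ maximalIdeal (Y.presheaf.stalk y'), (toResidue p x hsp).hom r ≠ 0 := by
    by_contra hcon
    push Not at hcon
    have : IsLocalHom (toResidue p x hsp).hom := ⟨fun r hr ↦ by
      by_contra hu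
      exact not_isUnit_zero (hcon r hu ▸ hr)⟩
    apply hne
    have e1 := congrArg (fun m : Spec (U.residueField x) ⟶ Y ↦
      m (closedPoint (U.residueField x))) (toResidue_fromSpecStalk p x hsp)
    simp only [Scheme.Hom.comp_apply, Scheme.fromSpecResidueField_apply] at e1
    rw [← e1]
    have : Spec.map (toResidue p x hsp) (closedPoint (U.residueField x)) =
        closedPoint (Y.presheaf.stalk y') := comap_closedPoint (toResidue p x hsp).hom
    rw [this, Y.fromSpecStalk_closedPoint]
  obtain ⟨V, hV, hdvr, hloc⟩ :=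
    exists_dvr_valuationSubring (toResidue p x hsp).hom (essFiniteType_toResidue p x hsp) h0
  let θ : Y.presheaf.stalk y' ⟶ CommRingCat.of V :=
    CommRingCat.ofHom ((toResidue p x hsp).hom.codRestrict V.toSubring hV)
  refine ⟨V, Spec.map θ ≫ Y.fromSpecStalk y', hdvr, ?_, ?_⟩
  · rw [Scheme.Hom.comp_apply]
    have : Spec.map θ (closedPoint V) = closedPoint (Y.presheaf.stalk y') :=
      comap_closedPoint ((toResidue p x hsp).hom.codRestrict V.toSubring hV)
    rw [this, Y.fromSpecStalk_closedPoint]
  · rw [← Spec.map_comp_assoc, show θ ≫ CommRingCat.ofHom V.subtype = toResidue p x hsp from rfl,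
      toResidue_fromSpecStalk]

/-- The variant with the fraction field of the discrete valuation ring. -/
theorem exists_dvr_square {U Y : Scheme.{u}} [IsLocallyNoetherian Y] (p : U ⟶ Y)
    [LocallyOfFiniteType p] (x : U) (y' : Y) (hsp : p x ⤳ y') (hne : y' ≠ p x) :
    ∃ (A : Type u) (_ : CommRing A) (_ : IsDomain A) (_ : IsDiscreteValuationRing A)
      (e : U.residueField x ⟶ CommRingCat.of (FractionRing A)) (_ : IsIso e)
      (h : Spec (CommRingCat.of A) ⟶ Y), h (closedPoint A) = y' ∧
      genericPointMap A ≫ h = (Spec.map e ≫ U.fromSpecResidueField x) ≫ p := by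
  obtain ⟨A, h, hA, hcl, hh⟩ := exists_dvr_residueField p x y' hsp hne
  let e : U.residueField x ≅ CommRingCat.of (FractionRing A) :=
    (FractionRing.algEquiv A (U.residueField x)).symm.toRingEquiv.toCommRingCatIso
  refine ⟨A, inferInstance, inferInstance, hA, e.hom, inferInstance, h, hcl, ?_⟩
  rw [Category.assoc, ← hh, ← Spec.map_comp_assoc]
  refine congrArg (· ≫ h) (congrArg Spec.map ?_)
  ext a
  exact ((FractionRing.algEquiv A (U.residueField x)).symm.commutes a).symm

/-- A point of the fraction field of a valuation ring has all its lifts specialising to it. -/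
theorem genericPointMap_specializes {A : Type u} [CommRing A] [IsDomain A] [IsLocalRing A]
    {X : Scheme.{u}} (l : Spec (CommRingCat.of A) ⟶ X)
    {k : Spec (CommRingCat.of (FractionRing A)) ⟶ X} (hk : genericPointMap A ≫ l = k) :
    k (closedPoint (FractionRing A)) ⤳ l (closedPoint A) := by
  rw [← hk, Scheme.Hom.comp_apply]
  exact (specializes_closedPoint _).map l.continuous

/-- The lifting property on discrete valuation rings. -/
theorem dvr_lift_of_universallyClosed {X S : Scheme.{u}} (f : X ⟶ S) [UniversallyClosed f]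
    (A : Type u) [CommRing A] [IsDomain A] [IsDiscreteValuationRing A]
    (x : Spec (CommRingCat.of (FractionRing A)) ⟶ X) (y : Spec (CommRingCat.of A) ⟶ S)
    (w : x ≫ f = genericPointMap A ≫ y) :
    ∃ l : Spec (CommRingCat.of A) ⟶ X, l ≫ f = y ∧ genericPointMap A ≫ l = x := by
  have hf : ValuativeCriterion.Existence f := by
    have := UniversallyClosed.eq_valuativeCriterion
    exact (le_of_eq this _ _ f inferInstance).1
  obtain ⟨l, hl₁, hl₂⟩ :=
    (hf { R := A, K := FractionRing A, i₁ := x, i₂ := y, commSq := ⟨w⟩ }).exists_lift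
  exact ⟨l, hl₂, hl₁⟩

/-- Uniqueness of lifts along a separated morphism. -/
theorem dvr_lift_unique {X S : Scheme.{u}} (f : X ⟶ S) [IsSeparated f]
    (A : Type u) [CommRing A] [IsDomain A] [ValuationRing A]
    (K : Type u) [Field K] [Algebra A K] [IsFractionRing A K]
    (l₁ l₂ : Spec (CommRingCat.of A) ⟶ X) (h : l₁ ≫ f = l₂ ≫ f)
    (h' : Spec.map (CommRingCat.ofHom (algebraMap A K)) ≫ l₁ =
      Spec.map (CommRingCat.ofHom (algebraMap A K)) ≫ l₂) : l₁ = l₂ := by
  let sq : ValuativeCommSq f :=
    { R := A, K := K, i₁ := Spec.map (CommRingCat.ofHom (algebraMap A K)) ≫ l₁, i₂ := l₁ ≫ f,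
      commSq := ⟨Category.assoc _ _ _⟩ }
  have := IsSeparated.valuativeCriterion f sq
  exact congrArg CommSq.LiftStruct.l
    (Subsingleton.elim (⟨l₁, rfl, rfl⟩ : sq.commSq.LiftStruct) ⟨l₂, h'.symm, h.symm⟩)

/-- The range of a quasi-compact morphism is pro-constructible. -/
theorem pc_range {X Y : Scheme.{u}} (f : X ⟶ Y) [QuasiCompact f] : PC (Set.range f) := by
  intro W hW
  have : CompactSpace (f ⁻¹ᵁ W).toScheme :=
    isCompact_iff_compactSpace.mp (f.isCompact_preimage hW.isCompact)
  convert qcImage_range ((f ⁻¹ᵁ W).ι ≫ f) using 1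
  rw [Scheme.Hom.comp_base, TopCat.coe_comp, Set.range_comp, Scheme.Opens.range_ι]
  exact (Set.image_preimage_eq_range_inter).symm.trans rfl

/-- The range of a quasi-compact morphism is closed if it is stable under specialization. -/
theorem isClosed_range_of_specializes {X Y : Scheme.{u}} (f : X ⟶ Y) [QuasiCompact f]
    (h : ∀ x y, f x ⤳ y → y ∈ Set.range f) : IsClosed (Set.range f) := by
  refine isClosed_of_closure_subset fun y hy ↦ ?_
  obtain ⟨_, ⟨x, rfl⟩, hxy⟩ := exists_specializes_of_mem_closure (pc_range f) hy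
  exact h x y hxy

/-- With a dense image, every point is a specialization of a point of the image. -/
theorem exists_specializes_of_denseRange {X Y : Scheme.{u}} (f : X ⟶ Y) [QuasiCompact f]
    (hf : DenseRange f.base) (y : Y) : ∃ x : X, f x ⤳ y := by
  obtain ⟨_, ⟨x, rfl⟩, hxy⟩ := exists_specializes_of_mem_closure (pc_range f) (hf y)
  exact ⟨x, hxy⟩

end Groth.Limits
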