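import Groth.Agent.LimitMod.Hom
import Groth.Agent.PropsBasic.AmpleBasis
import Groth.Agent.PicAux.PullTensor
import Groth.Agent.PicAux.PicLaw
import Groth.Agent.PicAux.QCoh
import Groth.Agent.Chow.VeryAmplePn
import Groth.Agent.LocFree.FP
import Groth.Agent.QCohMod.Affine
import Mathlib.AlgebraicGeometry.AffineTransitionLimit

/-!
# Ampleness descends along limits with affine transition maps
-/

universe u

open CategoryTheory Limits AlgebraicGeometry TopologicalSpace Opposite

set_option backward.isDefEq.respectTransparency false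
set_option backward.defeqAttrib.useBackward true
set_option backward.isDefEq.respectTransparency.types false

namespace Groth.Limits.AmpleStage

open Groth.PicAux Groth.PropsBasic.Ample Groth.LimitMod

private theorem isFP_structureSheaf (X : Scheme.{u}) : CohB1.IsFP (Coh.structureModule X) := by
  have hq : (Coh.structureModule X).IsQuasicoherent := Groth.QCohMod.isQCoh_unit X
  exact Groth.LocFree.isFP_of_affine_cover _ fun x => by
    obtain ⟨A, hA, hxA, -⟩ := exists_isAffineOpen_mem_and_subset (U := (⊤ : X.Opens)) (x := x) trivial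
    exact ⟨A, hA, hxA, (inferInstance : Module.FinitePresentation Γ(X, A) Γ(X, A))⟩

variable {I : Type u} [Category.{u} I] [IsCofiltered I] {D : I ⥤ Scheme.{u}} {c : Cone D}
  (hc : IsLimit c) [∀ (i j : I) (f : i ⟶ j), IsAffineHom (D.map f)]

omit [IsCofiltered I] [∀ (i j : I) (f : i ⟶ j), IsAffineHom (D.map f)] in
theorem transport_app {X Y Z : Scheme.{u}} {F G : X.Modules} (a : Y ⟶ X) (b : Z ⟶ X) (q : Z ⟶ Y)
    (h : q ≫ a = b)
    (k : (Scheme.Modules.pullback a).obj F ⟶ (Scheme.Modules.pullback a).obj G) {U : X.Opens}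
    (m : Γ(F, U)) :
    (((cmpIso a b q h).app F).inv ≫ (Scheme.Modules.pullback q).map k ≫
        ((cmpIso a b q h).app G).hom).app (b ⁻¹ᵁ U) (pullSec b F m) =
      ((cmpIso a b q h).app G).hom.app (b ⁻¹ᵁ U)
        (res _ (preimage_eq h U).le (pullSec q _ (k.app (a ⁻¹ᵁ U) (pullSec a F m)))) := by
  refine congrArg (((cmpIso a b q h).app G).hom.app (b ⁻¹ᵁ U)) ?_
  refine (congrArg (((Scheme.Modules.pullback q).map k).app (b ⁻¹ᵁ U))
    (cmpIso_inv_pullSec a b q h m)).trans ?_
  refine (app_res ((Scheme.Modules.pullback q).map k) _ _).trans ?_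
  exact congrArg (res _ _) (pullSec_map q k _)

include hc in
/-- A global section of the pullback of a module to the limit is, up to its generating locus, the
pullback of a section at a stage. -/
theorem exists_stage_section {i : I} [CompactSpace (D.obj i)] [QuasiSeparatedSpace (D.obj i)]
    (G : (D.obj i).Modules) (hG : PicF.IsInvertible G)
    (σ : Γ((Scheme.Modules.pullback (c.π.app i)).obj G, ⊤)) :
    ∃ (j : I) (φ : j ⟶ i) (t : Γ((Scheme.Modules.pullback (D.map φ)).obj G, ⊤)),
      gloc σ = c.π.app j ⁻¹ᵁ gloc t := by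
  have := isQCoh_of_isInvertible hG
  have := isIso_pullUnit (c.π.app i)
  let O := Coh.structureModule (D.obj i)
  let h : (Scheme.Modules.pullback (c.π.app i)).obj O ⟶
      (Scheme.Modules.pullback (c.π.app i)).obj G :=
    pullUnit (c.π.app i) ≫ homOfSection σ
  obtain ⟨j, φ, hj, hh⟩ := exists_stage_hom hc (isFP_structureSheaf (D.obj i)) h
  let m : Γ((Scheme.Modules.pullback (c.π.app i)).obj O, ⊤) :=
    pullSec (c.π.app i) O (oneSec (D.obj i) ⊤)
  let t : Γ((Scheme.Modules.pullback (D.map φ)).obj G, ⊤) :=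
    hj.app ⊤ (pullSec (D.map φ) O (oneSec (D.obj i) ⊤))
  refine ⟨j, φ, t, ?_⟩
  have h1 : h.app ⊤ m = σ :=
    (congrArg ((homOfSection σ).app ⊤) (pullbackObjUnit_oneSec (c.π.app i))).trans
      (homOfSection_one σ)
  have h2 : h.app ⊤ m = ((cmpIso (D.map φ) (c.π.app i) (c.π.app j) (c.w φ)).app G).hom.app ⊤
      (pullSec (c.π.app j) _ t) := by
    rw [← hh]
    refine (transport_app (D.map φ) (c.π.app i) (c.π.app j) (c.w φ) hj (U := ⊤)
      (oneSec (D.obj i) ⊤)).trans ?_
    exact congrArg (((cmpIso (D.map φ) (c.π.app i) (c.π.app j) (c.w φ)).app G).hom.app ⊤)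
      (Groth.PicAux.res_self _ _)
  rw [← h1, h2, gloc_map, gloc_pullSec _ (isInvertible_pullback _ hG)]

include hc in
/-- Ampleness descends along limits with affine transition maps. -/
theorem exists_stage_isAmple [∀ i, CompactSpace (D.obj i)] [∀ i, QuasiSeparatedSpace (D.obj i)]
    (i₀ : I) (L : (D.obj i₀).Modules) (hL : PicF.IsInvertible L)
    (h : CohB1.IsAmple ((Scheme.Modules.pullback (c.π.app i₀)).obj L)) :
    ∃ (i : I) (φ : i ⟶ i₀), CohB1.IsAmple ((Scheme.Modules.pullback (D.map φ)).obj L) := by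
  classical
  have : ∀ {i j : I} (f : i ⟶ j), IsAffineHom (D.map f) := fun {i j} f => inferInstance
  choose n s hxs hs using h.2.2
  replace hxs : ∀ x, x ∈ gloc (gsec (s x)) := fun x => by
    rw [← genLocus_eq_gloc]; exact hxs x
  replace hs : ∀ x, IsAffineOpen (gloc (gsec (s x))) := fun x => by
    rw [← genLocus_eq_gloc]; exact hs x
  haveI : CompactSpace c.pt := h.2.1
  obtain ⟨F, hF⟩ := isCompact_univ.elim_finite_subcover
    (fun x : c.pt => (((gloc (gsec (s x)) : c.pt.Opens)) : Set c.pt))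
    (fun x => (gloc (gsec (s x)) : c.pt.Opens).2)
    fun x _ => Set.mem_iUnion.2 ⟨x, hxs x⟩
  have e := fun x => (pullback_tensorPow (c.π.app i₀) L (n x + 1)).some
  choose j φ t ht using fun x : c.pt => exists_stage_section hc _
    (isInvertible_tensorPow hL (n x + 1)) ((e x).inv.app ⊤ (gsec (s x)))
  replace ht := fun x => (gloc_map (e x).inv (gsec (s x))).symm.trans (ht x)
  -- a common stage
  have key : ∀ S : Finset c.pt, ∃ (k : I) (ψ : k ⟶ i₀), ∀ x ∈ S, ∃ W : (D.obj k).Opens,
      IsAffineOpen W ∧ c.π.app k ⁻¹ᵁ W = gloc (gsec (s x)) ∧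
        ∃ t' : Γ(CohB1.tensorPow ((Scheme.Modules.pullback (D.map ψ)).obj L) (n x + 1), ⊤),
          gloc t' = W := by
    intro S
    induction S using Finset.induction_on with
    | empty => exact ⟨i₀, 𝟙 _, fun x hx => absurd hx (Finset.notMem_empty x)⟩
    | insert a S ha ih =>
      obtain ⟨k, ψ, hk⟩ := ih
      obtain ⟨l, V, hV, hVe⟩ := exists_isAffineOpen_preimage_eq D c hc _ (hs a)
      -- common refinement of `j a`, `k` and `l`
      obtain ⟨m, u, v, huv⟩ := IsCofiltered.cospan (φ a) ψ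
      let m' := IsCofiltered.min m l
      let p := IsCofiltered.minToLeft m l
      let q := IsCofiltered.minToRight m l
      let T := gloc (pullSec (D.map (p ≫ u)) _ (t a))
      have hT : c.π.app m' ⁻¹ᵁ T = gloc (gsec (s a)) := by
        rw [ht a]
        refine Eq.trans (congrArg (c.π.app m' ⁻¹ᵁ ·)
          (gloc_pullSec _ (isInvertible_pullback _ (isInvertible_tensorPow hL _)) _)) ?_
        rw [← Scheme.Hom.comp_preimage, c.w]
      have hTc : IsCompact (T : Set (D.obj m')) := by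
        have hinv := isInvertible_pullback (D.map (p ≫ u))
          (isInvertible_pullback (D.map (φ a)) (isInvertible_tensorPow hL (n a + 1)))
        let 𝒰 := (D.obj m').affineCover.finiteSubcover
        have hcov : (T : Set (D.obj m')) = ⋃ i, (T : Set (D.obj m')) ∩ Set.range (𝒰.f i) := by
          rw [← Set.inter_iUnion, 𝒰.iUnion_range, Set.inter_univ]
        rw [hcov]
        refine isCompact_iUnion fun i => ?_
        have := isAffineOpen_gloc_inf hinv (homOfSection (pullSec (D.map (p ≫ u)) _ (t a)))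
          (isAffineOpen_opensRange (𝒰.f i))
        exact this.isCompact
      obtain ⟨m₁, r, hr⟩ := exists_map_preimage_eq_map_preimage D c hc hTc
        (hV.preimage (D.map q)).isCompact (by
          rw [hT, ← Scheme.Hom.comp_preimage, c.w, hVe])
      have hψ : (r ≫ p ≫ v) ≫ ψ = (r ≫ p ≫ u) ≫ φ a := by simp [huv]
      refine ⟨m₁, (r ≫ p ≫ v) ≫ ψ, fun x hx => ?_⟩
      rcases Finset.mem_insert.1 hx with rfl | hx
      · refine ⟨D.map r ⁻¹ᵁ T, ?_, ?_, ?_⟩
        · rw [hr]
          exact (hV.preimage _).preimage _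
        · rw [← Scheme.Hom.comp_preimage, c.w, hT]
        · let G := CohB1.tensorPow L (n x + 1)
          have hD : D.map r ≫ D.map (p ≫ u) ≫ D.map (φ x) = D.map ((r ≫ p ≫ v) ≫ ψ) := by
            rw [hψ]; simp
          let i₁ := (Scheme.Modules.pullbackComp (D.map (p ≫ u)) (D.map (φ x))).app G
          let i₂ := (Scheme.Modules.pullbackComp (D.map r) (D.map (p ≫ u) ≫ D.map (φ x))).app G
          let i₃ := (Scheme.Modules.pullbackCongr hD).app G
          obtain ⟨i₄⟩ := pullback_tensorPow (D.map ((r ≫ p ≫ v) ≫ ψ)) L (n x + 1)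
          let i := (Scheme.Modules.pullback (D.map r)).mapIso i₁ ≪≫ i₂ ≪≫ i₃ ≪≫ i₄
          refine ⟨i.hom.app ⊤ (pullSec (D.map r) _ (pullSec (D.map (p ≫ u)) _ (t x))), ?_⟩
          rw [gloc_map]
          exact gloc_pullSec _ (isInvertible_pullback _
            (isInvertible_pullback _ (isInvertible_tensorPow hL _))) _
      · obtain ⟨W, hW, hWe, t', ht'⟩ := hk x hx
        refine ⟨D.map (r ≫ p ≫ v) ⁻¹ᵁ W, hW.preimage _, ?_, ?_⟩
        · rw [← Scheme.Hom.comp_preimage, c.w, hWe]
        · obtain ⟨i₁⟩ := pullback_tensorPow (D.map (r ≫ p ≫ v))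
            ((Scheme.Modules.pullback (D.map ψ)).obj L) (n x + 1)
          obtain ⟨i₂⟩ := nonempty_tensorPow_iso
            ((Scheme.Modules.pullbackComp (D.map (r ≫ p ≫ v)) (D.map ψ)).app L ≪≫
              (Scheme.Modules.pullbackCongr (D.map_comp _ ψ).symm).app L) (n x + 1)
          refine ⟨(i₁ ≪≫ i₂).hom.app ⊤ (pullSec (D.map (r ≫ p ≫ v)) _ t'), ?_⟩
          rw [gloc_map]
          exact (gloc_pullSec _ (isInvertible_tensorPow (isInvertible_pullback _ hL) _) _).trans
            (congrArg (D.map (r ≫ p ≫ v) ⁻¹ᵁ ·) ht')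
  obtain ⟨k, ψ, hk⟩ := key F
  choose W hW hWe t' ht' using hk
  let W' : (D.obj k).Opens := ⨆ x : {x // x ∈ F}, W x.1 x.2
  have htop : c.π.app k ⁻¹ᵁ W' = ⊤ := eq_top_iff.2 fun y _ => by
    obtain ⟨x, hx, hy⟩ := Set.mem_iUnion₂.1 (hF (Set.mem_univ y))
    exact Opens.mem_iSup.2 ⟨⟨x, hx⟩, ((hWe x hx).ge hy : y ∈ c.π.app k ⁻¹ᵁ W x hx)⟩
  obtain ⟨i, u, hu⟩ := exists_map_eq_top D c hc W' htop
  refine ⟨i, u ≫ ψ, isInvertible_pullback _ hL, inferInstance, fun y => ?_⟩
  obtain ⟨⟨x, hx⟩, hy⟩ := Opens.mem_iSup.1 (hu.ge (Set.mem_univ y) : D.map u y ∈ W')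
  obtain ⟨i₁⟩ := pullback_tensorPow (D.map u) ((Scheme.Modules.pullback (D.map ψ)).obj L) (n x + 1)
  obtain ⟨i₂⟩ := nonempty_tensorPow_iso ((Scheme.Modules.pullbackComp (D.map u) (D.map ψ)).app L ≪≫
    (Scheme.Modules.pullbackCongr (D.map_comp u ψ).symm).app L) (n x + 1)
  refine ⟨n x, homOfSection ((i₁ ≪≫ i₂).hom.app ⊤ (pullSec (D.map u) _ (t' x hx))), ?_⟩
  change y ∈ gloc _ ∧ IsAffineOpen (gloc _)
  have he : gloc ((i₁ ≪≫ i₂).hom.app ⊤ (pullSec (D.map u) _ (t' x hx))) = D.map u ⁻¹ᵁ W x hx := by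
    rw [gloc_map]
    exact (gloc_pullSec _ (isInvertible_tensorPow (isInvertible_pullback _ hL) _) _).trans
      (congrArg (D.map u ⁻¹ᵁ ·) (ht' x hx))
  rw [he]
  exact ⟨hy, (hW x hx).preimage _⟩

end Groth.Limits.AmpleStage
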