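import Groth.Agent.Limits.FieldPointInduction
import Mathlib.AlgebraicGeometry.Stalk

/-!
# The local scheme at a point as a limit of basic open neighbourhoods
-/

set_option backward.isDefEq.respectTransparency false
set_option backward.defeqAttrib.useBackward true

universe u

open CategoryTheory Limits AlgebraicGeometry TopologicalSpace

namespace Groth.Limits

variable {X : Scheme.{u}} {W : X.Opens} (hW : IsAffineOpen W) {x : X} (hx : x ∈ W)

/-- Basic open neighbourhoods of `x` inside the affine open `W`. -/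
def BasicNhd (W : X.Opens) (x : X) : Type u :=
  {V : X.Opens // x ∈ V ∧ ∃ f : Γ(X, W), V = X.basicOpen f}

instance (W : X.Opens) (x : X) : PartialOrder (BasicNhd W x) := Subtype.partialOrder _

/-- The largest one. -/
def BasicNhd.top : BasicNhd W x :=
  ⟨X.basicOpen (1 : Γ(X, W)), by rwa [X.basicOpen_of_isUnit isUnit_one], 1, rfl⟩

include hx in
theorem nonempty_basicNhd : Nonempty (BasicNhd W x) := ⟨BasicNhd.top hx⟩

instance (W : X.Opens) (x : X) : IsCodirectedOrder (BasicNhd W x) := ⟨fun a b ↦ by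
  obtain ⟨_, ha, f, rfl⟩ := a
  obtain ⟨_, hb, g, rfl⟩ := b
  exact ⟨⟨X.basicOpen (f * g), by rw [X.basicOpen_mul]; exact ⟨ha, hb⟩, _, rfl⟩,
    (by rw [X.basicOpen_mul]; exact inf_le_left : X.basicOpen (f * g) ≤ _),
    (by rw [X.basicOpen_mul]; exact inf_le_right : X.basicOpen (f * g) ≤ _)⟩⟩

/-- The system of basic open neighbourhoods. -/
noncomputable def nhdDiagram (W : X.Opens) (x : X) : BasicNhd W x ⥤ Scheme.{u} where
  obj V := (V.1 : Scheme.{u})
  map h := X.homOfLE (leOfHom h)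

/-- The local scheme as a cone. -/
noncomputable def nhdCone (W : X.Opens) (x : X) : Cone (nhdDiagram W x) where
  pt := Spec (X.presheaf.stalk x)
  π :=
    { app := fun V ↦ V.1.fromSpecStalkOfMem x V.2.1
      naturality := fun V V' h ↦ by
        rw [← cancel_mono V'.1.ι]
        simp [nhdDiagram] }

include hW in
theorem isAffineOpen_nhd (V : BasicNhd W x) : IsAffineOpen V.1 := by
  obtain ⟨f, hf⟩ := V.2.2
  exact hf ▸ hW.basicOpen f

include hW hx in
/-- The local scheme is the limit of the basic open neighbourhoods. -/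
theorem nonempty_isLimit_nhdCone : Nonempty (IsLimit (nhdCone W x)) := by
  have hbase : ∀ (s : Cone (nhdDiagram W x)) (V : BasicNhd W x),
      s.π.app V ≫ V.1.ι = s.π.app (BasicNhd.top hx) ≫ (BasicNhd.top hx).1.ι := by
    intro s V
    have hle : V ≤ BasicNhd.top hx := by
      show V.1 ≤ X.basicOpen (1 : Γ(X, W))
      rw [X.basicOpen_of_isUnit isUnit_one]
      obtain ⟨f, hf⟩ := V.2.2
      exact hf ▸ X.basicOpen_le f
    rw [← s.w (homOfLE hle), Category.assoc]
    exact congrArg (s.π.app V ≫ ·) (X.homOfLE_ι hle).symm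
  have htop : (BasicNhd.top hx).1 = W := X.basicOpen_of_isUnit isUnit_one
  let m : ∀ s : Cone (nhdDiagram W x), s.pt ⟶ Spec Γ(X, W) := fun s ↦
    IsOpenImmersion.lift hW.fromSpec (s.π.app (BasicNhd.top hx) ≫ (BasicNhd.top hx).1.ι) (by
      rw [hW.range_fromSpec]
      rintro _ ⟨p, rfl⟩
      rw [Scheme.Hom.comp_apply]
      exact htop.le (s.π.app (BasicNhd.top hx) p).2)
  have hm : ∀ s, m s ≫ hW.fromSpec = s.π.app (BasicNhd.top hx) ≫ (BasicNhd.top hx).1.ι :=
    fun s ↦ IsOpenImmersion.lift_fac _ _ _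
  let φ : ∀ s : Cone (nhdDiagram W x), Γ(X, W) ⟶ Γ(s.pt, ⊤) := fun s ↦
    (Scheme.ΓSpecIso Γ(X, W)).inv ≫ (m s).appTop
  have hφ : ∀ s, s.pt.toSpecΓ ≫ Spec.map (φ s) = m s := fun s ↦ toSpecΓ_SpecMap_appTop (m s)
  letI := X.presheaf.algebra_section_stalk (⟨x, hx⟩ : W)
  have hloc := hW.isLocalization_stalk ⟨x, hx⟩
  have hunit : ∀ (s : Cone (nhdDiagram W x)) (f : (hW.primeIdealOf ⟨x, hx⟩).asIdeal.primeCompl),
      IsUnit (φ s f.1) := by
    intro s f
    refine isUnit_of_basicOpen_eq_top ?_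
    rw [← Scheme.toSpecΓ_preimage_basicOpen]
    show (s.pt.toSpecΓ ≫ Spec.map (φ s)) ⁻¹ᵁ PrimeSpectrum.basicOpen f.1 = ⊤
    rw [hφ, ← hW.fromSpec_preimage_basicOpen f.1, ← Scheme.Hom.comp_preimage, hm]
    have hxf : x ∈ X.basicOpen f.1 :=
      (X.mem_basicOpen f.1 x hx).2 (IsLocalization.map_units (X.presheaf.stalk x) f)
    rw [← hbase s ⟨_, hxf, f.1, rfl⟩]
    exact TopologicalSpace.Opens.ext (Set.eq_univ_of_forall fun p ↦
      (s.π.app ⟨X.basicOpen f.1, hxf, f.1, rfl⟩ p).2)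
  let ψ : ∀ s : Cone (nhdDiagram W x), X.presheaf.stalk x ⟶ Γ(s.pt, ⊤) := fun s ↦
    CommRingCat.ofHom (IsLocalization.lift (S := (X.presheaf.stalk x : Type u)) (hunit s))
  have hψ : ∀ s, X.presheaf.germ W x hx ≫ ψ s = φ s := fun s ↦ by
    ext r
    exact IsLocalization.lift_eq (S := (X.presheaf.stalk x : Type u)) (hunit s) r
  have hfac : ∀ s, (s.pt.toSpecΓ ≫ Spec.map (ψ s)) ≫ X.fromSpecStalk x =
      s.π.app (BasicNhd.top hx) ≫ (BasicNhd.top hx).1.ι := by
    intro s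
    rw [← hW.fromSpecStalk_eq_fromSpecStalk hx, IsAffineOpen.fromSpecStalk, Category.assoc,
      ← Spec.map_comp_assoc, hψ, reassoc_of% hφ, hm]
  refine ⟨{ lift := fun s ↦ s.pt.toSpecΓ ≫ Spec.map (ψ s), fac := fun s V ↦ ?_,
            uniq := fun s l hl ↦ ?_ }⟩
  · rw [← cancel_mono V.1.ι]
    show ((s.pt.toSpecΓ ≫ Spec.map (ψ s)) ≫ V.1.fromSpecStalkOfMem x V.2.1) ≫ V.1.ι = _
    rw [Category.assoc, Scheme.Opens.fromSpecStalkOfMem_ι, hfac, hbase s V]
  · rw [← cancel_mono (X.fromSpecStalk x), hfac, ← hl (BasicNhd.top hx)]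
    show l ≫ X.fromSpecStalk x = (l ≫ _) ≫ _
    rw [Category.assoc]
    exact congrArg (l ≫ ·) (Scheme.Opens.fromSpecStalkOfMem_ι _ _ _).symm

end Groth.Limits
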