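import Groth.Agent.Limits.QAffThickening
import Groth.Agent.Limits.AmpleStage
import Groth.Agent.QCohMod.ClosedImm
import Groth.Agent.Ega2Proj.RelAmple
import Groth.Agent.PropsBasic.AmpleSep

/-!
# A thickening of a scheme with an ample invertible module

Powers of sections with affine non-vanishing locus lift along square zero thickenings; ampleness is
invariant under surjective closed immersions.
-/

set_option backward.isDefEq.respectTransparency false
set_option backward.defeqAttrib.useBackward true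
set_option backward.isDefEq.respectTransparency.types false

universe u

open AlgebraicGeometry CategoryTheory Limits TopologicalSpace Opposite

namespace Groth.Limits.AmpleThickening

open Groth.FlatMor2 Groth.FlatMor2.SquareZero Groth.Limits.QAffThickening
open Groth.PicAux (Gen pullSec powSec resX tmulSec)
open Groth.PropsBasic.Ample (gloc)

variable {X X' : Scheme.{u}} {i : X ⟶ X'}

theorem resX_eq (Y : Scheme.{u}) {U V : Y.Opens} (h : V ≤ U) (x : Γ(Y, U)) :
    resX Y h x = res Y h x := rfl

theorem resM_smul {Y : Scheme.{u}} {M : Y.Modules} {U V : Y.Opens} (h : V ≤ U) (r : Γ(Y, U))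
    (x : Γ(M, U)) : PicAux.res M h (r • x) = res Y h r • PicAux.res M h x :=
  PicAux.res_smul h r x

set_option maxHeartbeats 1600000 in
/-- A power of a section with affine non-vanishing locus lifts, up to its locus, along a square zero
thickening. -/
theorem exists_gloc_pow [IsClosedImmersion i] [Surjective i] [CompactSpace X']
    [QuasiSeparatedSpace X']
    (hsq : ∀ (U : X'.Opens) (x y : Γ(X', U)), i.app U x = 0 → i.app U y = 0 → x * y = 0)
    {M : X'.Modules} (hM : PicF.IsInvertible M) (σ : Γ((Scheme.Modules.pullback i).obj M, ⊤))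
    {D : X'.Opens} (hD : IsAffineOpen D) (hDg : i ⁻¹ᵁ D = gloc σ) :
    ∃ (n : ℕ) (t : Γ(CohB1.tensorPow M n, ⊤)), 0 < n ∧ gloc t = D := by
  classical
  have := PicAux.isQCoh_of_isInvertible hM
  choose U₀ e₀ hU₀ hxU₀ he₀ using fun x : X' => PicAux.exists_affine_gen_mem hM x
  obtain ⟨T, hT⟩ := isCompact_univ.elim_finite_subcover (fun x => (U₀ x : Set X'))
    (fun x => (U₀ x).2) (fun x _ => Set.mem_iUnion.mpr ⟨x, hxU₀ x⟩)
  let ι := {x // x ∈ T}
  let U : ι → X'.Opens := fun α => U₀ α.1
  let e : ∀ α : ι, Γ(M, U α) := fun α => e₀ α.1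
  have he : ∀ α, Gen M (U α) (e α) := fun α => he₀ α.1
  have hU : ∀ α, IsAffineOpen (U α) := fun α => hU₀ α.1
  have hcov : (⊤ : X'.Opens) ≤ iSup U := fun x _ => by
    obtain ⟨y, hy, hxy⟩ := Set.mem_iUnion₂.mp (hT (Set.mem_univ x))
    exact Opens.mem_iSup.mpr ⟨⟨y, hy⟩, hxy⟩
  -- the coefficients of the section
  have hcoef : ∀ α, ∃ g : Γ(X, i ⁻¹ᵁ U α),
      PicAux.res _ le_top σ = g • pullSec i M (e α) := by
    intro α
    obtain ⟨g, hg⟩ := ((he α).pull i).exists_coeff le_rfl (PicAux.res _ le_top σ)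
    rw [PicAux.res_self] at hg
    exact ⟨g, hg⟩
  choose g hg using hcoef
  have hlift : ∀ α, ∃ z : Γ(X', U α), i.app (U α) z = g α := fun α => i.app_surjective (U α) (hU α) _
  choose L hL using hlift
  obtain ⟨G, hG⟩ : ∃ G : Γ(M, D), pullSec i M G = PicAux.res _ le_top σ :=
    (QCohMod.unit_closedImmersion_app i M hD).1 _
  have hbo : ∀ α, U α ⊓ D = X'.basicOpen (L α) := fun α =>
    eq_of_preimage_eq (i := i) (by
      rw [i.preimage_inf, i.preimage_basicOpen, hL, hDg, inf_comm]
      exact Groth.PropsBasic.Ample.gloc_inf_eq_basicOpen ((he α).pull i) (hg α))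
  have hG' : ∀ α, ∃ Gc : Γ(X', U α ⊓ D),
      PicAux.res M inf_le_right G = Gc • PicAux.res M inf_le_left (e α) := fun α =>
    (he α).exists_coeff inf_le_left _
  choose Gc hGc using hG'
  have key : ∀ (α : ι) {W : X'.Opens} (h : W ≤ U α) (r : Γ(X', W)),
      pullSec i M (r • PicAux.res M h (e α)) =
        i.app W r • PicAux.res _ (i.preimage_mono h) (pullSec i M (e α)) := fun α W h r => by
    rw [PicAux.pullSec_smul, PicAux.res_pullSec]
  have hGg : ∀ α, i.app _ (Gc α) = res X (i.preimage_mono inf_le_left) (g α) := fun α => by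
    refine ((he α).pull i).smul_inj (i.preimage_mono inf_le_left) ?_
    refine (key α inf_le_left (Gc α)).symm.trans ?_
    rw [← hGc α, ← PicAux.res_pullSec, hG, PicAux.res_res, ← resM_smul, ← hg α, PicAux.res_res]
  let a : ∀ α, Γ(X', U α ⊓ D) := fun α => res X' inf_le_left (L α) - Gc α
  have ha : ∀ α, i.app _ (a α) = 0 := fun α => by
    simp only [a, map_sub, app_res i (inf_le_left : U α ⊓ D ≤ U α), hL, hGg, sub_self]
  have hd : ∀ α, ∃ (m : ℕ) (d : Γ(X', U α)), i.app _ d = 0 ∧
      res X' (inf_le_left (b := D)) d = res X' (inf_le_left (b := D)) (L α) ^ m * a α := by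
    intro α
    obtain ⟨m, d, hd⟩ := exists_pow_mul_eq (hU α) (L α) (hbo α) (a α)
    have h0 : res X (i.preimage_mono (inf_le_left (b := D))) (i.app _ d) = 0 := by
      rw [← app_res i (inf_le_left (b := D)) d, hd, map_mul, ha, mul_zero]
    obtain ⟨k, hk⟩ := exists_pow_mul_eq_zero ((hU α).preimage i) (g α)
      (V := i ⁻¹ᵁ (U α ⊓ D)) (by rw [hbo, i.preimage_basicOpen, hL]) h0
    refine ⟨k + m, L α ^ k * d, by rw [map_mul, map_pow, hL, hk], ?_⟩
    rw [map_mul, map_pow, hd, pow_add, mul_assoc]
  choose m0 d0 hd0 hd0' using hd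
  let m := Finset.univ.sup m0
  let d : ∀ α, Γ(X', U α) := fun α => L α ^ (m - m0 α) * d0 α
  have hd : ∀ α, i.app _ (d α) = 0 := fun α => by simp only [d, map_mul, hd0, mul_zero]
  have hd' : ∀ α {W : X'.Opens} (hW : W ≤ U α ⊓ D),
      res X' (hW.trans inf_le_left) (d α) =
        res X' (hW.trans inf_le_left) (L α) ^ m * res X' hW (a α) := by
    intro α W hW
    rw [← res_res hW inf_le_left, ← res_res hW inf_le_left, ← map_pow, ← map_mul]
    congr 1
    simp only [d, map_mul, map_pow, hd0']
    rw [← mul_assoc, ← pow_add, Nat.sub_add_cancel (Finset.le_sup (f := m0) (Finset.mem_univ α))]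
  -- change of trivialization
  have hv : ∀ α β, ∃ v : Γ(X', U α ⊓ U β),
      PicAux.res M inf_le_right (e β) = v • PicAux.res M inf_le_left (e α) := fun α β =>
    (he α).exists_coeff inf_le_left _
  choose v hv using hv
  have hgv : ∀ α β, res X (i.preimage_mono inf_le_right) (g β) * i.app _ (v α β) =
      res X (i.preimage_mono inf_le_left) (g α) := fun α β => by
    refine ((he α).pull i).smul_inj (i.preimage_mono inf_le_left) ?_
    rw [mul_smul, ← key α inf_le_left (v α β), ← hv, ← PicAux.res_pullSec, ← resM_smul,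
      ← resM_smul, ← hg α, ← hg β, PicAux.res_res, PicAux.res_res]
  have hGv : ∀ α β {W : X'.Opens} (h₁ : W ≤ U α ⊓ U β) (h₂ : W ≤ D),
      res X' (le_inf (h₁.trans inf_le_left) h₂) (Gc α) =
        res X' (le_inf (h₁.trans inf_le_right) h₂) (Gc β) * res X' h₁ (v α β) := by
    intro α β W h₁ h₂
    refine (he α).smul_inj (h₁.trans inf_le_left) ?_
    have e1 := congrArg (PicAux.res M (le_inf (h₁.trans inf_le_left) h₂)) (hGc α)
    rw [PicAux.res_res, resM_smul, PicAux.res_res] at e1
    have e2 := congrArg (PicAux.res M (le_inf (h₁.trans inf_le_right) h₂)) (hGc β)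
    rw [PicAux.res_res, resM_smul, PicAux.res_res] at e2
    have e3 := congrArg (PicAux.res M h₁) (hv α β)
    rw [PicAux.res_res, resM_smul, PicAux.res_res] at e3
    rw [mul_smul, ← e3]
    exact e1.symm.trans e2
  let L' : ∀ α β, Γ(X', U α ⊓ U β) := fun α β => res X' inf_le_right (L β) * v α β
  let d' : ∀ α β, Γ(X', U α ⊓ U β) := fun α β => res X' inf_le_right (d β) * v α β ^ (m + 1)
  have hLL : ∀ α β, i.app _ (L' α β) = i.app _ (res X' inf_le_left (L α)) := fun α β => by
    simp only [L', map_mul, app_res i (inf_le_right : U α ⊓ U β ≤ U β),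
      app_res i (inf_le_left : U α ⊓ U β ≤ U α), hL, hgv]
  let c : ∀ α β, Γ(X', U α ⊓ U β) := fun α β =>
    res X' inf_le_left (L α) ^ m * (res X' inf_le_left (L α) - L' α β)
      - (res X' inf_le_left (d α) - d' α β)
  have hM0 : ∀ α β, ∃ N, res X' (inf_le_left (b := U β)) (L α) ^ N * c α β = 0 := by
    intro α β
    refine exists_pow_mul_eq_zero'
      (QuasiSeparatedSpace.inter_isCompact (U α).1 (U β).1 (U α).2 (hU α).isCompact (U β).2
        (hU β).isCompact)
      (isQuasiSeparated_inf (hU α)) _ (V := U α ⊓ U β ⊓ D)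
      (by rw [Scheme.basicOpen_res, ← hbo α]; apply Opens.ext; ext; simp; tauto) ?_
    have l1 : U α ⊓ U β ⊓ D ≤ U α ⊓ D := inf_le_inf_right _ inf_le_left
    have l2 : U α ⊓ U β ⊓ D ≤ U β ⊓ D := inf_le_inf_right _ inf_le_right
    have hL'r : res X' (inf_le_left (b := D)) (L' α β) =
        res X' (l2.trans inf_le_left) (L β) * res X' (inf_le_left (b := D)) (v α β) := by
      simp only [L', map_mul, res_res]
    have hd'r : res X' (inf_le_left (b := D)) (d' α β) = res X' (inf_le_left (b := D)) (L' α β) ^ m *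
        (res X' (inf_le_left (b := D)) (L' α β) - res X' l1 (Gc α)) := by
      simp only [d', map_mul, map_pow, res_res, hd' β l2, hL'r,
        hGv α β (inf_le_left : U α ⊓ U β ⊓ D ≤ U α ⊓ U β) inf_le_right, a, map_sub]
      ring
    have h3 : res X' (inf_le_left (b := D)) (L' α β) ^ m *
        (res X' (inf_le_left (b := D)) (L' α β) - res X' l1 (Gc α)) =
        res X' (l1.trans inf_le_left) (L α) ^ m *
        (res X' (inf_le_left (b := D)) (L' α β) - res X' l1 (Gc α)) := by
      refine lift_mul_eq hsq ?_ ?_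
      · simp only [map_pow, app_res i (inf_le_left : U α ⊓ U β ⊓ D ≤ U α ⊓ U β), hLL,
          app_res i (inf_le_left : U α ⊓ U β ≤ U α), app_res i (l1.trans inf_le_left), res_res]
      · simp only [map_sub, app_res i (inf_le_left : U α ⊓ U β ⊓ D ≤ U α ⊓ U β), hLL,
          app_res i (inf_le_left : U α ⊓ U β ≤ U α), app_res i l1, hGg, hL, res_res, sub_self]
    simp only [c, map_sub, map_mul, map_pow, res_res]
    rw [hd' α l1, hd'r, h3]
    simp only [a, map_sub, res_res]
    ring
  choose M0 hM0 using hM0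
  let N := (Finset.univ : Finset (ι × ι)).sup fun p => M0 p.1 p.2
  let n := m + N + 1
  let s : ∀ α, Γ(X', U α) := fun α => L α ^ n - (n : Γ(X', U α)) * (L α ^ N * d α)
  have hs : ∀ α β, res X' (inf_le_left (b := U β)) (s α) =
      res X' (inf_le_right (a := U α)) (s β) * v α β ^ n := by
    intro α β
    have hMc : res X' (inf_le_left (b := U β)) (L α) ^ N * c α β = 0 := by
      obtain ⟨k, hk⟩ := Nat.exists_eq_add_of_le
        (Finset.le_sup (f := fun p : ι × ι => M0 p.1 p.2) (Finset.mem_univ (α, β)))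
      rw [show N = k + M0 α β by rw [add_comm]; exact hk, pow_add, mul_assoc, hM0, mul_zero]
    have hp := pow_sub_pow_of_sq_zero
      (p := res X' (inf_le_left (b := U β)) (L α)) (q := L' α β)
      (hsq _ _ _ (by rw [map_sub, hLL, sub_self]) (by rw [map_sub, hLL, sub_self]))
      (m + N)
    have hdb : L' α β ^ N * d' α β = res X' inf_le_left (L α) ^ N * d' α β :=
      lift_mul_eq hsq (by simp only [map_pow, hLL])
        (by simp only [d', map_mul, app_res i (inf_le_right : U α ⊓ U β ≤ U β), hd, map_zero, zero_mul])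
    have e1 : res X' (inf_le_right (a := U α)) (s β) * v α β ^ n =
        L' α β ^ n - (n : Γ(X', U α ⊓ U β)) * (L' α β ^ N * d' α β) := by
      simp only [s, L', d', n, map_sub, map_mul, map_pow, map_natCast]
      ring
    rw [e1, hdb]
    simp only [c] at hMc
    simp only [s, n, map_sub, map_mul, map_pow, map_natCast]
    push_cast at hp ⊢
    linear_combination hp + (m + N + 1 : Γ(X', U α ⊓ U β)) * hMc
  obtain ⟨t, ht, -⟩ := PicAux.res_glue (M := CohB1.tensorPow M n) U (fun _ => le_top) hcov
    (fun α => s α • powSec (e α) n) fun α β => by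
      rw [resM_smul, resM_smul, PicAux.res_powSec, PicAux.res_powSec, hv α β, PicAux.powSec_smul,
        ← mul_smul, ← hs]
  refine ⟨n, t, Nat.succ_pos _, PicAux.opens_ext_cover (eq_top_iff.2 hcov) fun α => ?_⟩
  rw [Groth.PropsBasic.Ample.gloc_inf_eq_basicOpen ((he α).pow n) (ht α), inf_comm, hbo α]
  refine eq_of_preimage_eq (i := i) ?_
  rw [i.preimage_basicOpen, i.preimage_basicOpen, hL]
  simp only [s, map_sub, map_mul, map_pow, hd, mul_zero, sub_zero, hL]
  exact Scheme.basicOpen_pow _ _ (Nat.succ_pos _)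

/-- Ampleness descends to a square zero thickening. -/
theorem isAmple_of_ker_sq_eq_bot (i : X ⟶ X') [IsClosedImmersion i] [Surjective i]
    (L : X'.Modules) (hL : PicF.IsInvertible L) (hA : CohB1.IsAmple ((Scheme.Modules.pullback i).obj L))
    (h : i.ker * i.ker = ⊥) : CohB1.IsAmple L := by
  have : CompactSpace X := hA.2.1
  have : QuasiSeparatedSpace X :=
    haveI := Groth.PropsBasic.Ample.isSeparated_of_cover hA.1 hA.2.2
    inferInstance
  have : CompactSpace X' := ⟨by
    rw [← Set.image_univ_of_surjective i.surjective]; exact isCompact_univ.image i.continuous⟩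
  have : QuasiSeparatedSpace X' := by
    rw [quasiSeparatedSpace_iff_quasiSeparated]
    have : QuasiSeparated (i ≫ terminal.from X') := by
      rw [terminal.comp_from, ← quasiSeparatedSpace_iff_quasiSeparated]; infer_instance
    exact quasiSeparated_of_comp_surjective i _
  have hsq : ∀ (U : X'.Opens) (x y : Γ(X', U)), i.app U x = 0 → i.app U y = 0 → x * y = 0 :=
    fun U x y hx hy => eq_zero_of_res_affine fun W hW hWa => by
      have hk : ∀ z : Γ(X', U), i.app U z = 0 →
          X'.presheaf.map (homOfLE hW).op z ∈ i.ker.ideal ⟨W, hWa⟩ := fun z hz => by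
        rw [Scheme.Hom.ker_apply, RingHom.mem_ker]
        exact (congr($(i.naturality (homOfLE hW).op) z)).trans
          ((congrArg (X.presheaf.map _).hom hz).trans (map_zero _))
      have hbot : i.ker.ideal ⟨W, hWa⟩ * i.ker.ideal ⟨W, hWa⟩ = ⊥ := by
        rw [← Pi.mul_apply (f := i.ker.ideal), ← Scheme.IdealSheafData.ideal_mul, h]
        simp
      have := Ideal.mul_mem_mul (hk x hx) (hk y hy)
      rw [hbot, Ideal.mem_bot] at this
      rw [map_mul]
      exact this
  refine ⟨hL, inferInstance, fun x => ?_⟩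
  obtain ⟨y, rfl⟩ := i.surjective x
  obtain ⟨k, s, hys, hs⟩ := hA.2.2 y
  rw [Groth.PropsBasic.Ample.genLocus_eq_gloc] at hys hs
  obtain ⟨φ⟩ := PicAux.pullback_tensorPow i L (k + 1)
  let σ := φ.inv.app ⊤ (PicAux.gsec s)
  have hσ : gloc σ = gloc (PicAux.gsec s) := Groth.PropsBasic.Ample.gloc_map φ.inv _
  obtain ⟨D, hDg⟩ : ∃ D : X'.Opens, i ⁻¹ᵁ D = gloc σ := by
    obtain ⟨V, hV, hVg⟩ := i.isEmbedding.isInducing.isOpen_iff.1 (gloc σ).2
    exact ⟨⟨V, hV⟩, Opens.ext hVg⟩
  have hD : IsAffineOpen D := by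
    have : IsAffine (i ⁻¹ᵁ D : Scheme.{u}) := by rw [hDg, hσ]; exact hs
    have : IsClosedImmersion (i ∣_ D) :=
      MorphismProperty.of_isPullback (isPullback_morphismRestrict i D).flip inferInstance
    have : Surjective (i ∣_ D) :=
      MorphismProperty.of_isPullback (isPullback_morphismRestrict i D).flip inferInstance
    exact isAffine_of_surjective_closedImmersion (i ∣_ D)
  obtain ⟨n, t, hn, ht⟩ :=
    exists_gloc_pow hsq (PicAux.isInvertible_tensorPow hL (k + 1)) σ hD hDg
  obtain ⟨c, hc⟩ := Groth.PropsBasic.Ample.exists_gloc_transport (k + 1) n t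
  have key : ∀ N N' : ℕ, N = N' → ∀ c : Γ(CohB1.tensorPow L N, ⊤),
      ∃ c' : Γ(CohB1.tensorPow L N', ⊤), gloc c' = gloc c := by
    rintro N _ rfl c
    exact ⟨c, rfl⟩
  obtain ⟨c', hc'⟩ := key _ ((k + 1) * n - 1 + 1) (by
    have : 0 < (k + 1) * n := Nat.mul_pos (Nat.succ_pos k) hn
    omega) c
  refine ⟨(k + 1) * n - 1, PicAux.homOfSection c', ?_, ?_⟩
  · change i y ∈ gloc c'
    rw [hc', hc, ht]
    exact (hDg.trans hσ).ge hys
  · change IsAffineOpen (gloc c')
    rw [hc', hc, ht]
    exact hD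

theorem isAmple_of_ker_pow_eq_bot (n : ℕ) : ∀ {X : Scheme.{u}} (i : X ⟶ X') [IsClosedImmersion i]
    [Surjective i] (M : X'.Modules), PicF.IsInvertible M →
    CohB1.IsAmple ((Scheme.Modules.pullback i).obj M) → i.ker ^ (2 ^ n) = ⊥ → CohB1.IsAmple M := by
  induction n generalizing X' with
  | zero =>
    intro X i _ _ M hM hA h
    apply isAmple_of_ker_sq_eq_bot i M hM hA
    rw [pow_zero, pow_one] at h
    ext U
    simp [h]
  | succ n ih =>
    intro X i _ _ M hM hA h
    let K := i.ker
    let L := K ^ (2 ^ n)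
    have hle : L.subschemeι.ker ≤ i.ker := by
      rw [Scheme.IdealSheafData.ker_subschemeι]
      intro U
      show (K.ideal ^ 2 ^ n) U ≤ K.ideal U
      rw [Pi.pow_apply]
      exact Ideal.pow_le_self (by positivity)
    let j := IsClosedImmersion.lift L.subschemeι i hle
    have hj : j ≫ L.subschemeι = i := IsClosedImmersion.lift_fac _ _ hle
    have : IsClosedImmersion (j ≫ L.subschemeι) := by rw [hj]; infer_instance
    have : IsClosedImmersion j := IsClosedImmersion.of_comp j L.subschemeι
    have : Surjective L.subschemeι := by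
      have : Surjective (j ≫ L.subschemeι) := by rw [hj]; infer_instance
      exact Surjective.of_comp j _
    have : Surjective j := ⟨fun y => by
      obtain ⟨x, hx⟩ := i.surjective (L.subschemeι y)
      refine ⟨x, L.subschemeι.isClosedEmbedding.injective ?_⟩
      rw [← hx, ← Scheme.Hom.comp_apply, hj]⟩
    -- the kernel of `j` has `2 ^ n`-th power zero
    have hjn : j.ker ^ (2 ^ n) = ⊥ := by
      refine Scheme.IdealSheafData.ext_of_iSup_eq_top
        (fun W : X'.affineOpens => ⟨L.subschemeι ⁻¹ᵁ W.1, W.2.preimage _⟩) ?_ fun W => ?_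
      · exact IsOpenCover.comap (iSup_affineOpens_eq_top X') _
      have hsub : j.ker.ideal ⟨L.subschemeι ⁻¹ᵁ W.1, W.2.preimage _⟩ ≤
          (K.ideal W).map (L.subschemeι.app W.1).hom := by
        intro z hz
        rw [Scheme.Hom.ker_apply, RingHom.mem_ker] at hz
        obtain ⟨w, rfl⟩ := L.subschemeι.app_surjective W.1 W.2 z
        refine Ideal.mem_map_of_mem _ ?_
        rw [Scheme.Hom.ker_apply, RingHom.mem_ker]
        have := congr($(Scheme.Hom.congr_app hj.symm W.1) w)
        refine this.trans ?_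
        rw [Scheme.Hom.comp_app]
        exact (congrArg (X.presheaf.map _).hom hz).trans (map_zero _)
      rw [Scheme.IdealSheafData.ideal_pow, Pi.pow_apply, Scheme.IdealSheafData.ideal_bot, Pi.bot_apply,
        eq_bot_iff]
      refine (Ideal.pow_right_mono hsub _).trans ?_
      rw [← Ideal.map_pow, Ideal.map_le_iff_le_comap]
      intro w hw
      rw [Ideal.mem_comap, Ideal.mem_bot, ← RingHom.mem_ker, ← Scheme.Hom.ker_apply,
        Scheme.IdealSheafData.ker_subschemeι]
      exact hw
    have hA' : CohB1.IsAmple ((Scheme.Modules.pullback L.subschemeι).obj M) :=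
      ih (X' := L.subscheme) j _ (PicAux.isInvertible_pullback _ hM)
        (Groth.Ega2Proj.isAmple_of_iso (((Scheme.Modules.pullbackComp j L.subschemeι).app M ≪≫
          (Scheme.Modules.pullbackCongr hj).app M).symm) hA) hjn
    apply isAmple_of_ker_sq_eq_bot L.subschemeι M hM hA'
    rw [Scheme.IdealSheafData.ker_subschemeι, ← pow_add, ← two_mul, ← pow_succ']
    exact h

/-- If `i : X ⟶ X'` is a surjective closed immersion and the pullback of `M` is ample, so is `M`. -/
theorem isAmple_of_surjective_closedImmersion (i : X ⟶ X') [IsClosedImmersion i] [Surjective i]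
    (M : X'.Modules) (hM : PicF.IsInvertible M)
    (hA : CohB1.IsAmple ((Scheme.Modules.pullback i).obj M)) : CohB1.IsAmple M := by
  have : CompactSpace X := hA.2.1
  have : QuasiSeparatedSpace X :=
    haveI := Groth.PropsBasic.Ample.isSeparated_of_cover hA.1 hA.2.2
    inferInstance
  have : CompactSpace X' := ⟨by
    rw [← Set.image_univ_of_surjective i.surjective]; exact isCompact_univ.image i.continuous⟩
  have : QuasiSeparatedSpace X' := by
    rw [quasiSeparatedSpace_iff_quasiSeparated]
    have : QuasiSeparated (i ≫ terminal.from X') := by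
      rw [terminal.comp_from, ← quasiSeparatedSpace_iff_quasiSeparated]; infer_instance
    exact quasiSeparated_of_comp_surjective i _
  let Λ := {K : X'.IdealSheafData // K ≤ i.ker ∧ ∃ n, K ^ (2 ^ n) = ⊥}
  have : Nonempty Λ := ⟨⟨⊥, bot_le, 0, pow_one _⟩⟩
  have : IsDirected Λ (· ≤ ·) := ⟨fun K L => by
    obtain ⟨m, hm⟩ := K.2.2
    obtain ⟨n, hn⟩ := L.2.2
    refine ⟨⟨K.1 ⊔ L.1, sup_le K.2.1 L.2.1, 2 ^ m + 2 ^ n, ?_⟩, (le_sup_left : K.1 ≤ _), (le_sup_right : L.1 ≤ _)⟩
    ext U : 2
    rw [Scheme.IdealSheafData.ideal_pow, Pi.pow_apply, Scheme.IdealSheafData.ideal_sup, Pi.sup_apply,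
      Scheme.IdealSheafData.ideal_bot, Pi.bot_apply, eq_bot_iff]
    have hm' : K.1.ideal U ^ 2 ^ m = ⊥ := congr(($hm).ideal U)
    have hn' : L.1.ideal U ^ 2 ^ n = ⊥ := congr(($hn).ideal U)
    refine (Ideal.pow_le_pow_right Nat.lt_two_pow_self.le).trans ?_
    refine Ideal.sup_pow_add_le_pow_sup_pow.trans ?_
    rw [hm', hn', sup_idem]⟩
  let D : Λᵒᵖ ⥤ Scheme.{u} :=
    { obj := fun K => K.unop.1.subscheme
      map := fun f => Scheme.IdealSheafData.inclusion f.unop.le
      map_id := fun K => Scheme.IdealSheafData.inclusion_id _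
      map_comp := fun f g => (Scheme.IdealSheafData.inclusion_comp _ _).symm }
  let c : Cone D :=
    { pt := X
      π :=
        { app := fun K => IsClosedImmersion.lift K.unop.1.subschemeι i
            (by rw [Scheme.IdealSheafData.ker_subschemeι]; exact K.unop.2.1)
          naturality := fun K L f => by
            rw [← cancel_mono L.unop.1.subschemeι]
            simp [D] } }
  have hb : ∀ (s : Cone D) (K : Λᵒᵖ), s.π.app K ≫ K.unop.1.subschemeι =
      s.π.app (op ⟨⊥, bot_le, 0, pow_one _⟩) ≫ (⊥ : X'.IdealSheafData).subschemeι := fun s K => by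
    rw [← s.w (homOfLE (bot_le : (⊥ : X'.IdealSheafData) ≤ K.unop.1) :
      (⟨⊥, bot_le, 0, pow_one _⟩ : Λ) ⟶ K.unop).op]
    simp [D]
  let b : ∀ s : Cone D, s.pt ⟶ X' := fun s =>
    s.π.app (op ⟨⊥, bot_le, 0, pow_one _⟩) ≫ (⊥ : X'.IdealSheafData).subschemeι
  have hker : ∀ s : Cone D, i.ker ≤ (b s).ker := fun s W z hz => by
    obtain ⟨K, hK, hn, hzK⟩ := exists_nilpotent_le_ker i W z hz
    have h1 : K ≤ (b s).ker := by
      rw [show b s = s.π.app (op ⟨K, hK, hn⟩) ≫ K.subschemeι from (hb s (op ⟨K, hK, hn⟩)).symm]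
      exact K.ker_subschemeι.ge.trans (Scheme.Hom.le_ker_comp _ _)
    exact h1 W hzK
  let hc : IsLimit c :=
    { lift := fun s => IsClosedImmersion.lift i (b s) (hker s)
      fac := fun s K => by
        rw [← cancel_mono K.unop.1.subschemeι]
        simp [c, hb s K, b]
      uniq := fun s m hm => by
        rw [← cancel_mono i, IsClosedImmersion.lift_fac]
        simp only [b, ← hm, c, Category.assoc, IsClosedImmersion.lift_fac] }
  have : ∀ {K L : Λᵒᵖ} (f : K ⟶ L), IsAffineHom (D.map f) := fun {K L} f => by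
    have : IsClosedImmersion (D.map f ≫ L.unop.1.subschemeι) := by simp [D]; infer_instance
    have : IsClosedImmersion (D.map f) := IsClosedImmersion.of_comp _ L.unop.1.subschemeι
    infer_instance
  have : ∀ K : Λᵒᵖ, CompactSpace (D.obj K) := fun K =>
    QuasiCompact.compactSpace_of_compactSpace K.unop.1.subschemeι
  have : ∀ K : Λᵒᵖ, QuasiSeparatedSpace (D.obj K) := fun K =>
    quasiSeparatedSpace_of_quasiSeparated K.unop.1.subschemeι
  let o : Λᵒᵖ := op ⟨⊥, bot_le, 0, pow_one _⟩
  have ho : c.π.app o ≫ o.unop.1.subschemeι = i := IsClosedImmersion.lift_fac _ _ _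
  obtain ⟨K, φ, hK⟩ := Groth.Limits.AmpleStage.exists_stage_isAmple hc o
    ((Scheme.Modules.pullback o.unop.1.subschemeι).obj M) (PicAux.isInvertible_pullback _ hM)
    (Groth.Ega2Proj.isAmple_of_iso
      (((Scheme.Modules.pullbackComp (c.π.app o) o.unop.1.subschemeι).app M ≪≫
        (Scheme.Modules.pullbackCongr ho).app M).symm) hA)
  obtain ⟨n, hn⟩ := K.unop.2.2
  have : Surjective K.unop.1.subschemeι := by
    have : Surjective (c.π.app K ≫ K.unop.1.subschemeι) := by simp [c]; infer_instance
    exact Surjective.of_comp (c.π.app K) _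
  have hφ : D.map φ ≫ o.unop.1.subschemeι = K.unop.1.subschemeι := by simp [D]
  exact isAmple_of_ker_pow_eq_bot n K.unop.1.subschemeι M hM
    (Groth.Ega2Proj.isAmple_of_iso ((Scheme.Modules.pullbackComp (D.map φ) o.unop.1.subschemeι).app M ≪≫
      (Scheme.Modules.pullbackCongr hφ).app M) hK)
    (by rwa [Scheme.IdealSheafData.ker_subschemeι])

end Groth.Limits.AmpleThickening
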