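import Mathlib.RingTheory.Spectrum.Prime.ConstructibleSet
import Mathlib.RingTheory.LocalRing.ResidueField.Ideal
import Mathlib.Order.Filter.Ultrafilter.Basic

/-!
# Ultrafilter limits in prime spectra

Compactness of the constructible topology of a prime spectrum in ultrafilter form, and the fact that
an intersection of constructible subsets is the image of a prime spectrum.
-/

universe u v

open Filter Topology PrimeSpectrum

namespace Groth.Limits

variable {R : Type u} [CommRing R] {ι : Type v}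

/-- `P` is the limit of `p` along the ultrafilter `u`. -/
def IsUltraLim (u : Ultrafilter ι) (p : ι → PrimeSpectrum R) (P : PrimeSpectrum R) : Prop :=
  ∀ r, r ∈ P.asIdeal ↔ ∀ᶠ i in u, r ∈ (p i).asIdeal

theorem exists_isUltraLim (u : Ultrafilter ι) (p : ι → PrimeSpectrum R) :
    ∃ P, IsUltraLim u p P := by
  let I : Ideal R :=
  { carrier := {r | ∀ᶠ i in u, r ∈ (p i).asIdeal}
    add_mem' := fun {a b} ha hb ↦ (ha.and hb).mono fun i h ↦ add_mem h.1 h.2
    zero_mem' := Eventually.of_forall fun i ↦ zero_mem _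
    smul_mem' := fun c {a} ha ↦ ha.mono fun i h ↦ Ideal.mul_mem_left _ c h }
  have hI : I.IsPrime := by
    refine ⟨fun h ↦ ?_, fun {a b} hab ↦ ?_⟩
    · have h1 : ∀ᶠ i in u, (1 : R) ∈ (p i).asIdeal := (Ideal.eq_top_iff_one I).mp h
      obtain ⟨i, hi⟩ := h1.exists
      exact (p i).isPrime.ne_top ((Ideal.eq_top_iff_one _).mpr hi)
    · exact Ultrafilter.eventually_or.mp
        (Eventually.mono hab fun i h ↦ (p i).isPrime.mem_or_mem h)
  exact ⟨⟨I, hI⟩, fun r ↦ Iff.rfl⟩

theorem IsUltraLim.mem_zeroLocus_iff {u : Ultrafilter ι} {p : ι → PrimeSpectrum R}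
    {P : PrimeSpectrum R} (hP : IsUltraLim u p P) {s : Set R} (hs : s.Finite) :
    P ∈ zeroLocus s ↔ ∀ᶠ i in u, p i ∈ zeroLocus s := by
  simp only [mem_zeroLocus, Set.subset_def, SetLike.mem_coe]
  rw [hs.eventually_all]
  exact forall₂_congr fun r _ ↦ hP r

theorem IsUltraLim.mem_iff {u : Ultrafilter ι} {p : ι → PrimeSpectrum R}
    {P : PrimeSpectrum R} (hP : IsUltraLim u p P) {S : Set (PrimeSpectrum R)}
    (hS : IsConstructible S) : P ∈ S ↔ ∀ᶠ i in u, p i ∈ S := by
  obtain ⟨d, rfl⟩ := exists_constructibleSetData_iff.mpr hS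
  simp only [ConstructibleSetData.toSet, Set.mem_iUnion, exists_prop]
  have : (∀ᶠ i in u, ∃ C ∈ d, p i ∈ C.toSet) ↔ ∃ C ∈ d, ∀ᶠ i in u, p i ∈ C.toSet :=
    Ultrafilter.eventually_exists_mem_iff (is := (↑d : Set _)) (P := fun (C : BasicConstructibleSetData R) i ↦ p i ∈ C.toSet) d.finite_toSet
  rw [this]
  refine exists_congr fun C ↦ and_congr_right fun _ ↦ ?_
  simp only [BasicConstructibleSetData.toSet, Set.mem_sdiff, eventually_and,
    Ultrafilter.eventually_not, hP.mem_zeroLocus_iff (Set.finite_range C.g),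
    hP.mem_zeroLocus_iff (Set.finite_singleton C.f)]

theorem IsUltraLim.comap {S : Type u} [CommRing S] (φ : R →+* S) {u : Ultrafilter ι}
    {q : ι → PrimeSpectrum S} {Q : PrimeSpectrum S} (hQ : IsUltraLim u q Q) :
    IsUltraLim u (fun i ↦ PrimeSpectrum.comap φ (q i)) (PrimeSpectrum.comap φ Q) :=
  fun r ↦ hQ (φ r)

theorem IsUltraLim.unique {u : Ultrafilter ι} {p : ι → PrimeSpectrum R}
    {P P' : PrimeSpectrum R} (hP : IsUltraLim u p P) (hP' : IsUltraLim u p P') : P = P' :=
  PrimeSpectrum.ext (Ideal.ext fun r ↦ (hP r).trans (hP' r).symm)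

/-- The image of a prime spectrum is closed under ultrafilter limits. -/
theorem IsUltraLim.mem_range_comap {S : Type u} [CommRing S] (φ : R →+* S) {u : Ultrafilter ι}
    {p : ι → PrimeSpectrum R} {P : PrimeSpectrum R} (hP : IsUltraLim u p P)
    (h : ∀ᶠ i in u, p i ∈ Set.range (PrimeSpectrum.comap φ)) :
    P ∈ Set.range (PrimeSpectrum.comap φ) := by
  classical
  obtain ⟨i₀, q₀, -⟩ := h.exists
  let q : ι → PrimeSpectrum S := fun i ↦
    if hi : p i ∈ Set.range (PrimeSpectrum.comap φ) then hi.choose else q₀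
  obtain ⟨Q, hQ⟩ := exists_isUltraLim u q
  refine ⟨Q, IsUltraLim.unique ?_ hP⟩
  intro r
  rw [(hQ.comap φ) r]
  refine Filter.eventually_congr (h.mono fun i hi ↦ ?_)
  have : PrimeSpectrum.comap φ (q i) = p i := by
    simp only [q, dif_pos hi]
    exact hi.choose_spec
  simp only [this]

/-- An intersection of constructible subsets of a prime spectrum is the image of a prime
spectrum, namely of the product of the residue fields of its points. -/
theorem exists_range_comap_eq_sInter (𝒮 : Set (Set (PrimeSpectrum R)))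
    (h𝒮 : ∀ s ∈ 𝒮, IsConstructible s) :
    ∃ (A : Type u) (_ : CommRing A) (φ : R →+* A), Set.range (PrimeSpectrum.comap φ) = ⋂₀ 𝒮 := by
  classical
  let E := ⋂₀ 𝒮
  let φ : R →+* ((p : E) → p.1.asIdeal.ResidueField) := RingHom.pi fun p ↦ algebraMap R p.1.asIdeal.ResidueField
  have hφ (r : R) (p : E) : φ r p = 0 ↔ r ∈ p.1.asIdeal := by
    refine Iff.trans ?_
      (SetLike.ext_iff.mp (Ideal.ker_algebraMap_residueField p.1.asIdeal) r)
    exact (RingHom.mem_ker (f := algebraMap R p.1.asIdeal.ResidueField)).symm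
  refine ⟨((p : E) → p.1.asIdeal.ResidueField), inferInstance, φ, Set.Subset.antisymm ?_ ?_⟩
  · rintro _ ⟨q, rfl⟩
    let e : Set E → ((p : E) → p.1.asIdeal.ResidueField) := fun B p ↦ if p ∈ B then 1 else 0
    have e_mul (B C : Set E) : e B * e C = e (B ∩ C) := by
      ext p; by_cases hB : p ∈ B <;> by_cases hC : p ∈ C <;> simp [e, hB, hC]
    let F : Filter E :=
    { sets := {B | e B ∉ q.asIdeal}
      univ_sets := fun h ↦ by
        have : e Set.univ = 1 := by ext p; simp [e]
        exact q.isPrime.ne_top ((Ideal.eq_top_iff_one _).mpr (this ▸ h))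
      sets_of_superset := fun {B C} hB hBC hC ↦ hB (by
        have : e B * e C = e B := by rw [e_mul, Set.inter_eq_left.mpr hBC]
        exact this ▸ Ideal.mul_mem_left _ _ hC)
      inter_sets := fun {B C} hB hC h ↦ by
        rw [← e_mul] at h
        exact (q.isPrime.mem_or_mem h).elim hB hC }
    have hF (B : Set E) : B ∈ F ↔ e B ∉ q.asIdeal := Iff.rfl
    have hcompl (B : Set E) : Bᶜ ∉ F ↔ B ∈ F := by
      have h1 : e B + e Bᶜ = 1 := by ext p; by_cases hB : p ∈ B <;> simp [e, hB]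
      have h0 : e B * e Bᶜ = 0 := by ext p; by_cases hB : p ∈ B <;> simp [e, hB]
      rw [hF, hF, not_not]
      refine ⟨fun h h' ↦ q.isPrime.ne_top ((Ideal.eq_top_iff_one _).mpr (h1 ▸ add_mem h' h)),
        fun h ↦ ((q.isPrime.mem_or_mem (h0 ▸ zero_mem _ : e B * e Bᶜ ∈ q.asIdeal)).resolve_left h)⟩
    let u : Ultrafilter E := Ultrafilter.ofComplNotMemIff F hcompl
    have hP : IsUltraLim u (fun p : E ↦ p.1) (PrimeSpectrum.comap φ q) := by
      intro r
      let B : Set E := {p | r ∉ p.1.asIdeal}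
      have h1 : φ r * e B = φ r := by
        ext p; by_cases hB : p ∈ B
        · simp [e, hB]
        · simp only [B, Set.mem_setOf_eq, not_not] at hB
          simp [(hφ r p).mpr hB]
      have h2 : φ r * (fun p ↦ (φ r p)⁻¹) = e B := by
        ext p; by_cases hB : p ∈ B
        · have : φ r p ≠ 0 := fun h ↦ hB ((hφ r p).mp h)
          simp [e, hB, this]
        · have : φ r p = 0 := (hφ r p).mpr (by simpa [B] using hB)
          simp [e, hB, this]
      have : φ r ∈ q.asIdeal ↔ e B ∈ q.asIdeal :=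
        ⟨fun h ↦ h2 ▸ Ideal.mul_mem_right _ _ h, fun h ↦ h1 ▸ Ideal.mul_mem_left _ _ h⟩
      refine this.trans ?_
      rw [← not_not (a := e B ∈ q.asIdeal), ← hF, ← hcompl, not_not]
      have : Bᶜ = {p : E | r ∈ p.1.asIdeal} := by ext p; simp [B]
      rw [this]
      rfl
    exact fun s hs ↦ (hP.mem_iff (h𝒮 s hs)).mpr (Eventually.of_forall fun p ↦ p.2 s hs)
  · intro p hp
    refine ⟨⟨RingHom.ker (Pi.evalRingHom (fun p : E ↦ p.1.asIdeal.ResidueField) ⟨p, hp⟩),
      RingHom.ker_isPrime _⟩, PrimeSpectrum.ext (Ideal.ext fun r ↦ ?_)⟩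
    exact (RingHom.mem_ker).trans (hφ r ⟨p, hp⟩)

end Groth.Limits
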