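import Mathlib.AlgebraicGeometry.AffineTransitionLimit
import Groth.Agent.Limits.Ultra
import Groth.Prelude.Def_ProCons

/-!
# Pro-constructible subsets of schemes as images of affine schemes

`QCImage E`: `E` is the image of an affine scheme. `PC E`: `E ∩ W` is such an image for every affine
open `W`. The main result is `nonempty_iInter_of_directed`, the compactness of the constructible
topology.
-/

universe u v

open CategoryTheory Limits AlgebraicGeometry Topology

namespace Groth.Limits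

variable {X Y : Scheme.{u}}

/-- `E` is the image of an affine scheme. -/
def QCImage (E : Set X) : Prop :=
  ∃ (R : CommRingCat.{u}) (a : Spec R ⟶ X), Set.range a = E

theorem qcImage_range {T : Scheme.{u}} [CompactSpace T] (a : T ⟶ X) : QCImage (Set.range a) := by
  obtain ⟨R, f, hf⟩ := compactSpace_iff_exists.mp ‹CompactSpace T›
  refine ⟨R, f ≫ a, ?_⟩
  rw [Scheme.Hom.comp_base, TopCat.coe_comp, Set.range_comp, hf.range_eq, Set.image_univ]

theorem qcImage_empty : QCImage (∅ : Set X) :=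
  have : CompactSpace (⊥ : X.Opens).toScheme :=
    isCompact_iff_compactSpace.mp (by simp)
  by simpa using qcImage_range (⊥ : X.Opens).ι

theorem QCImage.image {E : Set X} (hE : QCImage E) (f : X ⟶ Y) : QCImage (f '' E) := by
  obtain ⟨R, a, rfl⟩ := hE
  exact ⟨R, a ≫ f, by rw [Scheme.Hom.comp_base, TopCat.coe_comp, Set.range_comp]⟩

theorem QCImage.isCompact {E : Set X} (hE : QCImage E) : IsCompact E := by
  obtain ⟨R, a, rfl⟩ := hE
  exact isCompact_range a.continuous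

theorem QCImage.iUnion {κ : Type v} [Finite κ] {E : κ → Set X} (hE : ∀ k, QCImage (E k)) :
    QCImage (⋃ k, E k) := by
  obtain ⟨n, ⟨e⟩⟩ := Finite.exists_equiv_fin κ
  choose R a ha using fun k : ULift.{u} (Fin n) ↦ hE (e.symm k.down)
  have h : Set.range (Sigma.desc a) = ⋃ k, E k := by
    rw [← e.symm.surjective.iUnion_comp, ← Equiv.ulift.{u}.surjective.iUnion_comp]
    refine Set.Subset.antisymm ?_ (Set.iUnion_subset fun k ↦ ?_)
    · rintro _ ⟨x, rfl⟩
      obtain ⟨k, y, rfl⟩ : ∃ (k : ULift.{u} (Fin n)) (y : Spec (R k)),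
          Sigma.ι (fun k ↦ Spec (R k)) k y = x :=
        Scheme.Cover.exists_eq (sigmaOpenCover (fun k ↦ Spec (R k))) x
      refine Set.mem_iUnion.mpr ⟨k, ?_⟩
      rw [Equiv.ulift_apply, ← ha, ← Scheme.Hom.comp_apply]
      exact ⟨y, by simp⟩
    · rw [Equiv.ulift_apply, ← ha]
      rintro _ ⟨y, rfl⟩
      exact ⟨Sigma.ι (fun k ↦ Spec (R k)) k y, by rw [← Scheme.Hom.comp_apply, Sigma.ι_desc]⟩
  exact h ▸ qcImage_range _

theorem QCImage.union {E F : Set X} (hE : QCImage E) (hF : QCImage F) : QCImage (E ∪ F) := by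
  rw [Set.union_eq_iUnion]
  exact QCImage.iUnion (by rintro (_ | _) <;> assumption)

/-- Images of affine schemes pull back along affine morphisms. -/
theorem QCImage.preimage {E : Set Y} (hE : QCImage E) (f : X ⟶ Y) [IsAffineHom f] :
    QCImage (f ⁻¹' E) := by
  obtain ⟨R, a, rfl⟩ := hE
  have := qcImage_range (pullback.snd a f)
  rwa [Scheme.Pullback.range_snd] at this

theorem QCImage.inter_range {E : Set X} (hE : QCImage E) [QuasiSeparatedSpace X]
    {T : Scheme.{u}} [CompactSpace T] (a : T ⟶ X) : QCImage (E ∩ Set.range a) := by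
  obtain ⟨R, b, rfl⟩ := hE
  have : QuasiCompact a := inferInstance
  have := qcImage_range (pullback.fst b a ≫ b)
  rwa [Scheme.Pullback.range_fst_comp] at this

theorem QCImage.inter {E F : Set X} (hE : QCImage E) (hF : QCImage F) [QuasiSeparatedSpace X] :
    QCImage (E ∩ F) := by
  obtain ⟨R, a, rfl⟩ := hF
  exact hE.inter_range a

/-- Transfer along an open immersion. -/
theorem QCImage.preimage_of_subset_range {E : Set Y} (hE : QCImage E) (f : X ⟶ Y)
    [IsOpenImmersion f] (h : E ⊆ Set.range f) : QCImage (f ⁻¹' E) := by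
  obtain ⟨R, a, rfl⟩ := hE
  refine ⟨R, IsOpenImmersion.lift f a h, ?_⟩
  conv_rhs => rw [← IsOpenImmersion.lift_fac f a h]
  rw [Scheme.Hom.comp_base, TopCat.coe_comp, Set.range_comp,
    Set.preimage_image_eq _ f.isOpenEmbedding.injective]

/-- `E ∩ W` is the image of an affine scheme for every affine open `W`. -/
def PC (E : Set X) : Prop := ∀ W : X.Opens, IsAffineOpen W → QCImage (E ∩ (W : Set X))

theorem pc_univ : PC (Set.univ : Set X) := fun W hW ↦ by
  have : CompactSpace W.toScheme := isCompact_iff_compactSpace.mp hW.isCompact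
  simpa using qcImage_range W.ι

theorem PC.qcImage_inter_isCompact {E : Set X} (hE : PC E) (U : X.Opens)
    (hU : IsCompact (U : Set X)) : QCImage (E ∩ (U : Set X)) := by
  obtain ⟨t, ht⟩ := hU.elim_finite_subcover
    (fun W : {W : X.Opens // IsAffineOpen W ∧ W ≤ U} ↦ (W.1 : Set X)) (fun W ↦ W.1.isOpen)
    fun x hx ↦ by
      obtain ⟨W, hW, hxW, hWU⟩ := exists_isAffineOpen_mem_and_subset (U := U) hx
      exact Set.mem_iUnion.mpr ⟨⟨W, hW, hWU⟩, hxW⟩
  convert QCImage.iUnion (fun W : t ↦ hE W.1.1 W.1.2.1) using 1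
  refine Set.Subset.antisymm (fun x hx ↦ ?_) (Set.iUnion_subset fun W ↦ ?_)
  · obtain ⟨W, hW, hxW⟩ := Set.mem_iUnion₂.mp (ht hx.2)
    exact Set.mem_iUnion.mpr ⟨⟨W, hW⟩, hx.1, hxW⟩
  · exact fun x hx ↦ ⟨hx.1, W.1.2.2 hx.2⟩

theorem PC.qcImage {E : Set X} (hE : PC E) [CompactSpace X] : QCImage E := by
  simpa using hE.qcImage_inter_isCompact ⊤ CompactSpace.isCompact_univ

/-- `PC` can be checked on an affine open neighbourhood of every point. -/
theorem pc_of_exists_nhds {E : Set X}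
    (h : ∀ x, ∃ W : X.Opens, IsAffineOpen W ∧ x ∈ W ∧ QCImage (E ∩ (W : Set X))) : PC E := by
  intro W' hW'
  have key (x : X) (hx : x ∈ W') : ∃ V : X.Opens, x ∈ V ∧ V ≤ W' ∧ IsAffineOpen V ∧
      QCImage (E ∩ (V : Set X)) := by
    obtain ⟨W, hW, hxW, hEW⟩ := h x
    obtain ⟨V, hV, hxV, hVW⟩ := exists_isAffineOpen_mem_and_subset (U := W ⊓ W') ⟨hxW, hx⟩
    refine ⟨V, hxV, fun y hy ↦ (hVW hy).2, hV, ?_⟩
    have : IsAffine W.toScheme := hW
    have : CompactSpace (W.ι ⁻¹ᵁ V).toScheme := isCompact_iff_compactSpace.mp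
      (hV.preimage_of_isOpenImmersion W.ι (by
        rw [Scheme.Opens.opensRange_ι]; exact fun y hy ↦ (hVW hy).1)).isCompact
    have := ((hEW.preimage_of_subset_range W.ι (by simp)).inter_range (W.ι ⁻¹ᵁ V).ι).image W.ι
    convert! this using 1
    rw [Scheme.Opens.range_ι]
    ext y
    refine ⟨fun ⟨hy, hyV⟩ ↦ ⟨⟨y, (hVW hyV).1⟩, ⟨⟨hy, (hVW hyV).1⟩, hyV⟩, rfl⟩, ?_⟩
    rintro ⟨z, ⟨⟨hz, -⟩, hzV⟩, rfl⟩
    exact ⟨hz, hzV⟩
  choose V hxV hVW hV hEV using key
  obtain ⟨t, ht⟩ := hW'.isCompact.elim_finite_subcover (fun x : W' ↦ ((V x.1 x.2) : Set X))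
    (fun x ↦ (V x.1 x.2).isOpen) fun x hx ↦ Set.mem_iUnion.mpr ⟨⟨x, hx⟩, hxV x hx⟩
  convert QCImage.iUnion (fun x : t ↦ hEV x.1.1 x.1.2) using 1
  refine Set.Subset.antisymm (fun y hy ↦ ?_) (Set.iUnion_subset fun x ↦ ?_)
  · obtain ⟨x, hx, hyV⟩ := Set.mem_iUnion₂.mp (ht hy.2)
    exact Set.mem_iUnion.mpr ⟨⟨x, hx⟩, hy.1, hyV⟩
  · exact fun y hy ↦ ⟨hy.1, hVW _ _ hy.2⟩

theorem PC.inter {E F : Set X} (hE : PC E) (hF : PC F) : PC (E ∩ F) := by
  refine pc_of_exists_nhds fun x ↦ ?_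
  obtain ⟨W, hW, hxW, -⟩ := exists_isAffineOpen_mem_and_subset (U := ⊤) (Set.mem_univ x)
  refine ⟨W, hW, hxW, ?_⟩
  have : IsAffine W.toScheme := hW
  have h := (((hE W hW).preimage_of_subset_range W.ι (by simp)).inter
    ((hF W hW).preimage_of_subset_range W.ι (by simp))).image W.ι
  convert! h using 1
  rw [← Set.preimage_inter, Set.image_preimage_eq_inter_range, Scheme.Opens.range_ι]
  ext y; simp; tauto

theorem PC.union {E F : Set X} (hE : PC E) (hF : PC F) : PC (E ∪ F) := fun W hW ↦ by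
  rw [Set.union_inter_distrib_right]
  exact (hE W hW).union (hF W hW)

theorem PC.iUnion {κ : Type v} [Finite κ] {E : κ → Set X} (hE : ∀ k, PC (E k)) :
    PC (⋃ k, E k) := fun W hW ↦ by
  rw [Set.iUnion_inter]
  exact QCImage.iUnion fun k ↦ hE k W hW

theorem PC.preimage {E : Set Y} (hE : PC E) (f : X ⟶ Y) : PC (f ⁻¹' E) := by
  refine pc_of_exists_nhds fun x ↦ ?_
  obtain ⟨V, hV, hxV, -⟩ := exists_isAffineOpen_mem_and_subset (U := ⊤) (Set.mem_univ (f x))
  obtain ⟨W, hW, hxW, hWV'⟩ := exists_isAffineOpen_mem_and_subset (U := f ⁻¹ᵁ V) hxV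
  have hWV : W ≤ f ⁻¹ᵁ V := hWV'
  refine ⟨W, hW, hxW, ?_⟩
  have : IsAffine W.toScheme := hW
  have : IsAffine V.toScheme := hV
  have : IsAffineHom (f.resLE V W hWV) := isAffineHom_of_isAffine _
  have h := (((hE V hV).preimage_of_subset_range V.ι (by simp)).preimage (f.resLE V W hWV)).image
    W.ι
  convert! h using 1
  ext y
  refine ⟨fun ⟨hy, hyW⟩ ↦ ⟨⟨y, hyW⟩, ?_, rfl⟩, ?_⟩
  · have hz : V.ι (f.resLE V W hWV (⟨y, hyW⟩ : W.toScheme)) = f y := by
      exact congr($(Scheme.Hom.resLE_comp_ι f hWV) (⟨y, hyW⟩ : W.toScheme))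
    show V.ι (f.resLE V W hWV (⟨y, hyW⟩ : W.toScheme)) ∈ E ∩ (V : Set Y)
    rw [hz]
    exact ⟨hy, hWV hyW⟩
  · rintro ⟨z, ⟨hz, -⟩, rfl⟩
    refine ⟨?_, z.2⟩
    show f (W.ι z) ∈ E
    rwa [← Scheme.Hom.comp_apply, ← Scheme.Hom.resLE_comp_ι f hWV, Scheme.Hom.comp_apply]

theorem QCImage.inter_pc {E F : Set X} (hE : QCImage E) (hF : PC F) : QCImage (E ∩ F) := by
  obtain ⟨R, a, rfl⟩ := hE
  have := (hF.preimage a).qcImage.image a
  rwa [Set.image_preimage_eq_range_inter] at this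

/-- An intersection of constructible subsets of an affine scheme is the image of an affine
scheme. -/
theorem qcImage_of_forall_isConstructible [IsAffine X] (𝒮 : Set (Set X))
    (h : ∀ s ∈ 𝒮, IsConstructible s) : QCImage (⋂₀ 𝒮) := by
  let R := Γ(X, ⊤)
  let 𝒯 : Set (Set (PrimeSpectrum R)) := (fun s ↦ ⇑X.isoSpec.inv ⁻¹' s) '' 𝒮
  obtain ⟨A, _, φ, hφ⟩ := exists_range_comap_eq_sInter 𝒯 (by
    rintro _ ⟨s, hs, rfl⟩
    exact (h s hs).preimage_of_isOpenEmbedding X.isoSpec.inv.isOpenEmbedding)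
  have hq : QCImage (X := Spec R) (⋂₀ 𝒯) :=
    ⟨CommRingCat.of A, Spec.map (CommRingCat.ofHom φ), hφ⟩
  convert hq.image X.isoSpec.inv using 1
  have hsurj : Function.Surjective ⇑X.isoSpec.inv := Surjective.surj
  ext x
  obtain ⟨y, rfl⟩ := hsurj x
  constructor
  · intro hy
    refine ⟨y, ?_, rfl⟩
    rintro _ ⟨t, ht, rfl⟩
    exact hy t ht
  · rintro ⟨z, hz, hzy⟩ t ht
    obtain rfl := X.isoSpec.inv.isOpenEmbedding.injective hzy
    exact hz _ ⟨t, ht, rfl⟩

theorem pc_of_isLocallyConstructible {E : Set X} (hE : IsLocallyConstructible E) : PC E := by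
  intro W hW
  have : IsAffine W.toScheme := hW
  have h : IsConstructible (⇑W.ι ⁻¹' E) :=
    (hE.preimage_of_isOpenEmbedding W.ι.isOpenEmbedding).isConstructible
  have := (qcImage_of_forall_isConstructible {⇑W.ι ⁻¹' E} (by simpa using h)).image W.ι
  rw [Set.sInter_singleton] at this
  rwa [Set.image_preimage_eq_inter_range, Scheme.Opens.range_ι] at this

theorem pc_of_isConstructible {E : Set X} (hE : IsConstructible E) : PC E :=
  pc_of_isLocallyConstructible hE.isLocallyConstructible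

theorem pc_compl_of_isConstructible {E : Set X} (hE : IsConstructible E) : PC Eᶜ :=
  pc_of_isConstructible hE.compl

theorem pc_of_isClosed {E : Set X} (hE : IsClosed E) : PC E := by
  intro W hW
  have : IsAffine W.toScheme := hW
  let 𝒮 : Set (Set W.toScheme) := {s | IsConstructible s ∧ ⇑W.ι ⁻¹' E ⊆ s}
  have h𝒮 : ⋂₀ 𝒮 = ⇑W.ι ⁻¹' E := by
    refine Set.Subset.antisymm (fun x hx ↦ ?_) (Set.subset_sInter fun s hs ↦ hs.2)
    by_contra hxE
    obtain ⟨V, ⟨hV₁, hV₂⟩, hxV, hVE⟩ := PrespectralSpace.isTopologicalBasis.exists_subset_of_mem_open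
      (show x ∈ (⇑W.ι ⁻¹' E)ᶜ from hxE) (hE.preimage W.ι.continuous).isOpen_compl
    exact hx Vᶜ ⟨(hV₂.isConstructible hV₁).compl, Set.subset_compl_comm.mp hVE⟩ hxV
  have := (qcImage_of_forall_isConstructible 𝒮 fun s hs ↦ hs.1).image W.ι
  rw [h𝒮] at this
  rwa [Set.image_preimage_eq_inter_range, Scheme.Opens.range_ι] at this

theorem pc_of_isProConstructible {E : Set X} (hE : ProCons.IsProConstructible E) : PC E := by
  refine pc_of_exists_nhds fun x ↦ ?_
  obtain ⟨U, hU, hxU, S, hS, hEU⟩ := hE x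
  obtain ⟨W, hW, hxW, hWU⟩ :=
    exists_isAffineOpen_mem_and_subset (X := X) (U := ⟨U, hU⟩) hxU
  refine ⟨W, hW, hxW, ?_⟩
  have : IsAffine W.toScheme := hW
  let j : W.toScheme → U := fun y ↦ ⟨y.1, hWU y.2⟩
  have hj : IsOpenEmbedding j := Topology.IsOpenEmbedding.of_comp _ hU.isOpenEmbedding_subtypeVal W.ι.isOpenEmbedding
  let 𝒮 : Set (Set W.toScheme) := (fun T ↦ j ⁻¹' T) '' S
  have h𝒮 : ⇑W.ι ⁻¹' E = ⋂₀ 𝒮 := by
    ext y
    have := Set.ext_iff.mp hEU (j y)
    simp only [Set.mem_preimage, Set.mem_sInter] at this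
    simp only [𝒮, Set.sInter_image, Set.mem_iInter, Set.mem_preimage]
    exact this
  have := (qcImage_of_forall_isConstructible 𝒮 (by
    rintro _ ⟨T, hT, rfl⟩
    exact ((hS T hT).preimage_of_isOpenEmbedding hj).isConstructible)).image W.ι
  rw [← h𝒮] at this
  rwa [Set.image_preimage_eq_inter_range, Scheme.Opens.range_ι] at this

theorem isProConstructible_compl_of_isIndConstructible {E : Set X}
    (hE : ProCons.IsIndConstructible E) : ProCons.IsProConstructible Eᶜ := by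
  intro x
  obtain ⟨U, hU, hxU, S, hS, hEU⟩ := hE x
  refine ⟨U, hU, hxU, compl '' S, ?_, ?_⟩
  · rintro _ ⟨T, hT, rfl⟩
    intro y
    obtain ⟨V, hyV, hV, hTV⟩ := hS T hT y
    exact ⟨V, hyV, hV, by simpa using hTV.compl⟩
  · rw [Set.preimage_compl, hEU, Set.compl_sUnion]

theorem pc_compl_of_isIndConstructible {E : Set X} (hE : ProCons.IsIndConstructible E) :
    PC Eᶜ :=
  pc_of_isProConstructible (isProConstructible_compl_of_isIndConstructible hE)

/-- Compactness of the constructible topology: a directed family of nonempty `PC` subsets of a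
quasi-compact scheme has nonempty intersection. -/
theorem nonempty_iInter_of_directed [CompactSpace X] {κ : Type v} [Nonempty κ] (A : κ → Set X)
    (hA : ∀ k, PC (A k)) (hdir : ∀ k l, ∃ m, A m ⊆ A k ∧ A m ⊆ A l)
    (hne : ∀ k, (A k).Nonempty) : (⋂ k, A k).Nonempty := by
  classical
  choose x hx using hne
  obtain ⟨u, hu⟩ : ∃ u : Ultrafilter κ, ∀ k, ∀ᶠ l in u, A l ⊆ A k := by
    let F : Filter κ := ⨅ k, Filter.principal {l | A l ⊆ A k}
    have : F.NeBot := by
      refine Filter.iInf_neBot_of_directed (fun k l ↦ ?_)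
        fun k ↦ Filter.principal_neBot_iff.mpr ⟨k, show A k ⊆ A k from subset_rfl⟩
      obtain ⟨m, hm₁, hm₂⟩ := hdir k l
      exact ⟨m, Filter.principal_mono.mpr fun n (hn : A n ⊆ A m) ↦ hn.trans hm₁,
        Filter.principal_mono.mpr fun n (hn : A n ⊆ A m) ↦ hn.trans hm₂⟩
    refine ⟨Ultrafilter.of F, fun k ↦ Ultrafilter.of_le F ?_⟩
    exact Filter.mem_iInf_of_mem k (Filter.mem_principal_self _)
  -- choose an affine open containing `u`-almost all points
  obtain ⟨t, ht⟩ := CompactSpace.isCompact_univ.elim_finite_subcover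
    (fun W : X.affineOpens ↦ (W.1 : Set X)) (fun W ↦ W.1.isOpen) fun y _ ↦ by
      obtain ⟨W, hW, hyW, -⟩ := exists_isAffineOpen_mem_and_subset (U := ⊤) (Set.mem_univ y)
      exact Set.mem_iUnion.mpr ⟨⟨W, hW⟩, hyW⟩
  obtain ⟨W, -, hW⟩ : ∃ W ∈ (↑t : Set X.affineOpens), ∀ᶠ l in u, x l ∈ W.1 := by
    refine (Ultrafilter.eventually_exists_mem_iff (P := fun (W : X.affineOpens) l ↦ x l ∈ W.1)
      t.finite_toSet).mp (Filter.Eventually.of_forall fun l ↦ ?_)
    simpa using ht (Set.mem_univ (x l))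
  obtain ⟨l₀, hl₀⟩ := hW.exists
  have : IsAffine W.1.toScheme := W.2
  let R := Γ(W.1.toScheme, ⊤)
  let q : Spec R ⟶ X := W.1.toScheme.isoSpec.inv ≫ W.1.ι
  have hq : Function.Injective q := q.isOpenEmbedding.injective
  have hrange : Set.range q = (W.1 : Set X) := by
    simp only [q, Scheme.Hom.comp_base, TopCat.coe_comp]
    rw [Surjective.surj.range_comp, Scheme.Opens.range_ι]
  let p : κ → PrimeSpectrum R := fun l ↦
    if h : x l ∈ Set.range q then h.choose else
      (show x l₀ ∈ Set.range q from hrange ▸ hl₀).choose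
  have hp (l : κ) (hl : x l ∈ W.1) : q (p l) = x l := by
    have h : x l ∈ Set.range q := hrange ▸ hl
    have : p l = h.choose := dif_pos h
    rw [this]
    exact h.choose_spec
  obtain ⟨P, hP⟩ := exists_isUltraLim u p
  refine ⟨q P, Set.mem_iInter.mpr fun k ↦ ?_⟩
  obtain ⟨S, a, ha⟩ := (hA k W.1 W.2).preimage_of_subset_range q (by rw [hrange]; simp)
  obtain ⟨φ, rfl⟩ := Spec.map_surjective a
  have hmem : P ∈ Set.range (PrimeSpectrum.comap φ.hom) := by
    refine hP.mem_range_comap φ.hom ((hW.and (hu k)).mono fun l ⟨hl, hlk⟩ ↦ ?_)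
    show p l ∈ Set.range (Spec.map φ)
    rw [ha]
    show q (p l) ∈ A k ∩ (W.1 : Set X)
    rw [hp l hl]
    exact ⟨hlk (hx l), hl⟩
  have : P ∈ ⇑q ⁻¹' (A k ∩ (W.1 : Set X)) := ha ▸ hmem
  exact this.1

end Groth.Limits
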