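import Groth.Agent.Rat20Ext.Isolated
import Mathlib.AlgebraicGeometry.SpreadingOut
import Mathlib.AlgebraicGeometry.FunctionField
import Mathlib.AlgebraicGeometry.Fiber
import Mathlib.AlgebraicGeometry.Morphisms.Separated

/-!
# Birational morphisms with an isolated point over a normal point
-/

set_option backward.isDefEq.respectTransparency false

universe u

open CategoryTheory Limits AlgebraicGeometry TopologicalSpace

namespace Groth.Limits

/-- A separated birational morphism locally of finite type between integral schemes is an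
isomorphism near a normal point whose fibre has an isolated point. -/
theorem exists_isIso_of_isolated_normal {X Y : Scheme.{u}} [IsIntegral X] [IsIntegral Y] (f : X ⟶ Y)
    [IsSeparated f] [LocallyOfFiniteType f]
    (hgen : f (genericPoint X) = genericPoint Y) (hbir : IsIso (f.stalkMap (genericPoint X)))
    (y : Y) (hy : IsIntegrallyClosed (Y.presheaf.stalk y))
    (x : f.fiber y) (hx : IsOpen ({x} : Set (f.fiber y))) :
    ∃ U : Y.Opens, y ∈ U ∧ IsIso (f ∣_ U) := by
  let L := FractionRing (Y.presheaf.stalk y)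
  let alg := algebraMap (Y.presheaf.stalk y) L
  let θ : Y.functionField ≃ₐ[Y.presheaf.stalk y] L :=
    (FractionRing.algEquiv (Y.presheaf.stalk y) Y.functionField).symm
  have hsp : IsIso (Y.presheaf.stalkSpecializes (specializes_of_eq hgen.symm)) :=
    (TopCat.Presheaf.stalkCongr Y.presheaf (Inseparable.of_eq hgen)).isIso_hom
  let ν : X.presheaf.stalk (genericPoint X) ⟶ CommRingCat.of L :=
    inv (f.stalkMap (genericPoint X)) ≫
      Y.presheaf.stalkSpecializes (specializes_of_eq hgen.symm) ≫
        CommRingCat.ofHom θ.toRingEquiv.toRingHom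
  let g : Spec (CommRingCat.of L) ⟶ X := Spec.map ν ≫ X.fromSpecStalk (genericPoint X)
  have hθ : Y.presheaf.stalkSpecializes (genericPoint_specializes y) ≫
      CommRingCat.ofHom θ.toRingEquiv.toRingHom = CommRingCat.ofHom alg := by
    ext r
    exact θ.commutes r
  have hg : g ≫ f = Groth.Rat20Ext.genHom y := by
    simp only [g, ν, Spec.map_comp, Category.assoc]
    rw [← Scheme.SpecMap_stalkMap_fromSpecStalk, ← Spec.map_comp_assoc (f.stalkMap _),
      IsIso.hom_inv_id, Spec.map_id, Category.id_comp,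
      Scheme.SpecMap_stalkSpecializes_fromSpecStalk,
      ← Scheme.SpecMap_stalkSpecializes_fromSpecStalk (genericPoint_specializes y),
      ← Spec.map_comp_assoc, hθ]
    rfl
  have hgs : ∀ s, g s = genericPoint X := by
    intro s
    obtain ⟨t, ht⟩ : ∃ t, g s = X.fromSpecStalk (genericPoint X) t :=
      ⟨Spec.map ν s, Scheme.Hom.comp_apply _ _ _⟩
    have : g s ∈ Set.range (X.fromSpecStalk (genericPoint X)) := ⟨t, ht.symm⟩
    rw [Scheme.range_fromSpecStalk] at this
    exact (this.antisymm (genericPoint_specializes _)).eq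
  obtain ⟨O', hO', hO'x⟩ : ∃ O' : Set X, IsOpen O' ∧ f.fiberι y ⁻¹' O' = {x} :=
    (f.fiberι y).isEmbedding.isInducing.isOpen_iff.1 hx
  have hfx : f (f.fiberι y x) = y := by
    have : f.fiberι y x ∈ Set.range (f.fiberι y) := ⟨x, rfl⟩
    rwa [Scheme.Hom.range_fiberι] at this
  obtain ⟨w, hw, hwg, -⟩ := Groth.Rat20Ext.exists_hom_of_isolated f hy g hg (f.fiberι y x) hfx
    (fun s ↦ by rw [hgs]; exact genericPoint_specializes _) ⟨O', hO'⟩
    (show x ∈ f.fiberι y ⁻¹' O' by rw [hO'x]; rfl)
    (fun z hz _ hzy ↦ by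
      obtain ⟨z', rfl⟩ : z ∈ Set.range (f.fiberι y) := by
        rw [Scheme.Hom.range_fiberι]; exact hzy
      have : z' ∈ ({x} : Set _) := hO'x ▸ (show z' ∈ f.fiberι y ⁻¹' O' from hz)
      rw [Set.mem_singleton_iff.1 this])
  obtain ⟨V, hyV, s, hws, hs⟩ := spread_out_of_isGermInjective' (𝟙 Y) f w
    (hw.trans (Category.comp_id _).symm)
  rw [Category.comp_id] at hs
  let t : (V : Scheme.{u}) ⟶ (f ⁻¹ᵁ V : X.Opens) :=
    IsOpenImmersion.lift (f ⁻¹ᵁ V).ι s (by
      rintro _ ⟨v, rfl⟩
      rw [Scheme.Opens.range_ι]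
      show f (s v) ∈ V
      rw [← Scheme.Hom.comp_apply, hs]
      exact v.2)
  have ht : t ≫ f ∣_ V = 𝟙 _ := by
    rw [← cancel_mono V.ι, Category.assoc, morphismRestrict_ι, IsOpenImmersion.lift_fac_assoc, hs,
      Category.id_comp]
  have : IsSeparated (f ∣_ V) := IsZariskiLocalAtTarget.restrict (inferInstance : IsSeparated f) V
  have : IsClosedImmersion (t ≫ f ∣_ V) := ht.symm ▸ inferInstance
  have : IsClosedImmersion t := IsClosedImmersion.of_comp t (f ∣_ V)
  have : Surjective t := by
    refine ⟨fun p ↦ ?_⟩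
    let pt : Spec (CommRingCat.of L) := IsLocalRing.closedPoint L
    let v : V.toScheme := V.fromSpecStalkOfMem y hyV (Spec.map (CommRingCat.ofHom alg) pt)
    have h2 : s v = genericPoint X := by
      rw [← hgs pt, ← hwg, Scheme.Hom.comp_apply, hws, Scheme.Hom.comp_apply]
      rfl
    have hv : (f ⁻¹ᵁ V).ι (t v) = genericPoint X := by
      rw [← Scheme.Hom.comp_apply, IsOpenImmersion.lift_fac]; exact h2
    show p ∈ Set.range t
    refine Specializes.mem_closed (x := t v) ?_ t.isClosedEmbedding.isClosed_range (Set.mem_range_self v)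
    rw [← (f ⁻¹ᵁ V).ι.isOpenEmbedding.isInducing.specializes_iff, hv]
    exact genericPoint_specializes _
  have : IsIso t := isIso_of_isClosedImmersion_of_surjective t
  refine ⟨V, hyV, ?_⟩
  rw [show f ∣_ V = inv t by rw [← IsIso.eq_inv_comp] at ht; simpa using ht]
  infer_instance

end Groth.Limits
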