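import Groth.Agent.CohBase.FibreBC
import Groth.Agent.CohC3.ProperHelpers
import Groth.Agent.CohC3.FormalFunctions
import Groth.Agent.CohC3.QuotSections
import Groth.Agent.Inter.Vanishing

/-!
# Vanishing of higher direct images above the dimension of a fibre (Noetherian base)

For `X` proper over a Noetherian ring `A`, a prime `P` whose fibre has dimension `≤ d` and a coherent
module `F`, the localisation at `P` of `H^p(X, F)` vanishes for `p > d`: by the theorem on formal
functions it suffices to treat the quotients `F/P^m F`, whose pullback to `X ⊗ A_P` is supported on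
the closed fibre, so that Grothendieck vanishing applies.
-/

universe u

open CategoryTheory Limits AlgebraicGeometry TopologicalSpace Opposite
open scoped TensorProduct

set_option maxHeartbeats 800000
set_option backward.isDefEq.respectTransparency false
set_option backward.defeqAttrib.useBackward true

namespace Groth.Limits.FibreVanishing

/-! ### Boundaries in a localised complex -/

section Loc

variable {A : Type u} [CommRing A] (S : Submonoid A) (B : Type u) [CommRing B] [Algebra A B]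
  [IsLocalization S B]

lemma exists_smul_eq_tmul_one {M : Type u} [AddCommGroup M] [Module A M] (w : M ⊗[A] B) :
    ∃ (s : S) (m : M), (s : A) • w = m ⊗ₜ[A] (1 : B) := by
  induction w using TensorProduct.induction_on with
  | zero => exact ⟨1, 0, by simp⟩
  | tmul m b =>
    obtain ⟨⟨a, s⟩, h⟩ := IsLocalization.surj S b
    refine ⟨s, a • m, ?_⟩
    rw [← TensorProduct.tmul_smul, TensorProduct.smul_tmul, Algebra.smul_def, Algebra.smul_def,
      mul_one, mul_comm]
    exact congrArg (m ⊗ₜ[A] ·) h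
  | add p q hp hq =>
    obtain ⟨s, m, hm⟩ := hp
    obtain ⟨t, n, hn⟩ := hq
    refine ⟨s * t, (t : A) • m + (s : A) • n, ?_⟩
    rw [TensorProduct.add_tmul, ← TensorProduct.smul_tmul', ← TensorProduct.smul_tmul', ← hm, ← hn,
      smul_add, smul_smul, smul_smul, Submonoid.coe_mul, mul_comm (t : A)]

lemma exists_smul_eq_zero_of_tmul_one {M : Type u} [AddCommGroup M] [Module A M] (m : M)
    (h : m ⊗ₜ[A] (1 : B) = 0) : ∃ s : S, (s : A) • m = 0 := by
  have h' : TensorProduct.mk A B M 1 m = 0 := by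
    have := congrArg (TensorProduct.comm A M B) h
    rwa [TensorProduct.comm_tmul, map_zero] at this
  exact (IsLocalizedModule.eq_zero_iff S (TensorProduct.mk A B M 1)).mp h'

/-- A class whose image after localisation is zero is killed by an element of `S`. -/
lemma exists_smul_clsT_eq_zero {ι : Type} {c : ComplexShape ι}
    (C : HomologicalComplex (ModuleCat.{u} A) c) {i j k : ι} (hi : c.prev j = i) (hk : c.next j = k)
    (h0 : Subsingleton ((CohIII.TFun C j).obj (ModuleCat.of A B)))
    (z : (CohIII.TFun C j).obj (ModuleCat.of A A)) : ∃ s ∈ S, (s : A) • z = 0 := by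
  obtain ⟨z, rfl⟩ := FlatCxBase.clsT_surjective C hk (ModuleCat.of A A) z
  let φ : ModuleCat.of A A ⟶ ModuleCat.of A B := ModuleCat.ofHom (Algebra.linearMap A B)
  obtain ⟨w, hw⟩ := (FlatCxBase.clsT_eq_zero_iff C hk (ModuleCat.of A B) hi
    ⟨φ.hom.lTensor (C.X j) z.1, FlatCxBase.lTensor_mem_ker C _ φ z⟩).1 (Subsingleton.elim _ _)
  obtain ⟨s, m, hm⟩ := exists_smul_eq_tmul_one S B (M := (C.X i : Type u)) w
  let z' : C.X j := TensorProduct.rid A (C.X j) z.1
  have hz : z.1 = z' ⊗ₜ[A] (1 : A) := ((TensorProduct.rid A (C.X j)).symm_apply_apply z.1).symm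
  have hz0 : ((C.d i j).hom m - (s : A) • z') ⊗ₜ[A] (1 : B) = 0 := by
    rw [TensorProduct.sub_tmul, ← TensorProduct.smul_tmul', sub_eq_zero]
    refine ((LinearMap.rTensor_tmul B (C.d i j).hom (1 : B) m).symm.trans
      (congrArg ((C.d i j).hom.rTensor B) hm.symm)).trans ?_
    rw [map_smul]
    refine congrArg ((s : A) • ·) (hw.trans ?_)
    change φ.hom.lTensor (C.X j) z.1 = _
    rw [hz]
    exact (LinearMap.lTensor_tmul _ _ _ _).trans (congrArg (z' ⊗ₜ[A] ·) (map_one (algebraMap A B)))
  obtain ⟨t, ht⟩ := exists_smul_eq_zero_of_tmul_one S B _ hz0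
  refine ⟨(t : A) * s, S.mul_mem t.2 s.2, ?_⟩
  rw [← map_smul]
  refine (FlatCxBase.clsT_eq_zero_iff C hk (ModuleCat.of A A) hi _).2 ⟨((t : A) • m) ⊗ₜ[A] (1 : A), ?_⟩
  rw [smul_sub, sub_eq_zero, smul_smul] at ht
  refine (LinearMap.rTensor_tmul _ _ _ _).trans ?_
  change _ = ((t : A) * s) • z.1
  rw [hz, TensorProduct.smul_tmul', map_smul, ht]

end Loc

/-! ### Classes killed outside a prime -/

section BaseChange

variable {A : Type u} [CommRing A] (S : Submonoid A) {B : Type u} [CommRing B] [Algebra A B]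
  [IsLocalization S B] {X X' : Scheme.{u}} [X.Over (Spec (CommRingCat.of A))]
  [X'.Over (Spec (CommRingCat.of B))] {g : X' ⟶ X}

/-- If the cohomology of the localised module vanishes, every class is killed by an element of `S`. -/
theorem exists_smul_eq_zero_of_bc (hsq : CohBase.IsBC (A := A) (A' := B) g) (F : X.Modules)
    [F.IsQuasicoherent] [X.IsSeparated] [CompactSpace X] (p : ℕ)
    (h0 : Subsingleton (Coh.HH X' ((Scheme.Modules.pullback g).obj F) p)) (h : Coh.HH X F p) :
    ∃ s ∈ S, (s : A) • h = 0 := by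
  obtain ⟨G⟩ := CohBase.exists_goodCover X
  obtain ⟨e, -⟩ := CohBase.exists_bcEquiv hsq F G p
  obtain ⟨s, hs, hz⟩ := exists_smul_clsT_eq_zero S B (CohBase.cxA A G.U F)
    (FlatCxBase.cochain_prev (p : ℤ)) (FlatCxBase.cochain_next (p : ℤ)) e.toEquiv.subsingleton
    ((CohBase.selfLinIso A G F p).symm h)
  refine ⟨s, hs, (CohBase.selfLinIso A G F p).symm.injective ?_⟩
  rw [map_smul, hz, map_zero]

end BaseChange

/-! ### Grothendieck vanishing for modules supported on a closed subset -/

lemma height_le_dim_of_subset {X : Type u} [TopologicalSpace X] {Z : Set X} (hZ : IsClosed Z)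
    (T : IrreducibleCloseds X) (hT : (T : Set X) ⊆ Z) :
    (Order.height T : WithBot ℕ∞) ≤ topologicalKrullDim Z := by
  have hir : ∀ S : Set.Iic T, IsIrreducible ((↑) ⁻¹' (S.1 : Set X) : Set Z) := fun S => by
    refine ⟨?_, fun u v hu hv hne hne' => ?_⟩
    · obtain ⟨x, hx⟩ := S.1.isIrreducible.1
      exact ⟨⟨x, hT (S.2 hx)⟩, hx⟩
    · obtain ⟨u', hu', rfl⟩ := isOpen_induced_iff.1 hu
      obtain ⟨v', hv', rfl⟩ := isOpen_induced_iff.1 hv
      obtain ⟨⟨a, ha⟩, ha1, ha2⟩ := hne
      obtain ⟨⟨b, hb⟩, hb1, hb2⟩ := hne'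
      obtain ⟨c, hc1, hc2⟩ := S.1.isIrreducible.2 u' v' hu' hv' ⟨a, ha1, ha2⟩ ⟨b, hb1, hb2⟩
      exact ⟨⟨c, hT (S.2 hc1)⟩, hc1, hc2⟩
  let F : Set.Iic T → IrreducibleCloseds Z := fun S =>
    ⟨(↑) ⁻¹' (S.1 : Set X), hir S, S.1.isClosed.preimage continuous_subtype_val⟩
  have hF : StrictMono F := fun S S' h => by
    have hle : S.1 ≤ S'.1 := h.le
    refine lt_of_le_of_ne (fun x hx => hle hx) fun e => h.ne (Subtype.ext ?_)
    refine SetLike.ext fun x => ⟨fun hx => hle hx, fun hx => ?_⟩
    have hx' : (⟨x, hT (S'.2 hx)⟩ : Z) ∈ (F S' : Set Z) := hx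
    rw [← e] at hx'
    exact hx'
  calc (Order.height T : WithBot ℕ∞) ≤ Order.height (⟨T, le_refl T⟩ : Set.Iic T) := by
        refine WithBot.coe_le_coe.2 (Order.height_le fun l hl => ?_)
        have hmem : ∀ i, l i ∈ Set.Iic T := fun i => hl ▸ l.monotone (Fin.le_last i)
        exact Order.length_le_height (x := (⟨T, le_refl T⟩ : Set.Iic T))
          (p := ({ length := l.length, toFun := fun i => ⟨l i, hmem i⟩, step := fun i => l.step i } :
            LTSeries (Set.Iic T)))
          (le_of_eq (Subtype.ext (hl : l.last = T)))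
    _ ≤ Order.height (F ⟨T, le_refl T⟩) :=
        WithBot.coe_le_coe.2 (Order.height_le_height_apply_of_strictMono F hF _)
    _ ≤ topologicalKrullDim Z := Order.height_le_krullDim _

/-- Grothendieck vanishing for a module all of whose sections vanish near points outside `Z`. -/
theorem subsingleton_HH_of_vanish_off {X : Scheme.{u}} [NoetherianSpace X] (M : X.Modules)
    {Z : Set X} (hZ : IsClosed Z)
    (h : ∀ x ∉ Z, ∃ V : X.Opens, x ∈ V ∧ ∀ W : X.Opens, W ≤ V → ∀ t : Γ(M, W), t = 0)
    {d : ℕ} (hd : topologicalKrullDim Z ≤ d) (p : ℕ) (hp : d < p) : Subsingleton (Coh.HH X M p) := by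
  haveI : NoetherianSpace X.toTopCat := ‹NoetherianSpace X›
  refine Inter.Vanishing.subsingleton_H_of_supportLT (X := X.toTopCat) (d + 1) (Coh.toAb M)
    (fun (U : X.Opens) s (T : IrreducibleCloseds X) hT => ?_) p hp
  obtain ⟨hm, hsub⟩ := hT
  have hTZ : (T : Set X) ∩ U ⊆ Z := fun x hx => by
    by_contra hxZ
    obtain ⟨-, hx'⟩ := hsub hx
    obtain ⟨V, hxV, hV⟩ := h x hxZ
    exact hx' (U ⊓ V) inf_le_left ⟨hx.2, hxV⟩ (hV _ inf_le_right _)
  have hTZ' : (T : Set X) ⊆ Z :=
    (subset_closure_inter_of_isPreirreducible_of_isOpen T.isIrreducible.2 U.isOpen hm).trans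
      (closure_minimal hTZ hZ)
  have := (height_le_dim_of_subset hZ T hTZ').trans hd
  rw [Nat.cast_succ]
  exact (ENat.lt_add_one_iff (ENat.natCast_ne_top d)).mpr (WithBot.coe_le_coe.mp this)

/-! ### The localised statement -/

section Proper

variable {A : Type u} [CommRing A] [IsNoetherianRing A] {X : Scheme.{u}}
  [X.Over (Spec (CommRingCat.of A))] [IsProper (X ↘ Spec (CommRingCat.of A))]

/-- A module killed by a power of `P` has `H^p` vanishing at `P` above the fibre dimension. -/
theorem exists_smul_eq_zero_of_killedBy (P : Spec (CommRingCat.of A)) (d : ℕ)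
    (hd : topologicalKrullDim ↥((X ↘ Spec (CommRingCat.of A)).fiber P) ≤ d) (G : X.Modules)
    [G.IsQuasicoherent] (m : ℕ) (hG : Formal.KilledBy (P.asIdeal ^ m) G) (p : ℕ) (hp : d < p)
    (h : Coh.HH X G p) : ∃ s ∈ P.asIdeal.primeCompl, (s : A) • h = 0 := by
  let f := X ↘ Spec (CommRingCat.of A)
  haveI := CohC3.isNoetherian_of_proper A X
  haveI : X.IsSeparated := CohFin.isSeparated_of_proper f
  let B := Localization.AtPrime P.asIdeal
  let j : Spec (CommRingCat.of B) ⟶ Spec (CommRingCat.of A) :=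
    Spec.map (CommRingCat.ofHom (algebraMap A B))
  let X' : Scheme.{u} := pullback f j
  let g : X' ⟶ X := pullback.fst f j
  letI : X'.Over (Spec (CommRingCat.of B)) := ⟨pullback.snd f j⟩
  letI : X'.Over (Spec (CommRingCat.of A)) := ⟨g ≫ f⟩
  have hsq : CohBase.IsBC (A := A) (A' := B) g := IsPullback.of_hasPullback f j
  haveI : IsNoetherianRing B := IsLocalization.isNoetherianRing P.asIdeal.primeCompl B inferInstance
  haveI : IsProper (X' ↘ Spec (CommRingCat.of B)) :=
    inferInstanceAs (IsProper (pullback.snd f j))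
  haveI : AlgebraicGeometry.IsNoetherian X' := CohC3.isNoetherian_of_proper B X'
  refine exists_smul_eq_zero_of_bc P.asIdeal.primeCompl hsq G p ?_ h
  let Z : Set X' := (g ≫ f).base ⁻¹' {P}
  -- specialisation to `P`
  have hle : ∀ x : X', ((g ≫ f).base x).asIdeal ≤ P.asIdeal := fun x => by
    have : (g ≫ f).base x ∈ Set.range (PrimeSpectrum.comap (algebraMap A B)) := by
      refine ⟨(pullback.snd f j).base x, ?_⟩
      rw [show g ≫ f = pullback.snd f j ≫ j from pullback.condition]
      rfl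
    rw [PrimeSpectrum.localization_comap_range B P.asIdeal.primeCompl] at this
    exact fun a ha => by
      by_contra hne
      exact (Set.disjoint_left.1 (this : Disjoint (P.asIdeal.primeCompl : Set A) _) hne) ha
  have hoff : ∀ x ∉ Z, ∃ a ∈ P.asIdeal, a ∉ ((g ≫ f).base x).asIdeal := fun x hx => by
    by_contra h
    push Not at h
    exact hx (PrimeSpectrum.ext (le_antisymm (hle x) h))
  have hcl : IsClosed Z := by
    have : Z = (pullback.snd f j).base ⁻¹' (j.base ⁻¹' {P}) := by
      simp only [Z, show g ≫ f = pullback.snd f j ≫ j from pullback.condition]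
      rfl
    rw [this]
    refine IsClosed.preimage (pullback.snd f j).continuous ?_
    have hmax : j.base ⁻¹' {P} = {IsLocalRing.closedPoint B} := by
      ext q
      simp only [Set.mem_preimage, Set.mem_singleton_iff]
      refine ⟨fun e => PrimeSpectrum.localization_comap_injective B P.asIdeal.primeCompl ?_, fun e => ?_⟩
      · exact (e : PrimeSpectrum.comap (algebraMap A B) q = P).trans
          (PrimeSpectrum.ext (Localization.AtPrime.comap_maximalIdeal).symm)
      · subst e
        exact PrimeSpectrum.ext Localization.AtPrime.comap_maximalIdeal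
    rw [hmax]
    exact IsLocalRing.isClosed_singleton_closedPoint B
  have hdim : topologicalKrullDim Z ≤ d := by
    haveI : IsPreimmersion j := IsPreimmersion.of_isLocalization P.asIdeal.primeCompl
    let ψ : Z → (f.base ⁻¹' {P} : Set X) := fun x => ⟨g.base x.1, x.2⟩
    have hψ : Topology.IsInducing ψ :=
      (Topology.IsInducing.subtypeVal.of_comp_iff).1
        (g.isEmbedding.isInducing.comp Topology.IsInducing.subtypeVal)
    let φ : Z → f.fiber P := (f.fiberHomeo P).symm ∘ ψ
    have hind : Topology.IsInducing φ := (f.fiberHomeo P).symm.isInducing.comp hψ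
    exact hind.topologicalKrullDim_le.trans hd
  refine subsingleton_HH_of_vanish_off ((Scheme.Modules.pullback g).obj G) hcl (fun x hx => ?_) hdim p hp
  obtain ⟨a, ha, hax⟩ := hoff x hx
  have hk : Formal.KilledBy (P.asIdeal ^ m) ((Scheme.Modules.pullback g).obj G) := fun b hb => by
    rw [← CohC3.map_smulMod_of_adj (Scheme.Modules.pullbackPushforwardAdjunction g)
      (rfl : g ≫ f = X' ↘ Spec (CommRingCat.of A)) G b, hG b hb]
    exact (Scheme.Modules.pullback g).map_zero _ _
  let r : Γ(X', ⊤) := Coh.toGlobal (g ≫ f) (a ^ m)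
  have hxr : x ∈ X'.basicOpen r := by
    change x ∈ X'.basicOpen ((g ≫ f).appTop ((Scheme.ΓSpecIso (CommRingCat.of A)).inv (a ^ m)))
    rw [← Scheme.preimage_basicOpen_top, basicOpen_eq_of_affine']
    simp only [Iso.inv_hom_id_apply]
    exact fun hm => hax (((g ≫ f).base x).isPrime.mem_of_pow_mem m hm)
  refine ⟨X'.basicOpen r, hxr, fun W hW t => ?_⟩
  have h0 : CohC3.baseApp X' W (a ^ m) • t = 0 :=
    congr($(hk _ (Ideal.pow_mem_pow ha m)).app W t)
  have hu : IsUnit (CohC3.baseApp X' W (a ^ m)) := by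
    rw [← CohC3.baseApp_res hW]
    refine IsUnit.map _ ?_
    exact RingedSpace.isUnit_res_basicOpen (X := X'.toLocallyRingedSpace.toRingedSpace) r
  exact (IsUnit.smul_eq_zero hu).1 h0

/-- The higher cohomology of a coherent module vanishes at a prime above the fibre dimension. -/
theorem exists_smul_eq_zero (P : Spec (CommRingCat.of A)) (d : ℕ)
    (hd : topologicalKrullDim ↥((X ↘ Spec (CommRingCat.of A)).fiber P) ≤ d) (F : X.Modules)
    (hF : Coh.IsCoh F) (p : ℕ) (hp : d < p) (h : Coh.HH X F p) :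
    ∃ s ∈ P.asIdeal.primeCompl, (s : A) • h = 0 := by
  haveI := CohC3.isNoetherian_of_proper A X
  haveI := hF.1
  have hfin : ∀ q, Module.Finite A (Coh.HH X F q) := fun q => CohC3.finite_HH_of_proper A X hF q
  haveI := hfin p
  obtain ⟨m, -, hker⟩ := (CohC3.proBij P.asIdeal hF hfin p).ker 1
  have hG := CohC3.isQuot_modPowπ P.asIdeal m F
  haveI : (Formal.modPow P.asIdeal m F).IsQuasicoherent := CohC3.isQCoh_of_isQuot hG
  let H := Coh.HH X F p
  have hN : ∀ x : H, ∃ s ∈ P.asIdeal.primeCompl,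
      (s : A) • x ∈ P.asIdeal • (⊤ : Submodule A H) := fun x => by
    obtain ⟨s, hs, hsx⟩ := exists_smul_eq_zero_of_killedBy P d hd (Formal.modPow P.asIdeal m F) m
      hG.killedBy p hp (CohC3.hmap A (Formal.modPowπ P.asIdeal m F) p x)
    refine ⟨s, hs, ?_⟩
    have := hker ((s : A) • x) (by rw [map_smul]; exact hsx)
    rwa [pow_one] at this
  -- Nakayama at `P`
  let L := LocalizedModule.mkLinearMap P.asIdeal.primeCompl H
  let B := Localization.AtPrime P.asIdeal
  haveI : Module.Finite B (LocalizedModule P.asIdeal.primeCompl H) :=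
    Module.Finite.of_isLocalizedModule P.asIdeal.primeCompl L
  have hle : (⊤ : Submodule B (LocalizedModule P.asIdeal.primeCompl H)) ≤
      IsLocalRing.maximalIdeal B • ⊤ := by
    rintro z -
    obtain ⟨⟨x, t⟩, rfl⟩ := IsLocalizedModule.mk'_surjective P.asIdeal.primeCompl L z
    obtain ⟨s, hs, hsx⟩ := hN x
    have hL : L ((s : A) • x) ∈ IsLocalRing.maximalIdeal B • (⊤ : Submodule B _) := by
      refine Submodule.smul_induction_on hsx (fun r hr y _ => ?_) (fun y y' hy hy' => ?_)
      · rw [map_smul, ← IsScalarTower.algebraMap_smul B r]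
        refine Submodule.smul_mem_smul ?_ trivial
        rw [← Localization.AtPrime.map_eq_maximalIdeal]
        exact Ideal.mem_map_of_mem _ hr
      · rw [map_add]
        exact add_mem hy hy'
    rw [map_smul, ← IsScalarTower.algebraMap_smul B s] at hL
    have hus : IsUnit (algebraMap A B s) := IsLocalization.map_units B ⟨s, hs⟩
    rw [Submodule.smul_mem_iff_of_isUnit _ hus] at hL
    have hut : IsUnit (algebraMap A B t) := IsLocalization.map_units B t
    rw [← Submodule.smul_mem_iff_of_isUnit _ hut, IsScalarTower.algebraMap_smul]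
    exact (IsLocalizedModule.mk'_cancel' L x t).symm ▸ hL
  have htop := Submodule.eq_bot_of_le_smul_of_le_jacobson_bot (IsLocalRing.maximalIdeal B) ⊤
    Module.Finite.fg_top hle (IsLocalRing.maximalIdeal_le_jacobson ⊥)
  have h0 : L h = 0 := (Submodule.mem_bot B).1 (htop.le trivial)
  obtain ⟨s, hs⟩ := (IsLocalizedModule.eq_zero_iff P.asIdeal.primeCompl L).1 h0
  exact ⟨s, s.2, hs⟩

end Proper

/-! ### Stalks of higher direct images -/

section Stalk

variable {X Y : Scheme.{u}} (f : X ⟶ Y)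

/-- A criterion for the vanishing of the stalk of a higher direct image of a quasi-coherent module. -/
theorem isZero_stalk_RpushAb [QuasiCompact f] [QuasiSeparated f] (M : X.Modules) [M.IsQuasicoherent]
    (p : ℕ) {V : Y.Opens} (hV : IsAffineOpen V) (y : Y) (hy : y ∈ V)
    (h : letI : ((f ⁻¹ᵁ V : X.Opens) : Scheme.{u}).Over (Spec (CommRingCat.of Γ(Y, V))) :=
        ⟨CohBase.preimageToSpec f⟩
      ∀ ξ : Coh.HH (f ⁻¹ᵁ V : X.Opens) (M.restrict (f ⁻¹ᵁ V).ι) p,
        ∃ s : Γ(Y, V), y ∈ Y.basicOpen s ∧ s • ξ = 0) :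
    IsZero (TopCat.Presheaf.stalk ((Coh.RpushAb f p).obj (Coh.toAb M)).obj y) := by
  letI : ((f ⁻¹ᵁ V : X.Opens) : Scheme.{u}).Over (Spec (CommRingCat.of Γ(Y, V))) :=
    ⟨CohBase.preimageToSpec f⟩
  let I := injectiveResolution M
  obtain ⟨a⟩ := CohBase.nonempty_RpushAb_iso_homology f I p
  obtain ⟨e⟩ := CohBase.exists_sections_linEquiv f I p hV
  haveI := CohBase.isQCoh_homology_pushCx f I p
  let H := (CohBase.pushCx f I).homology p
  refine IsZero.of_iso (Y := H.presheaf.stalk y) ?_ ((TopCat.Presheaf.stalkFunctor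
    AddCommGrpCat.{u} y).mapIso ((sheafToPresheaf _ _).mapIso a))
  refine @AddCommGrpCat.isZero_of_subsingleton _ (subsingleton_of_forall_eq 0
    fun t : H.presheaf.stalk y => ?_)
  obtain ⟨b, t₀, hb, ht⟩ := QCohMod.exists_smul_germ_eq H hV y hy t
  obtain ⟨s, hs, hst⟩ := h (e t₀)
  have hs0 : s • t₀ = 0 := e.injective (by rw [map_smul, hst, map_zero])
  obtain ⟨v, hv⟩ := (Scheme.mem_basicOpen Y b y hy).1 hb
  obtain ⟨w, hw⟩ := (Scheme.mem_basicOpen Y s y hy).1 hs
  have hg : H.presheaf.germ V y hy t₀ = 0 := by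
    rw [← one_smul (Y.presheaf.stalk y) (H.presheaf.germ V y hy t₀), ← w.inv_mul, mul_smul, hw,
      ← QCohMod.germ_smul, hs0, map_zero, smul_zero]
  rw [hg] at ht
  rw [← one_smul (Y.presheaf.stalk y) t, ← v.inv_mul, mul_smul, hv, ht, smul_zero]

/-- Fibres of the restriction over an affine open. -/
lemma dim_fiber_preimageToSpec_le {V : Y.Opens} (hV : IsAffineOpen V) (y : Y) (hy : y ∈ V) (d : ℕ)
    (hd : topologicalKrullDim ↥(f.fiber y) ≤ d) :
    topologicalKrullDim
      ↥((CohBase.preimageToSpec f (V := V)).fiber (hV.primeIdealOf ⟨y, hy⟩)) ≤ d := by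
  let q := CohBase.preimageToSpec f (V := V)
  let P := hV.primeIdealOf ⟨y, hy⟩
  have hq : q ≫ hV.fromSpec = (f ⁻¹ᵁ V).ι ≫ f :=
    (CohBase.isPullback_preimageToSpec f hV).w.symm
  let ψ : q.fiber P → (f.base ⁻¹' {y} : Set X) := fun x =>
    ⟨(f ⁻¹ᵁ V).ι.base (q.fiberHomeo P x).1, by
      have h1 : q.base (q.fiberHomeo P x).1 = P := (q.fiberHomeo P x).2
      have h2 := congr($(hq).base (q.fiberHomeo P x).1)
      simp only [Scheme.Hom.comp_base, TopCat.comp_app] at h2
      rw [h1] at h2
      exact h2.symm.trans (hV.fromSpec_primeIdealOf ⟨y, hy⟩)⟩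
  have hψ : Topology.IsInducing ψ :=
    (Topology.IsInducing.subtypeVal.of_comp_iff).1
      (((f ⁻¹ᵁ V).ι.isOpenEmbedding.isInducing.comp Topology.IsInducing.subtypeVal).comp
        (q.fiberHomeo P).isInducing)
  let φ : q.fiber P → f.fiber y := (f.fiberHomeo y).symm ∘ ψ
  have hind : Topology.IsInducing φ := (f.fiberHomeo y).symm.isInducing.comp hψ
  exact hind.topologicalKrullDim_le.trans hd

/-- Stalks of higher direct images of coherent modules vanish above the fibre dimension. -/
theorem isZero_stalk_RpushAb_of_coh [IsProper f] [IsLocallyNoetherian Y] (y : Y) (d : ℕ)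
    (hd : topologicalKrullDim ↥(f.fiber y) ≤ d) (M : X.Modules) (hM : Coh.IsCoh M) (p : ℕ)
    (hp : d < p) : IsZero (TopCat.Presheaf.stalk ((Coh.RpushAb f p).obj (Coh.toAb M)).obj y) := by
  haveI := hM.1
  haveI : IsLocallyNoetherian X := LocallyOfFiniteType.isLocallyNoetherian f
  obtain ⟨V, hV, hy⟩ := QCohMod.exists_affine_mem y
  refine isZero_stalk_RpushAb f M p hV y hy ?_
  letI : ((f ⁻¹ᵁ V : X.Opens) : Scheme.{u}).Over (Spec (CommRingCat.of Γ(Y, V))) :=
    ⟨CohBase.preimageToSpec f⟩
  intro ξ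
  haveI : IsNoetherianRing Γ(Y, V) := IsLocallyNoetherian.component_noetherian ⟨V, hV⟩
  haveI : IsProper ((f ⁻¹ᵁ V : X.Opens).toScheme ↘ Spec (CommRingCat.of Γ(Y, V))) :=
    MorphismProperty.of_isPullback (CohBase.isPullback_preimageToSpec f hV) ‹IsProper f›
  obtain ⟨s, hs, hξ⟩ := exists_smul_eq_zero (X := (f ⁻¹ᵁ V : X.Opens)) (hV.primeIdealOf ⟨y, hy⟩) d
    (dim_fiber_preimageToSpec_le f hV y hy d hd) _ (CohFin.isCoh_restrict hM _) p hp ξ
  refine ⟨s, ?_, hξ⟩
  have : hV.primeIdealOf ⟨y, hy⟩ ∈ hV.fromSpec ⁻¹ᵁ Y.basicOpen s := by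
    rw [hV.fromSpec_preimage_basicOpen]
    exact hs
  have h2 : hV.fromSpec.base (hV.primeIdealOf ⟨y, hy⟩) ∈ Y.basicOpen s := this
  have h3 : hV.fromSpec.base (hV.primeIdealOf ⟨y, hy⟩) = y := hV.fromSpec_primeIdealOf ⟨y, hy⟩
  rw [h3] at h2
  exact h2

/-- A finite fibre has dimension at most zero. -/
lemma dim_le_zero_of_finite_fiber [LocallyOfFiniteType f] (y : Y) [Finite ↥(f.fiber y)] :
    topologicalKrullDim ↥(f.fiber y) ≤ ((0 : ℕ) : WithBot ℕ∞) := by
  haveI : LocallyOfFiniteType (f.fiberToSpecResidueField y) :=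
    MorphismProperty.pullback_snd f _ ‹LocallyOfFiniteType f›
  haveI : JacobsonSpace ↥(f.fiber y) :=
    LocallyOfFiniteType.jacobsonSpace (f.fiberToSpecResidueField y)
  exact (topologicalKrullDim_zero_of_discreteTopology _).trans (by simp)

end Stalk

end Groth.Limits.FibreVanishing
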