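import Groth.Agent.Limits.TopDegreeFibre
import Groth.Agent.QCohMod.Category

/-!
# Global functions of a base change when `H^1` of the fibres vanishes

For `X` proper over `A` with fibres of dimension `≤ 1` and `H^1(X, O) = 0`, the cohomology in degree
zero of `(f^* M~) ⊗ O` is right exact in `M`; hence surjectivity of `A → Γ(X, O)` is stable under
base change.
-/

universe u

open CategoryTheory Limits AlgebraicGeometry TopologicalSpace Opposite
open scoped TensorProduct

set_option maxHeartbeats 800000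
set_option backward.isDefEq.respectTransparency false
set_option backward.defeqAttrib.useBackward true
set_option backward.isDefEq.respectTransparency.types false

namespace Groth.Limits.FibreVanishing

open CohBase

section Exact

variable {A : Type u} [CommRing A] {X : Scheme.{u}} [X.Over (Spec (CommRingCat.of A))]
  [X.IsSeparated] [CompactSpace X]

/-- In the top degree the vanishing for `F` implies that for all `(f^* M~) ⊗ F`. -/
theorem subsingleton_HH_tensor (G : GoodCover X) (F : X.Modules) [F.IsQuasicoherent] (d : ℕ)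
    (hvan : ∀ (K : X.Modules) [K.IsQuasicoherent], Subsingleton (Coh.HH X K (d + 1)))
    (h0 : Subsingleton (Coh.HH X F d)) (M : ModuleCat.{u} A) :
    Subsingleton (Coh.HH X ((CohIII.tensorAFunctor A F).obj M) d) := by
  refine subsingleton_of_forall_eq 0 fun y => ?_
  obtain ⟨c, rfl⟩ := (tensorIsoApp A G F d M).surjective y
  suffices hc : c = 0 by rw [hc, map_zero]
  refine AddSubgroup.closure_induction (p := fun c _ => c = 0) ?_ rfl
    (fun a b _ _ ha hb => by rw [ha, hb, add_zero]) (fun a _ ha => by rw [ha, neg_zero])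
    (exists_span_TFun G F d hvan M c)
  rintro _ ⟨b, c₀, rfl⟩
  rw [(selfLinIso A G F d).injective (Subsingleton.elim _ (selfLinIso A G F d 0)) (a₁ := c₀),
    map_zero]

/-- If the top cohomology `H^{d+1}` of `F` vanishes, surjections of modules induce surjections in
degree `d`. -/
theorem TFun_map_surjective_of_next (G : GoodCover X) (F : X.Modules) [F.IsQuasicoherent] (d : ℕ)
    (hvan : ∀ (K : X.Modules) [K.IsQuasicoherent], Subsingleton (Coh.HH X K (d + 2)))
    (h1 : Subsingleton (Coh.HH X F (d + 1)))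
    (M₂ M₃ : ModuleCat.{u} A) (ψ : M₂ ⟶ M₃) (hψ : Function.Surjective ψ.hom) :
    Function.Surjective ((CohIII.TFun (cxA A G.U F) (d : ℤ)).map ψ) := by
  let M₁ : ModuleCat.{u} A := ModuleCat.of A (LinearMap.ker ψ.hom)
  let φ : M₁ ⟶ M₂ := ModuleCat.ofHom (LinearMap.ker ψ.hom).subtype
  have hex : Function.Exact φ.hom ψ.hom := LinearMap.exact_subtype_ker_map ψ.hom
  let τ := (CohIII.tensorAFunctor A F).map ψ
  let σ := (CohIII.tensorAFunctor A F).map φ
  have hz : σ ≫ τ = 0 := by
    rw [← Functor.map_comp]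
    have : φ ≫ ψ = 0 := ModuleCat.hom_ext (LinearMap.ext fun m => hex.apply_apply_eq_zero m)
    rw [this]
    let P : ModuleCat.{u} A ⥤ X.Modules :=
      tilde.functor (CommRingCat.of A) ⋙ Scheme.Modules.pullback (X ↘ Spec (CommRingCat.of A))
    haveI : P.IsLeftAdjoint := ((tilde.adjunction (R := CommRingCat.of A)).comp
      (Scheme.Modules.pullbackPushforwardAdjunction _)).isLeftAdjoint
    change (DCoh.tensorRightMod F).map (P.map 0) = 0
    rw [Functor.map_zero, Functor.map_zero]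
  haveI hτ : Epi τ := CohC3.epi_of_cover τ fun x => by
    obtain ⟨W, hW, hx⟩ := QCohMod.exists_affine_mem x
    refine ⟨W, hW, hx, fun t => ?_⟩
    obtain ⟨z, rfl⟩ := (tensorSec_bijective F M₃ hW).2 t
    obtain ⟨z', rfl⟩ := LinearMap.lTensor_surjective (secA A F W) hψ z
    exact ⟨tensorSec F M₂ W z', tensorSec_map F M₂ ψ W z'⟩
  haveI : (kernel τ).IsQuasicoherent := QCohMod.isQCoh_kernel _
  let σ' : (CohIII.tensorAFunctor A F).obj M₁ ⟶ kernel τ := kernel.lift τ σ hz
  haveI : Epi σ' := CohC3.epi_of_cover σ' fun x => by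
    obtain ⟨W, hW, hx⟩ := QCohMod.exists_affine_mem x
    refine ⟨W, hW, hx, fun t => ?_⟩
    obtain ⟨z, hz⟩ := (tensorSec_bijective F M₂ hW).2 ((kernel.ι τ).app W t)
    have h0 : tensorSec F M₃ W (ψ.hom.lTensor (secA A F W) z) = 0 := by
      refine ((tensorSec_map F M₂ ψ W z).symm.trans ?_)
      rw [hz]
      exact congr($(kernel.condition τ).app W t)
    have h1 : ψ.hom.lTensor (secA A F W) z = 0 :=
      (tensorSec_bijective F M₃ hW).1 (h0.trans (map_zero _).symm)
    obtain ⟨z₁, rfl⟩ := (lTensor_exact (secA A F W) hex hψ z).1 h1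
    refine ⟨tensorSec F M₁ W z₁, QCohMod.app_injective_of_mono (kernel.ι τ) W ?_⟩
    refine Eq.trans ?_ hz
    refine (congr($(kernel.lift_ι τ σ _).app W (tensorSec F M₁ W z₁))).trans ?_
    exact tensorSec_map F M₁ φ W z₁
  haveI := subsingleton_HH_tensor G F (d + 1) hvan h1 M₁
  let S' : ShortComplex X.Modules := ShortComplex.mk (kernel.ι σ') σ' (kernel.condition σ')
  have hS' : S'.ShortExact :=
    ShortComplex.ShortExact.mk' (ShortComplex.exact_of_f_is_kernel S' (kernelIsKernel σ'))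
      inferInstance inferInstance
  haveI : (kernel σ').IsQuasicoherent := QCohMod.isQCoh_kernel _
  haveI := hvan (kernel σ')
  haveI : Subsingleton (Coh.HH X (kernel τ) (d + 1)) := subsingleton_of_forall_eq 0 fun x => by
    obtain ⟨x', hx'⟩ := CohC3.exists_of_hdelta_eq_zero (A := A) hS' x (Subsingleton.elim _ _)
    rw [← hx', Subsingleton.elim x' 0]
    exact map_zero _
  let S : ShortComplex X.Modules := ShortComplex.mk (kernel.ι τ) τ (kernel.condition τ)
  have hS : S.ShortExact :=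
    ShortComplex.ShortExact.mk' (ShortComplex.exact_of_f_is_kernel S (kernelIsKernel τ))
      inferInstance inferInstance
  intro y
  obtain ⟨y', hy'⟩ := CohC3.exists_of_hdelta_eq_zero (A := A) hS
    (tensorIsoApp A G F d M₃ y) (Subsingleton.elim _ _)
  refine ⟨(tensorIsoApp A G F d M₂).symm y', (tensorIsoApp A G F d M₃).injective ?_⟩
  have := congr($((tensorIso A G F d).hom.naturality ψ) ((tensorIsoApp A G F d M₂).symm y'))
  refine Eq.trans this (Eq.trans ?_ hy')
  exact congrArg (CohC3.hmap A τ d) ((tensorIsoApp A G F d M₂).apply_symm_apply y')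

end Exact

section Global

variable (A : Type u) [CommRing A] (X : Scheme.{u}) [X.Over (Spec (CommRingCat.of A))]

/-- The structure map `A → Γ(X, O)`, valued in the ring of global functions. -/
noncomputable abbrev globalMap : A →+* Γ(X, ⊤) :=
  (X ↘ Spec (CommRingCat.of A)).appTop.hom.comp (Scheme.ΓSpecIso (CommRingCat.of A)).inv.hom

/-- `H^0(X, O)` is the ring of global functions, linearly over the base ring. -/
theorem exists_h0_equiv :
    ∃ e : Coh.HH X (Coh.structureModule X) 0 ≃+ Γ(X, ⊤),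
      ∀ (a : A) x, e (a • x) = globalMap A X a * e x := by
  let e := Sheaf.H.equiv₀ (Coh.toAb (Coh.structureModule X))
    (T := (⊤ : TopologicalSpace.Opens X)) isTerminalTop
  refine ⟨e, fun c x => ?_⟩
  have h := Sheaf.H.equiv₀_naturality (T := (⊤ : TopologicalSpace.Opens X)) isTerminalTop
    (Coh.smulAb (Coh.structureModule X) (Coh.toGlobal (X ↘ Spec (CommRingCat.of A)) c)) x
  refine h.symm.trans ?_
  rw [Coh.smulAb_app]
  have hres : ∀ r : Coh.Γtop X, Coh.resTop X (op ⊤) r = r := by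
    intro r
    show (X.ringCatSheaf.obj.map (𝟙 _)).hom r = r
    rw [X.ringCatSheaf.obj.map_id]
    rfl
  erw [hres]
  rfl

variable {A X}

/-- Surjectivity of `A → Γ(X, O)` is stable under base change when the fibres have dimension `≤ 1`
and `H^1(X, O) = 0`. -/
theorem toGlobal_surjective_baseChange [IsProper (X ↘ Spec (CommRingCat.of A))]
    (hd : ∀ P, topologicalKrullDim ↥((X ↘ Spec (CommRingCat.of A)).fiber P) ≤ (1 : ℕ))
    (h1 : Subsingleton (Coh.HH X (Coh.structureModule X) 1))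
    (h0 : Function.Surjective (globalMap A X))
    {A' : Type u} [CommRing A'] [Algebra A A'] {X' : Scheme.{u}}
    [X'.Over (Spec (CommRingCat.of A'))] {g : X' ⟶ X} (hsq : IsBC (A := A) (A' := A') g) :
    Function.Surjective (globalMap A' X') := by
  classical
  haveI : CompactSpace X := CohFin.compactSpace_of_proper (X ↘ Spec (CommRingCat.of A))
  haveI : X.IsSeparated := CohFin.isSeparated_of_proper (X ↘ Spec (CommRingCat.of A))
  haveI : (Coh.structureModule X).IsQuasicoherent := inferInstance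
  have hvan : ∀ (K : X.Modules) [K.IsQuasicoherent], Subsingleton (Coh.HH X K (0 + 2)) :=
    fun K hK => subsingleton_HH_of_dim_fiber_le (A := A) 1 hd K (0 + 2) (by omega)
  obtain ⟨G⟩ := CohBase.exists_goodCover X
  let O := Coh.structureModule X
  let T := CohIII.TFun (cxA A G.U O) ((0 : ℕ) : ℤ)
  obtain ⟨e, he⟩ := CohBase.exists_bcEquiv hsq O G 0
  obtain ⟨ι₀⟩ := PicAux.pullback_structure_iso g
  obtain ⟨a₀, ha₀⟩ := exists_h0_equiv A X
  obtain ⟨a₁, ha₁⟩ := exists_h0_equiv A' X'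
  let τ : Coh.HH X' ((Scheme.Modules.pullback g).obj O) 0 →ₗ[A']
      Coh.HH X' (Coh.structureModule X') 0 := CohC3.hmap A' ι₀.hom 0
  have hτ : Function.Bijective τ := CohC3.hmap_bijective_of_isIso (A := A') ι₀.hom 0
  -- the generator
  obtain ⟨c₁, hc₁⟩ : ∃ c₁ : T.obj (ModuleCat.of A A), ∀ c, ∃ a : A, c = a • c₁ := by
    refine ⟨(selfLinIso A G O 0).symm (a₀.symm 1), fun c => ?_⟩
    obtain ⟨a, ha⟩ := h0 (a₀ (selfLinIso A G O 0 c))
    refine ⟨a, (selfLinIso A G O 0).injective ?_⟩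
    rw [map_smul, LinearEquiv.apply_symm_apply]
    refine a₀.injective ?_
    rw [ha₀, AddEquiv.apply_symm_apply, mul_one]
    exact ha.symm
  let α : ModuleCat.of A A ⟶ ModuleCat.of A A' := ModuleCat.ofHom (Algebra.linearMap A A')
  let u := a₁ (τ (e (T.map α c₁)))
  let ι := globalMap A' X'
  have key : ∀ c : T.obj (ModuleCat.of A A'), ∃ b : A', a₁ (τ (e c)) = ι b * u := by
    intro c
    refine AddSubgroup.closure_induction (p := fun c _ => ∃ b : A', a₁ (τ (e c)) = ι b * u) ?_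
      ⟨0, by simp⟩
      (fun a b _ _ ⟨x, hx⟩ ⟨y, hy⟩ => ⟨x + y, by simp only [map_add, hx, hy, add_mul]⟩)
      (fun a _ ⟨x, hx⟩ => ⟨-x, by simp only [map_neg, hx, neg_mul]⟩)
      (exists_span_TFun_of_surjective G O 0 (TFun_map_surjective_of_next G O 0 hvan h1) A' c)
    rintro _ ⟨b, c₀, rfl⟩
    obtain ⟨a, rfl⟩ := hc₁ c₀
    refine ⟨b * algebraMap A A' a, ?_⟩
    rw [← ha₁, ← map_smul, ← he]
    refine congrArg a₁ (congrArg τ (congrArg e ?_))
    obtain ⟨z, rfl⟩ := FlatCxBase.clsT_surjective (cxA A G.U O) (FlatCxBase.cochain_next ((0:ℕ) : ℤ))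
      _ c₁
    rw [← map_smul, FlatCxBase.TFun_map_clsT, FlatCxBase.TFun_map_clsT, FlatCxBase.TFun_map_clsT]
    congr 1
    apply Subtype.ext
    change (LinearMap.toSpanSingleton A A' b).lTensor _ (a • z.1) =
      (LinearMap.mul A A' (b * algebraMap A A' a)).lTensor _
        ((Algebra.linearMap A A').lTensor _ z.1)
    rw [map_smul, ← LinearMap.smul_apply, ← LinearMap.lTensor_smul,
      ← LinearMap.lTensor_comp_apply]
    congr 2
    exact LinearMap.ext_ring (by simp [Algebra.smul_def, mul_comm])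
  have hall : ∀ x : Γ(X', ⊤), ∃ b : A', x = ι b * u := fun x => by
    obtain ⟨y, rfl⟩ := a₁.surjective x
    obtain ⟨y', rfl⟩ := hτ.2 y
    obtain ⟨c, rfl⟩ := e.surjective y'
    exact key c
  obtain ⟨a, ha⟩ := hall 1
  obtain ⟨b, hb⟩ := hall (u * u)
  have hu : u = ι b := by
    calc u = (ι a * u) * u := by rw [← ha, one_mul]
      _ = ι a * (ι b * u) := by rw [mul_assoc, hb]
      _ = ι b * (ι a * u) := by ring
      _ = ι b := by rw [← ha, mul_one]
  intro x
  obtain ⟨c, hc⟩ := hall x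
  exact ⟨c * b, by rw [hc, hu]; exact map_mul ι c b⟩

end Global

section Field

/-- Vanishing of cohomology descends along a field extension. -/
theorem subsingleton_HH_of_field_ext {k : Type u} [Field k] {X : Scheme.{u}}
    [X.Over (Spec (CommRingCat.of k))] [X.IsSeparated] [CompactSpace X]
    (F : X.Modules) [F.IsQuasicoherent] (p : ℕ) {k' : Type u} [Field k'] [Algebra k k']
    {X' : Scheme.{u}} [X'.Over (Spec (CommRingCat.of k'))] {g : X' ⟶ X}
    (hsq : IsBC (A := k) (A' := k') g)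
    (h : Subsingleton (Coh.HH X' ((Scheme.Modules.pullback g).obj F) p)) :
    Subsingleton (Coh.HH X F p) := by
  obtain ⟨G⟩ := CohBase.exists_goodCover X
  obtain ⟨e, -⟩ := CohBase.exists_bcEquiv hsq F G p
  let T := CohIII.TFun (cxA k G.U F) (p : ℤ)
  haveI : Subsingleton (T.obj (ModuleCat.of k k')) := e.toEquiv.subsingleton
  let i₀ : k →ₗ[k] k' := Algebra.linearMap k k'
  obtain ⟨r₀, hr₀⟩ := i₀.exists_leftInverse_of_injective
    (LinearMap.ker_eq_bot.2 (algebraMap k k').injective)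
  let i' : ModuleCat.of k k ⟶ ModuleCat.of k k' := ModuleCat.ofHom i₀
  let r' : ModuleCat.of k k' ⟶ ModuleCat.of k k := ModuleCat.ofHom r₀
  have hir : i' ≫ r' = 𝟙 _ := ModuleCat.hom_ext hr₀
  haveI : Subsingleton (T.obj (ModuleCat.of k k)) := subsingleton_of_forall_eq 0 fun c => by
    have : T.map r' (T.map i' c) = c := by
      rw [← ModuleCat.comp_apply, ← Functor.map_comp, hir, T.map_id]
      rfl
    rw [← this, Subsingleton.elim (T.map i' c) 0, map_zero]
  exact (selfLinIso k G F p).toEquiv.symm.subsingleton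

end Field

section Preimage

variable {X Y : Scheme.{u}} (f : X ⟶ Y)

/-- The structure map of the preimage of an open. -/
theorem globalMap_preimage {V : Y.Opens} (a : Γ(Y, V)) :
    letI : ((f ⁻¹ᵁ V : X.Opens) : Scheme.{u}).Over (Spec (CommRingCat.of Γ(Y, V))) :=
      ⟨preimageToSpec f⟩
    globalMap Γ(Y, V) (f ⁻¹ᵁ V : X.Opens) a = (f ⁻¹ᵁ V).topIso.inv ((f.app V).hom a) := by
  change (preimageToSpec f).appTop ((Scheme.ΓSpecIso Γ(Y, V)).inv a) = _
  rw [preimageToSpec, Scheme.Hom.comp_appTop]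
  rw [CommRingCat.comp_apply]
  refine (congrArg (f ⁻¹ᵁ V).toSpecΓ.appTop
    (show (Spec.map (f.app V)).appTop ((Scheme.ΓSpecIso Γ(Y, V)).inv a) =
      (Scheme.ΓSpecIso Γ(X, f ⁻¹ᵁ V)).inv ((f.app V).hom a) from
        congr($(Scheme.ΓSpecIso_inv_naturality (f.app V)) a).symm)).trans ?_
  rw [Scheme.Opens.toSpecΓ_appTop, CommRingCat.comp_apply]
  exact congrArg _ (congr($((Scheme.ΓSpecIso Γ(X, f ⁻¹ᵁ V)).inv_hom_id) ((f.app V).hom a)))

/-- `H^d(f⁻¹V, O)` vanishes when that of the fibres over the affine open `V` does. -/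
theorem subsingleton_HH_of_fiber_H [IsProper f] {V : Y.Opens} (hV : IsAffineOpen V) (d : ℕ)
    (hd : ∀ y ∈ V, topologicalKrullDim ↥(f.fiber y) ≤ d)
    (h : ∀ y ∈ V, Subsingleton (Coh.HH (f.fiber y) (Coh.structureModule (f.fiber y)) d)) :
    Subsingleton (Coh.HH (f ⁻¹ᵁ V : X.Opens) (Coh.structureModule (f ⁻¹ᵁ V : X.Opens).toScheme) d) := by
  letI : ((f ⁻¹ᵁ V : X.Opens) : Scheme.{u}).Over (Spec (CommRingCat.of Γ(Y, V))) :=
    ⟨preimageToSpec f⟩
  refine subsingleton_of_forall_eq 0 fun x => ?_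
  by_contra hne
  obtain ⟨P, hP, hle⟩ := Ideal.exists_le_maximal (Ideal.torsionOf Γ(Y, V) _ x)
    (by rwa [Ne, Ideal.torsionOf_eq_top_iff])
  let y : Y := hV.fromSpec.base ⟨P, hP.isPrime⟩
  have hy : y ∈ V := hV.range_fromSpec.le ⟨_, rfl⟩
  obtain ⟨s, hs, hsx⟩ := exists_smul_eq_zero_of_fiber_H f hV d hd y hy (h y hy) x
  have hPs : (⟨P, hP.isPrime⟩ : PrimeSpectrum Γ(Y, V)) ∈ PrimeSpectrum.basicOpen s :=
    (hV.fromSpec_preimage_basicOpen s).le hs
  exact hPs (hle ((Ideal.mem_torsionOf_iff _ _).2 hsx))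

/-- Surjectivity of `O_{Y'} → f'_* O_{X'}` on affine opens is local. -/
theorem app_surjective_of_local [QuasiCompact f] [QuasiSeparated f] {U : Y.Opens}
    (hU : IsAffineOpen U)
    (hloc : ∀ y ∈ U, ∃ r : Γ(Y, U), y ∈ Y.basicOpen r ∧ Function.Surjective (f.app (Y.basicOpen r))) :
    Function.Surjective (f.app U) := by
  intro s
  let φ := f.app U
  let J : Ideal Γ(Y, U) :=
    { carrier := {r | φ r * s ∈ Set.range φ}
      add_mem' := fun {a b} ⟨x, hx⟩ ⟨z, hz⟩ => ⟨x + z, by rw [map_add, map_add, hx, hz, add_mul]⟩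
      zero_mem' := ⟨0, by simp⟩
      smul_mem' := fun c r ⟨x, hx⟩ => ⟨c * x, by rw [smul_eq_mul, map_mul, map_mul, hx, mul_assoc]⟩ }
  suffices J = ⊤ by
    obtain ⟨a, ha⟩ := (this.ge trivial : (1 : Γ(Y, U)) ∈ J)
    exact ⟨a, by rw [ha, map_one, one_mul]⟩
  by_contra hJ
  obtain ⟨P, hP, hle⟩ := Ideal.exists_le_maximal J hJ
  let y : Y := hU.fromSpec.base ⟨P, hP.isPrime⟩
  have hy : y ∈ U := hU.range_fromSpec.le ⟨_, rfl⟩
  obtain ⟨r, hyr, hr⟩ := hloc y hy
  have hPr : r ∉ P := (hU.fromSpec_preimage_basicOpen r).le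
    (show (⟨P, hP.isPrime⟩ : PrimeSpectrum Γ(Y, U)) ∈ hU.fromSpec ⁻¹ᵁ Y.basicOpen r from hyr)
  have hqc : IsCompact (f ⁻¹ᵁ U).1 := f.isCompact_preimage hU.isCompact
  have hqs : IsQuasiSeparated (f ⁻¹ᵁ U).1 := Scheme.Hom.isQuasiSeparated_preimage f hU.isQuasiSeparated
  haveI hl := isLocalization_basicOpen_of_qcqs hqc hqs (φ r)
  haveI := hU.isLocalization_basicOpen r
  have e : X.basicOpen (φ r) = f ⁻¹ᵁ Y.basicOpen r := (Scheme.preimage_basicOpen f r).symm
  obtain ⟨a, ha⟩ := hr (X.presheaf.map (homOfLE ((f.preimage_mono (Y.basicOpen_le r)))).op s)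
  obtain ⟨⟨b, ⟨_, n, rfl⟩⟩, hb⟩ := IsLocalization.surj (Submonoid.powers r) a
  have hb' : a * Y.presheaf.map (homOfLE (Y.basicOpen_le r)).op (r ^ n) =
      Y.presheaf.map (homOfLE (Y.basicOpen_le r)).op b := hb
  have h2 := congrArg (f.app (Y.basicOpen r)) hb'
  rw [map_mul, ha] at h2
  have nat : ∀ t, f.app (Y.basicOpen r) (Y.presheaf.map (homOfLE (Y.basicOpen_le r)).op t) =
      X.presheaf.map (homOfLE ((f.preimage_mono (Y.basicOpen_le r)))).op (φ t) := fun t =>
    congr($(f.naturality (homOfLE (Y.basicOpen_le r)).op) t)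
  rw [nat, nat, ← map_mul] at h2
  have h3 : algebraMap Γ(X, f ⁻¹ᵁ U) Γ(X, X.basicOpen (φ r)) (s * φ (r ^ n)) =
      algebraMap Γ(X, f ⁻¹ᵁ U) Γ(X, X.basicOpen (φ r)) (φ b) := by
    have h4 := congrArg (X.presheaf.map (homOfLE e.le).op) h2
    have key : ∀ t, X.presheaf.map (homOfLE e.le).op
        (X.presheaf.map (homOfLE ((f.preimage_mono (Y.basicOpen_le r)))).op t) =
          algebraMap Γ(X, f ⁻¹ᵁ U) Γ(X, X.basicOpen (φ r)) t := fun t =>
      (congr($(X.presheaf.map_comp (homOfLE ((f.preimage_mono (Y.basicOpen_le r)))).op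
        (homOfLE e.le).op) t)).symm
    rw [key, key] at h4
    exact h4
  obtain ⟨⟨_, m, rfl⟩, hm⟩ := (IsLocalization.eq_iff_exists (Submonoid.powers (φ r)) _).1 h3
  have hmem : r ^ (m + n) ∈ J := ⟨r ^ m * b, by
    rw [map_mul, pow_add, map_mul, map_pow, map_pow]
    simp only [map_pow] at hm
    rw [← hm]
    ring⟩
  exact hPr (hP.isPrime.mem_of_pow_mem _ (hle hmem))

end Preimage

end Groth.Limits.FibreVanishing
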