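import Groth.Agent.Limits.DVRPoints
import Groth.Agent.ZetaAn.UnivClosedTest
import Groth.Agent.Chow.Lemma
import Groth.Agent.Variety2.ProjBasics
import Mathlib.AlgebraicGeometry.Morphisms.Proper

/-!
# Valuative criteria on discrete valuation rings over locally Noetherian bases
-/

set_option backward.isDefEq.respectTransparency false

universe u

open CategoryTheory Limits AlgebraicGeometry IsLocalRing

namespace Groth.Limits

/-- Uniqueness of lifts at discrete valuation rings attached to a set `G` of points of `U` such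
that all points of `X` are specializations of images of points of `G` gives separatedness. -/
theorem isSeparated_of_dvr {X S U : Scheme.{u}} [IsLocallyNoetherian S] (f : X ⟶ S)
    [LocallyOfFiniteType f] (h : U ⟶ X) [LocallyOfFiniteType h] (G : Set U)
    (hG : ∀ x, ∃ u ∈ G, h u ⤳ x)
    (H : ∀ (A : Type u) [CommRing A] [IsDomain A] [IsDiscreteValuationRing A] (u : U), u ∈ G →
      ∀ (e : U.residueField u ⟶ CommRingCat.of (FractionRing A)), IsIso e →
      ∀ l₁ l₂ : Spec (CommRingCat.of A) ⟶ X, l₁ ≫ f = l₂ ≫ f →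
        genericPointMap A ≫ l₁ = (Spec.map e ≫ U.fromSpecResidueField u) ≫ h →
        genericPointMap A ≫ l₂ = (Spec.map e ≫ U.fromSpecResidueField u) ≫ h → l₁ = l₂) :
    IsSeparated f := by
  have := LocallyOfFiniteType.isLocallyNoetherian f
  have : IsLocallyNoetherian (pullback f f) :=
    LocallyOfFiniteType.isLocallyNoetherian (pullback.fst f f ≫ f)
  have : QuasiSeparated f := inferInstance
  constructor
  refine IsClosedImmersion.of_isPreimmersion _
    (isClosed_range_of_specializes (pullback.diagonal f) fun x z hxz ↦ ?_)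
  obtain ⟨u, hu, hux⟩ := hG x
  have hsp : (h ≫ pullback.diagonal f) u ⤳ z := by
    rw [Scheme.Hom.comp_apply]
    exact (hux.map (pullback.diagonal f).continuous).trans hxz
  rcases eq_or_ne z ((h ≫ pullback.diagonal f) u) with rfl | hne
  · exact ⟨h u, (Scheme.Hom.comp_apply _ _ _).symm⟩
  obtain ⟨A, _, _, _, e, he, m, hcl, hm⟩ :=
    exists_dvr_square (h ≫ pullback.diagonal f) u z hsp hne
  have key := H A u hu e he (m ≫ pullback.fst f f) (m ≫ pullback.snd f f)
    (by simp [pullback.condition]) (by rw [reassoc_of% hm]; simp) (by rw [reassoc_of% hm]; simp)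
  have hfac : (m ≫ pullback.fst f f) ≫ pullback.diagonal f = m := by
    refine pullback.hom_ext ?_ ?_
    · simp
    · simpa using key
  refine ⟨(m ≫ pullback.fst f f) (closedPoint A), ?_⟩
  rw [← Scheme.Hom.comp_apply, hfac, hcl]

/-- Existence of lifts at all discrete valuation rings gives universal closedness. -/
theorem universallyClosed_of_dvr {X S : Scheme.{u}} [IsLocallyNoetherian S] (f : X ⟶ S)
    [LocallyOfFiniteType f] [QuasiCompact f]
    (H : ∀ (A : Type u) [CommRing A] [IsDomain A] [IsDiscreteValuationRing A]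
      (x : Spec (CommRingCat.of (FractionRing A)) ⟶ X) (y : Spec (CommRingCat.of A) ⟶ S),
      x ≫ f = genericPointMap A ≫ y →
      ∃ l : Spec (CommRingCat.of A) ⟶ X, l ≫ f = y ∧ genericPointMap A ≫ l = x) :
    UniversallyClosed f := by
  refine Groth.ZetaAn.universallyClosed_of_lfp f fun T g hg ↦ ?_
  have := LocallyOfFiniteType.isLocallyNoetherian g
  rw [isClosedMap_iff_specializingMap]
  intro x s hxs
  rcases eq_or_ne s (pullback.snd f g x) with rfl | hne
  · exact ⟨x, specializes_rfl, rfl⟩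
  obtain ⟨A, _, _, _, e, he, m, hcl, hm⟩ :=
    exists_dvr_square (pullback.snd f g) x s hxs hne
  let k := Spec.map e ≫ (pullback f g).fromSpecResidueField x
  obtain ⟨l, hl₁, hl₂⟩ := H A (k ≫ pullback.fst f g) (m ≫ g)
    (by rw [reassoc_of% hm, Category.assoc, pullback.condition, Category.assoc])
  let l' : Spec (CommRingCat.of A) ⟶ pullback f g := pullback.lift l m hl₁
  have hl' : genericPointMap A ≫ l' = k := by
    refine pullback.hom_ext ?_ ?_
    · rw [Category.assoc, pullback.lift_fst, hl₂]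
    · rw [Category.assoc, pullback.lift_snd, hm]
  refine ⟨l' (closedPoint A), ?_, ?_⟩
  · have h1 := genericPointMap_specializes l' hl'
    rwa [Scheme.Hom.comp_apply, Scheme.fromSpecResidueField_apply] at h1
  · rw [← Scheme.Hom.comp_apply, pullback.lift_snd, hcl]

/-- Existence of lifts at discrete valuation rings attached to points of `G` gives universal
closedness, for separated morphisms over a Noetherian base (via Chow's lemma). -/
theorem universallyClosed_of_dvr_through_of_isNoetherian {X S U : Scheme.{u}} [IsNoetherian S]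
    (f : X ⟶ S) [IsSeparated f] [LocallyOfFiniteType f] [QuasiCompact f] (h : U ⟶ X)
    [LocallyOfFiniteType h] (G : Set U) (hG : ∀ x, ∃ u ∈ G, h u ⤳ x)
    (H : ∀ (A : Type u) [CommRing A] [IsDomain A] [IsDiscreteValuationRing A] (u : U), u ∈ G →
      ∀ (e : U.residueField u ⟶ CommRingCat.of (FractionRing A)), IsIso e →
      ∀ y : Spec (CommRingCat.of A) ⟶ S,
        (Spec.map e ≫ U.fromSpecResidueField u) ≫ h ≫ f = genericPointMap A ≫ y →
        ∃ l : Spec (CommRingCat.of A) ⟶ X, l ≫ f = y ∧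
          genericPointMap A ≫ l = (Spec.map e ≫ U.fromSpecResidueField u) ≫ h) :
    UniversallyClosed f := by
  have := LocallyOfFiniteType.isLocallyNoetherian f
  have := QuasiCompact.compactSpace_of_compactSpace f
  have : IsNoetherian X := {}
  obtain ⟨N, X', π, j, hj, hjb, hπ, hπs, ⟨V, -, hD, hiso⟩, -, -⟩ :=
    Groth.Chow.exists_chow f TopologicalSpace.NoetherianSpace.finite_irreducibleComponents
  have := LocallyOfFiniteType.isLocallyNoetherian π
  have := QuasiCompact.compactSpace_of_compactSpace π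
  have : IsNoetherian X' := {}
  have := Groth.Variety2.isProper_projSpaceOver_toBase N S
  have := LocallyOfFiniteType.isLocallyNoetherian (CohB1.ProjSpaceOver.toBase N S)
  have : CompactSpace (π ⁻¹ᵁ V).toScheme :=
    isCompact_iff_compactSpace.mp (TopologicalSpace.NoetherianSpace.isCompact _)
  have : IsNoetherian (π ⁻¹ᵁ V).toScheme := {}
  have hclosed : IsClosed (Set.range j) := by
    refine isClosed_of_closure_subset fun w hw ↦ ?_
    have hw' : w ∈ closure (Set.range ((π ⁻¹ᵁ V).ι ≫ j)) := by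
      rw [Scheme.Hom.comp_base, TopCat.coe_comp, Set.range_comp, Scheme.Opens.range_ι]
      have hsub : Set.range j ⊆ closure (⇑j '' (π ⁻¹ᵁ V : X'.Opens)) := by
        rw [← Set.image_univ, ← hD.closure_eq]
        exact image_closure_subset_closure_image j.continuous
      exact closure_minimal hsub isClosed_closure hw
    obtain ⟨_, ⟨v, rfl⟩, hvw⟩ := exists_specializes_of_mem_closure (pc_range _) hw'
    obtain ⟨u, hu, huv⟩ := hG (π ((π ⁻¹ᵁ V).ι v))
    have huV : u ∈ h ⁻¹ᵁ V := huv.mem_open V.isOpen v.2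
    let m : (h ⁻¹ᵁ V).toScheme ⟶ (π ⁻¹ᵁ V).toScheme := (h ∣_ V) ≫ inv (π ∣_ V)
    have hm : m ≫ (π ⁻¹ᵁ V).ι ≫ π = (h ⁻¹ᵁ V).ι ≫ h := by
      rw [Category.assoc, ← morphismRestrict_ι π, IsIso.inv_hom_id_assoc, morphismRestrict_ι]
    let u₀ : (h ⁻¹ᵁ V).toScheme := ⟨u, huV⟩
    have hm₀ : m u₀ ⤳ v := by
      have h1 : (h ∣_ V) u₀ ⤳ (π ∣_ V) v := by
        rw [← V.ι.isOpenEmbedding.toIsInducing.specializes_iff, ← Scheme.Hom.comp_apply,
          ← Scheme.Hom.comp_apply, morphismRestrict_ι, morphismRestrict_ι, Scheme.Hom.comp_apply,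
          Scheme.Hom.comp_apply]
        exact huv
      have h2 := h1.map (inv (π ∣_ V)).continuous
      rw [← Scheme.Hom.comp_apply, ← Scheme.Hom.comp_apply, IsIso.hom_inv_id] at h2
      simpa [m] using h2
    let q := m ≫ (π ⁻¹ᵁ V).ι ≫ j
    have hq : q u₀ ⤳ w := by
      rw [show q = m ≫ ((π ⁻¹ᵁ V).ι ≫ j) from rfl, Scheme.Hom.comp_apply]
      exact (hm₀.map ((π ⁻¹ᵁ V).ι ≫ j).continuous).trans hvw
    rcases eq_or_ne w (q u₀) with rfl | hne
    · exact ⟨(π ⁻¹ᵁ V).ι (m u₀), by rw [← Scheme.Hom.comp_apply, ← Scheme.Hom.comp_apply]⟩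
    obtain ⟨A, _, _, _, e₀, he₀, hA, hcl, hhA⟩ := exists_dvr_square q u₀ w hq hne
    let k₀ := Spec.map e₀ ≫ (h ⁻¹ᵁ V).toScheme.fromSpecResidueField u₀
    let e : U.residueField u ⟶ CommRingCat.of (FractionRing A) :=
      (h ⁻¹ᵁ V).ι.residueFieldMap u₀ ≫ e₀
    have hk : Spec.map e ≫ U.fromSpecResidueField u = k₀ ≫ (h ⁻¹ᵁ V).ι := by
      rw [Category.assoc, ← Scheme.Hom.SpecMap_residueFieldMap_fromSpecResidueField,
        Spec.map_comp, Category.assoc]
      rfl
    have : IsIso e := IsIso.comp_isIso' inferInstance he₀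
    obtain ⟨l, hl₁, hl₂⟩ := H A u hu e this (hA ≫ CohB1.ProjSpaceOver.toBase N S) (by
      rw [hk, Category.assoc, ← reassoc_of% hm, reassoc_of% hhA]
      simp only [q, k₀, Category.assoc, hjb])
    obtain ⟨l', hl'₁, hl'₂⟩ := dvr_lift_of_universallyClosed π A (k₀ ≫ m ≫ (π ⁻¹ᵁ V).ι) l (by
      rw [hl₂, hk]
      simp only [Category.assoc, hm])
    refine ⟨l' (closedPoint A), ?_⟩
    have hfac : l' ≫ j = hA := by
      refine dvr_lift_unique (CohB1.ProjSpaceOver.toBase N S) A (FractionRing A) _ _ ?_ ?_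
      · rw [Category.assoc, hjb, reassoc_of% hl'₁, hl₁]
      · change genericPointMap A ≫ l' ≫ j = genericPointMap A ≫ hA
        rw [reassoc_of% hl'₂, hhA]
    rw [← Scheme.Hom.comp_apply, hfac, hcl]
  have : IsClosedImmersion j := IsClosedImmersion.of_isPreimmersion _ hclosed
  have : UniversallyClosed (π ≫ f) := hjb ▸ inferInstance
  exact UniversallyClosed.of_comp_surjective π f

/-- Existence of lifts at discrete valuation rings attached to points of `G` gives universal
closedness, for separated morphisms over a locally Noetherian base. -/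
theorem universallyClosed_of_dvr_through {X S U : Scheme.{u}} [IsLocallyNoetherian S]
    (f : X ⟶ S) [IsSeparated f] [LocallyOfFiniteType f] [QuasiCompact f] (h : U ⟶ X)
    [LocallyOfFiniteType h] (G : Set U) (hG : ∀ x, ∃ u ∈ G, h u ⤳ x)
    (H : ∀ (A : Type u) [CommRing A] [IsDomain A] [IsDiscreteValuationRing A] (u : U), u ∈ G →
      ∀ (e : U.residueField u ⟶ CommRingCat.of (FractionRing A)), IsIso e →
      ∀ y : Spec (CommRingCat.of A) ⟶ S,
        (Spec.map e ≫ U.fromSpecResidueField u) ≫ h ≫ f = genericPointMap A ≫ y →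
        ∃ l : Spec (CommRingCat.of A) ⟶ X, l ≫ f = y ∧
          genericPointMap A ≫ l = (Spec.map e ≫ U.fromSpecResidueField u) ≫ h) :
    UniversallyClosed f := by
  refine IsZariskiLocalAtTarget.of_iSup_eq_top (P := @UniversallyClosed)
    (fun W : S.affineOpens ↦ W.1) (iSup_affineOpens_eq_top S) fun W ↦ ?_
  have : CompactSpace W.1.toScheme := isCompact_iff_compactSpace.mp W.2.isCompact
  have : IsNoetherian W.1.toScheme := {}
  let XW : X.Opens := f ⁻¹ᵁ W.1
  have : LocallyOfFiniteType (h ∣_ XW) := inferInstance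
  refine universallyClosed_of_dvr_through_of_isNoetherian (f ∣_ W.1) (h ∣_ XW)
    ((h ⁻¹ᵁ XW).ι ⁻¹' G) (fun x ↦ ?_) ?_
  · obtain ⟨u, hu, hux⟩ := hG (XW.ι x)
    refine ⟨⟨u, hux.mem_open XW.isOpen x.2⟩, hu, ?_⟩
    rw [← XW.ι.isOpenEmbedding.toIsInducing.specializes_iff, ← Scheme.Hom.comp_apply,
      morphismRestrict_ι, Scheme.Hom.comp_apply]
    exact hux
  intro A _ _ _ u₀ hu₀ e₀ he₀ y hy
  let e : U.residueField ((h ⁻¹ᵁ XW).ι u₀) ⟶ CommRingCat.of (FractionRing A) :=
    (h ⁻¹ᵁ XW).ι.residueFieldMap u₀ ≫ e₀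
  have hk : Spec.map e ≫ U.fromSpecResidueField _ =
      (Spec.map e₀ ≫ (h ⁻¹ᵁ XW).toScheme.fromSpecResidueField u₀) ≫ (h ⁻¹ᵁ XW).ι := by
    rw [Category.assoc, ← Scheme.Hom.SpecMap_residueFieldMap_fromSpecResidueField,
      Spec.map_comp, Category.assoc]
  obtain ⟨l, hl₁, hl₂⟩ := H A _ hu₀ e (IsIso.comp_isIso' inferInstance he₀) (y ≫ W.1.ι) (by
    rw [hk, ← reassoc_of% hy, morphismRestrict_ι, morphismRestrict_ι_assoc]
    simp only [Category.assoc])
  have hlW : Set.range l ⊆ Set.range XW.ι := by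
    rintro _ ⟨z, rfl⟩
    rw [Scheme.Opens.range_ι]
    change f (l z) ∈ W.1
    rw [← Scheme.Hom.comp_apply, hl₁, Scheme.Hom.comp_apply]
    exact (y z).2
  refine ⟨IsOpenImmersion.lift XW.ι l hlW, ?_, ?_⟩
  · rw [← cancel_mono W.1.ι, Category.assoc, morphismRestrict_ι, IsOpenImmersion.lift_fac_assoc,
      hl₁]
  · rw [← cancel_mono XW.ι, Category.assoc, IsOpenImmersion.lift_fac, hl₂, hk]
    simp only [Category.assoc, morphismRestrict_ι]

end Groth.Limits

namespace Groth.Limits

/-- A discrete valuation ring with fraction field `K` is a valuation subring of `K`. -/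
theorem exists_valuationSubring_of_iso (A : Type u) [CommRing A] [IsDomain A]
    [IsDiscreteValuationRing A] (K : Type u) [Field K]
    (e : CommRingCat.of K ⟶ CommRingCat.of (FractionRing A)) [IsIso e] :
    ∃ (V : ValuationSubring K) (ε : CommRingCat.of A ≅ CommRingCat.of V),
      IsDiscreteValuationRing V ∧
        ε.hom ≫ CommRingCat.ofHom V.subtype =
          CommRingCat.ofHom (algebraMap A (FractionRing A)) ≫ inv e := by
  let φ : A →+* K := (inv e).hom.comp (algebraMap A (FractionRing A))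
  have hi : Function.Injective (inv e).hom :=
    (ConcreteCategory.bijective_of_isIso (inv e)).1
  have hφ : Function.Injective φ := hi.comp (IsFractionRing.injective A (FractionRing A))
  let V : ValuationSubring K := .ofSubring φ.range fun x ↦ by
    obtain ⟨a, ha⟩ | ⟨a, ha⟩ := ValuationRing.isInteger_or_isInteger A (e.hom x)
    · exact .inl ⟨a, by simp [φ, ha]⟩
    · refine .inr ⟨a, ?_⟩
      simp only [φ, RingHom.comp_apply, ha]
      rw [← map_inv₀ e.hom]
      exact CategoryTheory.IsIso.hom_inv_id_apply e x⁻¹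
  let ε : A ≃+* V := RingEquiv.ofBijective (φ.codRestrict V.toSubring fun a ↦ ⟨a, rfl⟩)
    ⟨fun a b hab ↦ hφ (congrArg Subtype.val hab), fun ⟨x, a, ha⟩ ↦ ⟨a, Subtype.ext ha⟩⟩
  exact ⟨V, ε.toCommRingCatIso, IsDiscreteValuationRing.RingEquivClass.isDiscreteValuationRing ε, rfl⟩

end Groth.Limits

namespace Groth.Limits

/-- Every point is a specialization of the generic point of an irreducible component. -/
theorem exists_generic_specializes {X : Scheme.{u}} (x : X) :
    ∃ η : X, closure {η} ∈ irreducibleComponents (X : Type u) ∧ η ⤳ x := by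
  have hC := irreducibleComponent_mem_irreducibleComponents x
  obtain ⟨η, hη⟩ := QuasiSober.sober hC.1 (isClosed_of_mem_irreducibleComponents _ hC)
  exact ⟨η, hη.def.symm ▸ hC, hη.specializes mem_irreducibleComponent⟩

/-- Uniqueness at the valuation subrings of the residue fields of generic points. -/
theorem isSeparated_of_dvr_generic {X S : Scheme.{u}} [IsLocallyNoetherian S] (f : X ⟶ S)
    [LocallyOfFiniteType f]
    (H : ∀ (η : X), closure {η} ∈ irreducibleComponents (X : Type u) →
      ∀ (A : ValuationSubring (X.residueField η)), IsDiscreteValuationRing A →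
        ∀ l₁ l₂ : Spec (CommRingCat.of A) ⟶ X, l₁ ≫ f = l₂ ≫ f →
          Spec.map (CommRingCat.ofHom A.subtype) ≫ l₁ = X.fromSpecResidueField η →
          Spec.map (CommRingCat.ofHom A.subtype) ≫ l₂ = X.fromSpecResidueField η → l₁ = l₂) :
    IsSeparated f := by
  refine isSeparated_of_dvr f (𝟙 X) {η | closure {η} ∈ irreducibleComponents (X : Type u)}
    (fun x ↦ exists_generic_specializes x) fun A _ _ _ η hη e he l₁ l₂ h h₁ h₂ ↦ ?_
  obtain ⟨V, ε, hV, hε⟩ := exists_valuationSubring_of_iso A (X.residueField η) e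
  have key : ∀ l : Spec (CommRingCat.of A) ⟶ X,
      genericPointMap A ≫ l = (Spec.map e ≫ X.fromSpecResidueField η) ≫ 𝟙 X →
      Spec.map (CommRingCat.ofHom V.subtype) ≫ Spec.map ε.hom ≫ l =
        X.fromSpecResidueField η := fun l hl ↦ by
    rw [← Spec.map_comp_assoc, hε, Spec.map_comp, Category.assoc]
    rw [show Spec.map (CommRingCat.ofHom (algebraMap A (FractionRing A))) ≫ l = _ from hl,
      Category.comp_id, ← Spec.map_comp_assoc]
    erw [IsIso.hom_inv_id, Spec.map_id, Category.id_comp]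
  exact (cancel_epi (Spec.map ε.hom)).1 (H η hη V hV (Spec.map ε.hom ≫ l₁) (Spec.map ε.hom ≫ l₂)
    (by simp [h]) (key _ h₁) (key _ h₂))

/-- Existence at the valuation subrings of the residue fields of generic points. -/
theorem universallyClosed_of_dvr_generic {X S : Scheme.{u}} [IsLocallyNoetherian S] (f : X ⟶ S)
    [IsSeparated f] [LocallyOfFiniteType f] [QuasiCompact f]
    (H : ∀ (η : X), closure {η} ∈ irreducibleComponents (X : Type u) →
      ∀ (A : ValuationSubring (X.residueField η)), IsDiscreteValuationRing A →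
        ∀ y : Spec (CommRingCat.of A) ⟶ S,
          Spec.map (CommRingCat.ofHom A.subtype) ≫ y = X.fromSpecResidueField η ≫ f →
          ∃ l : Spec (CommRingCat.of A) ⟶ X,
            l ≫ f = y ∧ Spec.map (CommRingCat.ofHom A.subtype) ≫ l = X.fromSpecResidueField η) :
    UniversallyClosed f := by
  refine universallyClosed_of_dvr_through f (𝟙 X)
    {η | closure {η} ∈ irreducibleComponents (X : Type u)}
    (fun x ↦ exists_generic_specializes x) fun A _ _ _ η hη e he y hy ↦ ?_
  obtain ⟨V, ε, hV, hε⟩ := exists_valuationSubring_of_iso A (X.residueField η) e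
  have hε' : Spec.map (CommRingCat.ofHom V.subtype) ≫ Spec.map ε.hom =
      Spec.map (inv e) ≫ genericPointMap A := by
    rw [← Spec.map_comp, hε, Spec.map_comp]
  obtain ⟨l, hl₁, hl₂⟩ := H η hη V hV (Spec.map ε.hom ≫ y) (by
    rw [reassoc_of% hε', ← hy, Category.assoc, Category.id_comp, ← Spec.map_comp_assoc]
    erw [IsIso.hom_inv_id, Spec.map_id, Category.id_comp])
  refine ⟨Spec.map ε.inv ≫ l, ?_, ?_⟩
  · rw [Category.assoc, hl₁, ← Spec.map_comp_assoc, Iso.hom_inv_id, Spec.map_id, Category.id_comp]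
  · have h2 : Spec.map (inv e) ≫ genericPointMap A ≫ Spec.map ε.inv ≫ l =
        X.fromSpecResidueField η := by
      rw [← reassoc_of% hε', ← Spec.map_comp_assoc (f := ε.inv), Iso.inv_hom_id, Spec.map_id,
        Category.id_comp, hl₂]
    rw [Category.comp_id, ← h2, ← Spec.map_comp_assoc (g := e)]
    erw [IsIso.inv_hom_id, Spec.map_id, Category.id_comp]

end Groth.Limits
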