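import Groth.Agent.VarietyBC.CurveGG
import Groth.Agent.VarietyBC.GGen
import Groth.Agent.EulerDeg.DimOne
import Groth.Agent.EulerDeg.HLinear
import Groth.Agent.Curves1.RR.RankOne
import Groth.Agent.Ega2Proj.TensorGen

/-!
# Multiplication of sections on proper curves: the right exact `H¹` trick
-/

universe u

open CategoryTheory CategoryTheory.Limits AlgebraicGeometry Opposite TopologicalSpace

namespace Groth.LimCurveMult

open Groth.PicAux Groth.PropsBasic.Ample

attribute [local instance] CategoryTheory.Abelian.hasFiniteBiproducts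

variable (k : Type u) [Field k] {X : Scheme.{u}} [X.Over (Spec (CommRingCat.of k))]

include k in
theorem subsingleton_biproduct {ι : Type} [Fintype ι] [DecidableEq ι] (M : ι → X.Modules) (n : ℕ)
    (h : ∀ i, Subsingleton (Coh.HH X (M i) n)) : Subsingleton (Coh.HH X (⨁ M) n) := by
  suffices H : ∀ (s : Finset ι) (x : Coh.HH X (⨁ M) n),
      Groth.EulerDeg.hMap k (∑ i ∈ s, biproduct.π M i ≫ biproduct.ι M i) n x = 0 by
    refine ⟨fun x y => ?_⟩
    have hx := H Finset.univ x
    have hy := H Finset.univ y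
    rw [biproduct.total, Groth.EulerDeg.hMap_id] at hx hy
    exact hx.trans hy.symm
  intro s
  induction s using Finset.induction_on with
  | empty =>
    intro x
    rw [Finset.sum_empty]
    have h0 := Groth.Curves1.RR.hMap_add (k := k) (0 : (⨁ M) ⟶ ⨁ M) 0 n x
    rw [add_zero] at h0
    exact left_eq_add.mp h0
  | insert a s ha ih =>
    intro x
    rw [Finset.sum_insert ha, Groth.Curves1.RR.hMap_add, ih, add_zero, Groth.EulerDeg.hMap_comp,
      LinearMap.comp_apply, @Subsingleton.elim _ (h a) (Groth.EulerDeg.hMap k (biproduct.π M a) n x) 0,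
      map_zero]

include k in
theorem app_surjective {S : ShortComplex X.Modules} (hS : S.ShortExact)
    (h : Subsingleton (Coh.HH X S.X₁ 1)) : Function.Surjective (S.g.app ⊤) := by
  intro y
  let e := fun M : X.Modules => Sheaf.H.equiv₀ (Coh.toAb M) (T := (⊤ : X.Opens)) isTerminalTop
  obtain ⟨x, hx⟩ := ((Groth.EulerDeg.exact_right k hS 0) ((e S.X₃).symm y)).1
    (@Subsingleton.elim _ h _ _)
  refine ⟨e S.X₂ x, ?_⟩
  have h2 := Sheaf.H.equiv₀_naturality (T := (⊤ : X.Opens)) isTerminalTop (Groth.EulerDeg.abMap S.g) x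
  refine h2.trans ?_
  rw [← Groth.EulerDeg.hMap_apply k S.g, hx]
  exact (e S.X₃).apply_symm_apply y

theorem tmulSec_comm {L : X.Modules} (hL : PicF.IsInvertible L) {W : X.Opens} (s t : Γ(L, W)) :
    tmulSec s t = tmulSec t s := by
  choose U e hxU he using (isInvertible_iff_exists_gen L).1 hL
  refine res_ext (fun i => W ⊓ U i) (fun i => inf_le_left)
    (fun z hz => Opens.mem_iSup.2 ⟨z, hz, hxU z⟩) fun i => ?_
  obtain ⟨c, hc⟩ := (he i).exists_coeff (inf_le_right : W ⊓ U i ≤ U i) (res L inf_le_left s)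
  obtain ⟨d, hd⟩ := (he i).exists_coeff (inf_le_right : W ⊓ U i ≤ U i) (res L inf_le_left t)
  rw [res_tmulSec, res_tmulSec, hc, hd]
  simp only [tmulSec_smul_left, tmulSec_smul_right, smul_smul, mul_comm]

theorem mul_comm_sec {L M : X.Modules} (hL : PicF.IsInvertible L) {W : X.Opens} (a : Γ(M, W))
    (s t : Γ(L, W)) : tmulSec (tmulSec a s) t = tmulSec (tmulSec a t) s := by
  obtain ⟨e, he⟩ := exists_associator M L L
  refine (Function.LeftInverse.injective (g := e.inv.app W) fun z => congr($(e.hom_inv_id).app W z)) ?_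
  exact (he W a s t).trans ((congrArg (tmulSec a) (tmulSec_comm hL s t)).trans (he W a t s).symm)

/-- Sums of products `m ⊗ t`. -/
def MulSpans (M L : X.Modules) : Prop :=
  AddSubgroup.closure {z : Γ(CohB1.tensorMod M L, ⊤) | ∃ (m : Γ(M, ⊤)) (t : Γ(L, ⊤)),
    z = tmulSec m t} = ⊤

theorem MulSpans.of_iso {M M' L : X.Modules} (h : MulSpans M L) (e : M ≅ M') : MulSpans M' L := by
  refine eq_top_iff.mpr fun z _ => ?_
  let ψ := KoszTw.tensorMap e.hom (𝟙 L)
  let ψ' := KoszTw.tensorMap e.inv (𝟙 L)
  have hψ : ψ' ≫ ψ = 𝟙 _ := tensor_hom_ext fun W a b => by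
    simp only [ψ, ψ', Scheme.Modules.Hom.comp_app, ConcreteCategory.comp_apply, tensorMap_app_tmulSec]
    exact congrArg (fun q => tmulSec q b) (congr($(e.inv_hom_id).app W a))
  rw [show z = ψ.app ⊤ (ψ'.app ⊤ z) from (congr($(hψ).app ⊤ z)).symm]
  have hmem : ψ'.app ⊤ z ∈ AddSubgroup.closure _ := h.ge (AddSubgroup.mem_top _)
  generalize ψ'.app ⊤ z = w at hmem ⊢
  induction hmem using AddSubgroup.closure_induction with
  | mem v hw =>
    obtain ⟨m, t, rfl⟩ := hw
    exact AddSubgroup.subset_closure ⟨e.hom.app ⊤ m, t, tensorMap_app_tmulSec _ _ _ _ _⟩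
  | zero => rw [map_zero]; exact zero_mem _
  | add a c _ _ ha hc => rw [map_add]; exact add_mem ha hc
  | neg a _ ha => rw [map_neg]; exact neg_mem ha

variable [IsProper (X ↘ Spec (CommRingCat.of k))]

include k in
theorem h1_and_span (hdim : topologicalKrullDim X ≤ 1) {M L : X.Modules} (hM : PicF.IsInvertible M)
    (hL : PicF.IsInvertible L) (hgg : Curv2.IsGloballyGenerated L)
    (h1 : Subsingleton (Coh.HH X M 1)) :
    Subsingleton (Coh.HH X (CohB1.tensorMod M L) 1) ∧ MulSpans (CohB1.tensorMod M L) L := by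
  classical
  haveI : NoetherianSpace (X.toTopCat : Type u) := Groth.EulerDeg.noetherianSpace_of_proper k X
  haveI : NoetherianSpace X := Groth.EulerDeg.noetherianSpace_of_proper k X
  choose t0 ht0 using Groth.VarietyBC.GGen.exists_mem_gloc hL hgg
  obtain ⟨F, hF⟩ := isCompact_univ.elim_finite_subcover (fun x => (gloc (t0 x) : Set X))
    (fun x => (gloc (t0 x)).isOpen) (fun x _ => Set.mem_iUnion.2 ⟨x, ht0 x⟩)
  let ι : Type := Fin F.card
  let t : ι → Γ(L, ⊤) := fun i => t0 (F.equivFin.symm i : X)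
  have hcov : ∀ x : X, ∃ i, x ∈ gloc (t i) := fun x => by
    obtain ⟨y, hy⟩ := Set.mem_iUnion.1 (hF (Set.mem_univ x))
    obtain ⟨hyF, hxy⟩ := Set.mem_iUnion.1 hy
    exact ⟨F.equivFin ⟨y, hyF⟩, by simpa [t] using hxy⟩
  let B := CohB1.tensorMod M L
  let C := CohB1.tensorMod B L
  have hB : PicF.IsInvertible B := isInvertible_tensorMod hM hL
  choose σ hσ using fun i => Groth.VarietyBC.CurveGG.exists_mulHom hM (t i)
  choose σ' hσ' using fun i => Groth.VarietyBC.CurveGG.exists_mulHom hB (t i)
  have hcomm : ∀ i j, σ i ≫ σ' j = σ j ≫ σ' i := fun i j => by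
    ext W a
    simp only [Scheme.Modules.Hom.comp_app, ConcreteCategory.comp_apply, hσ, hσ']
    exact mul_comm_sec hL _ _ _
  let p : (⨁ fun _ : ι => B) ⟶ C := biproduct.desc σ'
  let α : (⨁ fun _ : ι × ι => M) ⟶ ⨁ fun _ : ι => B := biproduct.desc fun ij =>
    σ ij.1 ≫ biproduct.ι (fun _ : ι => B) ij.2 - σ ij.2 ≫ biproduct.ι (fun _ : ι => B) ij.1
  have hαp : α ≫ p = 0 := biproduct.hom_ext' _ _ fun ij => by
    simp [α, p, hcomm ij.1 ij.2]
  -- near every point some section is a generator
  have hbij : ∀ {N : X.Modules} (φ : N ⟶ CohB1.tensorMod N L) (i : ι) (_ : ∀ (W : X.Opens) a,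
      φ.app W a = tmulSec a (res L le_top (t i))) (x : X), x ∈ gloc (t i) →
      Function.Bijective ((Groth.QCohMod.stalk x).map φ) := by
    intro N φ i hφ x hx
    have hV : ∀ (V : X.Opens), V ≤ gloc (t i) → Function.Bijective (φ.app V) := fun V hV => by
      have h2 := Groth.Ega2Proj.tmulSec_bijective (M := N) hV (gen_gloc (t i) le_rfl)
      rw [res_res] at h2
      convert h2 using 1
      exact funext (hφ V)
    constructor
    · rw [injective_iff_map_eq_zero]
      intro a ha
      obtain ⟨W, hxW, m, rfl⟩ := TopCat.Presheaf.exists_germ_eq N.presheaf a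
      rw [Groth.QCohMod.stalk_map_germ] at ha
      obtain ⟨V, hxV, e1, e2, heq⟩ := TopCat.Presheaf.germ_eq _ x hxW hxW _ 0
        (ha.trans (map_zero _).symm)
      have h3 : φ.app (V ⊓ gloc (t i)) (res N (inf_le_left.trans e1.le) m) = 0 := by
        refine (app_res φ (inf_le_left.trans e1.le) m).trans ?_
        have h4 : res (CohB1.tensorMod N L) e1.le (φ.app W m) = 0 := heq.trans (map_zero _)
        rw [← res_res e1.le inf_le_left, h4, res_zero]
      have h5 := (hV _ inf_le_right).1 (h3.trans (map_zero _).symm)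
      change (N.presheaf.germ W x hxW) m = 0
      rw [← Groth.QCohMod.germ_res N (inf_le_left.trans e1.le) x ⟨hxV, hx⟩ m]
      exact (congrArg _ h5).trans (map_zero _)
    · intro b
      obtain ⟨W, hxW, m, rfl⟩ := TopCat.Presheaf.exists_germ_eq (CohB1.tensorMod N L).presheaf b
      obtain ⟨a, ha⟩ := (hV (W ⊓ gloc (t i)) inf_le_right).2 (res _ inf_le_left m)
      refine ⟨N.presheaf.germ (W ⊓ gloc (t i)) x ⟨hxW, hx⟩ a, ?_⟩
      rw [Groth.QCohMod.stalk_map_germ, ha]
      exact Groth.QCohMod.germ_res _ inf_le_left x ⟨hxW, hx⟩ m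
  haveI : Epi p := (Groth.QCohMod.epi_iff_stalk p).mpr fun x c => by
    obtain ⟨i, hi⟩ := hcov x
    obtain ⟨b, rfl⟩ := (hbij (σ' i) i (hσ' i) x hi).2 c
    refine ⟨(Groth.QCohMod.stalk x).map (biproduct.ι (fun _ : ι => B) i) b, ?_⟩
    rw [← ConcreteCategory.comp_apply, ← Functor.map_comp, biproduct.ι_desc]
  let S : ShortComplex X.Modules := ShortComplex.mk α p hαp
  have hexs : ∀ (x : X) b, (Groth.QCohMod.stalk x).map p b = 0 →
      ∃ a', (Groth.QCohMod.stalk x).map α a' = b := by
    intro x b hb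
    obtain ⟨j, hj⟩ := hcov x
    let st := Groth.QCohMod.stalk x
    let c : ι → _ := fun i => st.map (biproduct.π (fun _ : ι => B) i) b
    choose a ha using fun i => (hbij (σ j) j (hσ j) x hj).2 (c i)
    refine ⟨∑ i, st.map (biproduct.ι (fun _ : ι × ι => M) (j, i)) (a i), ?_⟩
    change st.map α _ = b
    rw [map_sum]
    have h2 : ∀ i, st.map α (st.map (biproduct.ι (fun _ : ι × ι => M) (j, i)) (a i)) =
        st.map (biproduct.ι (fun _ : ι => B) i) (c i) -
          st.map (biproduct.ι (fun _ : ι => B) j) (st.map (σ i) (a i)) := fun i => by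
      rw [← ConcreteCategory.comp_apply, ← Functor.map_comp, biproduct.ι_desc, Functor.map_sub,
        Functor.map_comp, Functor.map_comp]
      exact congrArg (fun z => st.map (biproduct.ι (fun _ : ι => B) i) z - _) (ha i)
    rw [Finset.sum_congr rfl fun i _ => h2 i, Finset.sum_sub_distrib]
    have htot : ∀ y, ∑ i, st.map (biproduct.ι (fun _ : ι => B) i)
        (st.map (biproduct.π (fun _ : ι => B) i) y) = y := fun y => by
      have h3 := congr(st.map $(biproduct.total (f := fun _ : ι => B)))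
      rw [Functor.map_sum, CategoryTheory.Functor.map_id] at h3
      have h4 := congr($h3 y)
      have h10 : ∀ {P Q : Ab.{u}} (s : Finset ι) (f : ι → (P ⟶ Q)) (z : P),
          (∑ i ∈ s, f i) z = ∑ i ∈ s, f i z := fun s f z => by
        induction s using Finset.induction_on with
        | empty => simp
        | insert a s ha ih => simp [Finset.sum_insert ha, ih]
      rw [h10] at h4
      simpa [Functor.map_comp] using h4
    rw [htot]
    have h5 : ∑ i, st.map (σ i) (a i) = 0 := by
      refine (hbij (σ' j) j (hσ' j) x hj).1 ?_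
      rw [map_sum, map_zero]
      have h6 : ∀ i, st.map (σ' j) (st.map (σ i) (a i)) = st.map (σ' i) (c i) := fun i => by
        rw [← ha i, ← ConcreteCategory.comp_apply, ← Functor.map_comp, hcomm i j, Functor.map_comp,
          ConcreteCategory.comp_apply]
      rw [Finset.sum_congr rfl fun i _ => h6 i]
      have h7 : st.map p b = 0 := hb
      rw [← htot b, map_sum] at h7
      refine Eq.trans (Finset.sum_congr rfl fun i _ => ?_) h7
      rw [← ConcreteCategory.comp_apply _ (st.map p), ← Functor.map_comp, biproduct.ι_desc]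
    rw [← map_sum, h5, map_zero, sub_zero]
  have hex : S.Exact := (Groth.QCohMod.exact_iff_stalk S).mpr fun x =>
    (ShortComplex.ab_exact_iff _).mpr fun b hb => hexs x b hb
  have hK : Subsingleton (Coh.HH X (kernel p) 1) := by
    let π : (⨁ fun _ : ι × ι => M) ⟶ kernel p := kernel.lift p α hαp
    haveI : Epi π := hex.epi_kernelLift
    have hA : Subsingleton (Coh.HH X (⨁ fun _ : ι × ι => M) 1) :=
      subsingleton_biproduct (k := k) _ 1 fun _ => h1
    refine Function.Surjective.subsingleton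
      (f := Groth.EulerDeg.hMap k π 1) fun y => ?_
    exact ((Groth.EulerDeg.exact_right k (Groth.VarietyBC.CurveGG.shortExact_of_epi π) 1) y).1
      (@Subsingleton.elim _ (Groth.EulerDeg.subsingleton_HH_of_dim_le_one X hdim _ 2 le_rfl) _ _)
  constructor
  · -- `H¹(M ⊗ L)`: apply the surjection from sums of `H¹(M)`
    let q : (⨁ fun _ : ι => M) ⟶ B := biproduct.desc σ
    haveI : Epi q := (Groth.QCohMod.epi_iff_stalk q).mpr fun x c => by
      obtain ⟨i, hi⟩ := hcov x
      obtain ⟨b, rfl⟩ := (hbij (σ i) i (hσ i) x hi).2 c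
      refine ⟨(Groth.QCohMod.stalk x).map (biproduct.ι (fun _ : ι => M) i) b, ?_⟩
      rw [← ConcreteCategory.comp_apply, ← Functor.map_comp, biproduct.ι_desc]
    have hA : Subsingleton (Coh.HH X (⨁ fun _ : ι => M) 1) :=
      subsingleton_biproduct (k := k) _ 1 fun _ => h1
    refine Function.Surjective.subsingleton (f := Groth.EulerDeg.hMap k q 1) fun y => ?_
    exact ((Groth.EulerDeg.exact_right k (Groth.VarietyBC.CurveGG.shortExact_of_epi q) 1) y).1
      (@Subsingleton.elim _ (Groth.EulerDeg.subsingleton_HH_of_dim_le_one X hdim _ 2 le_rfl) _ _)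
  · refine eq_top_iff.mpr fun z _ => ?_
    obtain ⟨y, rfl⟩ := app_surjective (k := k) (Groth.VarietyBC.CurveGG.shortExact_of_epi p) hK z
    have h8 : ∀ s : Finset ι, p.app ⊤ ((∑ i ∈ s, biproduct.π (fun _ : ι => B) i ≫
        biproduct.ι (fun _ : ι => B) i).app ⊤ y) ∈ AddSubgroup.closure {z : Γ(C, ⊤) |
          ∃ (m : Γ(B, ⊤)) (t : Γ(L, ⊤)), z = tmulSec m t} := by
      intro s
      induction s using Finset.induction_on with
      | empty => simp
      | insert a s ha ih =>
        rw [Finset.sum_insert ha]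
        simp only [Scheme.Modules.Hom.add_app, AddCommGrpCat.hom_add, AddMonoidHom.add_apply, map_add]
        refine add_mem (AddSubgroup.subset_closure ⟨(biproduct.π (fun _ : ι => B) a).app ⊤ y, t a, ?_⟩) ih
        rw [← ConcreteCategory.comp_apply, ← Scheme.Modules.Hom.comp_app, Category.assoc,
          biproduct.ι_desc, Scheme.Modules.Hom.comp_app, ConcreteCategory.comp_apply, hσ', res_self]
    have h9 := h8 Finset.univ
    rw [biproduct.total] at h9
    simpa using h9

end Groth.LimCurveMult
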