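import Groth.Agent.Ega2Proj2.RelProjBasic
import Groth.Agent.Limits.Existence

/-!
# Maps into relative spectra, and relative spectra of colimits

A map `X ⟶ Spec A` over `S` is the same as a map of algebras `A ⟶ p_* O_X`, for `p : X ⟶ S`
quasi-compact quasi-separated. So `Spec` turns filtered colimits of algebras into limits.
-/

set_option backward.isDefEq.respectTransparency false
set_option backward.defeqAttrib.useBackward true

universe u

open CategoryTheory CategoryTheory.Limits AlgebraicGeometry Opposite TopologicalSpace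

noncomputable section

namespace Groth.Limits.RelSpecColimit

open RelSpec

variable {S : Scheme.{u}}

/-- Maps from an open to `Spec R` are ring maps to its functions. -/
theorem existsUnique_specMap {X : Scheme.{u}} (W : X.Opens) {R : CommRingCat.{u}} (l : W.toScheme ⟶ Spec R) :
    ∃! g : R ⟶ Γ(X, W), W.toSpecΓ ≫ Spec.map g = l := by
  have key : ∀ g : R ⟶ Γ(X, W), W.toSpecΓ ≫ Spec.map g =
      ΓSpec.adjunction.homEquiv W.toScheme (op R) (g ≫ W.topIso.inv).op := fun g ↦ by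
    rw [Adjunction.homEquiv_unit]
    simp [Scheme.Opens.toSpecΓ]
  refine ⟨((ΓSpec.adjunction.homEquiv W.toScheme (op R)).symm l).unop ≫ W.topIso.hom, ?_, fun g hg ↦ ?_⟩
  · dsimp only
    rw [key, Category.assoc, Iso.hom_inv_id, Category.comp_id, Quiver.Hom.op_unop,
      Equiv.apply_symm_apply]
  · rw [← hg, key, Equiv.symm_apply_apply, Quiver.Hom.unop_op, Category.assoc, Iso.inv_hom_id,
      Category.comp_id]

theorem specMap_ext {X : Scheme.{u}} (W : X.Opens) {R : CommRingCat.{u}} {g g' : R ⟶ Γ(X, W)}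
    (h : W.toSpecΓ ≫ Spec.map g = W.toSpecΓ ≫ Spec.map g') : g = g' :=
  (existsUnique_specMap W (W.toSpecΓ ≫ Spec.map g')).unique h rfl

variable {X : Scheme.{u}} (p : X ⟶ S)

/-- The charts of `X` over the affine opens of the base. -/
def opensCharts : Groth.Ega2P2.Charts p where
  X U _ := (p ⁻¹ᵁ U).toScheme
  e U _ := (p ⁻¹ᵁ U).ι
  isOpenImmersion _ _ := inferInstance
  opensRange U _ := Scheme.Opens.opensRange_ι _
  t U _ r := X.homOfLE (p.preimage_mono (S.basicOpen_le r))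
  fac U _ r := X.homOfLE_ι _

theorem toSpecΓ_fromSpec {U : S.Opens} (hU : IsAffineOpen U) :
    (p ⁻¹ᵁ U).toSpecΓ ≫ Spec.map (p.app U) ≫ hU.fromSpec = (p ⁻¹ᵁ U).ι ≫ p := by
  rw [Scheme.Opens.toSpecΓ_naturality_assoc, hU.toSpecΓ_fromSpec, morphismRestrict_ι]

variable [QuasiCompact p] [QuasiSeparated p] {A B : QCAlg S}

/-- `v` is the map of schemes given by the map of algebras `φ`. -/
def IsLift (φ : A ⟶ QCAlg.directImage p) (v : X ⟶ A.spec) : Prop :=
  ∀ (U : S.Opens) (hU : IsAffineOpen U),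
    (p ⁻¹ᵁ U).ι ≫ v = (p ⁻¹ᵁ U).toSpecΓ ≫ Spec.map (φ.hom.app (op U)) ≫ A.ι U hU

variable {p}

theorem IsLift.comp {φ : B ⟶ QCAlg.directImage p} {v : X ⟶ B.spec} (h : IsLift p φ v) (α : A ⟶ B) :
    IsLift p (α ≫ φ) (v ≫ QCAlg.specMap α) := fun U hU ↦ by
  rw [reassoc_of% h U hU, QCAlg.ι_specMap]
  erw [← Spec.map_comp_assoc]
  rfl

theorem str_app (φ : A ⟶ QCAlg.directImage p) (U : S.Opens) :
    A.str.app (op U) ≫ φ.hom.app (op U) = p.app U := by
  rw [← NatTrans.comp_app, φ.comm]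
  rfl

theorem IsLift.comp_π {φ : A ⟶ QCAlg.directImage p} {v : X ⟶ A.spec} (h : IsLift p φ v) :
    v ≫ A.π = p := by
  refine (opensCharts p).hom_ext fun U hU ↦ ?_
  show (p ⁻¹ᵁ U).ι ≫ v ≫ A.π = (p ⁻¹ᵁ U).ι ≫ p
  rw [reassoc_of% h U hU, A.ι_π, ← toSpecΓ_fromSpec p hU, ← str_app φ U]
  simp only [Spec.map_comp, Category.assoc]

theorem IsLift.unique {φ : A ⟶ QCAlg.directImage p} {v v' : X ⟶ A.spec} (h : IsLift p φ v)
    (h' : IsLift p φ v') : v = v' :=
  (opensCharts p).hom_ext fun U hU ↦ (h U hU).trans (h' U hU).symm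

theorem hom_ext_affine {φ ψ : A ⟶ QCAlg.directImage p}
    (h : ∀ (U : S.Opens) (_ : IsAffineOpen U), φ.hom.app (op U) = ψ.hom.app (op U)) : φ = ψ := by
  refine QCAlg.hom_ext ?_
  apply (Functor.IsCoverDense.restrictHomEquivHom (G := Scheme.AffineZariskiSite.toOpensFunctor S)
    (K := Opens.grothendieckTopology S) (ℱ := A.presheaf)
    (ℱ' := (⟨(QCAlg.directImage p).presheaf, (QCAlg.directImage p).isSheaf⟩ :
      TopCat.Sheaf CommRingCat.{u} S.carrier))).symm.injective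
  ext U : 2
  exact h U.unop.1 U.unop.2

theorem IsLift.unique_hom {φ ψ : A ⟶ QCAlg.directImage p} {v : X ⟶ A.spec} (h : IsLift p φ v)
    (h' : IsLift p ψ v) : φ = ψ :=
  hom_ext_affine fun U hU ↦ specMap_ext (X := X) (p ⁻¹ᵁ U) (by
    rw [← cancel_mono (A.ι U hU), Category.assoc, Category.assoc]
    exact (h U hU).symm.trans (h' U hU))

variable (p) in
/-- Every map of algebras gives a map of schemes. -/
theorem exists_isLift (φ : A ⟶ QCAlg.directImage p) : ∃ v, IsLift p φ v := by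
  refine ⟨(opensCharts p).desc
    (fun U hU ↦ (p ⁻¹ᵁ U).toSpecΓ ≫ Spec.map (φ.hom.app (op U)) ≫ A.ι U hU) ?_, fun U hU ↦
      (opensCharts p).e_desc _ _ U hU⟩
  intro U hU r
  show X.homOfLE (p.preimage_mono (S.basicOpen_le r)) ≫ (p ⁻¹ᵁ U).toSpecΓ ≫ _ = _
  have hres : Spec.map (X.presheaf.map (homOfLE (p.preimage_mono (S.basicOpen_le r))).op) ≫
      Spec.map (φ.hom.app (op U)) ≫ A.ι U hU =
      Spec.map (φ.hom.app (op (S.basicOpen r))) ≫ A.ι (S.basicOpen r) (hU.basicOpen r) := by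
    rw [← A.ι_res (U := ⟨U, hU⟩) (V := ⟨S.basicOpen r, hU.basicOpen r⟩) (homOfLE ⟨r, rfl⟩)]
    simp only [← Spec.map_comp_assoc]
    congr 2
    exact (φ.hom.naturality (homOfLE (S.basicOpen_le r)).op).symm
  rw [← hres]
  simp [Scheme.Opens.toSpecΓ_SpecMap_presheaf_map_assoc]

variable (p) in
/-- Every map of schemes over the base comes from a map of algebras. -/
theorem exists_hom_isLift (v : X ⟶ A.spec) (hv : v ≫ A.π = p) :
    ∃ φ : A ⟶ QCAlg.directImage p, IsLift p φ v := by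
  have hg : ∀ U : S.AffineZariskiSite, ∃ g : A.presheaf.obj (op U.toOpens) ⟶ Γ(X, p ⁻¹ᵁ U.toOpens),
      (p ⁻¹ᵁ U.toOpens).toSpecΓ ≫ Spec.map g ≫ A.ι U.1 U.2 = (p ⁻¹ᵁ U.toOpens).ι ≫ v := fun U ↦ by
    have hrange : Set.range ((p ⁻¹ᵁ U.toOpens).ι ≫ v) ⊆ Set.range (A.ι U.1 U.2) := by
      rintro _ ⟨y, rfl⟩
      show ((p ⁻¹ᵁ U.toOpens).ι ≫ v) y ∈ (A.ι U.1 U.2).opensRange
      rw [← A.π_preimage U.1 U.2]
      show A.π (v ((p ⁻¹ᵁ U.toOpens).ι y)) ∈ U.toOpens
      rw [← Scheme.Hom.comp_apply v, hv]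
      exact y.2
    obtain ⟨g, hg, -⟩ := existsUnique_specMap (p ⁻¹ᵁ U.toOpens)
      (IsOpenImmersion.lift (A.ι U.1 U.2) _ hrange)
    exact ⟨g, by rw [reassoc_of% hg, IsOpenImmersion.lift_fac]⟩
  choose g hg using hg
  let F : TopCat.Sheaf CommRingCat.{u} S.carrier :=
    ⟨(QCAlg.directImage p).presheaf, (QCAlg.directImage p).isSheaf⟩
  let ψ : (Scheme.AffineZariskiSite.toOpensFunctor S).op ⋙ A.presheaf ⟶
      (Scheme.AffineZariskiSite.toOpensFunctor S).op ⋙ F.obj :=
    { app := fun U ↦ g U.unop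
      naturality := fun U V i ↦ by
        refine specMap_ext (X := X) (p ⁻¹ᵁ V.unop.toOpens) ?_
        rw [← cancel_mono (A.ι U.unop.1 U.unop.2)]
        simp only [Spec.map_comp, Category.assoc]
        erw [A.ι_res i.unop, hg]
        erw [Scheme.Opens.toSpecΓ_SpecMap_presheaf_map_assoc, hg]
        exact (X.homOfLE_ι_assoc _ v).symm }
  let η : A.presheaf ⟶ F.obj := Functor.IsCoverDense.restrictHomEquivHom
    (G := Scheme.AffineZariskiSite.toOpensFunctor S) (K := Opens.grothendieckTopology S) ψ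
  have hη : (Scheme.AffineZariskiSite.toOpensFunctor S).op.whiskerLeft η = ψ :=
    (Functor.IsCoverDense.restrictHomEquivHom (G := Scheme.AffineZariskiSite.toOpensFunctor S)
      (K := Opens.grothendieckTopology S) (ℱ := A.presheaf) (ℱ' := F)).symm_apply_apply _
  have hηU : ∀ U : S.AffineZariskiSite, η.app (op U.toOpens) = g U := fun U ↦
    NatTrans.congr_app hη (op U)
  refine ⟨⟨η, ?_⟩, fun U hU ↦ ?_⟩
  · apply (Functor.IsCoverDense.restrictHomEquivHom (G := Scheme.AffineZariskiSite.toOpensFunctor S)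
      (K := Opens.grothendieckTopology S) (ℱ := S.presheaf) (ℱ' := F)).symm.injective
    ext U : 2
    show A.str.app (op U.unop.toOpens) ≫ η.app (op U.unop.toOpens) = p.app U.unop.toOpens
    rw [hηU]
    refine specMap_ext (X := X) (p ⁻¹ᵁ U.unop.toOpens) ?_
    rw [← cancel_mono (IsAffineOpen.fromSpec U.unop.2)]
    simp only [Spec.map_comp, Category.assoc]
    erw [toSpecΓ_fromSpec p U.unop.2, ← A.ι_π U.unop.1 U.unop.2, reassoc_of% hg U.unop, hv]
  · show _ = _ ≫ Spec.map (η.app (op U)) ≫ _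
    erw [hηU ⟨U, hU⟩]
    exact (hg ⟨U, hU⟩).symm

variable {J : Type u} [SmallCategory J] [IsFiltered J] (F : J ⥤ QCAlg S) (c : Cocone F)

omit [IsFiltered J] in
theorem specMap_id (A : QCAlg S) : QCAlg.specMap (𝟙 A) = 𝟙 A.spec :=
  (Groth.Ega2P2.specCharts A).hom_ext fun U hU ↦ by
    show A.ι U hU ≫ _ = A.ι U hU ≫ _
    rw [QCAlg.ι_specMap, Category.comp_id]
    show Spec.map (𝟙 _) ≫ _ = _
    rw [Spec.map_id, Category.id_comp]

omit [IsFiltered J] in
theorem specMap_comp {A B C : QCAlg S} (α : A ⟶ B) (β : B ⟶ C) :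
    QCAlg.specMap (α ≫ β) = QCAlg.specMap β ≫ QCAlg.specMap α :=
  (Groth.Ega2P2.specCharts C).hom_ext fun U hU ↦ by
    show C.ι U hU ≫ _ = C.ι U hU ≫ _
    rw [QCAlg.ι_specMap, reassoc_of% QCAlg.ι_specMap U hU β, QCAlg.ι_specMap,
      ← Spec.map_comp_assoc]
    rfl

/-- The inverse system of relative spectra. -/
def specDiagram : Jᵒᵖ ⥤ Scheme.{u} where
  obj j := (F.obj j.unop).spec
  map φ := QCAlg.specMap (F.map φ.unop)
  map_id j := by simp [specMap_id]
  map_comp φ ψ := by simp [specMap_comp]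

/-- The cone of relative spectra on a cocone. -/
def specCone : Cone (specDiagram F) where
  pt := c.pt.spec
  π :=
    { app := fun j ↦ QCAlg.specMap (c.ι.app j.unop)
      naturality := fun j k φ ↦ by
        show 𝟙 _ ≫ _ = _ ≫ QCAlg.specMap (F.map φ.unop)
        rw [Category.id_comp, ← specMap_comp, c.w] }

instance (j k : Jᵒᵖ) (φ : j ⟶ k) : IsAffineHom ((specDiagram F).map φ) := by
  have : IsAffineHom (QCAlg.specMap (F.map φ.unop) ≫ (F.obj k.unop).π) := by
    rw [QCAlg.specMap_π]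
    infer_instance
  exact IsAffineHom.of_comp (QCAlg.specMap (F.map φ.unop)) (F.obj k.unop).π

theorem π_eq {cl : Cone (specDiagram F)} (j k : J) :
    cl.π.app (op j) ≫ (F.obj j).π = cl.π.app (op k) ≫ (F.obj k).π := by
  have h : ∀ {a b : J} (φ : a ⟶ b),
      cl.π.app (op a) ≫ (F.obj a).π = cl.π.app (op b) ≫ (F.obj b).π := fun {a b} φ ↦ by
    rw [← cl.w φ.op]
    show (cl.π.app (op b) ≫ QCAlg.specMap (F.map φ)) ≫ _ = _
    rw [Category.assoc, QCAlg.specMap_π]
  exact (h (IsFiltered.leftToMax j k)).trans (h (IsFiltered.rightToMax j k)).symm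

/-- **The relative spectrum of a filtered colimit of algebras is the limit of the relative spectra.** -/
theorem nonempty_isLimit_specCone (hc : IsColimit c) : Nonempty (IsLimit (specCone F c)) := by
  obtain ⟨cl, ⟨hcl⟩⟩ : ∃ cl : Cone (specDiagram F), Nonempty (IsLimit cl) :=
    have : HasLimit (specDiagram F) := Groth.Limits.hasLimit_of_isAffineHom _
    ⟨_, ⟨limit.isLimit _⟩⟩
  obtain ⟨j₀⟩ : Nonempty J := IsFiltered.nonempty
  let p := cl.π.app (op j₀) ≫ (F.obj j₀).π
  have hp : ∀ j, cl.π.app (op j) ≫ (F.obj j).π = p := fun j ↦ π_eq F j j₀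
  have : IsAffineHom (cl.π.app (op j₀)) := isAffineHom_π_app _ _ hcl (op j₀)
  have : IsAffineHom p := inferInstanceAs (IsAffineHom (_ ≫ _))
  choose φ hφ using fun j ↦ exists_hom_isLift p (cl.π.app (op j)) (hp j)
  let cB : Cocone F :=
    { pt := QCAlg.directImage p
      ι :=
        { app := φ
          naturality := fun j k a ↦ by
            simp only [Functor.const_obj_map, Category.comp_id]
            refine IsLift.unique_hom ((hφ k).comp (F.map a)) ?_
            show IsLift p (φ j) (cl.π.app (op k) ≫ (specDiagram F).map a.op)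
            rw [cl.w a.op]
            exact hφ j } }
  obtain ⟨r, hr⟩ := exists_isLift p (hc.desc cB)
  have hrj : ∀ j, r ≫ QCAlg.specMap (c.ι.app j) = cl.π.app (op j) := fun j ↦ by
    refine (hr.comp (c.ι.app j)).unique ?_
    rw [hc.fac cB j]
    exact hφ j
  let u := hcl.lift (specCone F c)
  have huj : ∀ j, u ≫ cl.π.app (op j) = QCAlg.specMap (c.ι.app j) := fun j ↦
    hcl.fac (specCone F c) (op j)
  have hru : r ≫ u = 𝟙 cl.pt := hcl.hom_ext fun j ↦
    (Category.assoc _ _ _).trans ((congrArg (r ≫ ·) (huj j.unop)).trans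
      ((hrj j.unop).trans (Category.id_comp _).symm))
  have hur : u ≫ r = 𝟙 c.pt.spec := by
    have he : (u ≫ r) ≫ c.pt.π = c.pt.π := by
      rw [Category.assoc, hr.comp_π, ← hp j₀, reassoc_of% huj j₀, QCAlg.specMap_π]
      rfl
    obtain ⟨φe, hφe⟩ := exists_hom_isLift c.pt.π (u ≫ r) he
    obtain ⟨φ₁, hφ₁⟩ := exists_hom_isLift c.pt.π (𝟙 c.pt.spec) (Category.id_comp _)
    have : φe = φ₁ := hc.hom_ext fun j ↦ by
      refine (hφe.comp (c.ι.app j)).unique_hom ?_
      rw [Category.assoc, hrj j, huj j]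
      simpa using hφ₁.comp (c.ι.app j)
    subst this
    exact hφe.unique hφ₁
  exact ⟨hcl.ofIsoLimit (Cone.ext ⟨r, u, hru, hur⟩ fun j ↦ (hrj j.unop).symm)⟩

end Groth.Limits.RelSpecColimit
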