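import Groth.Agent.Limits.ProConsImage

/-!
# The topology of a cofiltered limit of schemes with affine transition maps
-/

universe u

open CategoryTheory Limits AlgebraicGeometry Topology

namespace Groth.Limits

section Pullback

variable {I : Type u} [Category.{u} I] [IsCofiltered I] (D : I ⥤ Scheme.{u})
  [∀ (i j : I) (f : i ⟶ j), IsAffineHom (D.map f)] (c : Cone D) (hc : IsLimit c)

omit [∀ (i j : I) (f : i ⟶ j), IsAffineHom (D.map f)] in
theorem comp_map_apply {i j k : I} (f : i ⟶ j) (g : j ⟶ k) (x : D.obj i) :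
    D.map (f ≫ g) x = D.map g (D.map f x) := by
  rw [D.map_comp, Scheme.Hom.comp_apply]

omit [IsCofiltered I] [∀ (i j : I) (f : i ⟶ j), IsAffineHom (D.map f)] in
theorem π_map_apply {i j : I} (f : i ⟶ j) (x : c.pt) :
    D.map f (c.π.app i x) = c.π.app j x := by
  rw [← Scheme.Hom.comp_apply, c.w]

omit [IsCofiltered I] [∀ (i j : I) (f : i ⟶ j), IsAffineHom (D.map f)] in
theorem preimage_π {i j : I} (f : i ⟶ j) (E : Set (D.obj j)) :
    ⇑(c.π.app i) ⁻¹' (⇑(D.map f) ⁻¹' E) = ⇑(c.π.app j) ⁻¹' E := by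
  ext x
  show D.map f (c.π.app i x) ∈ E ↔ _
  rw [π_map_apply D c f x]
  rfl

omit [IsCofiltered I] [∀ (i j : I) (f : i ⟶ j), IsAffineHom (D.map f)] in
theorem preimage_map_comp {i j k : I} (f : i ⟶ j) (g : j ⟶ k) (E : Set (D.obj k)) :
    ⇑(D.map (f ≫ g)) ⁻¹' E = ⇑(D.map f) ⁻¹' (⇑(D.map g) ⁻¹' E) := by
  ext x
  show D.map (f ≫ g) x ∈ E ↔ _
  rw [D.map_comp, Scheme.Hom.comp_apply]
  rfl

omit [IsCofiltered I] in
theorem compactSpace_obj {i j : I} (f : j ⟶ i) [CompactSpace (D.obj i)] : CompactSpace (D.obj j) :=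
  QuasiCompact.compactSpace_of_compactSpace (D.map f)

omit [IsCofiltered I] in
theorem quasiSeparatedSpace_obj {i j : I} (f : j ⟶ i) [QuasiSeparatedSpace (D.obj i)] :
    QuasiSeparatedSpace (D.obj j) :=
  quasiSeparatedSpace_of_quasiSeparated (D.map f)

/-- The whiskered limit cone over `Over i`. -/
noncomputable def isLimitOver (hc : IsLimit c) (i : I) :
    IsLimit (c.whisker (Over.forget i)) :=
  (Functor.Initial.isLimitWhiskerEquiv (Over.forget i) c).symm hc

include hc in
theorem compactSpace_pt {i : I} [CompactSpace (D.obj i)] : CompactSpace c.pt :=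
  have := isAffineHom_π_app D c hc i
  QuasiCompact.compactSpace_of_compactSpace (c.π.app i)

include hc in
theorem quasiSeparatedSpace_pt {i : I} [QuasiSeparatedSpace (D.obj i)] :
    QuasiSeparatedSpace c.pt :=
  have := isAffineHom_π_app D c hc i
  quasiSeparatedSpace_of_quasiSeparated (c.π.app i)

set_option backward.defeqAttrib.useBackward true in
set_option backward.isDefEq.respectTransparency false in
include hc in
/-- If `T` is quasi-compact and `T ×_{D i} lim D` is empty then `T ×_{D i} D j` is empty for some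
`j`. -/
theorem exists_isEmpty_pullback {i : I} {T : Scheme.{u}} [CompactSpace T] (a : T ⟶ D.obj i)
    (h : IsEmpty ↥(pullback (c.π.app i) a)) :
    ∃ (j : I) (φ : j ⟶ i), IsEmpty ↥(pullback (D.map φ) a) := by
  by_contra! H
  let F : Over i ⥤ Scheme.{u} := Over.post D ⋙ Over.pullback a ⋙ Over.forget _
  have (j k : Over i) (f : j ⟶ k) : IsAffineHom (F.map f) := by
    have hsq : IsAffineHom (F.map f ≫ pullback.snd (D.map k.hom) a) := by
      have : F.map f ≫ pullback.snd (D.map k.hom) a = pullback.snd (D.map j.hom) a := by simp [F]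
      rw [this]
      exact MorphismProperty.of_isPullback (P := @IsAffineHom) (IsPullback.of_hasPullback (D.map j.hom) a)
        inferInstance
    have : IsAffineHom (pullback.snd (D.map k.hom) a) :=
      MorphismProperty.of_isPullback (P := @IsAffineHom) (IsPullback.of_hasPullback (D.map k.hom) a)
        inferInstance
    exact IsAffineHom.of_comp (F.map f) (pullback.snd (D.map k.hom) a)
  have (j : Over i) : CompactSpace (F.obj j) :=
    have : IsAffineHom (pullback.snd (D.map j.hom) a) :=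
      MorphismProperty.of_isPullback (P := @IsAffineHom) (IsPullback.of_hasPullback (D.map j.hom) a)
        inferInstance
    QuasiCompact.compactSpace_of_compactSpace (pullback.snd (D.map j.hom) a)
  have (j : Over i) : Nonempty (F.obj j) := H j.left j.hom
  have : IsConnected I := IsCofiltered.isConnected I
  have : Nonempty ↥(pullback (c.π.app i) a) :=
    Scheme.nonempty_of_isLimit F
      ((Over.pullback a ⋙ Over.forget _).mapCone ((Over.conePost D i).obj c))
      (isLimitOfPreserves (Over.pullback a ⋙ Over.forget _) (Over.isLimitConePost _ hc))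
  exact not_isEmpty_of_nonempty _ h

end Pullback

variable {I : Type u} [Category.{u} I] [IsCofiltered I] (D : I ⥤ Scheme.{u})
  [∀ (i j : I) (f : i ⟶ j), IsAffineHom (D.map f)] (c : Cone D) (hc : IsLimit c)

include hc in
/-- A quasi-compact image which misses the limit misses some stage. -/
theorem exists_preimage_eq_empty {i : I} {E : Set (D.obj i)} (hE : QCImage E)
    (h : ⇑(c.π.app i) ⁻¹' E = ∅) : ∃ (j : I) (φ : j ⟶ i), ⇑(D.map φ) ⁻¹' E = ∅ := by
  obtain ⟨R, a, rfl⟩ := hE
  have : IsEmpty ↥(pullback (c.π.app i) a) := by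
    rw [← Set.range_eq_empty_iff (f := ⇑(pullback.fst (c.π.app i) a)), Scheme.Pullback.range_fst]
    exact h
  obtain ⟨j, φ, hj⟩ := exists_isEmpty_pullback D c hc a this
  exact ⟨j, φ, by rw [← Scheme.Pullback.range_fst, Set.range_eq_empty]⟩

include hc in
/-- The image of the limit is the intersection of the images of the stages. -/
theorem range_π (i : I) :
    Set.range ⇑(c.π.app i) = ⋂ (j : I) (φ : j ⟶ i), Set.range ⇑(D.map φ) := by
  refine Set.Subset.antisymm ?_ fun x hx ↦ ?_
  · rintro _ ⟨s, rfl⟩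
    exact Set.mem_iInter₂.mpr fun j φ ↦ ⟨c.π.app j s, π_map_apply D c φ s⟩
  · by_contra hs
    have hq : QCImage ({x} : Set (D.obj i)) := by
      rw [← Scheme.range_fromSpecResidueField]
      exact qcImage_range _
    obtain ⟨j, φ, hj⟩ := exists_preimage_eq_empty D c hc hq (by
      simpa [Set.eq_empty_iff_forall_notMem] using hs)
    obtain ⟨y, rfl⟩ := Set.mem_iInter₂.mp hx j φ
    exact (Set.eq_empty_iff_forall_notMem.mp hj) y rfl

include hc in
theorem exists_preimage_subset {i : I} {E F : Set (D.obj i)} (hE : QCImage E) (hF : PC Fᶜ)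
    (h : ⇑(c.π.app i) ⁻¹' E ⊆ ⇑(c.π.app i) ⁻¹' F) :
    ∃ (j : I) (φ : j ⟶ i), ⇑(D.map φ) ⁻¹' E ⊆ ⇑(D.map φ) ⁻¹' F := by
  obtain ⟨j, φ, hj⟩ := exists_preimage_eq_empty D c hc (hE.inter_pc hF) (by
    rw [Set.preimage_inter, Set.preimage_compl, ← Set.sdiff_eq, Set.sdiff_eq_empty]
    exact h)
  refine ⟨j, φ, ?_⟩
  rwa [Set.preimage_inter, Set.preimage_compl, ← Set.sdiff_eq, Set.sdiff_eq_empty] at hj

include hc in
theorem exists_preimage_eq_preimage {i : I} {E F : Set (D.obj i)} (hE : QCImage E)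
    (hE' : PC Eᶜ) (hF : QCImage F) (hF' : PC Fᶜ)
    (h : ⇑(c.π.app i) ⁻¹' E = ⇑(c.π.app i) ⁻¹' F) :
    ∃ (j : I) (φ : j ⟶ i), ⇑(D.map φ) ⁻¹' E = ⇑(D.map φ) ⁻¹' F := by
  obtain ⟨j₁, φ₁, h₁⟩ := exists_preimage_subset D c hc hE hF' h.le
  obtain ⟨j₂, φ₂, h₂⟩ := exists_preimage_subset D c hc hF hE' h.ge
  obtain ⟨k, ψ₁, ψ₂, e⟩ := IsCofiltered.cospan φ₁ φ₂
  refine ⟨k, ψ₁ ≫ φ₁, Set.Subset.antisymm ?_ ?_⟩
  · rw [preimage_map_comp, preimage_map_comp]
    exact Set.preimage_mono h₁
  · rw [e, preimage_map_comp, preimage_map_comp]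
    exact Set.preimage_mono h₂

/-- The limit of a system of nonempty `PC` subsets is nonempty. -/
theorem exists_mem_of_pc (hc : IsLimit c) {i : I} [CompactSpace (D.obj i)]
    (G : ∀ j, (j ⟶ i) → Set (D.obj j)) (hG : ∀ j φ, PC (G j φ))
    (hm : ∀ (j k : I) (ψ : k ⟶ j) (φ : j ⟶ i), G k (ψ ≫ φ) ⊆ ⇑(D.map ψ) ⁻¹' G j φ)
    (hne : ∀ j φ, (G j φ).Nonempty) :
    ∃ s : c.pt, ∀ j φ, c.π.app j s ∈ G j φ := by
  have := compactSpace_pt D c hc (i := i)
  have : Nonempty (Over i) := ⟨Over.mk (𝟙 i)⟩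
  obtain ⟨s, hs⟩ := nonempty_iInter_of_directed
    (fun j : Over i ↦ ⇑(c.π.app j.left) ⁻¹' G j.left j.hom) (fun j ↦ (hG _ _).preimage _)
    (fun j k ↦ by
      obtain ⟨m, a, b, e⟩ := IsCofiltered.cospan j.hom k.hom
      refine ⟨Over.mk (a ≫ j.hom), ?_, ?_⟩
      · intro s hs
        have := hm _ _ a j.hom hs
        show c.π.app j.left s ∈ G j.left j.hom
        rw [← π_map_apply D c a s]
        exact this
      · intro s hs
        have hs' : c.π.app m s ∈ G m (b ≫ k.hom) := e ▸ hs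
        have := hm _ _ b k.hom hs'
        show c.π.app k.left s ∈ G k.left k.hom
        rw [← π_map_apply D c b s]
        exact this)
    (fun j ↦ by
      rw [Set.nonempty_iff_ne_empty]
      intro he
      have := compactSpace_obj D j.hom
      obtain ⟨l, ψ, hl⟩ := exists_preimage_eq_empty D c hc (hG _ _).qcImage he
      exact (hne l (ψ ≫ j.hom)).not_subset_empty
        ((hm _ _ ψ j.hom).trans hl.subset))
  exact ⟨s, fun j φ ↦ Set.mem_iInter.mp hs (Over.mk φ)⟩

end Groth.Limits
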