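import Groth.Agent.Limits.FibreVanishing
import Groth.Agent.Limits.ProperFibreModel
import Groth.Agent.CohTwo.CohSub
import Groth.Agent.CohTwo.PushClosed
import Groth.Agent.CohC3.HMap
import Groth.Agent.CohC3.Affines

/-!
# Cohomology of quasi-coherent modules in degrees at and above the fibre dimension

For `X` proper over any ring, with fibres of dimension `≤ d`, the cohomology of quasi-coherent
modules vanishes in degrees `> d`, and `H^d` of a module of finite type is finite.
-/

universe u

open CategoryTheory Limits AlgebraicGeometry TopologicalSpace Opposite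
open scoped TensorProduct

set_option maxHeartbeats 800000
set_option backward.isDefEq.respectTransparency false
set_option backward.defeqAttrib.useBackward true
set_option backward.isDefEq.respectTransparency.types false

namespace Groth.Limits.FibreVanishing

/-! ### Maps of Čech complexes -/

section CxMap

variable (A : Type u) [CommRing A] {X : Scheme.{u}} [X.Over (Spec (CommRingCat.of A))]
  {ι : Type u} (U : ι → X.Opens) {K N : X.Modules} (φ : K ⟶ N)

/-- A map of modules on sections, linearly over the base ring. -/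
noncomputable def secMap (W : X.Opens) : CohBase.secA A K W →ₗ[A] CohBase.secA A N W where
  toFun s := (show Γ(N, W) from φ.app W (show Γ(K, W) from s))
  map_add' a b := map_add _ _ _
  map_smul' a s := Scheme.Modules.Hom.app_smul φ _ _

lemma secMap_res {V W : X.Opens} (h : V ≤ W) (s : CohBase.secA A K W) :
    CohBase.secRes A N h (secMap A φ W s) = secMap A φ V (CohBase.secRes A K h s) :=
  QCohMod.res_app φ h _

/-- A map of modules on Čech cochains. -/
noncomputable def cxMap (n : ℕ) : CohBase.cxC A U K n →ₗ[A] CohBase.cxC A U N n :=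
  LinearMap.pi fun x => (secMap A φ _).comp (LinearMap.proj x)

lemma cxMap_cxD (n : ℕ) (s : CohBase.cxC A U K n) :
    CohBase.cxD A U N n (cxMap A U φ n s) = cxMap A U φ (n + 1) (CohBase.cxD A U K n s) := by
  funext x
  simp only [CohBase.cxD, cxMap, LinearMap.pi_apply, LinearMap.sum_apply, LinearMap.smul_apply,
    LinearMap.comp_apply, LinearMap.proj_apply]
  refine Eq.trans ?_ (map_sum (secMap A φ _) _ _).symm
  refine Finset.sum_congr rfl fun a _ => ?_
  rw [map_zsmul, ← secMap_res]

lemma cxMap_injective [Mono φ] (n : ℕ) : Function.Injective (cxMap A U φ n) := fun a b h =>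
  funext fun x => QCohMod.app_injective_of_mono φ _ (congrFun h x)

end CxMap

/-! ### Quasi-coherent modules over a Noetherian base -/

section Noetherian

variable {A : Type u} [CommRing A] [IsNoetherianRing A] {X : Scheme.{u}}
  [X.Over (Spec (CommRingCat.of A))] [IsProper (X ↘ Spec (CommRingCat.of A))]

/-- The quasi-coherent case of the vanishing at a prime. -/
theorem exists_smul_eq_zero_qcoh (P : Spec (CommRingCat.of A)) (d : ℕ)
    (hd : topologicalKrullDim ↥((X ↘ Spec (CommRingCat.of A)).fiber P) ≤ d) (N : X.Modules)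
    [N.IsQuasicoherent] (q : ℕ) (hp : d < q + 1) (h : Coh.HH X N (q + 1)) :
    ∃ s ∈ P.asIdeal.primeCompl, (s : A) • h = 0 := by
  classical
  haveI := CohC3.isNoetherian_of_proper A X
  haveI : X.IsSeparated := CohFin.isSeparated_of_proper (X ↘ Spec (CommRingCat.of A))
  obtain ⟨G⟩ := CohBase.exists_goodCover X
  let n := q + 1
  let hnext : (ComplexShape.up ℤ).next (n : ℤ) = (n : ℤ) + 1 := FlatCxBase.cochain_next (n : ℤ)
  have hprev : (ComplexShape.up ℤ).prev ((q + 1 : ℕ) : ℤ) = (q : ℤ) := by
    rw [FlatCxBase.cochain_prev]; push_cast; ring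
  obtain ⟨z, hz⟩ := FlatCxBase.clsT_surjective (CohBase.cxA A G.U N) hnext (ModuleCat.of A A)
    ((CohBase.selfLinIso A G N n).symm h)
  let z' : CohBase.cxC A G.U N n := TensorProduct.rid A (CohBase.cxC A G.U N n) z.1
  have hzz : z.1 = z' ⊗ₜ[A] (1 : A) :=
    ((TensorProduct.rid A (CohBase.cxC A G.U N n)).symm_apply_apply z.1).symm
  have hz0 : CohBase.cxD A G.U N n z' = 0 := by
    have h1 := (CohBase.SecModel.cxA_d_rTensor (A := A) (U := G.U) (F := N) (M := A) n z.1).symm.trans z.2
    rw [hzz, LinearMap.rTensor_tmul] at h1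
    have := congrArg (TensorProduct.rid A (CohBase.cxC A G.U N (n + 1))) h1
    rwa [TensorProduct.rid_tmul, one_smul, map_zero] at this
  -- a coherent submodule containing the cocycle
  let J := Σ x : Fin (n + 1) → G.ι, PUnit.{u+1}
  let W : G.ι ⊕ J → X.Opens := Sum.elim (fun i => CohBase.tupOpen G.U (fun _ : Fin 1 => i))
    (fun x => CohBase.tupOpen G.U x.1)
  haveI : Finite G.ι := inferInstance
  have hW : ∀ j, IsAffineOpen (W j) := by rintro (i | x) <;> exact G.affine _
  have hcov : ∀ x, ∃ j, x ∈ W j := fun x => by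
    obtain ⟨i, hi⟩ := Opens.mem_iSup.1 (G.hcov.ge (Opens.mem_top x))
    refine ⟨Sum.inl i, ?_⟩
    show x ∈ CohBase.tupOpen G.U (fun _ : Fin 1 => i)
    rw [CohBase.tupOpen, CohBase.inter, ← SetLike.mem_coe, Opens.coe_iInf, Set.mem_iInter]
    exact fun _ => hi
  obtain ⟨K, φ, hφ, hK, hS⟩ := CohTwo.exists_coh_sub N W hW hcov (fun j => match j with
    | Sum.inl _ => ∅
    | Sum.inr x => {(show Γ(N, CohBase.tupOpen G.U x.1) from z' x.1)})
  choose w hw using fun x : Fin (n + 1) → G.ι =>
    hS (Sum.inr ⟨x, PUnit.unit⟩) (z' x) (Finset.mem_singleton_self _)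
  let w' : CohBase.cxC A G.U K n := fun x => (show CohBase.secA A K _ from w x)
  have hw' : cxMap A G.U φ n w' = z' := funext hw
  have hw0 : CohBase.cxD A G.U K n w' = 0 :=
    cxMap_injective A G.U φ (n + 1) (by rw [← cxMap_cxD, hw', hz0, map_zero])
  haveI := hK.1
  let zK : LinearMap.ker (((CohBase.cxA A G.U K).d (n : ℤ) ((n : ℤ) + 1)).hom.rTensor
      (ModuleCat.of A A)) := ⟨w' ⊗ₜ[A] (1 : A), by
    refine (CohBase.SecModel.cxA_d_rTensor (A := A) (U := G.U) (F := K) (M := A) n _).trans ?_
    rw [LinearMap.rTensor_tmul, hw0, TensorProduct.zero_tmul]⟩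
  obtain ⟨s, hs, hsz⟩ := exists_smul_eq_zero P d hd K hK n hp
    (CohBase.selfLinIso A G K n (FlatCxBase.clsT (CohBase.cxA A G.U K) hnext (ModuleCat.of A A) zK))
  refine ⟨s, hs, (CohBase.selfLinIso A G N n).symm.injective ?_⟩
  rw [map_smul, map_zero, ← hz, ← map_smul]
  rw [← map_smul, LinearEquiv.map_eq_zero_iff, ← map_smul] at hsz
  obtain ⟨v, hv⟩ := (FlatCxBase.clsT_eq_zero_iff (CohBase.cxA A G.U K) hnext (ModuleCat.of A A)
    hprev (s • zK)).1 hsz
  have hv' : CohBase.cxD A G.U K q (TensorProduct.rid A (CohBase.cxC A G.U K q) v) = s • w' := by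
    have h1 := (CohBase.SecModel.cxA_d_rTensor (A := A) (U := G.U) (F := K) (M := A) q v).symm.trans hv
    obtain ⟨v₀, rfl⟩ := (TensorProduct.rid A (CohBase.cxC A G.U K q)).symm.surjective v
    rw [TensorProduct.rid_symm_apply, LinearMap.rTensor_tmul] at h1
    rw [TensorProduct.rid_symm_apply, TensorProduct.rid_tmul, one_smul]
    have h2 := congrArg (TensorProduct.rid A (CohBase.cxC A G.U K (q + 1))) h1
    rw [TensorProduct.rid_tmul, one_smul] at h2
    refine h2.trans ?_
    change TensorProduct.rid A (CohBase.cxC A G.U K n) (s • (w' ⊗ₜ[A] (1 : A))) = _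
    rw [map_smul, TensorProduct.rid_tmul, one_smul]
  refine (FlatCxBase.clsT_eq_zero_iff (CohBase.cxA A G.U N) hnext (ModuleCat.of A A) hprev _).2
    ⟨cxMap A G.U φ q (TensorProduct.rid A (CohBase.cxC A G.U K q) v) ⊗ₜ[A] (1 : A), ?_⟩
  refine (CohBase.SecModel.cxA_d_rTensor (A := A) (U := G.U) (F := N) (M := A) q _).trans ?_
  rw [LinearMap.rTensor_tmul, cxMap_cxD, hv', map_smul, hw']
  change _ = s • z.1
  rw [hzz, TensorProduct.smul_tmul']

/-- Cohomology vanishes above a bound for all fibre dimensions. -/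
theorem subsingleton_HH_noetherian (d : ℕ)
    (hd : ∀ P, topologicalKrullDim ↥((X ↘ Spec (CommRingCat.of A)).fiber P) ≤ d) (N : X.Modules)
    [N.IsQuasicoherent] (p : ℕ) (hp : d < p) : Subsingleton (Coh.HH X N p) := by
  obtain ⟨q, rfl⟩ : ∃ q, p = q + 1 := ⟨p - 1, by omega⟩
  refine subsingleton_of_forall_eq 0 fun h => ?_
  have htop : LinearMap.ker (LinearMap.toSpanSingleton A (Coh.HH X N (q + 1)) h) = ⊤ := by
    by_contra hne
    obtain ⟨m, hm, hle⟩ := Ideal.exists_le_maximal _ hne
    let P : Spec (CommRingCat.of A) := (⟨m, hm.isPrime⟩ : PrimeSpectrum A)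
    obtain ⟨s, hs, hsh⟩ := exists_smul_eq_zero_qcoh P d (hd P) N q hp h
    exact hs (hle (LinearMap.mem_ker.2 hsh))
  have := LinearMap.mem_ker.1 (htop.ge (Submodule.mem_top (x := (1 : A))))
  rwa [LinearMap.toSpanSingleton_apply, one_smul] at this

end Noetherian

/-! ### Cohomology along an affine morphism, linearly -/

section Transfer

variable (A : Type u) [CommRing A] {X X₀ : Scheme.{u}} [X₀.Over (Spec (CommRingCat.of A))]
  [X.Over (Spec (CommRingCat.of A))] (g : X ⟶ X₀) [IsAffineHom g]
  (hg : g ≫ (X₀ ↘ Spec (CommRingCat.of A)) = X ↘ Spec (CommRingCat.of A))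

omit [IsAffineHom g] in
include hg in
lemma app_toSec_of_over (W : X₀.Opens) (a : A) :
    g.app W (CohBase.toSec A W a) = CohC3.baseApp X (g ⁻¹ᵁ W) a := by
  refine Eq.trans ?_ (CohC3.baseApp_preimage hg W a)
  congr 1

/-- The Čech model of a direct image along an affine morphism. -/
noncomputable def pushModel {ι : Type u} (U : ι → X₀.Opens) (N : X.Modules) :
    CohBase.SecModel A U ((Scheme.Modules.pushforward g).obj N) A g N where
  Φ W := AddMonoidHom.mk'
    (fun z => (show Γ(N, g ⁻¹ᵁ W) from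
      TensorProduct.rid A (CohBase.secA A ((Scheme.Modules.pushforward g).obj N) W) z))
    fun z w => map_add (TensorProduct.rid A (CohBase.secA A ((Scheme.Modules.pushforward g).obj N) W)) z w
  nat {V W} h z := by
    change CohBase.secRes A ((Scheme.Modules.pushforward g).obj N) h
        (TensorProduct.rid A (CohBase.secA A ((Scheme.Modules.pushforward g).obj N) W) z) =
      TensorProduct.rid A (CohBase.secA A ((Scheme.Modules.pushforward g).obj N) V)
        ((CohBase.secRes A ((Scheme.Modules.pushforward g).obj N) h).rTensor A z)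
    induction z using TensorProduct.induction_on with
    | zero => simp
    | tmul s a => exact (CohBase.secRes A ((Scheme.Modules.pushforward g).obj N) h).map_smul a s
    | add p q hp hq => simp only [map_add, hp, hq]
  bij x := (TensorProduct.rid A (CohBase.secA A ((Scheme.Modules.pushforward g).obj N) _)).bijective

include hg in
/-- Cohomology of a direct image along an affine morphism, linearly over the base. -/
theorem exists_pushEquiv [X₀.IsSeparated] [CompactSpace X₀] (N : X.Modules) [N.IsQuasicoherent]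
    (p : ℕ) :
    Nonempty (Coh.HH X₀ ((Scheme.Modules.pushforward g).obj N) p ≃ₗ[A] Coh.HH X N p) := by
  obtain ⟨G⟩ := CohBase.exists_goodCover X₀
  haveI := QCohMod.isQCoh_pushforward N g
  have haff : ∀ {n : ℕ} (x : Fin (n + 1) → G.ι),
      IsAffineOpen (CohBase.tupOpen (fun i => g ⁻¹ᵁ G.U i) x) := fun x => by
    rw [CohBase.tupOpen_preimage]
    exact (G.affine x).preimage g
  haveI : X.IsSeparated := by
    rw [Scheme.isSeparated_iff, show terminal.from X = g ≫ terminal.from X₀ from Subsingleton.elim _ _]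
    infer_instance
  obtain ⟨e, he⟩ := (pushModel A g G.U N).exists_hhEquiv G.hcov haff
    (fun W hW n x => hW.inf (haff x)) p
  have hlin : ∀ (a : A) c, e (a • c) = a • e c := by
    intro a c
    obtain ⟨z, rfl⟩ := FlatCxBase.clsT_surjective
      (CohBase.cxA A G.U ((Scheme.Modules.pushforward g).obj N))
      (FlatCxBase.cochain_next (p : ℤ)) (ModuleCat.of A A) c
    rw [← map_smul]
    erw [he, he]
    refine CohBase.SecModel.cycToHH_smul (pushModel A g G.U N) G.hcov (a • LinearMap.id)
      (Coh.toGlobal (X ↘ Spec (CommRingCat.of A)) a) (fun W w => ?_) p z _ ?_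
    · change (show Γ(N, g ⁻¹ᵁ W) from
          TensorProduct.rid A (CohBase.secA A ((Scheme.Modules.pushforward g).obj N) W)
            ((a • LinearMap.id (R := A) (M := A)).lTensor _ w)) =
        CohC3.baseApp X (g ⁻¹ᵁ W) a • (show Γ(N, g ⁻¹ᵁ W) from
          TensorProduct.rid A (CohBase.secA A ((Scheme.Modules.pushforward g).obj N) W) w)
      rw [LinearMap.lTensor_smul, LinearMap.lTensor_id, LinearMap.smul_apply, LinearMap.id_apply,
        map_smul, ← app_toSec_of_over A g hg]
      rfl
    · change a • z.1 = (a • LinearMap.id (R := A) (M := A)).lTensor _ z.1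
      rw [LinearMap.lTensor_smul, LinearMap.lTensor_id, LinearMap.smul_apply, LinearMap.id_apply]
  exact ⟨(CohBase.selfLinIso A G ((Scheme.Modules.pushforward g).obj N) p).symm.trans
    (e.toLinearEquiv hlin)⟩

end Transfer

/-! ### Vanishing over an arbitrary ring -/

section General

variable {A : Type u} [CommRing A] {X : Scheme.{u}} [X.Over (Spec (CommRingCat.of A))]
  [IsProper (X ↘ Spec (CommRingCat.of A))]

/-- Above the dimension of all fibres the cohomology of quasi-coherent modules vanishes. -/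
theorem subsingleton_HH_of_dim_fiber_le (d : ℕ)
    (hd : ∀ P, topologicalKrullDim ↥((X ↘ Spec (CommRingCat.of A)).fiber P) ≤ d) (N : X.Modules)
    [N.IsQuasicoherent] (p : ℕ) (hp : d < p) : Subsingleton (Coh.HH X N p) := by
  obtain ⟨X₁, q₁, j, hq₁, hlfp, hj, -, hd₁⟩ :=
    exists_properFP_dim_fiber_le (X ↘ Spec (CommRingCat.of A)) d hd
  obtain ⟨A₀, _, _, φ, X₀, q₀, g, hq₀, hd₀, hsq⟩ := exists_noetherian_model_dim_fiber_le q₁ d hd₁
  letI : X₀.Over (Spec (CommRingCat.of A₀)) := ⟨q₀⟩
  letI : X.Over (Spec (CommRingCat.of A₀)) := ⟨(j ≫ g) ≫ q₀⟩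
  haveI : IsAffineHom g := MorphismProperty.of_isPullback hsq.flip
    (inferInstanceAs (IsAffineHom (Spec.map (CommRingCat.ofHom φ))))
  haveI : IsProper (X₀ ↘ Spec (CommRingCat.of A₀)) := hq₀
  haveI : X₀.IsSeparated := CohFin.isSeparated_of_proper q₀
  haveI : CompactSpace X₀ := CohFin.compactSpace_of_proper q₀
  obtain ⟨e⟩ := exists_pushEquiv A₀ (j ≫ g) rfl N p
  haveI := QCohMod.isQCoh_pushforward N (j ≫ g)
  haveI := subsingleton_HH_noetherian (A := A₀) (X := X₀) d hd₀
    ((Scheme.Modules.pushforward (j ≫ g)).obj N) p hp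
  exact e.symm.toEquiv.subsingleton

/-- The localised vanishing at a prime. -/
theorem exists_smul_eq_zero_general (P : Spec (CommRingCat.of A)) (d : ℕ)
    (hd : topologicalKrullDim ↥((X ↘ Spec (CommRingCat.of A)).fiber P) ≤ d) (N : X.Modules)
    [N.IsQuasicoherent] (p : ℕ) (hp : d < p) (h : Coh.HH X N p) :
    ∃ s ∈ P.asIdeal.primeCompl, (s : A) • h = 0 := by
  let f := X ↘ Spec (CommRingCat.of A)
  haveI : CompactSpace X := CohFin.compactSpace_of_proper f
  haveI : X.IsSeparated := CohFin.isSeparated_of_proper f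
  let B := Localization.AtPrime P.asIdeal
  let j : Spec (CommRingCat.of B) ⟶ Spec (CommRingCat.of A) :=
    Spec.map (CommRingCat.ofHom (algebraMap A B))
  let X' : Scheme.{u} := pullback f j
  let g : X' ⟶ X := pullback.fst f j
  letI : X'.Over (Spec (CommRingCat.of B)) := ⟨pullback.snd f j⟩
  have hsq : CohBase.IsBC (A := A) (A' := B) g := IsPullback.of_hasPullback f j
  haveI : IsProper (X' ↘ Spec (CommRingCat.of B)) :=
    inferInstanceAs (IsProper (pullback.snd f j))
  haveI := QCohMod.isQCoh_pullback_obj g N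
  refine exists_smul_eq_zero_of_bc P.asIdeal.primeCompl hsq N p ?_ h
  refine subsingleton_HH_of_dim_fiber_le (A := B) d (fun Q => ?_) _ p hp
  have hU := FibreDim.isOpen_dim_fiber_le (pullback.snd f j) (pullback.snd f j).isClosedMap
    ((d : ℕ) : WithBot ℕ∞)
  have hc : j (IsLocalRing.closedPoint B) = P :=
    PrimeSpectrum.ext Localization.AtPrime.comap_maximalIdeal
  have hmem : (IsLocalRing.closedPoint B : Spec (CommRingCat.of B)) ∈
      {y | topologicalKrullDim ↥((pullback.snd f j).fiber y) ≤ ((d : ℕ) : WithBot ℕ∞)} := by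
    refine (FibreDim.dim_fiber_baseChange f j (pullback.snd f j) (pullback.fst f j)
      (IsPullback.of_hasPullback f j) _).le.trans ?_
    rw [hc]
    exact hd
  exact (IsLocalRing.specializes_closedPoint Q).mem_open hU hmem

end General

/-! ### Finiteness in the top degree -/

section Top

variable {A A' : Type u} [CommRing A] [CommRing A'] [Algebra A A'] {X : Scheme.{u}}
  [X.Over (Spec (CommRingCat.of A))]

open CohBase in
/-- The classes of the tensored Čech complex are spanned by the images of the classes of the complex,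
when `T^d` carries surjections of modules to surjections. -/
theorem exists_span_TFun_of_surjective (G : GoodCover X) (F : X.Modules) (d : ℕ)
    (hsur : ∀ (M₁ M₂ : ModuleCat.{u} A) (φ : M₁ ⟶ M₂), Function.Surjective φ.hom →
      Function.Surjective ((CohIII.TFun (cxA A G.U F) (d : ℤ)).map φ))
    (M' : Type u) [AddCommGroup M'] [Module A M']
    (c : (CohIII.TFun (cxA A G.U F) (d : ℤ)).obj (ModuleCat.of A M')) :
    c ∈ AddSubgroup.closure {x | ∃ (b : M') (c₀ : (CohIII.TFun (cxA A G.U F) (d : ℤ)).obj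
        (ModuleCat.of A A)),
      (CohIII.TFun (cxA A G.U F) (d : ℤ)).map
          (show ModuleCat.of A A ⟶ ModuleCat.of A M' from
            ModuleCat.ofHom (LinearMap.toSpanSingleton A M' b)) c₀ = x} := by
  classical
  let C := cxA A G.U F
  let T := CohIII.TFun C (d : ℤ)
  let L := ModuleCat.of A (M' →₀ A)
  let π : L ⟶ ModuleCat.of A M' := ModuleCat.ofHom (Finsupp.linearCombination A (id : M' → M'))
  have hπ : Function.Surjective π.hom := fun b =>
    ⟨Finsupp.single (show M' from b) (1 : A),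
      (Finsupp.linearCombination_single A (v := (id : M' → M')) (1 : A) (show M' from b)).trans (one_smul A (show M' from b))⟩
  have hsurj : Function.Surjective (T.map π) := hsur _ _ π hπ
  obtain ⟨c', rfl⟩ := hsurj c
  obtain ⟨x, rfl⟩ := FlatCxBase.clsT_surjective C (FlatCxBase.cochain_next (d : ℤ)) L c'
  let N := C.X (d : ℤ)
  let e := TensorProduct.finsuppScalarRight A A N M'
  let e' := TensorProduct.finsuppScalarRight A A (C.X ((d : ℤ) + 1)) M'
  have he : ∀ (w : N ⊗[A] (M' →₀ A)) (b : M'),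
      e' ((C.d (d : ℤ) ((d : ℤ) + 1)).hom.rTensor (M' →₀ A) w) b =
        (C.d (d : ℤ) ((d : ℤ) + 1)).hom (e w b) := fun w b => by
    induction w using TensorProduct.induction_on with
    | zero => simp
    | tmul m v => simp [e, e', TensorProduct.finsuppScalarRight_apply_tmul_apply]
    | add p q hp hq => simp only [map_add, Finsupp.add_apply, hp, hq]
  have hcyc : ∀ b, ((C.d (d : ℤ) ((d : ℤ) + 1)).hom.rTensor A) (e x.1 b ⊗ₜ[A] (1 : A)) = 0 := fun b => by
    have hx0 : (C.d (d : ℤ) ((d : ℤ) + 1)).hom.rTensor (M' →₀ A) x.1 = 0 := x.2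
    rw [LinearMap.rTensor_tmul, ← he, hx0, map_zero, Finsupp.zero_apply, TensorProduct.zero_tmul]
  have hcyc' : ∀ b, e x.1 b ⊗ₜ[A] Finsupp.single b (1 : A) ∈
      LinearMap.ker ((C.d (d : ℤ) ((d : ℤ) + 1)).hom.rTensor L) := fun b => by
    have h0 := congrArg (TensorProduct.rid A _) (hcyc b)
    rw [LinearMap.rTensor_tmul, TensorProduct.rid_tmul, one_smul, map_zero] at h0
    rw [LinearMap.mem_ker]
    refine (LinearMap.rTensor_tmul _ _ _ _).trans ?_
    rw [h0, TensorProduct.zero_tmul]
  have hdec : x = ∑ b ∈ (e x.1).support, ⟨_, hcyc' b⟩ := Subtype.ext <| e.injective <| by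
    rw [AddSubmonoidClass.coe_finsetSum, map_sum]
    refine (Finsupp.sum_single (e x.1)).symm.trans (Finset.sum_congr rfl fun b _ => ?_)
    change _ = TensorProduct.finsuppScalarRight A A N M' (e x.1 b ⊗ₜ[A] Finsupp.single b (1 : A))
    rw [TensorProduct.finsuppScalarRight_apply_tmul, Finsupp.sum_single_index (by simp), one_smul]
  rw [hdec, map_sum, map_sum]
  refine AddSubgroup.sum_mem _ fun b _ => AddSubgroup.subset_closure ⟨b,
    FlatCxBase.clsT C (FlatCxBase.cochain_next (d : ℤ)) (ModuleCat.of A A) ⟨_, hcyc b⟩, ?_⟩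
  rw [FlatCxBase.TFun_map_clsT, FlatCxBase.TFun_map_clsT]
  congr 1
  apply Subtype.ext
  change (LinearMap.toSpanSingleton A M' b).lTensor N (e x.1 b ⊗ₜ[A] (1 : A))
    = (Finsupp.linearCombination A (id : M' → M')).lTensor N (e x.1 b ⊗ₜ[A] Finsupp.single b (1 : A))
  rw [LinearMap.lTensor_tmul, LinearMap.lTensor_tmul, Finsupp.linearCombination_single]
  simp

open CohBase in
/-- Surjections of modules induce surjections in the top degree. -/
theorem TFun_map_surjective [X.IsSeparated] [CompactSpace X] (G : GoodCover X) (F : X.Modules)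
    [F.IsQuasicoherent] (d : ℕ)
    (hvan : ∀ (K : X.Modules) [K.IsQuasicoherent], Subsingleton (Coh.HH X K (d + 1)))
    (M₁ M₂ : ModuleCat.{u} A) (φ : M₁ ⟶ M₂) (hφ : Function.Surjective φ.hom) :
    Function.Surjective ((CohIII.TFun (cxA A G.U F) (d : ℤ)).map φ) := by
  let T := CohIII.TFun (cxA A G.U F) (d : ℤ)
  let τ := (CohIII.tensorAFunctor A F).map φ
  haveI : Epi τ := CohC3.epi_of_cover τ fun x => by
    obtain ⟨W, hW, hx⟩ := QCohMod.exists_affine_mem x
    refine ⟨W, hW, hx, fun t => ?_⟩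
    obtain ⟨z, rfl⟩ := (tensorSec_bijective F M₂ hW).2 t
    obtain ⟨z', rfl⟩ := LinearMap.lTensor_surjective (secA A F W) hφ z
    exact ⟨tensorSec F M₁ W z', tensorSec_map F M₁ φ W z'⟩
  let S : ShortComplex X.Modules := ShortComplex.mk (kernel.ι τ) τ (kernel.condition τ)
  have hS : S.ShortExact :=
    ShortComplex.ShortExact.mk' (ShortComplex.exact_of_f_is_kernel S (kernelIsKernel τ))
      inferInstance inferInstance
  haveI : (kernel τ).IsQuasicoherent := QCohMod.isQCoh_kernel _
  haveI := hvan (kernel τ)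
  intro y
  obtain ⟨y', hy'⟩ := CohC3.exists_of_hdelta_eq_zero (A := A) hS
    (tensorIsoApp A G F d M₂ y) (Subsingleton.elim _ _)
  refine ⟨(tensorIsoApp A G F d M₁).symm y', (tensorIsoApp A G F d M₂).injective ?_⟩
  have := congr($((tensorIso A G F d).hom.naturality φ) ((tensorIsoApp A G F d M₁).symm y'))
  refine Eq.trans this (Eq.trans ?_ hy')
  exact congrArg (CohC3.hmap A τ d) ((tensorIsoApp A G F d M₁).apply_symm_apply y')

open CohBase in
/-- The classes of the tensored Čech complex are spanned by the images of the classes of the complex,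
when `H^{d+1}` of all quasi-coherent modules vanishes. -/
theorem exists_span_TFun [X.IsSeparated] [CompactSpace X] (G : GoodCover X) (F : X.Modules)
    [F.IsQuasicoherent] (d : ℕ)
    (hvan : ∀ (K : X.Modules) [K.IsQuasicoherent], Subsingleton (Coh.HH X K (d + 1)))
    (M' : Type u) [AddCommGroup M'] [Module A M']
    (c : (CohIII.TFun (cxA A G.U F) (d : ℤ)).obj (ModuleCat.of A M')) :
    c ∈ AddSubgroup.closure {x | ∃ (b : M') (c₀ : (CohIII.TFun (cxA A G.U F) (d : ℤ)).obj
        (ModuleCat.of A A)),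
      (CohIII.TFun (cxA A G.U F) (d : ℤ)).map
          (show ModuleCat.of A A ⟶ ModuleCat.of A M' from
            ModuleCat.ofHom (LinearMap.toSpanSingleton A M' b)) c₀ = x} :=
  exists_span_TFun_of_surjective G F d (TFun_map_surjective G F d hvan) M' c

/-- `H^d` of the base change of a module with finite `H^d` is finite. -/
theorem finite_HH_pullback [X.IsSeparated] [CompactSpace X] {X' : Scheme.{u}}
    [X'.Over (Spec (CommRingCat.of A'))] {g : X' ⟶ X} (hsq : CohBase.IsBC (A := A) (A' := A') g)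
    (F : X.Modules) [F.IsQuasicoherent] (d : ℕ)
    (hvan : ∀ (K : X.Modules) [K.IsQuasicoherent], Subsingleton (Coh.HH X K (d + 1)))
    (hfin : Module.Finite A (Coh.HH X F d)) :
    Module.Finite A' (Coh.HH X' ((Scheme.Modules.pullback g).obj F) d) := by
  classical
  obtain ⟨G⟩ := CohBase.exists_goodCover X
  obtain ⟨e, he⟩ := CohBase.exists_bcEquiv hsq F G d
  let C := CohBase.cxA A G.U F
  let T := CohIII.TFun C (d : ℤ)
  let α : ModuleCat.of A A ⟶ ModuleCat.of A A' := ModuleCat.ofHom (Algebra.linearMap A A')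
  haveI : Module.Finite A (T.obj (ModuleCat.of A A)) :=
    Module.Finite.equiv (CohBase.selfLinIso A G F d).symm
  obtain ⟨S, hS⟩ := (Module.Finite.fg_top : (⊤ : Submodule A (T.obj (ModuleCat.of A A))).FG)
  let u : T.obj (ModuleCat.of A A) → Coh.HH X' ((Scheme.Modules.pullback g).obj F) d :=
    fun c => e (T.map α c)
  let Q := Submodule.span A' (↑(S.image u) : Set (Coh.HH X' ((Scheme.Modules.pullback g).obj F) d))
  have hsm : ∀ (a : A) (c : T.obj (ModuleCat.of A A)), u (a • c) = algebraMap A A' a • u c := by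
    intro a c
    change e (T.map α (a • c)) = _
    rw [← he]
    refine congrArg e ?_
    obtain ⟨z, rfl⟩ := FlatCxBase.clsT_surjective C (FlatCxBase.cochain_next (d : ℤ)) _ c
    rw [← map_smul, FlatCxBase.TFun_map_clsT, FlatCxBase.TFun_map_clsT, FlatCxBase.TFun_map_clsT]
    congr 1
    apply Subtype.ext
    change (Algebra.linearMap A A').lTensor _ (a • z.1) =
      (LinearMap.mul A A' (algebraMap A A' a)).lTensor _ ((Algebra.linearMap A A').lTensor _ z.1)
    rw [← LinearMap.lTensor_comp_apply, show (LinearMap.mul A A' (algebraMap A A' a)).comp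
      (Algebra.linearMap A A') = a • Algebra.linearMap A A' from LinearMap.ext fun r => by
        simp [Algebra.smul_def], LinearMap.lTensor_smul, LinearMap.smul_apply, map_smul]
  have hu : ∀ c, u c ∈ Q := fun c => by
    refine Submodule.span_induction (p := fun c _ => u c ∈ Q)
      (fun c hc => Submodule.subset_span (Finset.mem_coe.2 (Finset.mem_image_of_mem u hc))) ?_
      (fun a b _ _ ha hb => ?_) (fun a b _ hb => ?_) (hS.ge trivial : c ∈ _)
    · change e (T.map α 0) ∈ Q
      rw [map_zero, map_zero]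
      exact Q.zero_mem
    · change e (T.map α (a + b)) ∈ Q
      rw [map_add, map_add]
      exact Q.add_mem ha hb
    · rw [hsm]
      exact Q.smul_mem _ hb
  refine ⟨⟨S.image u, eq_top_iff.2 fun y _ => ?_⟩⟩
  obtain ⟨c, rfl⟩ := e.surjective y
  refine AddSubgroup.closure_induction (p := fun c _ => e c ∈ Q) ?_ (by rw [map_zero]; exact Q.zero_mem)
    (fun a b _ _ ha hb => by rw [map_add]; exact Q.add_mem ha hb)
    (fun a _ ha => by rw [map_neg]; exact Q.neg_mem ha) (exists_span_TFun G F d hvan A' c)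
  rintro _ ⟨b, c₀, rfl⟩
  have hcomp : (show ModuleCat.of A A ⟶ ModuleCat.of A A' from
      ModuleCat.ofHom (LinearMap.toSpanSingleton A A' b)) =
      α ≫ ModuleCat.ofHom (LinearMap.mul A A' b) :=
    ModuleCat.hom_ext (LinearMap.ext_ring (by simp [α]))
  rw [hcomp, Functor.map_comp, ModuleCat.comp_apply, he]
  exact Q.smul_mem _ (hu c₀)

end Top

section Main

variable {A : Type u} [CommRing A] {X : Scheme.{u}} [X.Over (Spec (CommRingCat.of A))]
  [IsProper (X ↘ Spec (CommRingCat.of A))]

/-- Finiteness of `H^d` for modules of finite type on a scheme proper over a ring with fibres of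
dimension `≤ d`. -/
theorem finite_HH_top (d : ℕ)
    (hd : ∀ P, topologicalKrullDim ↥((X ↘ Spec (CommRingCat.of A)).fiber P) ≤ d) (M : X.Modules)
    (hM : Coh.IsCoh M) : Module.Finite A (Coh.HH X M d) := by
  classical
  haveI := hM.1
  obtain ⟨X₁, q₁, j, hq₁, hlfp, hj, hjq, hd₁⟩ :=
    exists_properFP_dim_fiber_le (X ↘ Spec (CommRingCat.of A)) d hd
  obtain ⟨A₀, _, _, φ, X₀, q₀, g, hq₀, hd₀, hsq⟩ := exists_noetherian_model_dim_fiber_le q₁ d hd₁
  letI : Algebra A₀ A := φ.toAlgebra
  letI : X₁.Over (Spec (CommRingCat.of A)) := ⟨q₁⟩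
  letI : X₀.Over (Spec (CommRingCat.of A₀)) := ⟨q₀⟩
  haveI : IsProper (X₁ ↘ Spec (CommRingCat.of A)) := hq₁
  haveI : IsProper (X₀ ↘ Spec (CommRingCat.of A₀)) := hq₀
  haveI : X₁.IsSeparated := CohFin.isSeparated_of_proper q₁
  haveI : CompactSpace X₁ := CohFin.compactSpace_of_proper q₁
  haveI : X₀.IsSeparated := CohFin.isSeparated_of_proper q₀
  haveI := CohC3.isNoetherian_of_proper A₀ X₀
  obtain ⟨e⟩ := exists_pushEquiv A j hjq M d
  let M₁ := (Scheme.Modules.pushforward j).obj M
  have hM₁ : Coh.IsCoh M₁ := CohTwo.isCoh_push j hM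
  haveI := hM₁.1
  suffices Module.Finite A (Coh.HH X₁ M₁ d) from Module.Finite.equiv e
  have hsq' : CohBase.IsBC (A := A₀) (A' := A) g := hsq
  haveI : IsAffineHom g := CohBase.isAffineHom_of_bc hsq'
  haveI := QCohMod.isQCoh_pushforward M₁ g
  let N₀ := (Scheme.Modules.pushforward g).obj M₁
  obtain ⟨G⟩ := CohBase.exists_goodCover X₀
  let W : G.ι → X₀.Opens := fun i => CohBase.tupOpen G.U (fun _ : Fin 1 => i)
  have hW : ∀ i, IsAffineOpen (W i) := fun i => G.affine _
  have hcov : ∀ x, ∃ i, x ∈ W i := fun x => by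
    obtain ⟨i, hi⟩ := Opens.mem_iSup.1 (G.hcov.ge (Opens.mem_top x))
    refine ⟨i, ?_⟩
    show x ∈ CohBase.tupOpen G.U (fun _ : Fin 1 => i)
    rw [CohBase.tupOpen, CohBase.inter, ← SetLike.mem_coe, Opens.coe_iInf, Set.mem_iInter]
    exact fun _ => hi
  choose S hS using fun i => ((QCohMod.isCoh_iff M₁).1 hM₁).2 (g ⁻¹ᵁ W i) ((hW i).preimage g) |>.fg_top
  obtain ⟨K, ι, hι, hK, hmem⟩ := CohTwo.exists_coh_sub N₀ W hW hcov
    (fun i => (show Finset Γ(N₀, W i) from S i))
  haveI := hK.1
  haveI := QCohMod.isQCoh_pullback_obj g K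
  let adj := Scheme.Modules.pullbackPushforwardAdjunction g
  let σ : (Scheme.Modules.pullback g).obj K ⟶ M₁ := (adj.homEquiv K M₁).symm ι
  have hσ : ∀ (i : G.ι) (k : Γ(K, W i)),
      σ.app (g ⁻¹ᵁ W i) ((adj.unit.app K).app (W i) k) = ι.app (W i) k := fun i k => by
    have h1 : ι = adj.unit.app K ≫ (Scheme.Modules.pushforward g).map σ :=
      ((adj.homEquiv K M₁).apply_symm_apply ι).symm.trans (adj.homEquiv_unit ..)
    exact (congr($(h1).app (W i) k)).symm
  haveI : Epi σ := CohC3.epi_of_cover σ fun x => by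
    obtain ⟨i, hi⟩ := hcov (g x)
    refine ⟨g ⁻¹ᵁ W i, (hW i).preimage g, hi, fun t => ?_⟩
    suffices h : (⊤ : Submodule Γ(X₁, g ⁻¹ᵁ W i) Γ(M₁, g ⁻¹ᵁ W i)) ≤
        LinearMap.range (QCohMod.appₗ σ (g ⁻¹ᵁ W i)) from LinearMap.mem_range.1 (h trivial)
    rw [← hS i, Submodule.span_le]
    intro s hs
    obtain ⟨k, hk⟩ := hmem i s hs
    exact ⟨_, (hσ i k).trans hk⟩
  let Sc : ShortComplex X₁.Modules := ShortComplex.mk (kernel.ι σ) σ (kernel.condition σ)
  have hSc : Sc.ShortExact :=
    ShortComplex.ShortExact.mk' (ShortComplex.exact_of_f_is_kernel Sc (kernelIsKernel σ))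
      inferInstance inferInstance
  haveI : (kernel σ).IsQuasicoherent := QCohMod.isQCoh_kernel _
  haveI := subsingleton_HH_of_dim_fiber_le (A := A) d hd₁ (kernel σ) (d + 1) (Nat.lt_succ_self d)
  haveI : Module.Finite A (Coh.HH X₁ ((Scheme.Modules.pullback g).obj K) d) :=
    finite_HH_pullback hsq' K d
      (fun K' hK' => subsingleton_HH_noetherian d hd₀ K' (d + 1) (Nat.lt_succ_self d))
      (CohC3.finite_HH_of_proper A₀ X₀ hK d)
  exact Module.Finite.of_surjective (CohC3.hmap A σ d) fun y => by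
    obtain ⟨y', hy'⟩ := CohC3.exists_of_hdelta_eq_zero (A := A) hSc y (Subsingleton.elim _ _)
    exact ⟨y', hy'⟩

end Main

end Groth.Limits.FibreVanishing
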