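import Groth.Agent.Limits.DescentStage
import Groth.Agent.Limits.Descend

/-!
# Descending immersions along limits
-/

set_option backward.isDefEq.respectTransparency false
set_option backward.defeqAttrib.useBackward true

universe u

open CategoryTheory Limits AlgebraicGeometry

namespace Groth.Limits

/-- An immersion with compact source is closed in a quasi-compact open. -/
theorem exists_isCompact_isClosedImmersion_morphismRestrict {X Y : Scheme.{u}} (f : X ⟶ Y)
    [IsImmersion f] [CompactSpace X] :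
    ∃ U : Y.Opens, IsCompact (U : Set Y) ∧ f ⁻¹ᵁ U = ⊤ ∧ IsClosedImmersion (f ∣_ U) := by
  have key (x : X) : ∃ W : Y.Opens, IsAffineOpen W ∧ f x ∈ W ∧ W ≤ f.coborderRange := by
    obtain ⟨_, ⟨W, hW, rfl⟩, hxW, hWU⟩ := Y.isBasis_affineOpens.exists_subset_of_mem_open
      (show f x ∈ f.coborderRange from subset_coborder ⟨x, rfl⟩) f.coborderRange.isOpen
    exact ⟨W, hW, hxW, hWU⟩
  choose W hW hxW hWU using key
  obtain ⟨s, hs⟩ := CompactSpace.elim_nhds_subcover (fun x ↦ f ⁻¹' (W x : Set Y))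
    (fun x ↦ ((W x).isOpen.preimage f.continuous).mem_nhds (hxW x))
  refine ⟨⨆ x : (s : Set X), W x, ?_, ?_, ?_⟩
  · rw [TopologicalSpace.Opens.coe_iSup]
    exact isCompact_iUnion fun x ↦ (hW _).isCompact
  · refine eq_top_iff.mpr fun x _ ↦ ?_
    obtain ⟨y, hy, hxy⟩ := Set.mem_iUnion₂.mp (hs.ge (Set.mem_univ x))
    exact TopologicalSpace.Opens.mem_iSup.mpr ⟨⟨y, hy⟩, hxy⟩
  · have hle : (⨆ x : (s : Set X), W x) ≤ f.coborderRange := iSup_le fun x ↦ hWU _
    refine IsClosedImmersion.of_isPreimmersion _ ?_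
    have h₁ : Set.range (f ∣_ ⨆ x : (s : Set X), W x) =
        (⨆ x : (s : Set X), W x).ι ⁻¹' Set.range f := by
      ext ⟨y, hy⟩
      refine ⟨?_, ?_⟩
      · rintro ⟨x, hx⟩
        exact ⟨(f ⁻¹ᵁ _).ι x, by rw [← hx, ← Scheme.Hom.comp_apply, ← Scheme.Hom.comp_apply,
          morphismRestrict_ι]⟩
      · rintro ⟨x, hx⟩
        refine ⟨⟨x, ?_⟩, ?_⟩
        · change f x ∈ (⨆ x : (s : Set X), W x)
          rw [hx]
          exact hy
        · apply Subtype.ext
          change (⨆ x : (s : Set X), W x).ι ((f ∣_ _) _) = _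
          rw [← Scheme.Hom.comp_apply, morphismRestrict_ι, Scheme.Hom.comp_apply]
          exact hx
    rw [h₁]
    obtain ⟨C, hC, hCeq⟩ : ∃ C, IsClosed C ∧
        (f.coborderRange : Set Y) ∩ C = (f.coborderRange : Set Y) ∩ Set.range f :=
      ⟨closure (Set.range f), isClosed_closure, by
        change coborder (Set.range f) ∩ _ = coborder (Set.range f) ∩ _
        rw [Set.inter_eq_right.mpr subset_coborder]
        exact coborder_inter_closure⟩
    have h₂ : (⨆ x : (s : Set X), W x).ι ⁻¹' Set.range f = (⨆ x : (s : Set X), W x).ι ⁻¹' C := by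
      ext y
      have := Set.ext_iff.mp hCeq y.1
      simp only [Set.mem_inter_iff, and_congr_right_iff] at this
      exact (this (hle y.2)).symm
    rw [h₂]
    exact hC.preimage (Scheme.Hom.continuous _)

variable {I : Type u} [Category.{u} I] [IsCofiltered I] {DX DY : I ⥤ Scheme.{u}} (φ : DX ⟶ DY)
  [∀ (i j : I) (m : i ⟶ j), IsAffineHom (DX.map m)]
  [∀ (i j : I) (m : i ⟶ j), IsAffineHom (DY.map m)]
  {cX : Cone DX} {cY : Cone DY} (hX : IsLimit cX) (hY : IsLimit cY) (f : cX.pt ⟶ cY.pt)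
  (hf : ∀ j, f ≫ cY.π.app j = cX.π.app j ≫ φ.app j)

include hX hY hf in
/-- Immersions descend along morphisms of systems. -/
theorem exists_isImmersion (i : I) [CompactSpace (DX.obj i)] [∀ k, QuasiCompact (φ.app k)]
    [∀ k, QuasiSeparated (φ.app k)] [∀ k, LocallyOfFiniteType (φ.app k)]
    (hl : ∀ (j k : I) (m : k ⟶ j), IsClosedImmersion (liftMap φ m)) [IsImmersion f] :
    ∃ (k : I) (_ : k ⟶ i), IsImmersion (φ.app k) := by
  have := compactSpace_pt DX cX hX (i := i)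
  obtain ⟨U, hUc, hUtop, hUcl⟩ := exists_isCompact_isClosedImmersion_morphismRestrict f
  obtain ⟨j, a, V, hV, hVU⟩ := exists_isCompact_preimage_eq DY cY hY i U hUc
  have e : cY.π.app j ⁻¹ᵁ V = U := TopologicalSpace.Opens.ext hVU
  have hX' : cX.π.app j ⁻¹ᵁ (φ.app j ⁻¹ᵁ V) = ⊤ := by
    rw [← Scheme.Hom.comp_preimage, ← hf, Scheme.Hom.comp_preimage, e, hUtop]
  -- some stage maps into `V`
  have := compactSpace_obj DX a
  obtain ⟨j', b, hb'⟩ := exists_preimage_subset DX cX hX (pc_univ (X := DX.obj j)).qcImage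
    (pc_of_isClosed (φ.app j ⁻¹ᵁ V).isOpen.isClosed_compl)
    (fun x _ ↦ (SetLike.ext_iff.mp hX' x).mpr trivial)
  have hb : DX.map b ⁻¹ᵁ (φ.app j ⁻¹ᵁ V) = ⊤ :=
    eq_top_iff.mpr fun x _ ↦ hb' (Set.mem_univ x)
  let j₀ : Over j := Over.mk b
  have hW (k : Over j) : CompactSpace ((opensDiagram DY j V).obj k) :=
    isCompact_iff_compactSpace.mp ((DY.map k.hom).isCompact_preimage hV)
  have (k : Over j) : QuasiCompact ((restrictTrans φ j V).app k) :=
    (restrictTrans_app_iff φ j V @QuasiCompact _).mpr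
      (IsZariskiLocalAtTarget.restrict (inferInstance : QuasiCompact (φ.app k.left)) _)
  have (k : Over j) : QuasiSeparated ((restrictTrans φ j V).app k) :=
    (restrictTrans_app_iff φ j V @QuasiSeparated _).mpr
      (IsZariskiLocalAtTarget.restrict (inferInstance : QuasiSeparated (φ.app k.left)) _)
  have (k : Over j) : LocallyOfFiniteType ((restrictTrans φ j V).app k) :=
    (restrictTrans_app_iff φ j V @LocallyOfFiniteType _).mpr
      (IsZariskiLocalAtTarget.restrict (inferInstance : LocallyOfFiniteType (φ.app k.left)) _)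
  have e' : cX.π.app j ⁻¹ᵁ (φ.app j ⁻¹ᵁ V) = f ⁻¹ᵁ (cY.π.app j ⁻¹ᵁ V) := by
    rw [← Scheme.Hom.comp_preimage, ← hf, Scheme.Hom.comp_preimage]
  let f' : (opensCone DX cX j (φ.app j ⁻¹ᵁ V)).pt ⟶ (opensCone DY cY j V).pt :=
    f.resLE (cY.π.app j ⁻¹ᵁ V) (cX.π.app j ⁻¹ᵁ (φ.app j ⁻¹ᵁ V)) e'.le
  have hcl : IsClosedImmersion f' := by
    refine (Scheme.Hom.resLE_congr f _ e (e'.trans (by rw [e])) @IsClosedImmersion).mpr ?_
    rw [Scheme.Hom.resLE_eq_morphismRestrict]
    exact hUcl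
  have hf' (k : Over j) : f' ≫ (opensCone DY cY j V).π.app k =
      (opensCone DX cX j (φ.app j ⁻¹ᵁ V)).π.app k ≫ (restrictTrans φ j V).app k :=
    (Scheme.Hom.resLE_comp_resLE f e'.le (cY.π.app k.left) (W := DY.map k.hom ⁻¹ᵁ V) _).trans
      (Eq.trans (by simp only [hf]) (Scheme.Hom.resLE_comp_resLE (cX.π.app k.left) _
        (φ.app k.left) (W := DY.map k.hom ⁻¹ᵁ V) _).symm)
  obtain ⟨k, m, hk⟩ := exists_isClosedImmersion (restrictTrans φ j V)
    (isLimitOpensCone DX cX hX j _) (isLimitOpensCone DY cY hY j V) f' hf' j₀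
    (fun _ _ _ ↦ liftMap_restrictTrans φ j V @IsClosedImmersion hl _)
  refine ⟨k.left, k.hom ≫ a, ?_⟩
  rw [restrictTrans_app_iff φ j V @IsClosedImmersion] at hk
  have htop : φ.app k.left ⁻¹ᵁ (DY.map k.hom ⁻¹ᵁ V) = ⊤ := by
    rw [← preimage_naturality, ← Over.w m, DX.map_comp, Scheme.Hom.comp_preimage]
    change DX.map m.left ⁻¹ᵁ (DX.map b ⁻¹ᵁ (φ.app j ⁻¹ᵁ V)) = ⊤
    rw [hb]
    rfl
  have : IsIso (φ.app k.left ⁻¹ᵁ (DY.map k.hom ⁻¹ᵁ V)).ι := by
    rw [htop, ← Scheme.topIso_hom]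
    infer_instance
  rw [← IsIso.inv_hom_id_assoc (φ.app k.left ⁻¹ᵁ (DY.map k.hom ⁻¹ᵁ V)).ι (φ.app k.left),
    ← morphismRestrict_ι]
  infer_instance

end Groth.Limits

namespace Groth.Limits

variable {I : Type u} [Category.{u} I] [IsCofiltered I] {D : I ⥤ Scheme.{u}} {T : Scheme.{u}}
  [∀ (i j : I) (m : i ⟶ j), IsAffineHom (D.map m)] {c : Cone D} (hc : IsLimit c)

include hc in
/-- An eventually immersive structure map. -/
theorem exists_isImmersion_app (t : D ⟶ (Functor.const I).obj T) (i₀ : I) [CompactSpace (D.obj i₀)]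
    [∀ i, QuasiCompact (t.app i)] [∀ i, QuasiSeparated (t.app i)]
    [∀ i, LocallyOfFiniteType (t.app i)]
    (hD : ∀ (i j : I) (m : i ⟶ j), IsClosedImmersion (D.map m))
    (h : IsImmersion (c.π.app i₀ ≫ t.app i₀)) :
    ∃ i₁ : I, ∀ (i : I) (_ : i ⟶ i₁), IsImmersion (t.app i) := by
  have : IsConnected I := IsCofiltered.isConnected I
  have hl (j k : I) (m : k ⟶ j) : IsClosedImmersion (liftMap t m) :=
    liftMap_const_of_map t @IsClosedImmersion m (hD _ _ m)
  obtain ⟨k, -, hk⟩ := exists_isImmersion t hc (isLimitConstCone I T)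
    (c.π.app i₀ ≫ t.app i₀) (fun j ↦ (Category.comp_id _).trans (π_app_comp_eq t c i₀ j)) i₀ hl
  refine ⟨k, fun i m ↦ app_of_hom t @IsImmersion m hk ?_⟩
  have := hl _ _ m
  infer_instance

variable {i₀ : I} {X₀ Y₀ X Y : Scheme.{u}} {f₀ : X₀ ⟶ Y₀} {g₀ : Y₀ ⟶ D.obj i₀} {f : X ⟶ Y}
  {g : Y ⟶ c.pt} {qY : Y ⟶ Y₀} {qX : X ⟶ X₀} (hY : IsPullback qY g g₀ (c.π.app i₀))
  (hX : IsPullback qX f f₀ qY)

include hc hY hX in
/-- If the base change of `f₀` to the limit is an immersion, so is it at some stage. -/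
theorem exists_isImmersion_stage [CompactSpace X₀] [QuasiCompact f₀] [QuasiSeparated f₀]
    [LocallyOfFiniteType f₀] [IsImmersion f] : ∃ j : Over i₀,
      IsImmersion (pullback.snd f₀ (pullback.snd (D.map j.hom) g₀)) := by
  let t := pullbackTrans D g₀
  have : ∀ j, QuasiCompact ((bcTrans t f₀).app j) := fun j ↦
    inferInstanceAs (QuasiCompact (pullback.snd f₀ (t.app j)))
  have : ∀ j, QuasiSeparated ((bcTrans t f₀).app j) := fun j ↦
    inferInstanceAs (QuasiSeparated (pullback.snd f₀ (t.app j)))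
  have : ∀ j, LocallyOfFiniteType ((bcTrans t f₀).app j) := fun j ↦
    inferInstanceAs (LocallyOfFiniteType (pullback.snd f₀ (t.app j)))
  have : CompactSpace ((bcDiagram t f₀).obj (Over.mk (𝟙 i₀))) :=
    QuasiCompact.compactSpace_of_compactSpace
      (pullback.fst f₀ (pullback.snd (D.map (𝟙 i₀)) g₀))
  have hτ : ∀ j, (pullbackCone D i₀ g₀ c).π.app j ≫ t.app j = pullback.snd (c.π.app i₀) g₀ :=
    fun j ↦ pullback.lift_snd _ _ _
  have : IsImmersion (pullback.snd f₀ (pullback.snd (c.π.app i₀) g₀)) :=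
    prop_snd_of_isPullback @IsImmersion hY hX inferInstance
  obtain ⟨j, -, hj⟩ := exists_isImmersion (bcTrans t f₀) (isLimitBcCone t f₀ _ _ hτ
      (isLimitPullbackCone D i₀ g₀ hc)) (isLimitPullbackCone D i₀ g₀ hc) _ (bcCone_w t f₀ _ _ hτ)
    (Over.mk (𝟙 i₀)) (fun _ _ _ ↦ liftMap_bcTrans t f₀ @IsClosedImmersion _)
  exact ⟨j, hj⟩

end Groth.Limits
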