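import Groth.Agent.Limits.LocalLimit
import Groth.Agent.Rat20Ext.Scheme
import Mathlib.AlgebraicGeometry.AffineTransitionLimit
import Mathlib.AlgebraicGeometry.Morphisms.QuasiSeparated

/-!
# Gluing a morphism on the punctured scheme with one on the local scheme
-/

set_option backward.isDefEq.respectTransparency false
set_option backward.defeqAttrib.useBackward true

universe u

open CategoryTheory Limits AlgebraicGeometry TopologicalSpace

namespace Groth.Limits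

variable {X Y S : Scheme.{u}} {x : X} {W : X.Opens} (hW : IsAffineOpen W)

include hW in
theorem isAffine_nhdDiagram (V : BasicNhd W x) : IsAffine ((nhdDiagram W x).obj V) :=
  isAffineOpen_nhd hW V

include hW in
theorem isAffineHom_nhdDiagram {V V' : BasicNhd W x} (m : V ⟶ V') :
    IsAffineHom ((nhdDiagram W x).map m) :=
  have := isAffine_nhdDiagram hW V
  have := isAffine_nhdDiagram hW V'
  inferInstance

include hW in
/-- A morphism from the local scheme extends to a neighbourhood. -/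
theorem exists_extend_nhd (hx : x ∈ W) (p : X ⟶ S) (q : Y ⟶ S) [LocallyOfFinitePresentation q]
    (b : Spec (X.presheaf.stalk x) ⟶ Y) (hb : b ≫ q = X.fromSpecStalk x ≫ p) :
    ∃ (V : BasicNhd W x) (bV : (V.1 : Scheme.{u}) ⟶ Y),
      V.1.fromSpecStalkOfMem x V.2.1 ≫ bV = b ∧ bV ≫ q = V.1.ι ≫ p := by
  have := nonempty_basicNhd (W := W) hx
  have (V : BasicNhd W x) := isAffine_nhdDiagram hW V
  have : ∀ {V V' : BasicNhd W x} (m : V ⟶ V'), IsAffineHom ((nhdDiagram W x).map m) :=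
    fun m ↦ isAffineHom_nhdDiagram hW m
  obtain ⟨lim⟩ := nonempty_isLimit_nhdCone hW hx
  let t : nhdDiagram W x ⟶ (Functor.const _).obj S :=
    { app := fun V ↦ V.1.ι ≫ p
      naturality := fun V V' m ↦ by simp [nhdDiagram] }
  obtain ⟨V, bV, h₁, h₂⟩ := Scheme.exists_π_app_comp_eq_of_locallyOfFinitePresentation
    (nhdDiagram W x) t q (nhdCone W x) lim b (by
      ext V
      show V.1.fromSpecStalkOfMem x V.2.1 ≫ V.1.ι ≫ p = b ≫ q
      rw [hb, Scheme.Opens.fromSpecStalkOfMem_ι_assoc])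
  exact ⟨V, bV, h₁, h₂⟩

include hW in
/-- Two morphisms on `U ⊓ V` agreeing on the punctured local scheme agree near `x`. -/
theorem exists_agree_nhd (p : X ⟶ S) (q : Y ⟶ S) [LocallyOfFiniteType q] (U : X.Opens)
    [QuasiCompact U.ι] (V : BasicNhd W x) (a : (U : Scheme.{u}) ⟶ Y)
    (bV : (V.1 : Scheme.{u}) ⟶ Y) (ha : a ≫ q = U.ι ≫ p) (hbV : bV ≫ q = V.1.ι ≫ p)
    (hab : (X.fromSpecStalk x ⁻¹ᵁ U).ι ≫ V.1.fromSpecStalkOfMem x V.2.1 ≫ bV =
      (X.fromSpecStalk x ∣_ U) ≫ a) :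
    ∃ V' : BasicNhd W x, ∃ h : V'.1 ≤ V.1,
      X.homOfLE (inf_le_left : U ⊓ V'.1 ≤ U) ≫ a =
        X.homOfLE (inf_le_right.trans h : U ⊓ V'.1 ≤ V.1) ≫ bV := by
  have hx : x ∈ W := by
    obtain ⟨f, hf⟩ := V.2.2
    exact (hf ▸ X.basicOpen_le f : V.1 ≤ W) V.2.1
  have := nonempty_basicNhd (W := W) hx
  have (V : BasicNhd W x) := isAffine_nhdDiagram hW V
  have : ∀ {V V' : BasicNhd W x} (m : V ⟶ V'), IsAffineHom ((nhdDiagram W x).map m) :=
    fun m ↦ isAffineHom_nhdDiagram hW m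
  obtain ⟨lim⟩ := nonempty_isLimit_nhdCone hW hx
  let O : ((nhdDiagram W x).obj V).Opens := V.1.ι ⁻¹ᵁ U
  let D' := opensDiagram (nhdDiagram W x) V O
  have hle : ∀ k : Over V, (nhdDiagram W x).map k.hom ≫ V.1.ι = k.left.1.ι := fun k ↦
    X.homOfLE_ι (leOfHom k.hom : k.left ≤ V)
  have hO : ∀ k : Over V, (nhdDiagram W x).map k.hom ⁻¹ᵁ O = k.left.1.ι ⁻¹ᵁ U := fun k ↦ by
    rw [← Scheme.Hom.comp_preimage, hle]
  have : ∀ k : Over V, CompactSpace (D'.obj k) := fun k ↦ by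
    refine isCompact_iff_compactSpace.1 ?_
    rw [hO k, (k.left.1.ι).isEmbedding.isInducing.isCompact_iff]
    have hcpt := ((isAffineOpen_nhd hW k.left).isCompact)
    have h1 := (U.ι.isCompact_preimage hcpt).image U.ι.continuous
    convert h1 using 1
    rw [TopologicalSpace.Opens.map_coe, TopologicalSpace.Opens.map_coe,
      Set.image_preimage_eq_inter_range, Set.image_preimage_eq_inter_range,
      Scheme.Opens.range_ι, Scheme.Opens.range_ι, Set.inter_comm]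
  let t : D' ⟶ (Functor.const _).obj S :=
    { app := fun k ↦ ((nhdDiagram W x).map k.hom ⁻¹ᵁ O).ι ≫ k.left.1.ι ≫ p
      naturality := fun k l m ↦ by simp [D', nhdDiagram] }
  let k₀ : Over V := Over.mk (𝟙 V)
  let j : D'.obj k₀ ⟶ (U : Scheme.{u}) :=
    IsOpenImmersion.lift U.ι (((nhdDiagram W x).map k₀.hom ⁻¹ᵁ O).ι ≫ V.1.ι) (by
      rintro _ ⟨w, rfl⟩
      rw [Scheme.Opens.range_ι]
      exact (hO k₀).le w.2)
  have hj : j ≫ U.ι = ((nhdDiagram W x).map k₀.hom ⁻¹ᵁ O).ι ≫ V.1.ι :=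
    IsOpenImmersion.lift_fac _ _ _
  let c' := opensCone (nhdDiagram W x) (nhdCone W x) V O
  have hO' : (nhdCone W x).π.app V ⁻¹ᵁ O = X.fromSpecStalk x ⁻¹ᵁ U := by
    show V.1.fromSpecStalkOfMem x V.2.1 ⁻¹ᵁ (V.1.ι ⁻¹ᵁ U) = _
    rw [← Scheme.Hom.comp_preimage, Scheme.Opens.fromSpecStalkOfMem_ι]
  obtain ⟨k, m, hm⟩ := Scheme.exists_hom_comp_eq_comp_of_locallyOfFiniteType D' t q c'
    (isLimitOpensCone _ _ lim V O) (i := k₀) (j ≫ a)
    (((nhdDiagram W x).map k₀.hom ⁻¹ᵁ O).ι ≫ bV)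
    (by
      show _ = (j ≫ a) ≫ q
      rw [Category.assoc, ha, reassoc_of% hj]
      rfl)
    (by
      show _ = (((nhdDiagram W x).map k₀.hom ⁻¹ᵁ O).ι ≫ bV) ≫ q
      rw [Category.assoc, hbV]
      rfl)
    (by
      have h1 : c'.π.app k₀ ≫ ((nhdDiagram W x).map k₀.hom ⁻¹ᵁ O).ι =
          ((nhdCone W x).π.app V ⁻¹ᵁ O).ι ≫ V.1.fromSpecStalkOfMem x V.2.1 :=
        Scheme.Hom.resLE_comp_ι _ _
      have h2 : c'.π.app k₀ ≫ j = (Spec (X.presheaf.stalk x)).homOfLE hO'.le ≫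
          (X.fromSpecStalk x ∣_ U) := by
        rw [← cancel_mono U.ι, Category.assoc, hj, reassoc_of% h1, Category.assoc,
          morphismRestrict_ι, Scheme.homOfLE_ι_assoc, Scheme.Opens.fromSpecStalkOfMem_ι]
      rw [reassoc_of% h2, reassoc_of% h1, ← hab, Scheme.homOfLE_ι_assoc])
  refine ⟨k.left, (leOfHom k.hom : k.left ≤ V), ?_⟩
  let r : (↑(U ⊓ k.left.1) : Scheme.{u}) ⟶ D'.obj k :=
    IsOpenImmersion.lift ((nhdDiagram W x).map k.hom ⁻¹ᵁ O).ι (X.homOfLE inf_le_right) (by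
      rintro _ ⟨w, rfl⟩
      refine ⟨⟨X.homOfLE (inf_le_right : U ⊓ k.left.1 ≤ k.left.1) w, (hO k).ge ?_⟩, rfl⟩
      show k.left.1.ι (X.homOfLE _ w) ∈ U
      rw [← Scheme.Hom.comp_apply, Scheme.homOfLE_ι]
      exact w.2.1)
  have hr : r ≫ ((nhdDiagram W x).map k.hom ⁻¹ᵁ O).ι =
      X.homOfLE (inf_le_right : U ⊓ k.left.1 ≤ k.left.1) := IsOpenImmersion.lift_fac _ _ _
  have h3 : r ≫ D'.map m ≫ ((nhdDiagram W x).map k₀.hom ⁻¹ᵁ O).ι =
      X.homOfLE (inf_le_right.trans (leOfHom k.hom : k.left ≤ V) : U ⊓ k.left.1 ≤ V.1) := by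
    rw [show D'.map m ≫ ((nhdDiagram W x).map k₀.hom ⁻¹ᵁ O).ι =
      ((nhdDiagram W x).map k.hom ⁻¹ᵁ O).ι ≫ (nhdDiagram W x).map m.left from
        Scheme.Hom.resLE_comp_ι _ _, reassoc_of% hr]
    exact X.homOfLE_homOfLE _ (leOfHom k.hom : k.left ≤ V)
  have h4 : r ≫ D'.map m ≫ j = X.homOfLE (inf_le_left : U ⊓ k.left.1 ≤ U) := by
    rw [← cancel_mono U.ι, Category.assoc, Category.assoc, hj, Scheme.homOfLE_ι]
    exact ((reassoc_of% h3) V.1.ι).trans (X.homOfLE_ι _)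
  have := congrArg (r ≫ ·) hm
  rwa [reassoc_of% h4, reassoc_of% h3] at this

/-- Morphisms agreeing on all local schemes are equal. -/
theorem hom_ext_of_fromSpecStalk (f g : X ⟶ Y)
    (h : ∀ z, X.fromSpecStalk z ≫ f = X.fromSpecStalk z ≫ g) : f = g := by
  have hpt : ∀ z, f z = g z := fun z ↦ by
    rw [← X.fromSpecStalk_closedPoint (x := z), ← Scheme.Hom.comp_apply, h z,
      Scheme.Hom.comp_apply]
  refine Scheme.hom_ext_of_forall f g fun z ↦ ?_
  obtain ⟨_, ⟨V, hV, rfl⟩, hzV, -⟩ :=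
    Y.isBasis_affineOpens.exists_subset_of_mem_open (Set.mem_univ (f z)) isOpen_univ
  obtain ⟨_, ⟨W, hW, rfl⟩, hzW, hWV⟩ := X.isBasis_affineOpens.exists_subset_of_mem_open
    (show z ∈ f ⁻¹ᵁ V from hzV) (f ⁻¹ᵁ V).isOpen
  have hWf : W ≤ f ⁻¹ᵁ V := hWV
  have hWg : W ≤ g ⁻¹ᵁ V := fun w hw ↦ by
    show g w ∈ V
    rw [← hpt]
    exact hWf hw
  have key : f.appLE V W hWf = g.appLE V W hWg := by
    ext s
    refine TopCat.Presheaf.section_ext X.sheaf W _ _ fun w hw ↦ ?_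
    have : f.appLE V W hWf ≫ X.presheaf.germ W w hw = g.appLE V W hWg ≫ X.presheaf.germ W w hw := by
      apply Spec.map_injective
      rw [← cancel_mono hV.fromSpec, Spec.map_comp, Spec.map_comp, Category.assoc, Category.assoc,
        IsAffineOpen.SpecMap_appLE_fromSpec f hV hW hWf,
        IsAffineOpen.SpecMap_appLE_fromSpec g hV hW hWg, ← Category.assoc, ← Category.assoc,
        show Spec.map (X.presheaf.germ W w hw) ≫ hW.fromSpec = X.fromSpecStalk w from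
          hW.fromSpecStalk_eq_fromSpecStalk hw, h w]
    exact congr($(this).hom s)
  refine ⟨W, hzW, ?_⟩
  rw [← cancel_epi hW.isoSpec.inv, IsAffineOpen.isoSpec_inv_ι_assoc,
    IsAffineOpen.isoSpec_inv_ι_assoc, ← IsAffineOpen.SpecMap_appLE_fromSpec f hV hW hWf,
    ← IsAffineOpen.SpecMap_appLE_fromSpec g hV hW hWg, key]

/-- Glue along a cover by two opens. -/
theorem exists_glue_of_sup_eq_top (U V : X.Opens) (hUV : U ⊔ V = ⊤) (a : (U : Scheme.{u}) ⟶ Y)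
    (b : (V : Scheme.{u}) ⟶ Y)
    (h : X.homOfLE (inf_le_right : U ⊓ V ≤ V) ≫ b = X.homOfLE (inf_le_left : U ⊓ V ≤ U) ≫ a) :
    ∃ g : X ⟶ Y, U.ι ≫ g = a ∧ V.ι ≫ g = b := by
  obtain ⟨g, hgU, hgV⟩ := Groth.Rat20Ext.exists_glue_sup U V a b h
  refine ⟨X.topIso.inv ≫ X.homOfLE hUV.ge ≫ g, ?_, ?_⟩
  · refine Eq.trans ?_ hgU
    rw [← Category.assoc, ← Category.assoc]
    refine congrArg (· ≫ g) ?_
    rw [← cancel_mono (U ⊔ V).ι]
    simp
  · refine Eq.trans ?_ hgV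
    rw [← Category.assoc, ← Category.assoc]
    refine congrArg (· ≫ g) ?_
    rw [← cancel_mono (U ⊔ V).ι]
    simp

end Groth.Limits
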