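import Groth.Agent.Limits.FPCriterion
import Mathlib.AlgebraicGeometry.AffineTransitionLimit
import Mathlib.AlgebraicGeometry.Morphisms.FinitePresentation

/-!
# The converse of "locally of finite presentation commutes with limits"
-/

universe u

open CategoryTheory Limits AlgebraicGeometry

namespace Groth.Limits

/-- If morphisms out of limits of affine schemes factor through stages, then the morphism is
locally of finite presentation. -/
theorem locallyOfFinitePresentation_of_exists_factor {X S : Scheme.{u}} (f : X ⟶ S)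
    (h : ∀ (U : S.Opens), IsAffineOpen U →
      ∀ (J : Type u) [Preorder J] [IsDirected J (· ≤ ·)] [Nonempty J] (D : Jᵒᵖ ⥤ Scheme.{u})
      (t : D ⟶ (Functor.const Jᵒᵖ).obj (U : Scheme.{u})) (c : Cone D) (_ : IsLimit c),
      (∀ j, IsAffine (D.obj j)) → ∀ (j₀ : Jᵒᵖ) (g : c.pt ⟶ X),
        g ≫ f = c.π.app j₀ ≫ t.app j₀ ≫ U.ι →
        ∃ (j : Jᵒᵖ) (gj : D.obj j ⟶ X), gj ≫ f = t.app j ≫ U.ι ∧ c.π.app j ≫ gj = g) :
    LocallyOfFinitePresentation f := by
  rw [HasRingHomProperty.iff_appLE (P := @LocallyOfFinitePresentation)]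
  intro U V e
  have hU : IsAffineOpen U.1 := U.2
  have hV : IsAffineOpen V.1 := V.2
  algebraize [(f.appLE U V e).hom]
  refine finitePresentation_of_exists_section Γ(S, U) Γ(X, V) fun J _ _ _ F ι hc ↦ ?_
  have : IsConnected J := IsFiltered.isConnected J
  let R : J ⥤ CommRingCat.{u} := F ⋙ Under.forget _
  let cR : Cocone R := (Under.forget _).mapCocone (Cocone.mk _ ι)
  have hcR : IsColimit cR := isColimitOfPreserves (Under.forget _) hc
  let D : Jᵒᵖ ⥤ Scheme.{u} := R.op ⋙ Scheme.Spec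
  have hD : IsLimit (Scheme.Spec.mapCone cR.op) := isLimitOfPreserves Scheme.Spec hcR.op
  let t : D ⟶ (Functor.const Jᵒᵖ).obj (U.1 : Scheme.{u}) :=
    { app := fun j ↦ Spec.map (F.obj j.unop).hom ≫ hU.isoSpec.inv
      naturality := fun i j m ↦ by
        change Spec.map (F.map m.unop).right ≫ Spec.map (F.obj j.unop).hom ≫ hU.isoSpec.inv =
          (Spec.map (F.obj i.unop).hom ≫ hU.isoSpec.inv) ≫ 𝟙 _
        rw [← Category.assoc, ← Spec.map_comp, Under.w, Category.comp_id] }
  obtain ⟨j₀⟩ := IsCofiltered.nonempty (C := Jᵒᵖ)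
  have hV' : ∀ j, (Scheme.Spec.mapCone cR.op).π.app j ≫ Spec.map (F.obj j.unop).hom =
      Spec.map (f.appLE U V e) := fun j ↦ by
    change Spec.map (ι.app j.unop).right ≫ Spec.map (F.obj j.unop).hom = _
    rw [← Spec.map_comp, Under.w]
    rfl
  have : ∀ j, IsAffine (D.obj j) := fun j ↦ inferInstanceAs (IsAffine (Spec _))
  have hg : hV.fromSpec ≫ f = ((Spec.map (ι.app j₀.unop).right ≫
      Spec.map (F.obj j₀.unop).hom) ≫ hU.fromSpec : Spec Γ(X, V.1) ⟶ S) := by
    rw [← IsAffineOpen.SpecMap_appLE_fromSpec f hU hV e]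
    exact congrArg (· ≫ hU.fromSpec) (hV' j₀).symm
  obtain ⟨j, gj, hgj, hgj'⟩ := h U.1 hU J D t _ hD inferInstance j₀ hV.fromSpec (hg.trans (by
    simp only [t, Category.assoc, IsAffineOpen.isoSpec_inv_ι]
    rfl))
  have : ∀ {i k : Jᵒᵖ} (m : i ⟶ k), IsAffineHom (D.map m) := fun m ↦
    inferInstanceAs (IsAffineHom (Spec.map _))
  have : ∀ i, CompactSpace (D.obj i) := fun i ↦ inferInstanceAs (CompactSpace (Spec _))
  obtain ⟨k, m, hk⟩ := exists_map_eq_top D _ hD (gj ⁻¹ᵁ V.1) (by
    rw [← Scheme.Hom.comp_preimage, hgj']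
    exact hV.fromSpec_preimage_self)
  have hrange : Set.range (D.map m ≫ gj) ⊆ Set.range hV.fromSpec := by
    rintro _ ⟨x, rfl⟩
    rw [hV.range_fromSpec]
    have : x ∈ D.map m ⁻¹ᵁ (gj ⁻¹ᵁ V.1) := hk ▸ trivial
    simpa using this
  obtain ⟨s, hs⟩ := Spec.map_surjective (IsOpenImmersion.lift hV.fromSpec _ hrange)
  have hs' : Spec.map s ≫ hV.fromSpec = D.map m ≫ gj := by
    rw [hs, IsOpenImmersion.lift_fac]
  refine ⟨k.unop, Under.homMk s ?_, ?_⟩
  · apply Spec.map_injective
    rw [Spec.map_comp, ← cancel_mono hU.fromSpec, Category.assoc]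
    change Spec.map s ≫ Spec.map (f.appLE U V e) ≫ hU.fromSpec = _
    rw [IsAffineOpen.SpecMap_appLE_fromSpec f hU hV e, ← Category.assoc, hs', Category.assoc,
      hgj, ← Category.assoc, show D.map m ≫ t.app j = t.app k from (t.naturality m).trans
        (Category.comp_id _)]
    simp only [t, Category.assoc, IsAffineOpen.isoSpec_inv_ι]
    rfl
  · apply Under.UnderMorphism.ext
    apply Spec.map_injective
    rw [← cancel_mono hV.fromSpec]
    simp only [Under.comp_right, Under.homMk_right, Spec.map_comp, Category.assoc, hs']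
    refine Eq.trans ?_ ((hgj'.trans (Category.id_comp _).symm).trans (by simp))
    rw [← (Scheme.Spec.mapCone cR.op).w m, Category.assoc]
    exact congrArg (fun q ↦ Spec.map (ι.app k.unop).right ≫ q) hs' 

end Groth.Limits
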