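import Groth.Agent.Limits.DescentStage
import Groth.Agent.Limits.Descend
import Groth.Agent.SchemeMorphisms.FibreBaseChange
import Groth.Agent.FibreDim.BaseChange
import Groth.Agent.FibreDim.Semicontinuity
import Mathlib.AlgebraicGeometry.ZariskisMainTheorem

/-!
# Descending fibrewise properties along limits
-/

set_option backward.isDefEq.respectTransparency false
set_option backward.defeqAttrib.useBackward true

universe u

open CategoryTheory Limits AlgebraicGeometry

namespace Groth.Limits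

variable {I : Type u} [Category.{u} I] [IsCofiltered I] {D : I ⥤ Scheme.{u}}
  [∀ (i j : I) (m : i ⟶ j), IsAffineHom (D.map m)] {c : Cone D} (hc : IsLimit c)
  {i₀ : I} {X₀ Y₀ X Y : Scheme.{u}} {f₀ : X₀ ⟶ Y₀} {g₀ : Y₀ ⟶ D.obj i₀} {f : X ⟶ Y}
  {g : Y ⟶ c.pt} {qY : Y ⟶ Y₀} {qX : X ⟶ X₀} (hY : IsPullback qY g g₀ (c.π.app i₀))
  (hX : IsPullback qX f f₀ qY)

include hc hY hX in
/-- If the projection of the limit lands in an open, so does that of some stage. -/
theorem exists_range_fst_subset [CompactSpace X₀] (W : X₀.Opens) (h : ∀ x, qX x ∈ W) :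
    ∃ j : Over i₀, ∀ x : (pullback f₀ (pullback.snd (D.map j.hom) g₀) : Scheme.{u}),
      pullback.fst f₀ (pullback.snd (D.map j.hom) g₀) x ∈ W := by
  let a := f₀ ≫ g₀
  let E := pullbackDiagram D i₀ a
  let k₀ : Over i₀ := Over.mk (𝟙 i₀)
  have : CompactSpace (E.obj k₀) := by
    have : IsIso (pullback.snd (D.map k₀.hom) a) := pullback_snd_iso_of_left_iso (D.map (𝟙 i₀)) a
    exact QuasiCompact.compactSpace_of_compactSpace (pullback.snd (D.map k₀.hom) a)
  let F : Set (E.obj k₀) := ⇑(pullback.snd (D.map k₀.hom) a) ⁻¹' (W : Set X₀)ᶜ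
  have hF : IsClosed F := (W.isOpen.isClosed_compl).preimage (Scheme.Hom.continuous _)
  have hsq : IsPullback qX (f ≫ g) a (c.π.app i₀) := hX.paste_vert hY
  obtain ⟨j, φ, hj⟩ := exists_preimage_eq_empty E (pullbackCone D i₀ a c)
    (isLimitPullbackCone D i₀ a hc) (pc_of_isClosed hF).qcImage (by
      refine Set.eq_empty_of_forall_notMem fun x hx ↦ hx ?_
      obtain ⟨x', rfl⟩ : ∃ x', hsq.flip.isoPullback.hom x' = x :=
        ⟨hsq.flip.isoPullback.inv x, by rw [← Scheme.Hom.comp_apply, Iso.inv_hom_id]; rfl⟩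
      have : hsq.flip.isoPullback.hom ≫ (pullbackCone D i₀ a c).π.app k₀ ≫
          pullback.snd (D.map k₀.hom) a = qX := by
        rw [show (pullbackCone D i₀ a c).π.app k₀ ≫ pullback.snd (D.map k₀.hom) a =
          pullback.snd (c.π.app i₀) a from pullback.lift_snd _ _ _]
        exact hsq.flip.isoPullback_hom_snd
      show pullback.snd (D.map k₀.hom) a ((pullbackCone D i₀ a c).π.app k₀
        (hsq.flip.isoPullback.hom x')) ∈ (W : Set X₀)
      have hx' := congrArg (fun r : X ⟶ X₀ ↦ r x') this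
      exact hx' ▸ h x')
  refine ⟨j, fun x ↦ ?_⟩
  let m : pullback f₀ (pullback.snd (D.map j.hom) g₀) ⟶ E.obj j :=
    pullback.lift (pullback.snd _ _ ≫ pullback.fst _ _) (pullback.fst _ _)
      (((Category.assoc _ _ _).trans (congrArg (pullback.snd f₀ (pullback.snd (D.map j.hom) g₀) ≫ ·)
        (pullback.condition (f := D.map j.hom) (g := g₀)))).trans
          (pullback.condition_assoc (f := f₀) (g := pullback.snd (D.map j.hom) g₀) g₀).symm)
  have hm : m ≫ E.map φ ≫ pullback.snd (D.map k₀.hom) a =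
      pullback.fst f₀ (pullback.snd (D.map j.hom) g₀) := by
    rw [show E.map φ ≫ pullback.snd (D.map k₀.hom) a = pullback.snd (D.map j.hom) a from
      pullback.lift_snd _ _ _]
    exact pullback.lift_snd _ _ _
  rw [← hm, Scheme.Hom.comp_apply, Scheme.Hom.comp_apply]
  by_contra hc'
  exact Set.eq_empty_iff_forall_notMem.1 hj (m x) hc'

include hc hY hX in
/-- If the base change to the limit is locally quasi-finite, so is some stage. -/
theorem exists_locallyQuasiFinite_stage [CompactSpace X₀] [LocallyOfFiniteType f₀]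
    [LocallyQuasiFinite f] :
    ∃ j : Over i₀, LocallyQuasiFinite (pullback.snd f₀ (pullback.snd (D.map j.hom) g₀)) := by
  have : LocallyOfFiniteType f := MorphismProperty.of_isPullback hX inferInstance
  obtain ⟨j, hj⟩ := exists_range_fst_subset hc hY hX f₀.quasiFiniteLocus fun x ↦
    (Groth.SchemeMorphisms.quasiFiniteAt_baseChange_iff f₀ qY qX f hX x).1 (f.quasiFiniteAt x)
  refine ⟨j, locallyQuasiFinite_iff_isDiscrete_preimage_singleton.2 fun y ↦
    ⟨discreteTopology_iff_isOpen_singleton.2 fun ⟨x, (hx : _ = y)⟩ ↦ ?_⟩⟩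
  subst hx
  let f' := pullback.snd f₀ (pullback.snd (D.map j.hom) g₀)
  have h1 := Scheme.Hom.quasiFiniteAt_iff_isOpen_singleton_asFiber.1
    ((Groth.SchemeMorphisms.quasiFiniteAt_baseChange_iff f₀ _ _ f' (IsPullback.of_hasPullback _ _) x).2 (hj x))
  rw [← (f'.fiberHomeo (f' x)).isOpen_image] at h1
  simpa [Scheme.Hom.asFiber] using h1

include hc hY hX in
/-- A bound on the fibre dimensions of the limit holds at some stage. -/
theorem exists_fibreDimAt_le_stage [CompactSpace X₀] [LocallyOfFiniteType f₀] (d : ℕ)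
    (hd : ∀ x, FlatMor.fibreDimAt f x ≤ d) :
    ∃ j : Over i₀, ∀ x,
      FlatMor.fibreDimAt (pullback.snd f₀ (pullback.snd (D.map j.hom) g₀)) x ≤ d := by
  obtain ⟨j, hj⟩ := exists_range_fst_subset hc hY hX
    ⟨_, Groth.FibreDim.isOpen_fibreDimAt_le f₀ d⟩ fun x ↦ by
      show FlatMor.fibreDimAt f₀ (qX.base x) ≤ d
      rw [← Groth.FibreDim.fibreDimAt_baseChange f₀ qY f qX hX]
      exact hd x
  refine ⟨j, fun x ↦ ?_⟩
  rw [Groth.FibreDim.fibreDimAt_baseChange f₀ _ _ _ (IsPullback.of_hasPullback f₀ _)]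
  exact hj x

end Groth.Limits
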