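import Groth.Agent.EGA43Valuative.DominatingDVR
import Mathlib.RingTheory.AlgebraicIndependent.TranscendenceBasis
import Mathlib.RingTheory.RingHom.EssFiniteType
import Mathlib.RingTheory.Polynomial.Basic
import Mathlib.FieldTheory.IntermediateField.Adjoin.Algebra

/-!
# Discrete valuation rings in finitely generated field extensions

A Noetherian local ring mapping to a field `L` which is essentially of finite type over it, such
that the maximal ideal does not map to zero, is dominated by a discrete valuation ring of `L`.
-/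

universe u

open IsLocalRing

namespace Groth.Limits

/-- The algebraic case. -/
theorem exists_dvr_of_isAlgebraic (R : Type u) [CommRing R] [IsDomain R]
    [IsNoetherianRing R] [IsLocalRing R] (L : Type u) [Field L] [Algebra R L]
    [FaithfulSMul R L] [Algebra.EssFiniteType R L] [Algebra.IsAlgebraic R L] (hR : ¬ IsField R) :
    ∃ V : ValuationSubring L, IsDiscreteValuationRing V ∧
      ∀ r : R, algebraMap R L r ∈ V ∧
        (r ∈ maximalIdeal R → ∀ v : L, v ∈ V → algebraMap R L r * v ≠ 1) := by
  letI : Algebra (FractionRing R) L := FractionRing.liftAlgebra R L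
  haveI : IsScalarTower R (FractionRing R) L := FractionRing.isScalarTower_liftAlgebra R L
  haveI : Algebra.EssFiniteType (FractionRing R) L := Algebra.EssFiniteType.of_comp R _ L
  haveI : Algebra.IsAlgebraic (FractionRing R) L :=
    (IsFractionRing.comap_isAlgebraic_iff (A := R) (K := FractionRing R) (C := L)).1 ‹_›
  haveI : Module.Finite (FractionRing R) L :=
    Algebra.finite_of_essFiniteType_of_isAlgebraic
  obtain ⟨C, M, hC', hCL, hM, hM0, hMR⟩ :=
    Groth.EGA43Val.exists_dvr_dominating_of_finite R (FractionRing R) hR L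
  haveI := hC'
  haveI := hCL
  let p : IsDedekindDomain.HeightOneSpectrum C := ⟨M, hM.isPrime, hM0⟩
  refine ⟨IsDedekindDomain.HeightOneSpectrum.valuationSubringAtPrime L p,
    Groth.EGA43Val.isDiscreteValuationRing_valuationSubringAtPrime p, fun r ↦ ⟨?_, ?_⟩⟩
  · refine ⟨algebraMap R C r, 1, M.primeCompl.one_mem, ?_⟩
    rw [map_one, inv_one, mul_one, ← IsScalarTower.algebraMap_apply R C L]
  · intro hr v hv heq
    obtain ⟨a, b, hb, rfl⟩ := hv
    have hrM : algebraMap R C r ∈ M := by
      rw [← Ideal.mem_comap, hMR]
      exact hr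
    apply hb
    have hb0 : algebraMap C L b ≠ 0 := fun h0 ↦ hb <| by
      rw [(IsFractionRing.injective C L) (h0.trans (map_zero _).symm)]
      exact M.zero_mem
    have : b = algebraMap R C r * a := by
      refine IsFractionRing.injective C L ?_
      rw [map_mul, ← IsScalarTower.algebraMap_apply R C L]
      field_simp at heq
      exact heq.symm
    rw [this]
    exact M.mul_mem_right _ hrM

/-- The case of a domain. -/
theorem exists_dvr_valuationSubring_of_injective (R : Type u) [CommRing R] [IsDomain R]
    [IsNoetherianRing R] [IsLocalRing R] (L : Type u) [Field L] [Algebra R L]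
    [FaithfulSMul R L] [Algebra.EssFiniteType R L] (hR : ¬ IsField R) :
    ∃ V : ValuationSubring L, IsDiscreteValuationRing V ∧
      ∀ r : R, algebraMap R L r ∈ V ∧
        (r ∈ maximalIdeal R → ∀ v : L, v ∈ V → algebraMap R L r * v ≠ 1) := by
  classical
  let B := Algebra.EssFiniteType.subalgebra R L
  haveI : Algebra.IsAlgebraic (Algebra.adjoin R (Algebra.EssFiniteType.finset R L : Set L)) L :=
    IsLocalization.isAlgebraic L (Algebra.EssFiniteType.submonoid R L)
  obtain ⟨t, hts, ht⟩ := exists_isTranscendenceBasis_subset (R := R)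
    (Algebra.EssFiniteType.finset R L : Set L)
  haveI : Finite t := ((Finset.finite_toSet _).subset hts).to_subtype
  let P : Ideal (MvPolynomial t R) := (maximalIdeal R).map MvPolynomial.C
  haveI : P.IsPrime := by
    rw [Ideal.isPrime_iff]
    have hd : IsDomain (MvPolynomial t R ⧸ P) :=
      (MvPolynomial.quotientEquivQuotientMvPolynomial (σ := t) (maximalIdeal R)).symm.toRingEquiv
        |>.toMulEquiv.isDomain
    exact Ideal.isPrime_iff.1 ((Ideal.Quotient.isDomain_iff_prime P).1 hd)
  let R' := Localization.AtPrime P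
  haveI : IsNoetherianRing R' :=
    IsLocalization.isNoetherianRing P.primeCompl R' inferInstance
  let φ : MvPolynomial t R →ₐ[R] L := MvPolynomial.aeval ((↑) : t → L)
  have hφ : Function.Injective φ := algebraicIndependent_iff_injective_aeval.1 ht.1
  have hu : ∀ y : P.primeCompl, IsUnit (φ.toRingHom y) := fun y ↦ by
    refine isUnit_iff_ne_zero.2 fun h ↦ y.2 ?_
    rw [(hφ (h.trans (map_zero φ).symm) : (y : MvPolynomial t R) = 0)]
    exact P.zero_mem
  let ψ : R' →+* L := IsLocalization.lift hu
  have hψφ : ∀ p, ψ (algebraMap _ R' p) = φ p := IsLocalization.lift_eq hu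
  have hψ : Function.Injective ψ :=
    (IsLocalization.lift_injective_iff (S := R') (hg := hu)).2 fun x y ↦
      ⟨fun h ↦ congrArg φ (IsLocalization.injective R'
        P.primeCompl_le_nonZeroDivisors h),
        fun h ↦ congrArg _ (hφ h)⟩
  letI algR' : Algebra R' L := ψ.toAlgebra
  have hC : ∀ r : R, ψ (algebraMap R R' r) = algebraMap R L r := fun r ↦ by
    rw [IsScalarTower.algebraMap_apply R (MvPolynomial t R) R', hψφ]
    exact φ.commutes r
  haveI : IsScalarTower R R' L := IsScalarTower.of_algebraMap_eq fun r ↦ (hC r).symm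
  haveI : FaithfulSMul R' L := (faithfulSMul_iff_algebraMap_injective R' L).2 hψ
  haveI : Algebra.EssFiniteType R' L := Algebra.EssFiniteType.of_comp R R' L
  haveI : Algebra.IsAlgebraic R' L := by
    let e := ht.1.aevalEquiv
    let f : Algebra.adjoin R (Set.range ((↑) : t → L)) →+* R' :=
      (algebraMap (MvPolynomial t R) R').comp e.symm.toRingHom
    haveI := ht.isAlgebraic
    refine Algebra.IsAlgebraic.ringHom_of_comp_eq f (RingHom.id L) ?_ Function.surjective_id ?_
    · exact (IsLocalization.injective R'
        P.primeCompl_le_nonZeroDivisors).comp e.symm.injective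
    · ext a
      have h1 := ht.1.algebraMap_aevalEquiv (e.symm a)
      rw [show ht.1.aevalEquiv (e.symm a) = a from e.apply_symm_apply a] at h1
      simp only [RingHom.comp_apply, RingHom.id_apply, f]
      rw [h1]
      exact hψφ _
  have hmem : ∀ r ∈ maximalIdeal R, algebraMap R R' r ∈ maximalIdeal R' := fun r hr ↦ by
    rw [IsScalarTower.algebraMap_apply R (MvPolynomial t R) R']
    exact (IsLocalization.AtPrime.to_map_mem_maximal_iff R' P _).2 (Ideal.mem_map_of_mem _ hr)
  have hR' : ¬ IsField R' := fun hf ↦ by
    rw [isField_iff_maximalIdeal_eq] at hf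
    refine hR (isField_iff_maximalIdeal_eq.2 (le_bot_iff.1 fun r hr ↦ ?_))
    have h0 := hmem r hr
    rw [hf, Ideal.mem_bot] at h0
    refine FaithfulSMul.algebraMap_injective R L ?_
    rw [← hC r, h0, map_zero, map_zero]
  obtain ⟨V, hV, hmemV⟩ := exists_dvr_of_isAlgebraic R' L hR'
  refine ⟨V, hV, fun r ↦ ⟨?_, fun hr v hv ↦ ?_⟩⟩
  · rw [← hC r]
    exact (hmemV _).1
  · rw [← hC r]
    exact (hmemV _).2 (hmem r hr) v hv

/-- A Noetherian local ring mapping to a field which is essentially of finite type over it, with
non-zero image of the maximal ideal, is dominated by a discrete valuation ring of the field. -/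
theorem exists_dvr_valuationSubring {O : Type u} [CommRing O] [IsNoetherianRing O] [IsLocalRing O]
    {L : Type u} [Field L] (φ : O →+* L) (hφ : φ.EssFiniteType)
    (h0 : ∃ r ∈ maximalIdeal O, φ r ≠ 0) :
    ∃ (V : ValuationSubring L) (hV : ∀ r, φ r ∈ V),
      IsDiscreteValuationRing V ∧ IsLocalHom (φ.codRestrict V.toSubring hV) := by
  let R := φ.range
  haveI : IsNoetherianRing R := isNoetherianRing_range φ
  haveI : IsLocalRing R := IsLocalRing.of_surjective' φ.rangeRestrict φ.rangeRestrict_surjective
  haveI hloc : IsLocalHom φ.rangeRestrict :=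
    IsLocalHom.of_surjective φ.rangeRestrict φ.rangeRestrict_surjective
  haveI : Algebra.EssFiniteType R L := by
    have : (algebraMap R L).EssFiniteType :=
      RingHom.EssFiniteType.of_comp φ.rangeRestrict (g := algebraMap R L) hφ
    rwa [RingHom.essFiniteType_algebraMap] at this
  haveI : FaithfulSMul R L := (faithfulSMul_iff_algebraMap_injective R L).2 Subtype.val_injective
  have hR : ¬ IsField R := by
    obtain ⟨r, hr, hr0⟩ := h0
    intro hf
    have hne : φ.rangeRestrict r ≠ 0 := fun h ↦ hr0 (congrArg Subtype.val h)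
    obtain ⟨b, hb⟩ := hf.mul_inv_cancel hne
    exact hr (hloc.map_nonunit r (IsUnit.of_mul_eq_one b hb))
  obtain ⟨V, hV, hmem⟩ := exists_dvr_valuationSubring_of_injective R L hR
  refine ⟨V, fun r ↦ (hmem (φ.rangeRestrict r)).1, hV, ⟨fun r hr ↦ ?_⟩⟩
  by_contra hu
  obtain ⟨v, hv⟩ := hr.exists_right_inv
  refine (hmem (φ.rangeRestrict r)).2 ?_ v v.2 (congrArg Subtype.val hv)
  exact fun h ↦ hu (hloc.map_nonunit r h)

end Groth.Limits
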