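import Groth.Agent.SpectralTopology.GlueModel
import Mathlib.AlgebraicGeometry.Morphisms.Affine
import Mathlib.AlgebraicGeometry.Morphisms.FiniteType

/-!
# Schemes and morphisms given by two charts
-/

set_option backward.isDefEq.respectTransparency false

universe u

open CategoryTheory Limits AlgebraicGeometry TopologicalSpace

namespace Groth.Limits

variable {X Y : Scheme.{u}}

/-- The cover of `X` by the images of two open immersions. -/
noncomputable def twoChartCover {A B : Scheme.{u}} (a : A ⟶ X) (b : B ⟶ X) [IsOpenImmersion a]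
    [IsOpenImmersion b] (h : ∀ x, (∃ y, a y = x) ∨ ∃ y, b y = x) : X.OpenCover :=
  X.openCoverOfIsOpenCover (fun t : Bool ↦ bif t then a.opensRange else b.opensRange) (by
    rw [IsOpenCover, iSup_bool_eq, eq_top_iff]
    exact fun x _ ↦ (h x).imp id id)

/-- A morphism is affine if it is so over the images of two charts of the target. -/
theorem isAffineHom_of_two (f : X ⟶ Y) {A A' B B' : Scheme.{u}} (a : A ⟶ Y) (b : B ⟶ Y)
    [IsOpenImmersion a] [IsOpenImmersion b] (a' : A' ⟶ X) (p : A' ⟶ A) (b' : B' ⟶ X) (q : B' ⟶ B)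
    (h : ∀ y, (∃ z, a z = y) ∨ ∃ z, b z = y) (ha : IsPullback a' p f a) (hb : IsPullback b' q f b)
    [IsAffineHom p] [IsAffineHom q] : IsAffineHom f := by
  refine IsZariskiLocalAtTarget.of_iSup_eq_top (P := @IsAffineHom)
    (fun t : Bool ↦ bif t then a.opensRange else b.opensRange) ?_ fun t ↦ ?_
  · rw [iSup_bool_eq, eq_top_iff]
    exact fun x _ ↦ (h x).imp id id
  · cases t
    · rw [cond_false, MorphismProperty.arrow_mk_iso_iff @IsAffineHom
        (morphismRestrictOpensRange f b)]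
      have : pullback.snd f b = hb.isoPullback.inv ≫ q := hb.isoPullback_inv_snd.symm
      rw [this]
      infer_instance
    · rw [cond_true, MorphismProperty.arrow_mk_iso_iff @IsAffineHom
        (morphismRestrictOpensRange f a)]
      have : pullback.snd f a = ha.isoPullback.inv ≫ p := ha.isoPullback_inv_snd.symm
      rw [this]
      infer_instance

/-- A morphism is locally of finite type if it is so on two charts of the source. -/
theorem locallyOfFiniteType_of_two (f : X ⟶ Y) {A B : Scheme.{u}} (a : A ⟶ X) (b : B ⟶ X)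
    [IsOpenImmersion a] [IsOpenImmersion b] (h : ∀ x, (∃ y, a y = x) ∨ ∃ y, b y = x)
    (ha : LocallyOfFiniteType (a ≫ f)) (hb : LocallyOfFiniteType (b ≫ f)) :
    LocallyOfFiniteType f := by
  refine IsZariskiLocalAtSource.of_openCover (P := @LocallyOfFiniteType) (twoChartCover a b h)
    fun t ↦ ?_
  cases t
  · show LocallyOfFiniteType (b.opensRange.ι ≫ f)
    rw [← Scheme.Hom.isoOpensRange_inv_comp b, Category.assoc]
    infer_instance
  · show LocallyOfFiniteType (a.opensRange.ι ≫ f)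
    rw [← Scheme.Hom.isoOpensRange_inv_comp a, Category.assoc]
    infer_instance

/-- Morphisms from two opens agreeing on their intersection glue. -/
theorem exists_glueTwo {U V : X.Opens} (hUV : U ⊔ V = ⊤) (a : U.toScheme ⟶ Y) (b : V.toScheme ⟶ Y)
    (h : X.homOfLE (inf_le_left : U ⊓ V ≤ U) ≫ a = X.homOfLE (inf_le_right : U ⊓ V ≤ V) ≫ b) :
    ∃ q : X ⟶ Y, U.ι ≫ q = a ∧ V.ι ≫ q = b := by
  let 𝒳 := Groth.SpectralTopology.twoCover U V hUV
  let m : ∀ x, 𝒳.X x ⟶ Y := fun x ↦ match x with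
    | true => a
    | false => b
  have key {T : Scheme.{u}} (p₁ : T ⟶ U.toScheme) (p₂ : T ⟶ V.toScheme)
      (hp : p₁ ≫ U.ι = p₂ ≫ V.ι) : p₁ ≫ a = p₂ ≫ b := by
    have hr : Set.range (p₁ ≫ U.ι) ⊆ Set.range (U ⊓ V).ι := by
      rintro _ ⟨z, rfl⟩
      rw [Scheme.Opens.range_ι]
      refine ⟨(p₁ z).2, ?_⟩
      rw [hp]
      exact (p₂ z).2
    let l := IsOpenImmersion.lift (U ⊓ V).ι (p₁ ≫ U.ι) hr
    have hl₁ : l ≫ X.homOfLE (inf_le_left : U ⊓ V ≤ U) = p₁ := by
      rw [← cancel_mono U.ι, Category.assoc, Scheme.homOfLE_ι, IsOpenImmersion.lift_fac]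
    have hl₂ : l ≫ X.homOfLE (inf_le_right : U ⊓ V ≤ V) = p₂ := by
      rw [← cancel_mono V.ι, Category.assoc, Scheme.homOfLE_ι, IsOpenImmersion.lift_fac, hp]
    rw [← hl₁, ← hl₂, Category.assoc, Category.assoc, h]
  refine ⟨Scheme.Cover.glueMorphisms 𝒳 m (fun x y ↦ ?_),
    Scheme.Cover.ι_glueMorphisms 𝒳 m _ true, Scheme.Cover.ι_glueMorphisms 𝒳 m _ false⟩
  obtain rfl | rfl := x.eq_false_or_eq_true <;> obtain rfl | rfl := y.eq_false_or_eq_true
  · have : pullback.fst (𝒳.f true) (𝒳.f true) = pullback.snd (𝒳.f true) (𝒳.f true) := by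
      rw [← cancel_mono U.ι]; exact pullback.condition
    rw [this]
  · exact key _ _ pullback.condition
  · exact (key _ _ pullback.condition.symm).symm
  · have : pullback.fst (𝒳.f false) (𝒳.f false) = pullback.snd (𝒳.f false) (𝒳.f false) := by
      rw [← cancel_mono V.ι]; exact pullback.condition
    rw [this]

/-- Morphisms agreeing on two opens covering the source are equal. -/
theorem hom_ext_two {U V : X.Opens} (hUV : U ⊔ V = ⊤) {f g : X ⟶ Y} (hU : U.ι ≫ f = U.ι ≫ g)
    (hV : V.ι ≫ f = V.ι ≫ g) : f = g :=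
  Scheme.hom_ext_of_forall f g fun x ↦
    (show x ∈ U ⊔ V from hUV.symm ▸ trivial).elim (fun h ↦ ⟨U, h, hU⟩) (fun h ↦ ⟨V, h, hV⟩)

/-- A morphism to the spectrum is given by its map on global sections. -/
theorem eq_toSpecΓ_SpecMap {R : CommRingCat.{u}} (m : X ⟶ Spec R) :
    m = X.toSpecΓ ≫ Spec.map ((Scheme.ΓSpecIso R).inv ≫ m.appTop) := by
  apply ext_of_isAffine
  simp [Scheme.toSpecΓ_appTop]

end Groth.Limits
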