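import Groth.Agent.Limits.ApproxStage
import Mathlib.AlgebraicGeometry.AffineTransitionLimit
import Mathlib.CategoryTheory.Filtered.Final
import Mathlib.CategoryTheory.Limits.Final

/-!
# Morphisms as limits of morphisms between systems of schemes of finite type over `ℤ`
-/

set_option backward.isDefEq.respectTransparency false
set_option backward.defeqAttrib.useBackward true

universe u

open CategoryTheory Limits AlgebraicGeometry Opposite

namespace Groth.Limits

instance isLocallyNoetherian_specULiftInt :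
    IsLocallyNoetherian (Spec (CommRingCat.of (ULift.{u} ℤ))) := inferInstance

theorem locallyOfFinitePresentation_from {X : Scheme.{u}}
    [LocallyOfFiniteType (Limits.IsTerminal.from specULiftZIsTerminal X)] :
    LocallyOfFinitePresentation (Limits.IsTerminal.from specULiftZIsTerminal X) :=
  LocallyOfFinitePresentation.iff_locallyOfFiniteType.2 ‹_›

variable {X S : Scheme.{u}}

/-- The structure map of a system to `Spec ℤ`. -/
noncomputable def ZSystem.structureMap (B : ZSystem X) :
    B.D ⟶ (Functor.const _).obj (Spec (CommRingCat.of (ULift.{u} ℤ))) where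
  app i := specULiftZIsTerminal.from _
  naturality _ _ _ := specULiftZIsTerminal.hom_ext _ _

/-- A morphism from the limit to a scheme of finite type over `ℤ` factors through a stage. -/
theorem ZSystem.exists_hom (B : ZSystem X) {Y : Scheme.{u}}
    [LocallyOfFiniteType (Limits.IsTerminal.from specULiftZIsTerminal Y)] (a : X ⟶ Y) :
    ∃ (j : B.I) (g : B.D.obj (op j) ⟶ Y), B.π.app (op j) ≫ g = a := by
  have : LocallyOfFinitePresentation (Limits.IsTerminal.from specULiftZIsTerminal Y) :=
    locallyOfFinitePresentation_from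
  have : ∀ {i j : B.Iᵒᵖ} (g : i ⟶ j), IsAffineHom (B.D.map g) := fun g ↦ B.affine _ _ g
  have := B.compact
  obtain ⟨⟨j⟩, g, hg, -⟩ := Scheme.exists_π_app_comp_eq_of_locallyOfFinitePresentation B.D
    B.structureMap (Limits.IsTerminal.from specULiftZIsTerminal Y) B.cone B.isLimit a
    (by ext i : 2; exact specULiftZIsTerminal.hom_ext _ _)
  exact ⟨j, g, hg⟩

/-- Two morphisms from a stage that agree on the limit agree at a later stage. -/
theorem ZSystem.exists_hom_eq (B : ZSystem X) {Y : Scheme.{u}}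
    [LocallyOfFiniteType (Limits.IsTerminal.from specULiftZIsTerminal Y)] {j : B.I}
    (a b : B.D.obj (op j) ⟶ Y) (h : B.π.app (op j) ≫ a = B.π.app (op j) ≫ b) :
    ∃ (k : B.I) (hk : j ≤ k), B.trans hk ≫ a = B.trans hk ≫ b := by
  have : ∀ {i j : B.Iᵒᵖ} (g : i ⟶ j), IsAffineHom (B.D.map g) := fun g ↦ B.affine _ _ g
  have := B.compact
  obtain ⟨⟨k⟩, hk, e⟩ := Scheme.exists_hom_comp_eq_comp_of_locallyOfFiniteType B.D
    B.structureMap (Limits.IsTerminal.from specULiftZIsTerminal Y) B.cone B.isLimit (i := op j) a b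
    (specULiftZIsTerminal.hom_ext _ _) (specULiftZIsTerminal.hom_ext _ _) h
  refine ⟨k, leOfHom hk.unop, ?_⟩
  rwa [show B.trans (leOfHom hk.unop) = B.D.map hk from congrArg B.D.map (Subsingleton.elim _ _)]

instance (A : ZSystem X) (i : A.Iᵒᵖ) :
    LocallyOfFiniteType (Limits.IsTerminal.from specULiftZIsTerminal (A.D.obj i)) :=
  A.locallyOfFiniteType i

/-- An index for the system of morphisms approximating `f`. -/
structure HomIndex (f : X ⟶ S) (B : ZSystem X) (A : ZSystem S) where
  /-- The index of the target. -/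
  i : A.I
  /-- The index of the source. -/
  j : B.I
  /-- The morphism at the stages. -/
  g : B.D.obj (op j) ⟶ A.D.obj (op i)
  w : B.π.app (op j) ≫ g = f ≫ A.π.app (op i)

namespace HomIndex

variable {f : X ⟶ S} {B : ZSystem X} {A : ZSystem S}

instance : Preorder (HomIndex f B A) where
  le a b := ∃ (hi : a.i ≤ b.i) (hj : a.j ≤ b.j), b.g ≫ A.trans hi = B.trans hj ≫ a.g
  le_refl a := ⟨le_rfl, le_rfl, by simp⟩
  le_trans a b c := by
    rintro ⟨hi, hj, h⟩ ⟨hi', hj', h'⟩
    exact ⟨hi.trans hi', hj.trans hj', by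
      rw [← A.trans_comp hi hi', ← Category.assoc, h', Category.assoc, h, ← Category.assoc,
        B.trans_comp]⟩

theorem exists_index (i : A.I) (j : B.I) : ∃ c : HomIndex f B A, c.i = i ∧ j ≤ c.j := by
  obtain ⟨j₀, g, hg⟩ := B.exists_hom (f ≫ A.π.app (op i))
  obtain ⟨m, h₁, h₂⟩ := exists_ge_ge j j₀
  exact ⟨⟨i, m, B.trans h₂ ≫ g, by rw [← Category.assoc, B.π_trans, hg]⟩, rfl, h₁⟩

theorem exists_ge (a : HomIndex f B A) (c : HomIndex f B A) (hi : a.i ≤ c.i) (hj : a.j ≤ c.j) :
    ∃ (k : B.I) (hk : c.j ≤ k),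
      (B.trans hk ≫ c.g) ≫ A.trans hi = B.trans (hj.trans hk) ≫ a.g := by
  obtain ⟨k, hk, e⟩ := B.exists_hom_eq (c.g ≫ A.trans hi) (B.trans hj ≫ a.g) (by
    rw [← Category.assoc, c.w, Category.assoc, A.π_trans, ← Category.assoc, B.π_trans, a.w])
  refine ⟨k, hk, ?_⟩
  rw [Category.assoc, e, ← Category.assoc, B.trans_comp]

instance : IsDirected (HomIndex f B A) (fun a b => a ≤ b) where
  directed a b := by
    obtain ⟨i, hai, hbi⟩ := exists_ge_ge a.i b.i
    obtain ⟨j, haj, hbj⟩ := exists_ge_ge a.j b.j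
    obtain ⟨c, rfl, hc⟩ := exists_index (f := f) i j
    obtain ⟨k₁, hk₁, e₁⟩ := exists_ge a c hai (haj.trans hc)
    obtain ⟨k₂, hk₂, e₂⟩ := exists_ge b c hbi (hbj.trans hc)
    obtain ⟨k, h₁, h₂⟩ := exists_ge_ge k₁ k₂
    refine ⟨⟨c.i, k, B.trans (hk₁.trans h₁) ≫ c.g,
      by rw [← Category.assoc, B.π_trans, c.w]⟩, ⟨hai, (haj.trans hc).trans (hk₁.trans h₁), ?_⟩,
      ⟨hbi, (hbj.trans hc).trans (hk₁.trans h₁), ?_⟩⟩
    · show (B.trans (hk₁.trans h₁) ≫ c.g) ≫ A.trans hai = _
      refine (congrArg (fun t ↦ (t ≫ c.g) ≫ A.trans hai)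
        (B.trans_comp hk₁ h₁).symm).trans ?_
      rw [Category.assoc, Category.assoc, ← Category.assoc (B.trans hk₁),
        e₁, ← Category.assoc, B.trans_comp]
    · show (B.trans (hk₂.trans h₂) ≫ c.g) ≫ A.trans hbi = _
      refine (congrArg (fun t ↦ (t ≫ c.g) ≫ A.trans hbi)
        (B.trans_comp hk₂ h₂).symm).trans ?_
      rw [Category.assoc, Category.assoc, ← Category.assoc (B.trans hk₂),
        e₂, ← Category.assoc, B.trans_comp]

instance : Nonempty (HomIndex f B A) :=
  let ⟨c, _⟩ := exists_index (f := f) (Classical.arbitrary A.I) (Classical.arbitrary B.I)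
  ⟨c⟩

variable (f B A) in
/-- The projection to the indices of the source. -/
def toSource : (HomIndex f B A)ᵒᵖ ⥤ B.Iᵒᵖ :=
  (Monotone.functor (f := fun c : HomIndex f B A ↦ c.j) fun a b (h : a ≤ b) ↦ Exists.fst (Exists.snd h)).op

variable (f B A) in
/-- The projection to the indices of the target. -/
def toTarget : (HomIndex f B A)ᵒᵖ ⥤ A.Iᵒᵖ :=
  (Monotone.functor (f := fun c : HomIndex f B A ↦ c.i) fun a b (h : a ≤ b) ↦ Exists.fst h).op

instance initial_toSource : (toSource f B A).Initial := by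
  refine Functor.initial_of_exists_of_isCofiltered _ (fun d ↦ ?_)
    fun {d c} s s' ↦ ⟨c, 𝟙 _, Subsingleton.elim _ _⟩
  obtain ⟨c, -, hc⟩ := exists_index (f := f) (Classical.arbitrary A.I) d.unop
  exact ⟨op c, ⟨(homOfLE hc).op⟩⟩

instance initial_toTarget : (toTarget f B A).Initial := by
  refine Functor.initial_of_exists_of_isCofiltered _ (fun d ↦ ?_)
    fun {d c} s s' ↦ ⟨c, 𝟙 _, Subsingleton.elim _ _⟩
  obtain ⟨c, hc, -⟩ := exists_index (f := f) d.unop (Classical.arbitrary B.I)
  exact ⟨op c, ⟨(homOfLE hc.ge).op⟩⟩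

variable (f B A) in
/-- The morphisms at the stages. -/
noncomputable def natTrans : toSource f B A ⋙ B.D ⟶ toTarget f B A ⋙ A.D where
  app a := a.unop.g
  naturality a b h := (Exists.snd (Exists.snd (leOfHom h.unop))).symm

end HomIndex

end Groth.Limits
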