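import Groth.Agent.Limits.ApproxStep

/-!
# The limit of the extended system
-/

set_option backward.isDefEq.respectTransparency false

universe u

open CategoryTheory Limits AlgebraicGeometry Opposite TopologicalSpace

namespace Groth.Limits

namespace StepData

variable {S : Scheme.{u}} {V U : S.Opens} {A : ZSystem V.toScheme} (d : StepData V U A)

/-- The projection on `U`. -/
noncomputable def uProj (j : d.Idx) : U.toScheme ⟶ Spec (d.ring j) := chartMap U (d.ε j)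

theorem resLE_q (j : d.Idx) :
    (A.π.app (op j.k.1)).resLE (d.opn j.k) (V.ι ⁻¹ᵁ U) (d.preimage_opn j.k).ge ≫ d.q j =
      (V.ι ∣_ U) ≫ d.uProj j := by
  rw [← Scheme.Hom.resLE_eq_morphismRestrict, q, uProj, chartMap_naturality, chartMap_naturality,
    ← Scheme.Hom.app_eq_appLE]
  exact congrArg (chartMap (V.ι ⁻¹ᵁ U)) (d.res_ε j).symm

theorem proj_condition (j : d.Idx) :
    S.homOfLE (inf_le_left : V ⊓ U ≤ V) ≫ A.π.app (op j.k.1) ≫ pushout.inl (d.opn j.k).ι (d.q j) =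
      S.homOfLE (inf_le_right : V ⊓ U ≤ U) ≫ d.uProj j ≫ pushout.inr (d.opn j.k).ι (d.q j) := by
  have hr : Set.range (V ⊓ U : S.Opens).ι ⊆ Set.range ((V.ι ⁻¹ᵁ U).ι ≫ V.ι) := by
    rw [Scheme.Opens.range_ι]
    rintro x ⟨hxV, hxU⟩
    exact ⟨⟨⟨x, hxV⟩, hxU⟩, rfl⟩
  let e := IsOpenImmersion.lift ((V.ι ⁻¹ᵁ U).ι ≫ V.ι) (V ⊓ U : S.Opens).ι hr
  have he : e ≫ (V.ι ⁻¹ᵁ U).ι ≫ V.ι = (V ⊓ U : S.Opens).ι := IsOpenImmersion.lift_fac _ _ hr
  have h₁ : S.homOfLE (inf_le_left : V ⊓ U ≤ V) = e ≫ (V.ι ⁻¹ᵁ U).ι := by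
    rw [← cancel_mono V.ι, Scheme.homOfLE_ι, Category.assoc, he]
  have h₂ : S.homOfLE (inf_le_right : V ⊓ U ≤ U) = e ≫ (V.ι ∣_ U) := by
    rw [← cancel_mono U.ι, Scheme.homOfLE_ι, Category.assoc, morphismRestrict_ι, he]
  rw [h₁, h₂, Category.assoc, Category.assoc, ← reassoc_of% d.resLE_q j, ← pushout.condition,
    Scheme.Hom.resLE_comp_ι_assoc]

variable (hVU : V ⊔ U = ⊤)

/-- The projections of the extended system. -/
noncomputable def proj (j : d.Idx) : S ⟶ d.obj j :=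
  (exists_glueTwo hVU _ _ (d.proj_condition j)).choose

theorem ι_proj_left (j : d.Idx) :
    V.ι ≫ d.proj hVU j = A.π.app (op j.k.1) ≫ pushout.inl _ _ :=
  (exists_glueTwo hVU _ _ (d.proj_condition j)).choose_spec.1

theorem ι_proj_right (j : d.Idx) : U.ι ≫ d.proj hVU j = d.uProj j ≫ pushout.inr _ _ :=
  (exists_glueTwo hVU _ _ (d.proj_condition j)).choose_spec.2

theorem proj_mapStep {j j' : d.Idx} (h : j ≤ j') :
    d.proj hVU j' ≫ d.mapStep h = d.proj hVU j := by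
  refine hom_ext_two hVU ?_ ?_
  · rw [reassoc_of% d.ι_proj_left hVU j', d.ι_proj_left, inl_mapStep]
    exact (Category.assoc _ _ _).symm.trans (congrArg (· ≫ _) (A.π_trans (Idx.k_le h)))
  · rw [reassoc_of% d.ι_proj_right hVU j', d.ι_proj_right, inr_mapStep, uProj, uProj, chartMap,
      chartMap, Category.assoc, Category.assoc, ← Spec.map_comp_assoc, ringMap_ε]

theorem mem_or_mem {V U : S.Opens} (h : V ⊔ U = ⊤) (x : S) : x ∈ V ∨ x ∈ U :=
  show x ∈ V ⊔ U from h.symm ▸ trivial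

theorem proj_preimage_inl (j : d.Idx) :
    d.proj hVU j ⁻¹ᵁ (pushout.inl (d.opn j.k).ι (d.q j)).opensRange = V := by
  ext x
  constructor
  · intro hx
    refine (mem_or_mem hVU x).elim id fun hxU ↦ ?_
    obtain ⟨z, hz⟩ := hx
    replace hz : pushout.inl (d.opn j.k).ι (d.q j) z =
        pushout.inr (d.opn j.k).ι (d.q j) (d.uProj j ⟨x, hxU⟩) :=
      hz.trans (congrArg (fun p : U.toScheme ⟶ d.obj j ↦ p ⟨x, hxU⟩) (d.ι_proj_right hVU j))
    obtain ⟨w, -, hw⟩ := (Groth.SpectralTopology.pushout_inl_eq_inr_iff _ _).1 hz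
    obtain ⟨l, hl⟩ := (d.mem_range_q_iff _).1 ⟨w, hw⟩
    have h2 : (⟨x, hxU⟩ : U.toScheme) ∈ d.uProj j ⁻¹ᵁ PrimeSpectrum.basicOpen (d.F j l) := hl
    rw [uProj, preimage_chartMap, ε_F] at h2
    exact d.basicOpen_le l h2
  · intro hx
    exact ⟨A.π.app (op j.k.1) ⟨x, hx⟩,
      (congrArg (fun p : V.toScheme ⟶ d.obj j ↦ p ⟨x, hx⟩) (d.ι_proj_left hVU j)).symm⟩

theorem proj_preimage_inr (j : d.Idx) :
    d.proj hVU j ⁻¹ᵁ (pushout.inr (d.opn j.k).ι (d.q j)).opensRange = U := by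
  ext x
  constructor
  · intro hx
    refine (mem_or_mem hVU x).elim (fun hxV ↦ ?_) id
    obtain ⟨z, hz⟩ := hx
    replace hz : pushout.inr (d.opn j.k).ι (d.q j) z =
        pushout.inl (d.opn j.k).ι (d.q j) (A.π.app (op j.k.1) ⟨x, hxV⟩) :=
      hz.trans (congrArg (fun p : V.toScheme ⟶ d.obj j ↦ p ⟨x, hxV⟩) (d.ι_proj_left hVU j))
    obtain ⟨w, hw, -⟩ := (Groth.SpectralTopology.pushout_inl_eq_inr_iff _ _).1 hz.symm
    have h2 : (⟨x, hxV⟩ : V.toScheme) ∈ A.π.app (op j.k.1) ⁻¹ᵁ d.opn j.k := by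
      show A.π.app (op j.k.1) ⟨x, hxV⟩ ∈ d.opn j.k
      rw [← hw]
      exact w.2
    rw [d.preimage_opn j.k] at h2
    exact h2
  · intro hx
    exact ⟨d.uProj j ⟨x, hx⟩,
      (congrArg (fun p : U.toScheme ⟶ d.obj j ↦ p ⟨x, hx⟩) (d.ι_proj_right hVU j)).symm⟩

/-- The cone of the extended system. -/
noncomputable def projNat : (Functor.const d.Idxᵒᵖ).obj S ⟶ d.diagram where
  app j := d.proj hVU j.unop
  naturality _ _ a :=
    (Category.id_comp _).trans (d.proj_mapStep hVU (leOfHom a.unop)).symm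

variable [QuasiSeparatedSpace S]

/-- Every section on `U` is the first component of an element of some stage. -/
theorem exists_ring_ε (a : Γ(S, U)) : ∃ (j : d.Idx) (z : d.ring j), d.ε j z = a := by
  let k : d.K := ⟨d.i₁, le_rfl⟩
  obtain ⟨i, h, b, hb⟩ := A.exists_section (d.opn k) (d.preimage_opn k) (res (V := V) a)
  let k' : d.K := ⟨i, h⟩
  have hle : d.opn k' ≤ A.pullOpen h (d.opn k) := (A.pullOpen_pullOpen k.2 h d.T₁).ge
  let b' : Γ(A.D.obj (op i), d.opn k') := (A.D.obj (op i)).presheaf.map (homOfLE hle).op b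
  have hab : (a, b') ∈ d.pairs k' := by
    rw [mem_pairs, ← hb]
    show _ = d.ρ k' ((A.D.obj (op i)).presheaf.map (homOfLE hle).op b)
    rw [← ConcreteCategory.comp_apply, Scheme.Hom.map_appLE]
    rfl
  obtain ⟨j, hj, hjmem⟩ := d.exists_idx k' {(a, b')} (by simpa using hab)
  exact ⟨j, ⟨d.pairMap hj (a, b'), hjmem _ (by simp)⟩, rfl⟩

/-- Elements with the same first component agree at a later stage. -/
theorem exists_ringMap_eq {j j' : d.Idx} (z : d.ring j) (z' : d.ring j') (h : d.ε j z = d.ε j' z') :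
    ∃ (m : d.Idx) (hm : j ≤ m) (hm' : j' ≤ m), d.ringMap hm z = d.ringMap hm' z' := by
  obtain ⟨n, hn, hn'⟩ := d.exists_upper j j'
  let y := d.ringMap hn z
  let y' := d.ringMap hn' z'
  have hρ : d.ρ n.k y.1.2 = d.ρ n.k y'.1.2 := by
    rw [← d.mem_pairs.1 (n.good.le y.2), ← d.mem_pairs.1 (n.good.le y'.2)]
    exact congrArg _ (show y.1.1 = y'.1.1 from h)
  obtain ⟨i, hi, heq⟩ := A.exists_section_eq (d.opn n.k) (d.preimage_opn n.k) _ _ hρ
  obtain ⟨m₀, hm₀⟩ := d.exists_idx_ge i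
  obtain ⟨m, hnm, hm₀m⟩ := d.exists_upper n m₀
  refine ⟨m, hn.trans hnm, hn'.trans hnm, Subtype.ext ?_⟩
  rw [ringMap_apply, ringMap_apply, ← d.pairMap_pairMap (Idx.k_le hn) (Idx.k_le hnm),
    ← d.pairMap_pairMap (Idx.k_le hn') (Idx.k_le hnm)]
  show d.pairMap _ y.1 = d.pairMap _ y'.1
  have him : i ≤ m.k.1 := hm₀.trans (Idx.k_le hm₀m)
  let ki : d.K := ⟨i, n.k.2.trans hi⟩
  have hki : n.k ≤ ki := hi
  have hkm : ki ≤ m.k := him
  have htr : d.tr hki y.1.2 = d.tr hki y'.1.2 := by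
    simp only [tr, Scheme.Hom.appLE, ConcreteCategory.comp_apply]
    exact congrArg _ heq
  refine Prod.ext (show y.1.1 = y'.1.1 from h) ?_
  show d.tr (Idx.k_le hnm) y.1.2 = d.tr (Idx.k_le hnm) y'.1.2
  rw [← d.tr_tr hki hkm y.1.2, ← d.tr_tr hki hkm y'.1.2, htr]

theorem hom_ext_proj {P : Scheme.{u}} (m₁ m₂ : P ⟶ S)
    (h : ∀ j, m₁ ≫ d.proj hVU j = m₂ ≫ d.proj hVU j) : m₁ = m₂ := by
  obtain ⟨j₀⟩ : Nonempty d.Idx := inferInstance
  have hV : m₂ ⁻¹ᵁ V = m₁ ⁻¹ᵁ V := by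
    rw [← d.proj_preimage_inl hVU j₀, ← Scheme.Hom.comp_preimage, ← Scheme.Hom.comp_preimage, h]
  have hU : m₂ ⁻¹ᵁ U = m₁ ⁻¹ᵁ U := by
    rw [← d.proj_preimage_inr hVU j₀, ← Scheme.Hom.comp_preimage, ← Scheme.Hom.comp_preimage, h]
  refine hom_ext_two (U := m₁ ⁻¹ᵁ V) (V := m₁ ⁻¹ᵁ U) ?_ ?_ ?_
  · rw [← Scheme.Hom.preimage_sup, hVU, Scheme.Hom.preimage_top]
  · let r₁ := m₁.resLE V (m₁ ⁻¹ᵁ V) le_rfl
    let r₂ := m₂.resLE V (m₁ ⁻¹ᵁ V) hV.ge
    suffices hr : r₁ = r₂ by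
      rw [← m₁.resLE_comp_ι (U := V) (V := m₁ ⁻¹ᵁ V) le_rfl,
        ← m₂.resLE_comp_ι (U := V) (V := m₁ ⁻¹ᵁ V) hV.ge]
      exact congrArg (· ≫ V.ι) hr
    refine A.isLimit.hom_ext fun ⟨i⟩ ↦ ?_
    obtain ⟨j, hj⟩ := d.exists_idx_ge i
    have key : r₁ ≫ A.π.app (op j.k.1) = r₂ ≫ A.π.app (op j.k.1) := by
      rw [← cancel_mono (pushout.inl (d.opn j.k).ι (d.q j)), Category.assoc, Category.assoc,
        ← d.ι_proj_left hVU j, Scheme.Hom.resLE_comp_ι_assoc, Scheme.Hom.resLE_comp_ι_assoc, h j]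
    show r₁ ≫ A.π.app (op i) = r₂ ≫ A.π.app (op i)
    rw [← A.π_trans hj]
    exact (Category.assoc _ _ _).symm.trans ((congrArg (· ≫ _) key).trans (Category.assoc _ _ _))
  · let r₁ := m₁.resLE U (m₁ ⁻¹ᵁ U) le_rfl
    let r₂ := m₂.resLE U (m₁ ⁻¹ᵁ U) hU.ge
    suffices hr : r₁ = r₂ by
      rw [← m₁.resLE_comp_ι (U := U) (V := m₁ ⁻¹ᵁ U) le_rfl,
        ← m₂.resLE_comp_ι (U := U) (V := m₁ ⁻¹ᵁ U) hU.ge]
      exact congrArg (· ≫ U.ι) hr
    rw [← cancel_mono d.isAffineOpen.isoSpec.hom, IsAffineOpen.isoSpec_hom]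
    apply ext_of_isAffine
    refine (cancel_epi (Scheme.ΓSpecIso Γ(S, U)).inv).1 ?_
    ext a
    obtain ⟨j, z, rfl⟩ := d.exists_ring_ε a
    have hj : (r₁ ≫ U.toSpecΓ) ≫ Spec.map (d.ε j) = (r₂ ≫ U.toSpecΓ) ≫ Spec.map (d.ε j) := by
      rw [Category.assoc, Category.assoc, ← chartMap, ← uProj,
        ← cancel_mono (pushout.inr (d.opn j.k).ι (d.q j)), Category.assoc, Category.assoc,
        ← d.ι_proj_right hVU j, Scheme.Hom.resLE_comp_ι_assoc, Scheme.Hom.resLE_comp_ι_assoc, h j]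
    have h3 := congrArg (fun g ↦ ((Scheme.ΓSpecIso (d.ring j)).inv ≫ g) z)
      (congrArg Scheme.Hom.appTop hj)
    simp only [Scheme.Hom.comp_appTop, ← Scheme.ΓSpecIso_inv_naturality_assoc] at h3
    exact h3

theorem exists_lift_cone (s : Cone d.diagram) :
    ∃ m : s.pt ⟶ S, ∀ j : d.Idx, m ≫ d.proj hVU j = s.π.app (op j) := by
  classical
  obtain ⟨j₀⟩ : Nonempty d.Idx := inferInstance
  have hw : ∀ {j j' : d.Idx} (h : j ≤ j'),
      s.π.app (op j') ≫ d.mapStep h = s.π.app (op j) := fun h ↦ s.w (homOfLE h).op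
  let PV : s.pt.Opens := s.π.app (op j₀) ⁻¹ᵁ (pushout.inl (d.opn j₀.k).ι (d.q j₀)).opensRange
  let PU : s.pt.Opens := s.π.app (op j₀) ⁻¹ᵁ (pushout.inr (d.opn j₀.k).ι (d.q j₀)).opensRange
  have hPV : ∀ j : d.Idx,
      s.π.app (op j) ⁻¹ᵁ (pushout.inl (d.opn j.k).ι (d.q j)).opensRange = PV := fun j ↦ by
    obtain ⟨n, h, h'⟩ := d.exists_upper j j₀
    have e : ∀ {i : d.Idx} (hi : i ≤ n),
        s.π.app (op i) ⁻¹ᵁ (pushout.inl (d.opn i.k).ι (d.q i)).opensRange =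
          s.π.app (op n) ⁻¹ᵁ (pushout.inl (d.opn n.k).ι (d.q n)).opensRange := fun hi ↦ by
      rw [← d.mapStep_preimage_inl hi, ← Scheme.Hom.comp_preimage]
      exact congrArg (· ⁻¹ᵁ _) (hw hi).symm
    exact (e h).trans (e h').symm
  have hPU : ∀ j : d.Idx,
      s.π.app (op j) ⁻¹ᵁ (pushout.inr (d.opn j.k).ι (d.q j)).opensRange = PU := fun j ↦ by
    obtain ⟨n, h, h'⟩ := d.exists_upper j j₀
    have e : ∀ {i : d.Idx} (hi : i ≤ n),
        s.π.app (op i) ⁻¹ᵁ (pushout.inr (d.opn i.k).ι (d.q i)).opensRange =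
          s.π.app (op n) ⁻¹ᵁ (pushout.inr (d.opn n.k).ι (d.q n)).opensRange := fun hi ↦ by
      rw [← d.mapStep_preimage_inr hi, ← Scheme.Hom.comp_preimage]
      exact congrArg (· ⁻¹ᵁ _) (hw hi).symm
    exact (e h).trans (e h').symm
  have hrV : ∀ j : d.Idx, Set.range (PV.ι ≫ s.π.app (op j)) ⊆
      Set.range (pushout.inl (d.opn j.k).ι (d.q j)) := fun j ↦ by
    rintro _ ⟨x, rfl⟩
    exact (hPV j).ge x.2
  have hrU : ∀ j : d.Idx, Set.range (PU.ι ≫ s.π.app (op j)) ⊆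
      Set.range (pushout.inr (d.opn j.k).ι (d.q j)) := fun j ↦ by
    rintro _ ⟨x, rfl⟩
    exact (hPU j).ge x.2
  -- the part over `V`
  let a : ∀ j : d.Idx, PV.toScheme ⟶ A.D.obj (op j.k.1) := fun j ↦
    IsOpenImmersion.lift (pushout.inl _ _) (PV.ι ≫ s.π.app (op j)) (hrV j)
  have ha : ∀ j, a j ≫ pushout.inl _ _ = PV.ι ≫ s.π.app (op j) := fun j ↦
    IsOpenImmersion.lift_fac _ _ _
  have ha' : ∀ {j j' : d.Idx} (h : j ≤ j'), a j' ≫ A.trans (Idx.k_le h) = a j := fun {j j'} h ↦ by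
    rw [← cancel_mono (pushout.inl (d.opn j.k).ι (d.q j)), ha j, Category.assoc, ← d.inl_mapStep h,
      reassoc_of% ha j', hw h]
  choose J hJ using d.exists_idx_ge
  have ha'' : ∀ (i : A.I) (j : d.Idx) (h : i ≤ j.k.1),
      a j ≫ A.trans h = a (J i) ≫ A.trans (hJ i) := fun i j h ↦ by
    obtain ⟨n, h₁, h₂⟩ := d.exists_upper j (J i)
    rw [← ha' h₁, ← ha' h₂, Category.assoc, Category.assoc, A.trans_comp, A.trans_comp]
  let cV : Cone A.D :=
    { pt := PV.toScheme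
      π :=
        { app := fun i ↦ a (J i.unop) ≫ A.trans (hJ i.unop)
          naturality := fun i i' g ↦ by
            refine (Category.id_comp _).trans ?_
            rw [Category.assoc,
              show A.D.map g = A.trans (leOfHom g.unop) from congrArg A.D.map (Subsingleton.elim _ _),
              A.trans_comp]
            exact (ha'' i'.unop (J i.unop) ((leOfHom g.unop).trans (hJ i.unop))).symm } }
  let mV : PV.toScheme ⟶ V.toScheme := A.isLimit.lift cV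
  have hmV : ∀ j, (mV ≫ V.ι) ≫ d.proj hVU j = PV.ι ≫ s.π.app (op j) := fun j ↦ by
    have h1 : mV ≫ A.π.app (op j.k.1) = a j := by
      refine (A.isLimit.fac cV (op j.k.1)).trans ?_
      refine (ha'' j.k.1 j le_rfl).symm.trans ?_
      rw [A.trans_refl, Category.comp_id]
    rw [Category.assoc, d.ι_proj_left hVU j, reassoc_of% h1, ha]
  -- the part over `U`
  let b : ∀ j : d.Idx, PU.toScheme ⟶ Spec (d.ring j) := fun j ↦
    IsOpenImmersion.lift (pushout.inr _ _) (PU.ι ≫ s.π.app (op j)) (hrU j)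
  have hb : ∀ j, b j ≫ pushout.inr _ _ = PU.ι ≫ s.π.app (op j) := fun j ↦
    IsOpenImmersion.lift_fac _ _ _
  have hb' : ∀ {j j' : d.Idx} (h : j ≤ j'), b j' ≫ Spec.map (d.ringMap h) = b j := fun {j j'} h ↦ by
    rw [← cancel_mono (pushout.inr (d.opn j.k).ι (d.q j)), hb j, Category.assoc, ← d.inr_mapStep h,
      reassoc_of% hb j', hw h]
  let β : ∀ j : d.Idx, d.ring j ⟶ Γ(PU.toScheme, ⊤) := fun j ↦
    (Scheme.ΓSpecIso (d.ring j)).inv ≫ (b j).appTop
  have hβ : ∀ {j j' : d.Idx} (h : j ≤ j') (z : d.ring j), β j' (d.ringMap h z) = β j z :=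
    fun {j j'} h z ↦ by
      show β j' (d.ringMap h z) = _
      simp only [β, ← hb' h, Scheme.Hom.comp_appTop, ← Scheme.ΓSpecIso_inv_naturality_assoc]
      rfl
  have hβ' : ∀ {j j' : d.Idx} (z : d.ring j) (z' : d.ring j'), d.ε j z = d.ε j' z' →
      β j z = β j' z' := fun z z' h ↦ by
    obtain ⟨m, hm, hm', e⟩ := d.exists_ringMap_eq z z' h
    rw [← hβ hm z, ← hβ hm' z', e]
  choose Ja za hza using d.exists_ring_ε
  let ψ₀ : Γ(S, U) → Γ(PU.toScheme, ⊤) := fun a ↦ β (Ja a) (za a)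
  have hψ₀ : ∀ (j : d.Idx) (z : d.ring j), ψ₀ (d.ε j z) = β j z := fun j z ↦
    hβ' _ _ (hza _)
  let ψ : Γ(S, U) ⟶ Γ(PU.toScheme, ⊤) := CommRingCat.ofHom
    { toFun := ψ₀
      map_one' := by rw [← map_one (d.ε j₀).hom]; exact (hψ₀ j₀ 1).trans (map_one _)
      map_zero' := by rw [← map_zero (d.ε j₀).hom]; exact (hψ₀ j₀ 0).trans (map_zero _)
      map_add' := fun x y ↦ by
        obtain ⟨n, hn, hn'⟩ := d.exists_upper (Ja x) (Ja y)
        have e : d.ε n (d.ringMap hn (za x) + d.ringMap hn' (za y)) = x + y := by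
          rw [map_add, ← ConcreteCategory.comp_apply, ← ConcreteCategory.comp_apply, ringMap_ε,
            ringMap_ε, hza, hza]
        rw [← e, hψ₀, map_add, hβ, hβ]
      map_mul' := fun x y ↦ by
        obtain ⟨n, hn, hn'⟩ := d.exists_upper (Ja x) (Ja y)
        have e : d.ε n (d.ringMap hn (za x) * d.ringMap hn' (za y)) = x * y := by
          rw [map_mul, ← ConcreteCategory.comp_apply, ← ConcreteCategory.comp_apply, ringMap_ε,
            ringMap_ε, hza, hza]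
        rw [← e, hψ₀, map_mul, hβ, hβ] }
  let mU : PU.toScheme ⟶ U.toScheme :=
    PU.toScheme.toSpecΓ ≫ Spec.map ψ ≫ d.isAffineOpen.isoSpec.inv
  have hmU : ∀ j, (mU ≫ U.ι) ≫ d.proj hVU j = PU.ι ≫ s.π.app (op j) := fun j ↦ by
    have h1 : mU ≫ d.uProj j = b j := by
      have h2 : d.ε j ≫ ψ = β j := CommRingCat.hom_ext (RingHom.ext fun z ↦ hψ₀ j z)
      rw [uProj, chartMap, ← IsAffineOpen.isoSpec_hom d.isAffineOpen]
      simp only [mU, Category.assoc, Iso.inv_hom_id_assoc, ← Spec.map_comp, h2]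
      exact (eq_toSpecΓ_SpecMap (b j)).symm
    rw [Category.assoc, d.ι_proj_right hVU j, reassoc_of% h1, hb]
  -- glueing
  have hcov : PV ⊔ PU = ⊤ := by
    rw [eq_top_iff]
    intro x _
    exact (d.exists_eq j₀ (s.π.app (op j₀) x)).imp id id
  obtain ⟨m, hm₁, hm₂⟩ := exists_glueTwo hcov (mV ≫ V.ι) (mU ≫ U.ι)
    (d.hom_ext_proj hVU _ _ fun j ↦ by
      simp only [Category.assoc] at hmV hmU ⊢
      rw [hmV, hmU, Scheme.homOfLE_ι_assoc, Scheme.homOfLE_ι_assoc])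
  exact ⟨m, fun j ↦ hom_ext_two hcov (by rw [reassoc_of% hm₁]; simpa using hmV j)
    (by rw [reassoc_of% hm₂]; simpa using hmU j)⟩

/-- The extended cone is a limit. -/
noncomputable def isLimitProj : IsLimit (Cone.mk S (d.projNat hVU)) where
  lift s := (d.exists_lift_cone hVU s).choose
  fac s j := (d.exists_lift_cone hVU s).choose_spec j.unop
  uniq s m hm := d.hom_ext_proj hVU _ _ fun j ↦
    (hm (op j)).trans ((d.exists_lift_cone hVU s).choose_spec j).symm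

/-- The extended system. -/
noncomputable def system : ZSystem S where
  I := d.Idx
  D := d.diagram
  π := d.projNat hVU
  isLimit := d.isLimitProj hVU
  affine _ _ a := d.isAffineHom_mapStep (leOfHom a.unop)
  compact j := d.compactSpace_obj j.unop
  locallyOfFiniteType j := d.locallyOfFiniteType_obj j.unop

/-- The extension. -/
noncomputable def extension : ZExtension V.ι A (d.system hVU) where
  α := ⟨fun j ↦ j.k.1, fun _ _ h ↦ Idx.k_le h⟩
  ψ j := pushout.inl (d.opn j.k).ι (d.q j)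
  isOpenImmersion j := inferInstance
  isPullback_trans h := d.isPullback_inl h
  isPullback_π j := IsOpenImmersion.isPullback _ _ _ _ (d.ι_proj_left hVU j)
    ((d.proj_preimage_inl hVU j).trans (Scheme.Opens.opensRange_ι V).symm)

end StepData

end Groth.Limits
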