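import Groth.Agent.Limits.ApproxStage
import Groth.Agent.Limits.ApproxChart

/-!
# The rings of the stages of the extension step
-/

set_option backward.isDefEq.respectTransparency false

universe u

open CategoryTheory Limits AlgebraicGeometry Opposite TopologicalSpace

namespace Groth.Limits

theorem bijective_ι_app {S : Scheme.{u}} (V W : S.Opens) (h : W ≤ V) :
    Function.Bijective (V.ι.app W) := by
  have he : V.ι ''ᵁ V.ι ⁻¹ᵁ W = W := by
    rw [Scheme.Hom.image_preimage_eq_opensRange_inf, Scheme.Opens.opensRange_ι, inf_eq_right.2 h]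
  rw [Scheme.Opens.ι_app]
  have : IsIso (S.presheaf.map (homOfLE (x := V.ι ''ᵁ V.ι ⁻¹ᵁ W) he.le).op) := by
    rw [show homOfLE (x := V.ι ''ᵁ V.ι ⁻¹ᵁ W) he.le = eqToHom he from Subsingleton.elim _ _]
    infer_instance
  exact ConcreteCategory.bijective_of_isIso _

/-- Sections of an affine open of a scheme of finite type over `ℤ`. -/
theorem exists_finset_adjoin_eq_top {X : Scheme.{u}}
    [LocallyOfFiniteType (Limits.IsTerminal.from specULiftZIsTerminal X)] {W : X.Opens}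
    (hW : IsAffineOpen W) : ∃ s : Finset Γ(X, W), Algebra.adjoin ℤ (s : Set Γ(X, W)) = ⊤ := by
  have h1 := (Limits.IsTerminal.from specULiftZIsTerminal X).finiteType_appLE
    (isAffineOpen_top _) hW (by simp)
  have h2 : ((Scheme.ΓSpecIso (CommRingCat.of (ULift.{u} ℤ))).inv.hom.comp
      (algebraMap ℤ (ULift.{u} ℤ))).FiniteType := by
    refine RingHom.FiniteType.of_surjective _ ?_
    exact (ConcreteCategory.bijective_of_isIso (Scheme.ΓSpecIso _).inv).2.comp
      (fun x ↦ ⟨x.down, ULift.ext _ _ (by simp)⟩)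
  have h3 := h1.comp h2
  rw [RingHom.eq_intCast' (RingHom.comp _ _)] at h3
  have h4 : Algebra.FiniteType ℤ Γ(X, W) :=
    RingHom.finiteType_algebraMap.1 (by rwa [RingHom.eq_intCast' (algebraMap ℤ Γ(X, W))])
  exact h4.out

theorem appLE_of_eq_id {X : Scheme.{u}} {f : X ⟶ X} (hf : f = 𝟙 X) {O : X.Opens}
    (e : O ≤ f ⁻¹ᵁ O) (b : Γ(X, O)) : f.appLE O O e b = b := by
  subst hf
  simp only [Scheme.Hom.appLE, Scheme.Hom.id_app, Category.id_comp]
  exact congrArg (fun f => f b) (X.presheaf.map_id (op O))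

theorem presheaf_map_map {X : Scheme.{u}} {O O' O'' : X.Opens} (i : op O ⟶ op O') (j : op O' ⟶ op O'')
    (k : op O ⟶ op O'') (s : Γ(X, O)) :
    X.presheaf.map j (X.presheaf.map i s) = X.presheaf.map k s := by
  rw [← ConcreteCategory.comp_apply, ← Functor.map_comp]
  rfl

namespace StepData

variable {S : Scheme.{u}} {V U : S.Opens} {A : ZSystem V.toScheme} (d : StepData V U A)

/-- The indices above the stage of the data. -/
abbrev K : Type u := {i : A.I // d.i₁ ≤ i}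

/-- The open of a stage. -/
noncomputable abbrev opn (k : d.K) : (A.D.obj (op k.1)).Opens := A.pullOpen k.2 d.T₁

theorem preimage_opn (k : d.K) : A.π.app (op k.1) ⁻¹ᵁ d.opn k = V.ι ⁻¹ᵁ U :=
  (A.preimage_pullOpen k.2 d.T₁).trans d.preimage_T₁

/-- Restriction of sections from `U`. -/
noncomputable abbrev res : Γ(S, U) ⟶ Γ(V.toScheme, V.ι ⁻¹ᵁ U) := V.ι.app U

/-- Pullback of sections from a stage. -/
noncomputable abbrev ρ (k : d.K) : Γ(A.D.obj (op k.1), d.opn k) ⟶ Γ(V.toScheme, V.ι ⁻¹ᵁ U) :=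
  (A.π.app (op k.1)).appLE (d.opn k) (V.ι ⁻¹ᵁ U) (d.preimage_opn k).ge

/-- The functions at a stage. -/
noncomputable def sec (k : d.K) (l : Fin d.n) : Γ(A.D.obj (op k.1), d.opn k) :=
  A.pullSection k.2 d.T₁ (d.g l)

theorem ρ_sec (k : d.K) (l : Fin d.n) : d.ρ k (d.sec k l) = res (d.f l) :=
  (A.appLE_pullSection k.2 d.T₁ d.preimage_T₁ (d.g l)).trans (d.res_eq l)

theorem isAffineOpen_basicOpen (k : d.K) (l : Fin d.n) :
    IsAffineOpen ((A.D.obj (op k.1)).basicOpen (d.sec k l)) := by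
  rw [sec, ← A.pullOpen_basicOpen]
  exact (d.affine l).preimage _

theorem opn_le (k : d.K) : d.opn k ≤ ⨆ l, (A.D.obj (op k.1)).basicOpen (d.sec k l) := by
  intro x hx
  obtain ⟨l, hl⟩ := Opens.mem_iSup.1 (d.cover_g hx)
  refine Opens.mem_iSup.2 ⟨l, ?_⟩
  rw [sec, ← A.pullOpen_basicOpen]
  exact hl

/-- Transition of sections. -/
noncomputable def tr {k k' : d.K} (h : k ≤ k') :
    Γ(A.D.obj (op k.1), d.opn k) ⟶ Γ(A.D.obj (op k'.1), d.opn k') :=
  (A.trans h).appLE (d.opn k) (d.opn k') (A.pullOpen_pullOpen k.2 h d.T₁).ge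

theorem ρ_tr {k k' : d.K} (h : k ≤ k') (b : Γ(A.D.obj (op k.1), d.opn k)) :
    d.ρ k' (d.tr h b) = d.ρ k b :=
  appLE_appLE (A.π_trans h) _ _ _ b

theorem tr_sec {k k' : d.K} (h : k ≤ k') (l : Fin d.n) : d.tr h (d.sec k l) = d.sec k' l := by
  rw [tr, sec, sec, ZSystem.pullSection, ZSystem.pullSection,
    (A.trans k.2).app_eq_appLE, (A.trans k'.2).app_eq_appLE]
  exact appLE_appLE (A.trans_comp k.2 h) _ _ _ (d.g l)

theorem tr_tr {k k' k'' : d.K} (h : k ≤ k') (h' : k' ≤ k'')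
    (b : Γ(A.D.obj (op k.1), d.opn k)) : d.tr h' (d.tr h b) = d.tr (h.trans h') b :=
  appLE_appLE (A.trans_comp h h') _ _ _ b

theorem tr_refl (k : d.K) (b : Γ(A.D.obj (op k.1), d.opn k)) : d.tr (le_refl k) b = b :=
  appLE_of_eq_id (A.trans_refl k.1) _ b

/-- The ring of compatible pairs, as a set. -/
def Rel (k : d.K) (z : Γ(S, U) × Γ(A.D.obj (op k.1), d.opn k)) : Prop :=
  res z.1 = d.ρ k z.2

/-- The subalgebra of compatible pairs. -/
noncomputable def pairs (k : d.K) : Subalgebra ℤ (Γ(S, U) × Γ(A.D.obj (op k.1), d.opn k)) :=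
  subalgebraOfSubring
    (((res (V := V) (U := U)).hom.comp (RingHom.fst _ _)).eqLocus
      ((d.ρ k).hom.comp (RingHom.snd _ _)))

theorem mem_pairs {k : d.K} {z : Γ(S, U) × Γ(A.D.obj (op k.1), d.opn k)} :
    z ∈ d.pairs k ↔ res z.1 = d.ρ k z.2 := Iff.rfl

/-- The map of pairs along a transition. -/
noncomputable def pairMap {k k' : d.K} (h : k ≤ k') :
    Γ(S, U) × Γ(A.D.obj (op k.1), d.opn k) →ₐ[ℤ] Γ(S, U) × Γ(A.D.obj (op k'.1), d.opn k') :=
  ((RingHom.id _).prodMap (d.tr h).hom).toIntAlgHom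

theorem pairMap_apply {k k' : d.K} (h : k ≤ k') (z : Γ(S, U) × Γ(A.D.obj (op k.1), d.opn k)) :
    d.pairMap h z = (z.1, d.tr h z.2) := rfl

theorem pairMap_mem {k k' : d.K} (h : k ≤ k') {z : Γ(S, U) × Γ(A.D.obj (op k.1), d.opn k)}
    (hz : z ∈ d.pairs k) : d.pairMap h z ∈ d.pairs k' := by
  rw [mem_pairs] at hz ⊢
  exact hz.trans (d.ρ_tr h z.2).symm

theorem pairMap_pairMap {k k' k'' : d.K} (h : k ≤ k') (h' : k' ≤ k'')
    (z : Γ(S, U) × Γ(A.D.obj (op k.1), d.opn k)) :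
    d.pairMap h' (d.pairMap h z) = d.pairMap (h.trans h') z := by
  rw [pairMap_apply, pairMap_apply, pairMap_apply, tr_tr]

/-- The distinguished pairs. -/
noncomputable def gen (k : d.K) (l : Fin d.n) : Γ(S, U) × Γ(A.D.obj (op k.1), d.opn k) :=
  (d.f l, d.sec k l)

theorem gen_mem (k : d.K) (l : Fin d.n) : d.gen k l ∈ d.pairs k :=
  d.mem_pairs.2 (d.ρ_sec k l).symm

theorem pairMap_gen {k k' : d.K} (h : k ≤ k') (l : Fin d.n) :
    d.pairMap h (d.gen k l) = d.gen k' l := by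
  rw [pairMap_apply, gen, gen, tr_sec]

/-- Restriction to the `l`-th basic open of a stage. -/
noncomputable abbrev loc (k : d.K) (l : Fin d.n) :
    Γ(A.D.obj (op k.1), d.opn k) ⟶ Γ(A.D.obj (op k.1), (A.D.obj (op k.1)).basicOpen (d.sec k l)) :=
  (A.D.obj (op k.1)).presheaf.map (homOfLE ((A.D.obj (op k.1)).basicOpen_le (d.sec k l))).op

theorem preimage_basicOpen_f (l : Fin d.n) :
    V.ι ⁻¹ᵁ S.basicOpen (d.f l) = V.toScheme.basicOpen (res (d.f l)) :=
  Scheme.preimage_basicOpen _ _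

section

variable [QuasiSeparatedSpace S] (hV : IsCompact (V : Set S)) (hU : IsAffineOpen U)

omit [QuasiSeparatedSpace S] in
include hU in
/-- Pairs vanishing on a basic open are killed by a power of the distinguished pair. -/
theorem exists_pow_mul_eq_zero (k : d.K) (l : Fin d.n)
    {z : Γ(S, U) × Γ(A.D.obj (op k.1), d.opn k)} (hz : z ∈ d.pairs k)
    (h0 : d.loc k l z.2 = 0) : ∃ n : ℕ, d.gen k l ^ n * z = 0 := by
  obtain ⟨n₁, hn₁⟩ := exists_pow_mul_eq_zero_of_res_basicOpen_eq_zero_of_isCompact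
    (A.D.obj (op k.1)) (A.isCompact_open (d.opn k)) z.2 (d.sec k l) h0
  let a := d.f l ^ n₁ * z.1
  have ha : res (V := V) a = 0 := by
    rw [show a = d.f l ^ n₁ * z.1 from rfl, map_mul, map_pow, d.mem_pairs.1 hz, ← d.ρ_sec k l,
      ← map_pow, ← map_mul, hn₁, map_zero]
  have hres : S.presheaf.map (homOfLE (S.basicOpen_le (d.f l))).op a = 0 := by
    refine (bijective_ι_app V _ (d.basicOpen_le l)).1 ?_
    rw [map_zero, ← ConcreteCategory.comp_apply, V.ι.naturality, ConcreteCategory.comp_apply]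
    erw [ha]
    exact map_zero _
  obtain ⟨n₂, hn₂⟩ := exists_pow_mul_eq_zero_of_res_basicOpen_eq_zero_of_isCompact
    S hU.isCompact a (d.f l) hres
  refine ⟨n₂ + n₁, Prod.ext ?_ ?_⟩
  · simp only [Prod.fst_mul, Prod.pow_fst, gen, Prod.fst_zero]
    rw [pow_add, mul_assoc]
    exact hn₂
  · simp only [Prod.snd_mul, Prod.pow_snd, gen, Prod.snd_zero]
    rw [pow_add, mul_assoc, hn₁, mul_zero]

include hV hU in
/-- Every section on a basic open lifts, up to a power, to a pair. -/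
theorem exists_lift (k : d.K) (l : Fin d.n)
    (x : Γ(A.D.obj (op k.1), (A.D.obj (op k.1)).basicOpen (d.sec k l))) :
    ∃ z ∈ d.pairs k, ∃ n : ℕ, d.loc k l z.2 = x * d.loc k l (d.sec k l) ^ n := by
  have := isLocalization_basicOpen_of_qcqs (A.isCompact_open (d.opn k))
    (.of_quasiSeparatedSpace _) (d.sec k l)
  obtain ⟨⟨b, _, N, rfl⟩, hb⟩ := IsLocalization.surj (Submonoid.powers (d.sec k l)) x
  rw [RingHom.algebraMap_toAlgebra, map_pow] at hb
  -- move `b` to the affine open `U`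
  let e : V.ι ⁻¹ᵁ S.basicOpen (d.f l) ≤ V.ι ⁻¹ᵁ U :=
    Scheme.Hom.preimage_mono _ (S.basicOpen_le _)
  obtain ⟨y, hy⟩ := (bijective_ι_app V _ (d.basicOpen_le l)).2
    (V.toScheme.presheaf.map (homOfLE e).op (d.ρ k b))
  have := hU.isLocalization_basicOpen (d.f l)
  obtain ⟨⟨a, _, m, rfl⟩, ha⟩ := IsLocalization.surj (Submonoid.powers (d.f l)) y
  rw [RingHom.algebraMap_toAlgebra, map_pow] at ha
  have hT : IsCompact ((V.ι ⁻¹ᵁ U : V.toScheme.Opens) : Set V.toScheme) := by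
    refine V.ι.isOpenEmbedding.isEmbedding.isCompact_iff.2 ?_
    convert QuasiSeparatedSpace.inter_isCompact _ _ U.2 hU.isCompact V.2 hV using 1
    rw [Scheme.Hom.coe_preimage, Set.image_preimage_eq_inter_range, Scheme.Opens.range_ι]
    rfl
  have : QuasiSeparatedSpace V.toScheme := .of_isOpenEmbedding V.ι.isOpenEmbedding
  -- `res a` and `f ^ m * ρ b` agree on the basic open of `res f`
  have hagree : V.toScheme.presheaf.map (homOfLE e).op (res a) =
      V.toScheme.presheaf.map (homOfLE e).op (res (d.f l) ^ m * d.ρ k b) := by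
    have hnat : ∀ s : Γ(S, U), V.toScheme.presheaf.map (homOfLE e).op (res (V := V) s) =
        V.ι.app (S.basicOpen (d.f l)) (S.presheaf.map (homOfLE (S.basicOpen_le (d.f l))).op s) := by
      intro s
      rw [← ConcreteCategory.comp_apply, ← ConcreteCategory.comp_apply, V.ι.naturality]
      rfl
    rw [hnat, map_mul, map_pow, ← hy, hnat, ← map_pow, ← map_mul, mul_comm _ y]
    exact congrArg _ ha.symm
  let T := V.ι ⁻¹ᵁ U
  obtain ⟨p, hp⟩ : ∃ p, res (V := V) (d.f l) ^ p * res a =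
      res (d.f l) ^ p * (res (d.f l) ^ m * d.ρ k b) := by
    refine exists_of_res_eq_of_qcqs (U := T) hT (.of_quasiSeparatedSpace _) ?_
    have h2 := congrArg (V.toScheme.presheaf.map
      (eqToHom (d.preimage_basicOpen_f l).symm).op) hagree
    have hle : V.toScheme.basicOpen (res (V := V) (d.f l)) ≤ T := V.toScheme.basicOpen_le _
    rw [presheaf_map_map _ _ (homOfLE hle).op, presheaf_map_map _ _ (homOfLE hle).op] at h2
    exact h2
  refine ⟨(d.f l ^ p * a, d.sec k l ^ (p + m) * b), ?_, N + (p + m), ?_⟩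
  · rw [mem_pairs, map_mul, map_pow, hp, map_mul, map_pow, ← d.ρ_sec k l, ← mul_assoc, ← pow_add]
  · rw [map_mul, map_pow, pow_add (d.loc k l (d.sec k l)) N (p + m), ← mul_assoc,
      mul_comm _ (d.loc k l b)]
    exact congrArg (· * _) hb.symm

end

/-- A subalgebra of pairs whose chart is an open immersion. -/
structure IsGood (k : d.K) (s : Subalgebra ℤ (Γ(S, U) × Γ(A.D.obj (op k.1), d.opn k))) : Prop where
  fg : s.FG
  le : s ≤ d.pairs k
  gen_mem : ∀ l, d.gen k l ∈ s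
  surj : ∀ l (x : Γ(A.D.obj (op k.1), (A.D.obj (op k.1)).basicOpen (d.sec k l))),
    ∃ z ∈ s, ∃ n : ℕ, d.loc k l z.2 = x * d.loc k l (d.sec k l) ^ n

variable [QuasiSeparatedSpace S]

/-- Good subalgebras contain any given finite set of pairs. -/
theorem exists_isGood (hV : IsCompact (V : Set S)) (hU : IsAffineOpen U) (k : d.K)
    (E : Finset (Γ(S, U) × Γ(A.D.obj (op k.1), d.opn k))) (hE : ∀ e ∈ E, e ∈ d.pairs k) :
    ∃ s, d.IsGood k s ∧ ∀ e ∈ E, e ∈ s := by
  classical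
  have hft := A.locallyOfFiniteType (op k.1)
  choose G hG using fun l ↦ exists_finset_adjoin_eq_top (d.isAffineOpen_basicOpen k l)
  choose z hz n hn using fun l (x : Γ(A.D.obj (op k.1), _)) ↦ d.exists_lift hV hU k l x
  let E' := (E ∪ Finset.univ.image (d.gen k)) ∪ Finset.univ.biUnion fun l ↦ (G l).image (z l)
  have hE' : ∀ e ∈ E', e ∈ d.pairs k := fun e he ↦ by
    simp only [E', Finset.mem_union, Finset.mem_image, Finset.mem_univ, true_and,
      Finset.mem_biUnion] at he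
    rcases he with (he | ⟨l, rfl⟩) | ⟨l, x, -, rfl⟩
    exacts [hE e he, d.gen_mem k l, hz l x]
  have hmem : ∀ e ∈ E', e ∈ Algebra.adjoin ℤ (E' : Set (Γ(S, U) × Γ(A.D.obj (op k.1), d.opn k))) :=
    fun e he ↦ Algebra.subset_adjoin he
  have hgen : ∀ l, d.gen k l ∈ Algebra.adjoin ℤ (E' : Set _) := fun l ↦
    hmem _ (Finset.mem_union_left _ (Finset.mem_union_right _ (by simp)))
  have hE'' : ∀ e ∈ E, e ∈ E' := fun e he ↦ by
    simp only [E', Finset.mem_union]
    exact Or.inl (Or.inl he)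
  have hzE : ∀ l x, x ∈ G l → z l x ∈ E' := fun l x hx ↦ by
    simp only [E', Finset.mem_union, Finset.mem_biUnion, Finset.mem_univ, true_and,
      Finset.mem_image]
    exact Or.inr ⟨l, x, hx, rfl⟩
  have hle : Algebra.adjoin ℤ (E' : Set (Γ(S, U) × Γ(A.D.obj (op k.1), d.opn k))) ≤ d.pairs k :=
    Algebra.adjoin_le (fun e he ↦ hE' e he)
  have hfg : (Algebra.adjoin ℤ (E' : Set (Γ(S, U) × Γ(A.D.obj (op k.1), d.opn k)))).FG :=
    Subalgebra.fg_adjoin_finset E'
  clear_value E'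
  refine ⟨_, ⟨hfg, hle, hgen, fun l x ↦ ?_⟩, fun e he ↦ hmem e (hE'' e he)⟩
  have hx : x ∈ Algebra.adjoin ℤ (G l : Set _) := hG l ▸ trivial
  induction hx using Algebra.adjoin_induction with
  | mem x hx =>
    exact ⟨z l x, hmem _ (hzE l x hx), n l x, hn l x⟩
  | algebraMap r =>
    refine ⟨algebraMap ℤ _ r, Subalgebra.algebraMap_mem _ r, 0, ?_⟩
    simp
  | add x y _ _ hx hy =>
    obtain ⟨z₁, hz₁, n₁, h₁⟩ := hx
    obtain ⟨z₂, hz₂, n₂, h₂⟩ := hy
    refine ⟨z₁ * d.gen k l ^ n₂ + z₂ * d.gen k l ^ n₁, add_mem (mul_mem hz₁ (pow_mem (hgen l) _))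
      (mul_mem hz₂ (pow_mem (hgen l) _)), n₁ + n₂, ?_⟩
    simp only [Prod.snd_add, Prod.snd_mul, Prod.pow_snd, gen, map_add, map_mul, map_pow, h₁, h₂]
    ring
  | mul x y _ _ hx hy =>
    obtain ⟨z₁, hz₁, n₁, h₁⟩ := hx
    obtain ⟨z₂, hz₂, n₂, h₂⟩ := hy
    refine ⟨z₁ * z₂, mul_mem hz₁ hz₂, n₁ + n₂, ?_⟩
    simp only [Prod.snd_mul, map_mul, h₁, h₂]
    ring

end StepData

end Groth.Limits
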