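import Groth.Agent.Limits.ApproxSystem
import Mathlib.AlgebraicGeometry.AffineTransitionLimit
import Mathlib.Data.Fintype.Order

/-!
# Sections and affine opens of a limit at finite stages
-/

set_option backward.isDefEq.respectTransparency false
set_option backward.defeqAttrib.useBackward true

universe u

open CategoryTheory Limits AlgebraicGeometry Opposite TopologicalSpace

namespace Groth.Limits

/-- `appLE` of a restricted morphism on global sections. -/
theorem topIso_resLE_appTop {X Y : Scheme.{u}} (f : X ⟶ Y) (U : Y.Opens) (V : X.Opens)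
    (e : V ≤ f ⁻¹ᵁ U) (t : Γ(U.toScheme, ⊤)) :
    V.topIso.hom ((f.resLE U V e).appTop t) = f.appLE U V e (U.topIso.hom t) := by
  rw [← ConcreteCategory.comp_apply, ← ConcreteCategory.comp_apply, Scheme.Hom.appTop,
    Scheme.Hom.resLE_app_top]
  simp

/-- `appLE` along a composite, on elements. -/
theorem appLE_appLE {X Y Z : Scheme.{u}} {f : X ⟶ Y} {g : Y ⟶ Z} {h : X ⟶ Z} (hfg : f ≫ g = h)
    {U : Z.Opens} {V : Y.Opens} {W : X.Opens} (e₁ : V ≤ g ⁻¹ᵁ U) (e₂ : W ≤ f ⁻¹ᵁ V)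
    (e : W ≤ h ⁻¹ᵁ U) (s : Γ(Z, U)) :
    f.appLE V W e₂ (g.appLE U V e₁ s) = h.appLE U W e s := by
  subst hfg
  rw [← ConcreteCategory.comp_apply, Scheme.Hom.appLE_comp_appLE]

namespace ZSystem

variable {X : Scheme.{u}} (A : ZSystem X)

instance : IsDirectedOrder A.I := A.directed

instance {i j : A.Iᵒᵖ} (a : i ⟶ j) : IsAffineHom (A.D.map a) := A.affine i j a

/-- The inverse image of an open of a stage in a later stage. -/
noncomputable abbrev pullOpen {i j : A.I} (h : i ≤ j) (O : (A.D.obj (op i)).Opens) :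
    (A.D.obj (op j)).Opens :=
  A.trans h ⁻¹ᵁ O

theorem preimage_pullOpen {i j : A.I} (h : i ≤ j) (O : (A.D.obj (op i)).Opens) :
    A.π.app (op j) ⁻¹ᵁ A.pullOpen h O = A.π.app (op i) ⁻¹ᵁ O := by
  rw [pullOpen, ← Scheme.Hom.comp_preimage]
  exact congrArg (· ⁻¹ᵁ O) (A.π_trans h)

theorem pullOpen_pullOpen {i j k : A.I} (h : i ≤ j) (h' : j ≤ k) (O : (A.D.obj (op i)).Opens) :
    A.pullOpen h' (A.pullOpen h O) = A.pullOpen (h.trans h') O := by
  rw [pullOpen, pullOpen, ← Scheme.Hom.comp_preimage, A.trans_comp]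

theorem isCompact_open {i : A.Iᵒᵖ} (O : (A.D.obj i).Opens) : IsCompact (O : Set (A.D.obj i)) :=
  NoetherianSpace.isCompact _

theorem le_of_hom {i : A.I} (k : Over (op i)) : i ≤ k.left.unop :=
  leOfHom k.hom.unop

theorem map_hom {i : A.I} (k : Over (op i)) : A.D.map k.hom = A.trans (le_of_hom A k) :=
  congrArg A.D.map (Subsingleton.elim _ _)

/-- A section over the preimage of an open comes from a later stage. -/
theorem exists_section {i : A.I} (O : (A.D.obj (op i)).Opens) {Q : X.Opens}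
    (hQ : A.π.app (op i) ⁻¹ᵁ O = Q) (b : Γ(X, Q)) :
    ∃ (j : A.I) (h : i ≤ j) (z : Γ(A.D.obj (op j), A.pullOpen h O)),
      (A.π.app (op j)).appLE (A.pullOpen h O) Q
        ((A.preimage_pullOpen h O).trans hQ).ge z = b := by
  subst hQ
  have (k : Over (op i)) : CompactSpace ((opensDiagram A.D (op i) O).obj k) :=
    isCompact_iff_compactSpace.mp (A.isCompact_open _)
  have (k : Over (op i)) : QuasiSeparatedSpace ((opensDiagram A.D (op i) O).obj k) :=
    (isQuasiSeparated_iff_quasiSeparatedSpace _ (A.D.map _ ⁻¹ᵁ _).2).mp (.of_quasiSeparatedSpace _)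
  obtain ⟨k, t, ht⟩ := exists_appTop_π_eq_of_isLimit _ _
    (isLimitOpensCone A.D A.cone A.isLimit (op i) O) ((A.π.app (op i) ⁻¹ᵁ O).topIso.inv b)
  refine ⟨k.left.unop, A.le_of_hom k,
    (A.D.obj k.left).presheaf.map (eqToHom (by rw [pullOpen, ← A.map_hom k])).op
      ((A.D.map k.hom ⁻¹ᵁ O).topIso.hom t), ?_⟩
  have key := congrArg (A.π.app (op i) ⁻¹ᵁ O).topIso.hom ht
  rw [← ConcreteCategory.comp_apply, Iso.inv_hom_id] at key
  refine Eq.trans ?_ key.symm
  refine Eq.trans ?_ (topIso_resLE_appTop (A.π.app k.left) _ _ _ t).symm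
  rw [← ConcreteCategory.comp_apply, Scheme.Hom.map_appLE]

/-- Two sections agreeing on the limit agree at a later stage. -/
theorem exists_section_eq {i : A.I} (O : (A.D.obj (op i)).Opens) {Q : X.Opens}
    (hQ : A.π.app (op i) ⁻¹ᵁ O = Q) (a b : Γ(A.D.obj (op i), O))
    (hab : (A.π.app (op i)).appLE O Q hQ.ge a = (A.π.app (op i)).appLE O Q hQ.ge b) :
    ∃ (j : A.I) (h : i ≤ j), (A.trans h).app O a = (A.trans h).app O b := by
  subst hQ
  rw [← Scheme.Hom.app_eq_appLE] at hab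
  obtain ⟨j, f, hj⟩ := exists_app_map_eq_map_of_isLimit A.D A.cone A.isLimit
    (A.isCompact_open O) a b hab
  obtain ⟨j⟩ := j
  refine ⟨j, leOfHom f.unop, ?_⟩
  rwa [show A.trans (leOfHom f.unop) = A.D.map f from congrArg A.D.map (Subsingleton.elim _ _)]

/-- An open whose preimage is affine is affine at a later stage. -/
theorem exists_isAffineOpen {i : A.I} (O : (A.D.obj (op i)).Opens)
    (hO : IsAffineOpen (A.π.app (op i) ⁻¹ᵁ O)) :
    ∃ (j : A.I) (h : i ≤ j), IsAffineOpen (A.pullOpen h O) := by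
  have (k : Over (op i)) : CompactSpace ((opensDiagram A.D (op i) O).obj k) :=
    isCompact_iff_compactSpace.mp (A.isCompact_open _)
  have (k : Over (op i)) : QuasiSeparatedSpace ((opensDiagram A.D (op i) O).obj k) :=
    (isQuasiSeparated_iff_quasiSeparatedSpace _ (A.D.map _ ⁻¹ᵁ _).2).mp (.of_quasiSeparatedSpace _)
  have : IsAffine (opensCone A.D A.cone (op i) O).pt := hO
  obtain ⟨k, hk⟩ := Scheme.exists_isAffine_of_isLimit _ _
    (isLimitOpensCone A.D A.cone A.isLimit (op i) O)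
  refine ⟨k.left.unop, A.le_of_hom k, ?_⟩
  rw [pullOpen, ← A.map_hom k]
  exact hk

/-- Containment of opens descends. -/
theorem exists_le {i : A.I} (O O' : (A.D.obj (op i)).Opens)
    (h : A.π.app (op i) ⁻¹ᵁ O ≤ A.π.app (op i) ⁻¹ᵁ O') :
    ∃ (j : A.I) (h : i ≤ j), A.pullOpen h O ≤ A.pullOpen h O' := by
  obtain ⟨j, f, hj⟩ := exists_map_preimage_le_map_preimage A.D A.cone A.isLimit
    (A.isCompact_open O) h
  obtain ⟨j⟩ := j
  refine ⟨j, leOfHom f.unop, ?_⟩
  rwa [pullOpen, pullOpen,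
    show A.trans (leOfHom f.unop) = A.D.map f from congrArg A.D.map (Subsingleton.elim _ _)]

/-- A finite family of indices has an upper bound above a given one. -/
theorem exists_upper_bound (i : A.I) {κ : Type*} [Finite κ] (j : κ → A.I) :
    ∃ m, i ≤ m ∧ ∀ k, j k ≤ m := by
  obtain ⟨m, hm⟩ := Finite.exists_le j
  obtain ⟨m', h₁, h₂⟩ := exists_ge_ge i m
  exact ⟨m', h₁, fun k ↦ (hm k).trans h₂⟩

/-- The pullback of a section to a later stage. -/
noncomputable def pullSection {i j : A.I} (h : i ≤ j) (O : (A.D.obj (op i)).Opens) :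
    Γ(A.D.obj (op i), O) ⟶ Γ(A.D.obj (op j), A.pullOpen h O) :=
  (A.trans h).app O

theorem pullOpen_basicOpen {i j : A.I} (h : i ≤ j) (O : (A.D.obj (op i)).Opens)
    (g : Γ(A.D.obj (op i), O)) :
    A.pullOpen h ((A.D.obj (op i)).basicOpen g) =
      (A.D.obj (op j)).basicOpen (A.pullSection h O g) :=
  Scheme.preimage_basicOpen _ g

theorem appLE_pullSection {i j : A.I} (h : i ≤ j) (O : (A.D.obj (op i)).Opens) {Q : X.Opens}
    (hQ : A.π.app (op i) ⁻¹ᵁ O = Q) (g : Γ(A.D.obj (op i), O)) :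
    (A.π.app (op j)).appLE (A.pullOpen h O) Q ((A.preimage_pullOpen h O).trans hQ).ge
      (A.pullSection h O g) = (A.π.app (op i)).appLE O Q hQ.ge g := by
  rw [pullSection, (A.trans h).app_eq_appLE]
  exact appLE_appLE (A.π_trans h) _ _ _ g

end ZSystem

/-- The data at a finite stage needed to extend a system on `V` by an affine open `U`. -/
structure StepData {S : Scheme.{u}} (V U : S.Opens) (A : ZSystem V.toScheme) where
  /-- The stage. -/
  i₁ : A.I
  /-- The open of the stage with inverse image `U ⊓ V`. -/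
  T₁ : (A.D.obj (op i₁)).Opens
  preimage_T₁ : A.π.app (op i₁) ⁻¹ᵁ T₁ = V.ι ⁻¹ᵁ U
  /-- The number of basic opens. -/
  n : ℕ
  /-- The functions on `U`. -/
  f : Fin n → Γ(S, U)
  /-- The functions at the stage. -/
  g : Fin n → Γ(A.D.obj (op i₁), T₁)
  basicOpen_le : ∀ l, S.basicOpen (f l) ≤ V
  cover : U ⊓ V ≤ ⨆ l, S.basicOpen (f l)
  res_eq : ∀ l, (A.π.app (op i₁)).appLE T₁ (V.ι ⁻¹ᵁ U) preimage_T₁.ge (g l) = V.ι.app U (f l)
  affine : ∀ l, IsAffineOpen ((A.D.obj (op i₁)).basicOpen (g l))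
  cover_g : T₁ ≤ ⨆ l, (A.D.obj (op i₁)).basicOpen (g l)
  isAffineOpen : IsAffineOpen U
  isCompact : IsCompact (V : Set S)

/-- Step data exist. -/
theorem exists_stepData {S : Scheme.{u}} [QuasiSeparatedSpace S] (V U : S.Opens)
    (hV : IsCompact (V : Set S)) (hU : IsAffineOpen U) (A : ZSystem V.toScheme) :
    Nonempty (StepData V U A) := by
  classical
  have hVU : IsCompact ((U : Set S) ∩ V) :=
    QuasiSeparatedSpace.inter_isCompact _ _ U.2 hU.isCompact V.2 hV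
  have hT : IsCompact ((V.ι ⁻¹ᵁ U : V.toScheme.Opens) : Set V.toScheme) := by
    refine V.ι.isOpenEmbedding.isEmbedding.isCompact_iff.2 ?_
    convert hVU using 1
    rw [Scheme.Hom.coe_preimage, Set.image_preimage_eq_inter_range, Scheme.Opens.range_ι]
  obtain ⟨⟨i₀⟩, T₀, -, hT₀⟩ := exists_preimage_eq A.D A.cone A.isLimit _ hT
  -- the functions on `U`
  choose f hf hxf using fun x : ↥(U ⊓ V : S.Opens) ↦
    hU.exists_basicOpen_le (V := V) ⟨x.1, x.2.2⟩ x.2.1
  obtain ⟨t, ht⟩ := hVU.elim_finite_subcover (fun x ↦ (S.basicOpen (f x) : Set S))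
    (fun x ↦ (S.basicOpen (f x)).2)
    (fun x hx ↦ Set.mem_iUnion.mpr ⟨⟨x, hx⟩, hxf ⟨x, hx⟩⟩)
  let F : Fin t.card → Γ(S, U) := fun l ↦ f (t.equivFin.symm l).1
  have hFV : ∀ l, S.basicOpen (F l) ≤ V := fun l ↦ hf _
  have hFcov : U ⊓ V ≤ ⨆ l, S.basicOpen (F l) := fun x hx ↦ by
    obtain ⟨y, hy, hxy⟩ := Set.mem_iUnion₂.mp (ht hx)
    exact Opens.mem_iSup.mpr ⟨t.equivFin ⟨y, hy⟩, by simpa [F] using hxy⟩
  -- the functions at a stage
  have hsec : ∀ l, ∃ (j : A.I) (h : i₀ ≤ j) (z : Γ(A.D.obj (op j), A.pullOpen h T₀)),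
      (A.π.app (op j)).appLE (A.pullOpen h T₀) (V.ι ⁻¹ᵁ U)
        (((A.preimage_pullOpen h T₀).trans hT₀).ge) z = V.ι.app U (F l) := fun l ↦ by
    obtain ⟨j, h, z, hz⟩ := A.exists_section T₀ hT₀ (V.ι.app U (F l))
    exact ⟨j, h, z, hz⟩
  choose j hj z hz using hsec
  obtain ⟨m, him, hjm⟩ := A.exists_upper_bound i₀ j
  let T' := A.pullOpen him T₀
  have hT' : A.π.app (op m) ⁻¹ᵁ T' = V.ι ⁻¹ᵁ U := (A.preimage_pullOpen him T₀).trans hT₀
  let G : Fin t.card → Γ(A.D.obj (op m), T') := fun l ↦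
    (A.trans (hjm l)).appLE (A.pullOpen (hj l) T₀) T' (A.pullOpen_pullOpen _ _ T₀).ge (z l)
  have hG : ∀ l, (A.π.app (op m)).appLE T' (V.ι ⁻¹ᵁ U) hT'.ge (G l) = V.ι.app U (F l) := fun l ↦ by
    rw [← hz l]
    exact appLE_appLE (A.π_trans (hjm l)) _ _ _ (z l)
  have hpre : ∀ l, A.π.app (op m) ⁻¹ᵁ (A.D.obj (op m)).basicOpen (G l) =
      V.ι ⁻¹ᵁ S.basicOpen (F l) := fun l ↦ by
    have h1 : V.ι ⁻¹ᵁ S.basicOpen (F l) = V.toScheme.basicOpen (V.ι.app U (F l)) :=
      Scheme.preimage_basicOpen _ _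
    rw [h1, ← hG l]
    erw [Scheme.basicOpen_appLE (A.π.app (op m))]
    rw [inf_eq_right.2]
    exact (Scheme.Hom.preimage_mono _ ((A.D.obj (op m)).basicOpen_le _)).trans hT'.le
  -- affineness
  have haff : ∀ l, ∃ (j : A.I) (h : m ≤ j),
      IsAffineOpen (A.pullOpen h ((A.D.obj (op m)).basicOpen (G l))) := fun l ↦ by
    refine A.exists_isAffineOpen _ ?_
    rw [hpre l]
    exact (hU.basicOpen (F l)).preimage_of_isOpenImmersion V.ι
      (by rw [Scheme.Opens.opensRange_ι]; exact hFV l)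
  choose j' hj' haff' using haff
  obtain ⟨p, hmp, hjp⟩ := A.exists_upper_bound m j'
  have haff'' : ∀ l, IsAffineOpen (A.pullOpen hmp ((A.D.obj (op m)).basicOpen (G l))) := fun l ↦ by
    rw [← A.pullOpen_pullOpen (hj' l) (hjp l)]
    exact (haff' l).preimage _
  -- covering
  obtain ⟨q, hpq, hcov⟩ := A.exists_le (A.pullOpen hmp T')
    (⨆ l, A.pullOpen hmp ((A.D.obj (op m)).basicOpen (G l))) (by
      rw [A.preimage_pullOpen, hT', Scheme.Hom.preimage_iSup]
      simp only [A.preimage_pullOpen, hpre]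
      rw [← Scheme.Hom.preimage_iSup]
      intro x hx
      exact hFcov ⟨hx, x.2⟩)
  let g : Fin t.card → Γ(A.D.obj (op q), A.pullOpen (hmp.trans hpq) T') :=
    fun l ↦ A.pullSection (hmp.trans hpq) T' (G l)
  have hT₁ : A.π.app (op q) ⁻¹ᵁ A.pullOpen (hmp.trans hpq) T' = V.ι ⁻¹ᵁ U :=
    Eq.trans (A.preimage_pullOpen (hmp.trans hpq) T') hT'
  have hres : ∀ l, (A.π.app (op q)).appLE (A.pullOpen (hmp.trans hpq) T') (V.ι ⁻¹ᵁ U) hT₁.ge (g l) =
      V.ι.app U (F l) := fun l ↦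
    (A.appLE_pullSection (hmp.trans hpq) T' hT' (G l)).trans (hG l)
  have hbo : ∀ l, (A.D.obj (op q)).basicOpen (g l) =
      A.pullOpen (hmp.trans hpq) ((A.D.obj (op m)).basicOpen (G l)) := fun l ↦
    (A.pullOpen_basicOpen (hmp.trans hpq) T' (G l)).symm
  have haffq : ∀ l, IsAffineOpen ((A.D.obj (op q)).basicOpen (g l)) := fun l ↦ by
    rw [hbo, ← A.pullOpen_pullOpen hmp hpq]
    exact (haff'' l).preimage _
  have hcovq : A.pullOpen (hmp.trans hpq) T' ≤ ⨆ l, (A.D.obj (op q)).basicOpen (g l) := by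
    intro x hx
    have hx' : x ∈ A.pullOpen hpq (A.pullOpen hmp T') := by
      rw [A.pullOpen_pullOpen hmp hpq]
      exact hx
    have hx'' := hcov hx'
    rw [ZSystem.pullOpen, Scheme.Hom.preimage_iSup] at hx''
    obtain ⟨l, hl⟩ := Opens.mem_iSup.1 hx''
    refine Opens.mem_iSup.2 ⟨l, ?_⟩
    rw [hbo l, ← A.pullOpen_pullOpen hmp hpq]
    exact hl
  exact ⟨StepData.mk q (A.pullOpen (hmp.trans hpq) T') hT₁ t.card F g hFV hFcov hres haffq hcovq hU hV⟩

end Groth.Limits
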