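import Groth.Agent.Limits.ApproxRing
import Groth.Agent.Limits.ApproxGlue

/-!
# The system of the extension step
-/

set_option backward.isDefEq.respectTransparency false

universe u

open CategoryTheory Limits AlgebraicGeometry Opposite TopologicalSpace

namespace Groth.Limits

namespace StepData

variable {S : Scheme.{u}} {V U : S.Opens} {A : ZSystem V.toScheme} (d : StepData V U A)

/-- The index set of the extended system. -/
@[ext]
structure Idx : Type u where
  /-- The stage. -/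
  k : d.K
  /-- The subalgebra of pairs. -/
  s : Subalgebra ℤ (Γ(S, U) × Γ(A.D.obj (op k.1), d.opn k))
  good : d.IsGood k s

theorem pairMap_refl (k : d.K) (z : Γ(S, U) × Γ(A.D.obj (op k.1), d.opn k)) :
    d.pairMap (le_refl k) z = z := by
  rw [pairMap_apply, tr_refl]

instance preorderIdx : Preorder d.Idx where
  le j j' := ∃ h : j.k ≤ j'.k, ∀ z ∈ j.s, d.pairMap h z ∈ j'.s
  le_refl j := ⟨le_rfl, fun z hz ↦ by rwa [pairMap_refl]⟩
  le_trans _ _ _ := fun ⟨h, hs⟩ ⟨h', hs'⟩ ↦ ⟨h.trans h', fun z hz ↦ by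
    have := hs' _ (hs z hz)
    rwa [pairMap_pairMap] at this⟩

theorem le_iff {j j' : d.Idx} :
    j ≤ j' ↔ ∃ h : j.k ≤ j'.k, ∀ z ∈ j.s, d.pairMap h z ∈ j'.s := Iff.rfl

variable {d}

theorem Idx.k_le {j j' : d.Idx} (h : j ≤ j') : j.k ≤ j'.k := h.1

theorem Idx.map_mem {j j' : d.Idx} (h : j ≤ j') {z} (hz : z ∈ j.s) :
    d.pairMap (Idx.k_le h) z ∈ j'.s := h.2 z hz

variable (d)

/-- The ring of an index. -/
noncomputable abbrev ring (j : d.Idx) : CommRingCat.{u} := CommRingCat.of j.s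

/-- The map to the sections of the stage. -/
noncomputable def φ (j : d.Idx) : d.ring j ⟶ Γ(A.D.obj (op j.k.1), d.opn j.k) :=
  CommRingCat.ofHom ((RingHom.snd _ _).comp j.s.val.toRingHom)

/-- The map to the sections of `U`. -/
noncomputable def ε (j : d.Idx) : d.ring j ⟶ Γ(S, U) :=
  CommRingCat.ofHom ((RingHom.fst _ _).comp j.s.val.toRingHom)

theorem φ_apply (j : d.Idx) (z : j.s) : d.φ j z = z.1.2 := rfl

theorem ε_apply (j : d.Idx) (z : j.s) : d.ε j z = z.1.1 := rfl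

theorem res_ε (j : d.Idx) : d.ε j ≫ res = d.φ j ≫ d.ρ j.k := by
  ext z
  exact d.mem_pairs.1 (j.good.le z.2)

/-- The distinguished elements. -/
noncomputable def F (j : d.Idx) (l : Fin d.n) : d.ring j := ⟨d.gen j.k l, j.good.gen_mem l⟩

theorem φ_F (j : d.Idx) (l : Fin d.n) : d.φ j (d.F j l) = d.sec j.k l := rfl

theorem ε_F (j : d.Idx) (l : Fin d.n) : d.ε j (d.F j l) = d.f l := rfl

/-- The chart. -/
noncomputable def q (j : d.Idx) : (d.opn j.k).toScheme ⟶ Spec (d.ring j) :=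
  chartMap (d.opn j.k) (d.φ j)

theorem q_spec (j : d.Idx) : IsOpenImmersion (d.q j) ∧
    Set.range (d.q j) = ⋃ l, (PrimeSpectrum.basicOpen (d.F j l) : Set (PrimeSpectrum (d.ring j))) := by
  refine isOpenImmersion_chartMap (d.φ j) (d.F j) (fun l ↦ d.isAffineOpen_basicOpen j.k l)
    (d.opn_le j.k) (fun l z hz ↦ ?_) fun l x ↦ ?_
  · obtain ⟨n, hn⟩ := d.exists_pow_mul_eq_zero d.isAffineOpen j.k l (j.good.le z.2) hz
    exact ⟨n, Subtype.ext hn⟩
  · obtain ⟨z, hz, n, hn⟩ := j.good.surj l x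
    exact ⟨⟨z, hz⟩, n, hn⟩

instance (j : d.Idx) : IsOpenImmersion (d.q j) := (d.q_spec j).1

/-- The stages of the extended system. -/
noncomputable abbrev obj (j : d.Idx) : Scheme.{u} := pushout (d.opn j.k).ι (d.q j)

/-- The map of rings. -/
noncomputable def ringMap {j j' : d.Idx} (h : j ≤ j') : d.ring j ⟶ d.ring j' :=
  CommRingCat.ofHom
    (((d.pairMap (Idx.k_le h)).comp j.s.val).codRestrict j'.s fun z ↦ Idx.map_mem h z.2).toRingHom

theorem ringMap_apply {j j' : d.Idx} (h : j ≤ j') (z : j.s) :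
    (d.ringMap h z).1 = d.pairMap (Idx.k_le h) z.1 := rfl

theorem ringMap_φ {j j' : d.Idx} (h : j ≤ j') :
    d.ringMap h ≫ d.φ j' = d.φ j ≫ d.tr (Idx.k_le h) := by
  ext z
  rfl

theorem ringMap_ε {j j' : d.Idx} (h : j ≤ j') : d.ringMap h ≫ d.ε j' = d.ε j := by
  ext z
  rfl

theorem ringMap_F {j j' : d.Idx} (h : j ≤ j') (l : Fin d.n) :
    d.ringMap h (d.F j l) = d.F j' l :=
  Subtype.ext (d.pairMap_gen (Idx.k_le h) l)

theorem opn_le_preimage {j j' : d.Idx} (h : j ≤ j') :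
    d.opn j'.k ≤ A.trans (Idx.k_le h) ⁻¹ᵁ d.opn j.k :=
  (A.pullOpen_pullOpen j.k.2 (Idx.k_le h) d.T₁).ge

theorem mapStep_condition {j j' : d.Idx} (h : j ≤ j') :
    (d.opn j'.k).ι ≫ A.trans (Idx.k_le h) ≫ pushout.inl (d.opn j.k).ι (d.q j) =
      d.q j' ≫ Spec.map (d.ringMap h) ≫ pushout.inr (d.opn j.k).ι (d.q j) := by
  have hq : d.q j' ≫ Spec.map (d.ringMap h) =
      (A.trans (Idx.k_le h)).resLE (d.opn j.k) (d.opn j'.k) (d.opn_le_preimage h) ≫ d.q j := by
    rw [q, q, chartMap_naturality, chartMap, chartMap, Category.assoc, ← Spec.map_comp, ringMap_φ]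
    rfl
  rw [reassoc_of% hq, ← pushout.condition, Scheme.Hom.resLE_comp_ι_assoc]

/-- The transition maps of the extended system. -/
noncomputable def mapStep {j j' : d.Idx} (h : j ≤ j') : d.obj j' ⟶ d.obj j :=
  pushout.desc (A.trans (Idx.k_le h) ≫ pushout.inl _ _) (Spec.map (d.ringMap h) ≫ pushout.inr _ _)
    (d.mapStep_condition h)

theorem inl_mapStep {j j' : d.Idx} (h : j ≤ j') :
    pushout.inl _ _ ≫ d.mapStep h = A.trans (Idx.k_le h) ≫ pushout.inl _ _ :=
  pushout.inl_desc _ _ _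

theorem inr_mapStep {j j' : d.Idx} (h : j ≤ j') :
    pushout.inr _ _ ≫ d.mapStep h = Spec.map (d.ringMap h) ≫ pushout.inr _ _ :=
  pushout.inr_desc _ _ _

theorem mapStep_refl (j : d.Idx) : d.mapStep (le_refl j) = 𝟙 _ := by
  apply pushout.hom_ext
  · rw [inl_mapStep, Category.comp_id, A.trans_refl, Category.id_comp]
  · rw [inr_mapStep, Category.comp_id]
    have : d.ringMap (le_refl j) = 𝟙 _ :=
      CommRingCat.hom_ext (RingHom.ext fun z ↦ Subtype.ext (d.pairMap_refl j.k z.1))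
    rw [this, Spec.map_id, Category.id_comp]

theorem mapStep_comp {j j' j'' : d.Idx} (h : j ≤ j') (h' : j' ≤ j'') :
    d.mapStep h' ≫ d.mapStep h = d.mapStep (h.trans h') := by
  apply pushout.hom_ext
  · rw [← Category.assoc, inl_mapStep, Category.assoc, inl_mapStep, ← Category.assoc,
      A.trans_comp, inl_mapStep]
  · rw [← Category.assoc, inr_mapStep, Category.assoc, inr_mapStep, ← Category.assoc,
      ← Spec.map_comp, inr_mapStep]
    congr 2
    exact CommRingCat.hom_ext (RingHom.ext fun z ↦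
      Subtype.ext (d.pairMap_pairMap (Idx.k_le h) (Idx.k_le h') z.1))

/-- The extended system. -/
noncomputable def diagram : d.Idxᵒᵖ ⥤ Scheme.{u} where
  obj j := d.obj j.unop
  map a := d.mapStep (leOfHom a.unop)
  map_id j := d.mapStep_refl j.unop
  map_comp a b := (d.mapStep_comp (leOfHom b.unop) (leOfHom a.unop)).symm

theorem exists_eq (j : d.Idx) (x : d.obj j) :
    (∃ y, pushout.inl (d.opn j.k).ι (d.q j) y = x) ∨ ∃ y, pushout.inr (d.opn j.k).ι (d.q j) y = x :=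
  Groth.SpectralTopology.pushout_exists_eq _ _ x

theorem mem_range_q_iff {j : d.Idx} (y : Spec (d.ring j)) :
    y ∈ Set.range (d.q j) ↔ ∃ l, y ∈ PrimeSpectrum.basicOpen (d.F j l) := by
  rw [(d.q_spec j).2, Set.mem_iUnion]
  rfl

theorem mapStep_preimage_inl {j j' : d.Idx} (h : j ≤ j') :
    d.mapStep h ⁻¹ᵁ (pushout.inl (d.opn j.k).ι (d.q j)).opensRange =
      (pushout.inl (d.opn j'.k).ι (d.q j')).opensRange := by
  ext x
  constructor
  · intro hx
    rcases d.exists_eq j' x with ⟨y, rfl⟩ | ⟨y, rfl⟩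
    · exact ⟨y, rfl⟩
    · obtain ⟨z, hz⟩ := hx
      rw [← Scheme.Hom.comp_apply, inr_mapStep, Scheme.Hom.comp_apply] at hz
      obtain ⟨w, -, hw⟩ := (Groth.SpectralTopology.pushout_inl_eq_inr_iff _ _).1 hz
      obtain ⟨l, hl⟩ := (d.mem_range_q_iff _).1 ⟨w, hw⟩
      have hy : y ∈ PrimeSpectrum.basicOpen (d.F j' l) := by
        rw [← d.ringMap_F h l]
        exact hl
      obtain ⟨w', hw'⟩ := (d.mem_range_q_iff y).2 ⟨l, hy⟩
      refine ⟨(d.opn j'.k).ι w', ?_⟩
      rw [← hw', ← Scheme.Hom.comp_apply, ← Scheme.Hom.comp_apply, pushout.condition]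
  · rintro ⟨y, rfl⟩
    refine ⟨A.trans (Idx.k_le h) y, ?_⟩
    rw [← Scheme.Hom.comp_apply, ← inl_mapStep, Scheme.Hom.comp_apply]

theorem mapStep_preimage_inr {j j' : d.Idx} (h : j ≤ j') :
    d.mapStep h ⁻¹ᵁ (pushout.inr (d.opn j.k).ι (d.q j)).opensRange =
      (pushout.inr (d.opn j'.k).ι (d.q j')).opensRange := by
  ext x
  constructor
  · intro hx
    rcases d.exists_eq j' x with ⟨y, rfl⟩ | ⟨y, rfl⟩
    · obtain ⟨z, hz⟩ := hx
      rw [← Scheme.Hom.comp_apply, inl_mapStep, Scheme.Hom.comp_apply] at hz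
      obtain ⟨w, hw, -⟩ := (Groth.SpectralTopology.pushout_inl_eq_inr_iff _ _).1 hz.symm
      have hy : y ∈ d.opn j'.k := by
        refine (A.pullOpen_pullOpen j.k.2 (Idx.k_le h) d.T₁).le ?_
        show A.trans (Idx.k_le h) y ∈ d.opn j.k
        rw [← hw]
        exact w.2
      refine ⟨d.q j' ⟨y, hy⟩, ?_⟩
      rw [← Scheme.Hom.comp_apply, ← pushout.condition, Scheme.Hom.comp_apply]
      rfl
    · exact ⟨y, rfl⟩
  · rintro ⟨y, rfl⟩
    refine ⟨Spec.map (d.ringMap h) y, ?_⟩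
    rw [← Scheme.Hom.comp_apply, ← inr_mapStep, Scheme.Hom.comp_apply]

theorem isPullback_inl {j j' : d.Idx} (h : j ≤ j') :
    IsPullback (A.trans (Idx.k_le h)) (pushout.inl (d.opn j'.k).ι (d.q j'))
      (pushout.inl (d.opn j.k).ι (d.q j)) (d.mapStep h) :=
  IsOpenImmersion.isPullback _ _ _ _ (d.inl_mapStep h) (d.mapStep_preimage_inl h)

theorem isPullback_inr {j j' : d.Idx} (h : j ≤ j') :
    IsPullback (Spec.map (d.ringMap h)) (pushout.inr (d.opn j'.k).ι (d.q j'))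
      (pushout.inr (d.opn j.k).ι (d.q j)) (d.mapStep h) :=
  IsOpenImmersion.isPullback _ _ _ _ (d.inr_mapStep h) (d.mapStep_preimage_inr h)

theorem isAffineHom_mapStep {j j' : d.Idx} (h : j ≤ j') : IsAffineHom (d.mapStep h) :=
  isAffineHom_of_two (d.mapStep h) (pushout.inl _ _) (pushout.inr _ _) (pushout.inl _ _)
    (A.trans (Idx.k_le h)) (pushout.inr _ _) (Spec.map (d.ringMap h))
    (d.exists_eq j) (d.isPullback_inl h).flip (d.isPullback_inr h).flip

theorem compactSpace_obj (j : d.Idx) : CompactSpace (d.obj j) := by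
  have := A.compact (op j.k.1)
  refine ⟨?_⟩
  rw [show (Set.univ : Set (d.obj j)) = Set.range (pushout.inl (d.opn j.k).ι (d.q j)) ∪
    Set.range (pushout.inr (d.opn j.k).ι (d.q j)) from
    (Set.eq_univ_of_forall fun x ↦ (d.exists_eq j x).imp id id).symm]
  exact (isCompact_range (Scheme.Hom.continuous _)).union (isCompact_range (Scheme.Hom.continuous _))

theorem locallyOfFiniteType_obj (j : d.Idx) :
    LocallyOfFiniteType (Limits.IsTerminal.from specULiftZIsTerminal (d.obj j)) := by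
  refine locallyOfFiniteType_of_two _ _ _ (d.exists_eq j) ?_ ?_
  · rw [IsTerminal.comp_from]
    exact A.locallyOfFiniteType _
  · rw [IsTerminal.comp_from]
    let ψ : CommRingCat.of (ULift.{u} ℤ) ⟶ d.ring j :=
      CommRingCat.ofHom ((Int.castRingHom j.s).comp ULift.ringEquiv.toRingHom)
    rw [show Limits.IsTerminal.from specULiftZIsTerminal (Spec (d.ring j)) = Spec.map ψ from
      specULiftZIsTerminal.hom_ext _ _]
    rw [HasRingHomProperty.Spec_iff (P := @LocallyOfFiniteType)]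
    have : Algebra.FiniteType ℤ j.s := j.s.fg_iff_finiteType.1 j.good.fg
    refine RingHom.FiniteType.comp ?_ (RingHom.FiniteType.of_surjective _
      ULift.ringEquiv.surjective)
    rw [← RingHom.eq_intCast' (algebraMap ℤ j.s)]
    exact RingHom.finiteType_algebraMap.2 this

section

variable [QuasiSeparatedSpace S]

theorem exists_idx (k : d.K) (E : Finset (Γ(S, U) × Γ(A.D.obj (op k.1), d.opn k)))
    (hE : ∀ e ∈ E, e ∈ d.pairs k) : ∃ j : d.Idx, ∃ h : k ≤ j.k, ∀ e ∈ E, d.pairMap h e ∈ j.s := by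
  obtain ⟨s, hs, hEs⟩ := d.exists_isGood d.isCompact d.isAffineOpen k E hE
  exact ⟨⟨k, s, hs⟩, le_rfl, fun e he ↦ by rw [pairMap_refl]; exact hEs e he⟩

instance nonempty_idx : Nonempty d.Idx := by
  obtain ⟨j, -⟩ := d.exists_idx ⟨d.i₁, le_rfl⟩ ∅ (by simp)
  exact ⟨j⟩

theorem exists_upper (j j' : d.Idx) : ∃ j'', j ≤ j'' ∧ j' ≤ j'' := by
  classical
  obtain ⟨G, hG⟩ := j.good.fg
  obtain ⟨G', hG'⟩ := j'.good.fg
  obtain ⟨m, hm, hm'⟩ := exists_ge_ge j.k.1 j'.k.1
  let k : d.K := ⟨m, j.k.2.trans hm⟩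
  have h : j.k ≤ k := hm
  have h' : j'.k ≤ k := hm'
  obtain ⟨j'', hk, hE⟩ := d.exists_idx k (G.image (d.pairMap h) ∪ G'.image (d.pairMap h')) (by
    simp only [Finset.mem_union, Finset.mem_image]
    rintro e (⟨z, hz, rfl⟩ | ⟨z, hz, rfl⟩)
    · exact d.pairMap_mem h (j.good.le (hG ▸ Algebra.subset_adjoin hz))
    · exact d.pairMap_mem h' (j'.good.le (hG' ▸ Algebra.subset_adjoin hz)))
  refine ⟨j'', ⟨h.trans hk, fun z hz ↦ ?_⟩, ⟨h'.trans hk, fun z hz ↦ ?_⟩⟩
  · have : j.s ≤ j''.s.comap (d.pairMap (h.trans hk)) := by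
      rw [← hG, Algebra.adjoin_le_iff]
      intro e he
      show d.pairMap _ e ∈ j''.s
      rw [← d.pairMap_pairMap h hk]
      exact hE _ (Finset.mem_union_left _ (Finset.mem_image_of_mem _ he))
    exact this hz
  · have : j'.s ≤ j''.s.comap (d.pairMap (h'.trans hk)) := by
      rw [← hG', Algebra.adjoin_le_iff]
      intro e he
      show d.pairMap _ e ∈ j''.s
      rw [← d.pairMap_pairMap h' hk]
      exact hE _ (Finset.mem_union_right _ (Finset.mem_image_of_mem _ he))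
    exact this hz

instance isDirected_idx : IsDirectedOrder d.Idx := ⟨d.exists_upper⟩

/-- Indices above a given stage. -/
theorem exists_idx_ge (i : A.I) : ∃ j : d.Idx, i ≤ j.k.1 := by
  obtain ⟨m, hm, hm'⟩ := exists_ge_ge d.i₁ i
  obtain ⟨j, h, -⟩ := d.exists_idx ⟨m, hm⟩ ∅ (by simp)
  exact ⟨j, hm'.trans h⟩

end

end StepData

end Groth.Limits
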