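import Mathlib.AlgebraicGeometry.Morphisms.FiniteType
import Mathlib.AlgebraicGeometry.Morphisms.Affine
import Mathlib.AlgebraicGeometry.Noetherian
import Mathlib.AlgebraicGeometry.Limits
import Mathlib.AlgebraicGeometry.Morphisms.QuasiSeparated

/-!
# Systems of schemes of finite type over `ℤ` and their extensions along open immersions
-/

set_option backward.isDefEq.respectTransparency false

universe u

open CategoryTheory Limits AlgebraicGeometry Opposite

namespace Groth.Limits

/-- An inverse system, over a nonempty directed set, of compact schemes of finite type over `ℤ`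
with affine transition maps, together with a limit cone on `X`. -/
structure ZSystem (X : Scheme.{u}) where
  /-- The index set. -/
  I : Type u
  [preorder : Preorder I]
  [directed : IsDirected I (fun a b => a ≤ b)]
  [nonempty : Nonempty I]
  /-- The system. -/
  D : Iᵒᵖ ⥤ Scheme.{u}
  /-- The projections. -/
  π : (Functor.const Iᵒᵖ).obj X ⟶ D
  /-- The cone is a limit. -/
  isLimit : IsLimit (Cone.mk X π)
  affine : ∀ (i j : Iᵒᵖ) (a : i ⟶ j), IsAffineHom (D.map a)
  compact : ∀ i, CompactSpace (D.obj i)
  locallyOfFiniteType : ∀ i,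
    LocallyOfFiniteType (Limits.IsTerminal.from specULiftZIsTerminal (D.obj i))

attribute [instance] ZSystem.preorder ZSystem.directed ZSystem.nonempty

instance isNoetherianRing_uliftInt : IsNoetherianRing (ULift.{u} ℤ) :=
  isNoetherianRing_of_ringEquiv ℤ ULift.ringEquiv.symm

namespace ZSystem

variable {X : Scheme.{u}} (A : ZSystem X)

instance : IsCofiltered A.Iᵒᵖ := inferInstance

/-- The cone. -/
noncomputable abbrev cone : Cone A.D := Cone.mk X A.π

/-- The transition map between two indices. -/
noncomputable abbrev trans {i j : A.I} (h : i ≤ j) : A.D.obj (op j) ⟶ A.D.obj (op i) :=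
  A.D.map (homOfLE h).op

theorem π_trans {i j : A.I} (h : i ≤ j) : A.π.app (op j) ≫ A.trans h = A.π.app (op i) :=
  A.cone.w (homOfLE h).op

theorem trans_comp {i j k : A.I} (h : i ≤ j) (h' : j ≤ k) :
    A.trans h' ≫ A.trans h = A.trans (h.trans h') := by
  rw [trans, trans, ← A.D.map_comp]
  rfl

@[simp]
theorem trans_refl (i : A.I) : A.trans (le_refl i) = 𝟙 _ := A.D.map_id _

instance isNoetherian (i : A.Iᵒᵖ) : IsNoetherian (A.D.obj i) := by
  have := A.compact i
  have := A.locallyOfFiniteType i
  have := LocallyOfFiniteType.isLocallyNoetherian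
    (Limits.IsTerminal.from specULiftZIsTerminal (A.D.obj i))
  exact {}

theorem isAffineHom_map {i j : A.Iᵒᵖ} (a : i ⟶ j) : IsAffineHom (A.D.map a) := A.affine i j a

end ZSystem

/-- An extension of a system on `V` to a system on `S` along an open immersion `v : V ⟶ S`. -/
structure ZExtension {V S : Scheme.{u}} (v : V ⟶ S) (A : ZSystem V) (B : ZSystem S) where
  /-- The map of index sets. -/
  α : B.I →o A.I
  /-- The open immersions between the stages. -/
  ψ : ∀ j : B.I, A.D.obj (op (α j)) ⟶ B.D.obj (op j)
  isOpenImmersion : ∀ j, IsOpenImmersion (ψ j)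
  isPullback_trans : ∀ {j' j : B.I} (h : j' ≤ j),
    IsPullback (A.trans (α.mono h)) (ψ j) (ψ j') (B.trans h)
  isPullback_π : ∀ j, IsPullback (A.π.app (op (α j))) v (ψ j) (B.π.app (op j))

/-- Composition of extensions. -/
def ZExtension.comp {V W S : Scheme.{u}} {v : V ⟶ W} {w : W ⟶ S} {A : ZSystem V} {B : ZSystem W}
    {C : ZSystem S} (e : ZExtension v A B) (f : ZExtension w B C) :
    ZExtension (v ≫ w) A C where
  α := e.α.comp f.α
  ψ j := e.ψ (f.α j) ≫ f.ψ j
  isOpenImmersion j := by
    have := e.isOpenImmersion (f.α j)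
    have := f.isOpenImmersion j
    infer_instance
  isPullback_trans h := (e.isPullback_trans (f.α.mono h)).paste_vert (f.isPullback_trans h)
  isPullback_π j := (e.isPullback_π (f.α j)).paste_vert (f.isPullback_π j)

/-- The trivial extension. -/
def ZExtension.ofIso {V S : Scheme.{u}} (e : V ≅ S) (A : ZSystem V) :
    Σ B : ZSystem S, ZExtension e.hom A B :=
  ⟨{ A with
      π := (Functor.const _).map e.inv ≫ A.π
      isLimit := IsLimit.ofIsoLimit A.isLimit (Cone.ext e (fun i ↦ by simp)) },
    { α := OrderHom.id
      ψ := fun _ ↦ 𝟙 _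
      isOpenImmersion := fun _ ↦ inferInstance
      isPullback_trans := fun _ ↦ IsPullback.of_vert_isIso ⟨by simp [ZSystem.trans]⟩
      isPullback_π := fun _ ↦ IsPullback.of_vert_isIso ⟨by simp; rfl⟩ }⟩

/-- The constant system on an empty scheme. -/
noncomputable def ZSystem.ofIsEmpty (X : Scheme.{u}) [IsEmpty X] : ZSystem X where
  I := PUnit.{u + 1}
  D := (Functor.const _).obj X
  π := 𝟙 _
  isLimit :=
    { lift := fun s ↦ s.π.app (op PUnit.unit)
      fac := fun s i ↦ by simp
      uniq := fun s m h ↦ by simpa using h (op PUnit.unit) }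
  affine _ _ _ := inferInstanceAs (IsAffineHom (𝟙 X))
  compact _ := inferInstanceAs (CompactSpace X)
  locallyOfFiniteType _ := by
    change LocallyOfFiniteType (Limits.IsTerminal.from specULiftZIsTerminal X)
    have : IsOpenImmersion (Limits.IsTerminal.from specULiftZIsTerminal X) :=
      IsOpenImmersion.of_forall_source_exists _ (Function.injective_of_subsingleton _) isEmptyElim
    infer_instance

end Groth.Limits
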