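import Mathlib.AlgebraicGeometry.Morphisms.FinitePresentation
import Mathlib.AlgebraicGeometry.Noetherian
import Mathlib.Topology.Constructible
import Mathlib.Topology.Sober

/-!
# Minimal specializations leaving a constructible set
-/

set_option backward.isDefEq.respectTransparency false

universe u

open CategoryTheory AlgebraicGeometry TopologicalSpace Topology

namespace Groth.Limits

/-- Near each point, a constructible set contains all or none of the closure of the point. -/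
theorem exists_isOpen_inter_closure {α : Type*} [TopologicalSpace α] {E : Set α}
    (hE : IsConstructible E) (y : α) :
    ∃ U : Set α, IsOpen U ∧ y ∈ U ∧ (y ∈ E → U ∩ closure {y} ⊆ E) ∧
      (y ∉ E → U ∩ closure {y} ⊆ Eᶜ) := by
  induction hE using IsConstructible.empty_union_induction with
  | open_retrocompact O hO _ =>
    by_cases hy : y ∈ O
    · exact ⟨O, hO, hy, fun _ ↦ Set.inter_subset_left, fun h ↦ absurd hy h⟩
    · refine ⟨Set.univ, isOpen_univ, trivial, fun h ↦ absurd h hy, fun _ z hz ↦ ?_⟩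
      exact closure_minimal (Set.singleton_subset_iff.2 hy) hO.isClosed_compl hz.2
  | union s _ t _ hs ht =>
    obtain ⟨U, hU, hyU, h₁, h₂⟩ := hs
    obtain ⟨V, hV, hyV, k₁, k₂⟩ := ht
    refine ⟨U ∩ V, hU.inter hV, ⟨hyU, hyV⟩, fun h z hz ↦ ?_, fun h z hz ↦ ?_⟩
    · rcases h with h | h
      · exact Or.inl (h₁ h ⟨hz.1.1, hz.2⟩)
      · exact Or.inr (k₁ h ⟨hz.1.2, hz.2⟩)
    · simp only [Set.mem_union, not_or] at h
      exact fun hz' ↦ hz'.elim (h₂ h.1 ⟨hz.1.1, hz.2⟩) (k₂ h.2 ⟨hz.1.2, hz.2⟩)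
  | compl s _ hs =>
    obtain ⟨U, hU, hyU, h₁, h₂⟩ := hs
    exact ⟨U, hU, hyU, h₂, fun h ↦ by rw [compl_compl]; exact h₁ (not_not.1 h)⟩

/-- If a constructible set of a Noetherian sober space is not stable under specialization, then
some point `x` in it specializes to a locally closed point `z` outside, with no other point in
between near `x`. -/
theorem exists_minimal_specializes {α : Type*} [TopologicalSpace α] [NoetherianSpace α] [T0Space α]
    {E : Set α} (hE : IsConstructible E) {x₀ z₀ : α} (h : x₀ ⤳ z₀) (hx₀ : x₀ ∈ E) (hz₀ : z₀ ∉ E) :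
    ∃ (x z : α) (O U : Set α), x ∈ E ∧ z ∉ E ∧ x ⤳ z ∧ IsOpen O ∧ z ∈ O ∧
      closure {z} ∩ O ⊆ {z} ∧ IsOpen U ∧ x ∈ U ∧ z ∉ U ∧
      ∀ y, x ⤳ y → y ⤳ z → y ∈ U → y = x := by
  obtain ⟨C, ⟨x, hxE, rfl, z₁, hxz₁, hz₁⟩, hCmin⟩ := (wellFounded_lt (α := Closeds α)).has_min
    {C | ∃ x ∈ E, C = ⟨closure {x}, isClosed_closure⟩ ∧ ∃ z, x ⤳ z ∧ z ∉ E}
    ⟨_, x₀, hx₀, rfl, z₀, h, hz₀⟩
  obtain ⟨U, hU, hxU, hUE, -⟩ := exists_isOpen_inter_closure hE x
  have hUE' := hUE hxE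
  obtain ⟨C', ⟨z, hz, hxz, rfl⟩, hC'min⟩ := (wellFounded_lt (α := Closeds α)).has_min
    {C | ∃ z, z ∉ E ∧ x ⤳ z ∧ C = ⟨closure {z}, isClosed_closure⟩} ⟨_, z₁, hz₁, hxz₁, rfl⟩
  obtain ⟨O, hO, hzO, -, hOE⟩ := exists_isOpen_inter_closure hE z
  have hOE' := hOE hz
  refine ⟨x, z, O, U, hxE, hz, hxz, hO, hzO, fun y hy ↦ ?_, hU, hxU,
    fun hzU ↦ hz (hUE' ⟨hzU, hxz.mem_closure⟩), fun y hxy hyz hyU ↦ ?_⟩
  · have hzy : z ⤳ y := specializes_iff_mem_closure.2 hy.1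
    have hyE : y ∉ E := hOE' ⟨hy.2, hy.1⟩
    have hnlt := hC'min _ ⟨y, hyE, hxz.trans hzy, rfl⟩
    have hle : closure {y} ⊆ closure {z} := hzy.closure_subset
    have heq : closure ({y} : Set α) = closure {z} := by
      by_contra hne
      exact hnlt (lt_of_le_of_ne hle fun e ↦ hne (congrArg (fun C : Closeds α ↦ (C : Set α)) e))
    exact ((specializes_iff_closure_subset.2 heq.ge).antisymm hzy).eq
  · have hyE : y ∈ E := hUE' ⟨hyU, hxy.mem_closure⟩
    have hnlt := hCmin _ ⟨y, hyE, rfl, z, hyz, hz⟩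
    have hle : closure {y} ⊆ closure {x} := hxy.closure_subset
    have heq : closure ({y} : Set α) = closure {x} := by
      by_contra hne
      exact hnlt (lt_of_le_of_ne hle fun e ↦ hne (congrArg (fun C : Closeds α ↦ (C : Set α)) e))
    exact ((specializes_iff_closure_subset.2 heq.ge).antisymm hxy).eq

/-- If the image of a closed set under a morphism of finite type to a locally Noetherian scheme is
not stable under specialization, some specialization leaving it is minimal and ends in a point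
closed in an affine open. -/
theorem exists_bad_specialization {P T : Scheme.{u}} [IsLocallyNoetherian T] (q : P ⟶ T)
    [LocallyOfFiniteType q] [QuasiCompact q] {Z₀ : Set P} (hZ₀ : IsClosed Z₀) {x₀ s : T}
    (hx₀ : x₀ ∈ q '' Z₀) (hs : s ∉ q '' Z₀) (h : x₀ ⤳ s) (N : T.Opens) (hN : s ∈ N) :
    ∃ (x z : T) (W U : T.Opens), x ∈ q '' Z₀ ∧ z ∉ q '' Z₀ ∧ x ⤳ z ∧ IsAffineOpen W ∧ W ≤ N ∧
      z ∈ W ∧ closure {z} ∩ (W : Set T) ⊆ {z} ∧ x ∈ U ∧ z ∉ U ∧
      ∀ y, x ⤳ y → y ⤳ z → y ∈ U → y = x := by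
  obtain ⟨_, ⟨W₀ : T.Opens, hW₀, rfl⟩, hsW₀, hW₀N⟩ :=
    T.isBasis_affineOpens.exists_subset_of_mem_open (show s ∈ (N : Set T) from hN) N.2
  have : CompactSpace W₀.toScheme := isCompact_iff_compactSpace.mp hW₀.isCompact
  have : IsNoetherian W₀.toScheme := {}
  let qW := q ∣_ W₀
  have : LocallyOfFinitePresentation qW :=
    LocallyOfFinitePresentation.iff_locallyOfFiniteType.2 inferInstance
  have : CompactSpace (q ⁻¹ᵁ W₀).toScheme := QuasiCompact.compactSpace_of_compactSpace qW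
  have : IsLocallyNoetherian (q ⁻¹ᵁ W₀).toScheme := LocallyOfFiniteType.isLocallyNoetherian qW
  have : IsNoetherian (q ⁻¹ᵁ W₀).toScheme := {}
  let Z' : Set (q ⁻¹ᵁ W₀).toScheme := (q ⁻¹ᵁ W₀).ι ⁻¹' Z₀
  have hZ'c : IsClosed Z' := hZ₀.preimage (q ⁻¹ᵁ W₀).ι.continuous
  have hZ'' : IsConstructible Z' := isConstructible_compl.1
    ((NoetherianSpace.isCompact _).isConstructible hZ'c.isOpen_compl)
  let E : Set W₀.toScheme := qW '' Z'
  have hE : IsConstructible E := qW.isConstructible_image hZ''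
  have hEimg : ∀ a : W₀.toScheme, a ∈ E ↔ W₀.ι a ∈ q '' Z₀ := fun a ↦ by
    constructor
    · rintro ⟨b, hb, rfl⟩
      refine ⟨_, hb, ?_⟩
      rw [← Scheme.Hom.comp_apply, ← Scheme.Hom.comp_apply, morphismRestrict_ι]
    · rintro ⟨b, hb, hba⟩
      have hbW : b ∈ q ⁻¹ᵁ W₀ := show q b ∈ W₀ from hba ▸ a.2
      refine ⟨⟨b, hbW⟩, hb, W₀.ι.isOpenEmbedding.injective ?_⟩
      rw [← Scheme.Hom.comp_apply, morphismRestrict_ι, Scheme.Hom.comp_apply]
      exact hba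
  let x₀' : W₀.toScheme := ⟨x₀, h.mem_open W₀.2 hsW₀⟩
  let s' : W₀.toScheme := ⟨s, hsW₀⟩
  have hsp : x₀' ⤳ s' := by
    rw [← W₀.ι.isOpenEmbedding.toIsInducing.specializes_iff]
    exact h
  obtain ⟨x, z, O, U, hxE, hzE, hxz, hO, hzO, hOz, hU, hxU, hzU, hbet⟩ :=
    exists_minimal_specializes hE hsp ((hEimg x₀').2 hx₀) (fun h' ↦ hs ((hEimg s').1 h'))
  obtain ⟨_, ⟨W : T.Opens, hW, rfl⟩, hzW, hWO⟩ := T.isBasis_affineOpens.exists_subset_of_mem_open
    (show W₀.ι z ∈ W₀.ι '' O from ⟨z, hzO, rfl⟩) (W₀.ι.isOpenEmbedding.isOpenMap O hO)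
  refine ⟨W₀.ι x, W₀.ι z, W, W₀.ι ''ᵁ ⟨U, hU⟩, (hEimg x).1 hxE, fun h' ↦ hzE ((hEimg z).2 h'),
    hxz.map W₀.ι.continuous, hW, ?_, hzW, ?_, ⟨x, hxU, rfl⟩, ?_, ?_⟩
  · intro y hy
    obtain ⟨a, -, rfl⟩ := hWO hy
    exact hW₀N a.2
  · rintro y ⟨hy, hyW⟩
    obtain ⟨a, ha, rfl⟩ := hWO hyW
    have : z ⤳ a := by
      rw [← W₀.ι.isOpenEmbedding.toIsInducing.specializes_iff]
      exact specializes_iff_mem_closure.2 hy
    exact congrArg W₀.ι (hOz ⟨specializes_iff_mem_closure.1 this, ha⟩ : a = z)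
  · rintro ⟨a, ha, hae⟩
    exact hzU (W₀.ι.isOpenEmbedding.injective hae ▸ ha)
  · rintro y hxy hyz ⟨a, ha, rfl⟩
    exact congrArg W₀.ι (hbet a (W₀.ι.isOpenEmbedding.toIsInducing.specializes_iff.1 hxy)
      (W₀.ι.isOpenEmbedding.toIsInducing.specializes_iff.1 hyz) ha)

end Groth.Limits
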