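import Mathlib.AlgebraicGeometry.Morphisms.QuasiSeparated
import Mathlib.AlgebraicGeometry.Limits
import Mathlib.CategoryTheory.Category.Preorder
import Mathlib.Order.WellFounded

/-!
# Affine Zariski coverings of inverse systems over cofinite posets

An inverse system of quasi-compact quasi-separated schemes indexed by a cofinite poset receives a
morphism of inverse systems from a system of affine schemes which is a Zariski covering in each
degree.
-/

set_option backward.isDefEq.respectTransparency false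

universe u v

open CategoryTheory Limits AlgebraicGeometry TopologicalSpace Opposite

namespace Groth.Limits.CofiniteCover

variable {Λ : Type v} [PartialOrder Λ] (X : Λᵒᵖ ⥤ Scheme.{u})

/-- The transition map of the inverse system. -/
abbrev tr {n l : Λ} (h : n ≤ l) : X.obj (op l) ⟶ X.obj (op n) := X.map (homOfLE h).op

open Classical in
/-- A finite affine cover of a quasi-compact open. -/
noncomputable def cov (l : Λ) (W : (X.obj (op l)).Opens) : Set (X.obj (op l)).Opens :=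
  if h : IsCompact (W : Set (X.obj (op l))) then
    Subtype.val '' (isCompact_iff_finite_and_eq_biUnion_affineOpens.1 h).choose
  else ∅

variable {X}

lemma cov_finite {l : Λ} {W : (X.obj (op l)).Opens} : (cov X l W).Finite := by
  unfold cov
  split
  · exact (isCompact_iff_finite_and_eq_biUnion_affineOpens.1 ‹_›).choose_spec.1.image _
  · exact Set.finite_empty

lemma isAffineOpen_of_mem_cov {l : Λ} {W V : (X.obj (op l)).Opens} (h : V ∈ cov X l W) :
    IsAffineOpen V := by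
  unfold cov at h
  split at h
  · obtain ⟨V', -, rfl⟩ := h
    exact V'.2
  · exact absurd h (Set.notMem_empty _)

lemma le_of_mem_cov {l : Λ} {W V : (X.obj (op l)).Opens} (h : V ∈ cov X l W) : V ≤ W := by
  unfold cov at h
  split at h
  next hW =>
    obtain ⟨V', hV', rfl⟩ := h
    rw [(isCompact_iff_finite_and_eq_biUnion_affineOpens.1 hW).choose_spec.2]
    exact le_iSup₂_of_le (f := fun (i : (X.obj (op l)).affineOpens) (_ : i ∈ _) ↦ i.1) V' hV' le_rfl
  next => exact absurd h (Set.notMem_empty _)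

lemma exists_mem_cov {l : Λ} {W : (X.obj (op l)).Opens}
    (hW : IsCompact (W : Set (X.obj (op l)))) {x : X.obj (op l)} (hx : x ∈ W) :
    ∃ V ∈ cov X l W, x ∈ V := by
  rw [(isCompact_iff_finite_and_eq_biUnion_affineOpens.1 hW).choose_spec.2] at hx
  simp only [Opens.mem_iSup] at hx
  obtain ⟨V, hV, hxV⟩ := hx
  refine ⟨V, ?_, hxV⟩
  unfold cov
  rw [dif_pos hW]
  exact ⟨V, hV, rfl⟩

variable (X) in
/-- The open of `X l` on which the choices below `l` apply. -/
noncomputable def below (n : Λ) (U : ∀ m : Set.Iio n, (X.obj (op m.1)).Opens) :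
    (X.obj (op n)).Opens :=
  ⨅ m : Set.Iio n, tr X (le_of_lt m.2) ⁻¹ᵁ U m

variable (X) in
/-- Compatible choices of affine opens at all stages below `l`. -/
def Fam (l : Λ) : Type (max u v) :=
  {U : ∀ n : Set.Iic l, (X.obj (op n.1)).Opens //
    ∀ n : Set.Iic l, U n ∈ cov X n.1 (below X n.1 fun m ↦ U ⟨m.1, (le_of_lt m.2).trans n.2⟩)}

/-- Restriction of a choice. -/
def res {n l : Λ} (h : n ≤ l) (U : Fam X l) : Fam X n :=
  ⟨fun m ↦ U.1 ⟨m.1, le_trans (Set.mem_Iic.1 m.2) h⟩, fun m ↦ U.2 ⟨m.1, le_trans (Set.mem_Iic.1 m.2) h⟩⟩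

/-- The last open of a choice. -/
def top {l : Λ} (U : Fam X l) : (X.obj (op l)).Opens := U.1 ⟨l, Set.self_mem_Iic⟩

lemma top_le_preimage {n l : Λ} (h : n ≤ l) (U : Fam X l) :
    top U ≤ tr X h ⁻¹ᵁ top (res h U) := by
  rcases h.eq_or_lt with rfl | hlt
  · rw [show tr X (le_refl n) = 𝟙 _ from X.map_id _]
    exact le_rfl
  · refine (le_of_mem_cov (U.2 ⟨l, Set.self_mem_Iic⟩)).trans ?_
    exact iInf_le (fun m : Set.Iio l ↦
      tr X (le_of_lt m.2) ⁻¹ᵁ U.1 ⟨m.1, le_of_lt m.2⟩) ⟨n, hlt⟩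

lemma wellFoundedLT (hΛ : ∀ l : Λ, (Set.Iic l).Finite) : WellFoundedLT Λ :=
  ⟨Subrelation.wf (fun {a b} (h : a < b) ↦ Set.ncard_lt_ncard (Set.Iic_ssubset_Iic.2 h) (hΛ b))
    (InvImage.wf (fun l : Λ ↦ (Set.Iic l).ncard) Nat.lt_wfRel.wf)⟩

variable (hΛ : ∀ l : Λ, (Set.Iic l).Finite) (hqc : ∀ l : Λ, CompactSpace (X.obj (op l)))
  (hqs : ∀ l : Λ, QuasiSeparatedSpace (X.obj (op l)))

include hΛ hqc hqs in
lemma isCompact_below (n : Λ) (U : ∀ m : Set.Iio n, (X.obj (op m.1)).Opens)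
    (hU : ∀ m, IsAffineOpen (U m)) :
    IsCompact ((below X n U : (X.obj (op n)).Opens) : Set (X.obj (op n))) := by
  have : Finite (Set.Iio n) := ((hΛ n).subset Set.Iio_subset_Iic_self).to_subtype
  have := Fintype.ofFinite (Set.Iio n)
  have := hqc n
  have := hqs n
  rw [below, ← Finset.inf_univ_eq_iInf]
  induction (Finset.univ : Finset (Set.Iio n)) using Finset.cons_induction with
  | empty => simpa using isCompact_univ
  | cons a s ha ih =>
    rw [Finset.inf_cons]
    have := hqs a.1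
    have : QuasiCompact (tr X (le_of_lt a.2)) := inferInstance
    exact QuasiSeparatedSpace.inter_isCompact _ _ (Opens.isOpen _)
      ((tr X (le_of_lt a.2)).isCompact_preimage (hU a).isCompact) (Opens.isOpen _) ih

include hΛ in
lemma finite_fam (l : Λ) : Finite (Fam X l) := by
  have := wellFoundedLT hΛ
  induction l using WellFoundedLT.induction with
  | _ l ih =>
    have : Finite (Set.Iio l) := ((hΛ l).subset Set.Iio_subset_Iic_self).to_subtype
    have : ∀ m : Set.Iio l, Finite (Fam X m.1) := fun m ↦ ih m.1 m.2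
    let V : Set (X.obj (op l)).Opens :=
      ⋃ c : ∀ m : Set.Iio l, Fam X m.1, cov X l (below X l fun m ↦ top (c m))
    have : Finite V := (Set.finite_iUnion fun _ ↦ cov_finite).to_subtype
    have hV : ∀ U : Fam X l, top U ∈ V := fun U ↦
      Set.mem_iUnion.2 ⟨fun m ↦ res (le_of_lt m.2) U, U.2 ⟨l, Set.self_mem_Iic⟩⟩
    refine Finite.of_injective
      (fun U : Fam X l ↦ ((fun m : Set.Iio l ↦ res (le_of_lt m.2) U), (⟨top U, hV U⟩ : V)))
      fun U U' h ↦ ?_
    refine Subtype.ext (funext fun ⟨n, hn⟩ ↦ ?_)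
    rcases (Set.mem_Iic.1 hn).eq_or_lt with rfl | hlt
    · exact congrArg (fun p ↦ (p.2 : V).1) h
    · exact congrArg top (congrFun (congrArg Prod.fst h) ⟨n, hlt⟩)

include hΛ hqc hqs in
lemma exists_fam_mem (l : Λ) (x : X.obj (op l)) : ∃ U : Fam X l, x ∈ top U := by
  classical
  have := wellFoundedLT hΛ
  let G : ∀ n : Λ, n ≤ l → (X.obj (op n)).Opens :=
    (wellFounded_lt (α := Λ)).fix (C := fun n ↦ n ≤ l → (X.obj (op n)).Opens) fun n IH hn ↦
      if h : ∃ V ∈ cov X n (below X n fun m ↦ IH m.1 m.2 ((le_of_lt m.2).trans hn)), tr X hn x ∈ V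
      then h.choose else ⊥
  have hG : ∀ n (hn : n ≤ l),
      G n hn ∈ cov X n (below X n fun m ↦ G m.1 ((le_of_lt m.2).trans hn)) ∧ tr X hn x ∈ G n hn := by
    intro n
    induction n using WellFoundedLT.induction with
    | _ n ih =>
      intro hn
      have hmem : tr X hn x ∈ below X n fun m ↦ G m.1 ((le_of_lt m.2).trans hn) := by
        have : Finite (Set.Iio n) := ((hΛ n).subset Set.Iio_subset_Iic_self).to_subtype
        rw [← SetLike.mem_coe, below, Opens.coe_iInf, Set.mem_iInter]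
        intro m
        show tr X _ (tr X hn x) ∈ G m.1 _
        rw [← Scheme.Hom.comp_apply, ← X.map_comp]
        exact (ih m.1 m.2 _).2
      have hex := exists_mem_cov (isCompact_below hΛ hqc hqs n _ fun m ↦
        isAffineOpen_of_mem_cov (ih m.1 m.2 _).1) hmem
      rw [show G n hn = hex.choose by
        change (wellFounded_lt (α := Λ)).fix (C := fun n ↦ n ≤ l → (X.obj (op n)).Opens) _ n hn = _
        rw [WellFounded.fix_eq]
        exact dif_pos hex]
      exact hex.choose_spec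
  refine ⟨⟨fun n ↦ G n.1 n.2, fun n ↦ (hG n.1 n.2).1⟩, ?_⟩
  have := (hG l le_rfl).2
  rw [show tr X (le_refl l) = 𝟙 _ from X.map_id _] at this
  exact this

variable (X) in
/-- The number of choices. -/
noncomputable def num (l : Λ) : ℕ := Nat.card (Fam X l)

variable (X) in
/-- The enumeration of choices. -/
noncomputable def idx (l : Λ) : ULift.{u} (Fin (num X l)) ≃ Fam X l :=
  have := finite_fam (X := X) hΛ l
  Equiv.ulift.trans (Finite.equivFin _).symm

variable (X) in
/-- The affine scheme covering `X l`. -/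
noncomputable def Y (l : Λ) : Scheme.{u} := ∐ fun j ↦ (top (idx X hΛ l j) : Scheme.{u})

/-- The component of a choice. -/
noncomputable def inc {l : Λ} (U : Fam X l) : (top U : Scheme.{u}) ⟶ Y X hΛ l :=
  (X.obj (op l)).homOfLE (le_of_eq (congrArg top ((idx X hΛ l).apply_symm_apply U).symm)) ≫
    Sigma.ι (fun j ↦ (top (idx X hΛ l j) : Scheme.{u})) ((idx X hΛ l).symm U)

lemma inc_idx {l : Λ} (j : ULift.{u} (Fin (num X l))) :
    inc hΛ (idx X hΛ l j) = Sigma.ι (fun j ↦ (top (idx X hΛ l j) : Scheme.{u})) j := by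
  have : ∀ (j' : _) (h : j' = j) (e : top (idx X hΛ l j) ≤ top (idx X hΛ l j')),
      (X.obj (op l)).homOfLE e ≫ Sigma.ι (fun j ↦ (top (idx X hΛ l j) : Scheme.{u})) j' =
        Sigma.ι (fun j ↦ (top (idx X hΛ l j) : Scheme.{u})) j := by
    rintro _ rfl e
    simp
  exact this _ ((idx X hΛ l).symm_apply_apply j) _

variable (X) in
/-- The covering map. -/
noncomputable def proj (l : Λ) : Y X hΛ l ⟶ X.obj (op l) :=
  Sigma.desc fun j ↦ (top (idx X hΛ l j)).ι

lemma inc_proj {l : Λ} (U : Fam X l) : inc hΛ U ≫ proj X hΛ l = (top U).ι := by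
  simp [inc, proj]

variable (X) in
/-- The transition maps. -/
noncomputable def trY {n l : Λ} (h : n ≤ l) : Y X hΛ l ⟶ Y X hΛ n :=
  Sigma.desc fun j ↦ (tr X h).resLE _ _ (top_le_preimage h _) ≫ inc hΛ (res h (idx X hΛ l j))

lemma inc_trY {n l : Λ} (h : n ≤ l) (U : Fam X l) :
    inc hΛ U ≫ trY X hΛ h = (tr X h).resLE _ _ (top_le_preimage h U) ≫ inc hΛ (res h U) := by
  obtain ⟨j, rfl⟩ := (idx X hΛ l).surjective U
  rw [inc_idx, trY, Sigma.ι_desc]

lemma trY_refl (l : Λ) : trY X hΛ (le_refl l) = 𝟙 (Y X hΛ l) := by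
  refine Sigma.hom_ext _ _ fun j ↦ ?_
  have e : tr X (le_refl l) = 𝟙 _ := X.map_id _
  have key : ∀ (f : X.obj (op l) ⟶ X.obj (op l)) (_ : f = 𝟙 _)
      (h : top (idx X hΛ l j) ≤ f ⁻¹ᵁ top (res le_rfl (idx X hΛ l j))),
      f.resLE _ _ h ≫ inc hΛ (res le_rfl (idx X hΛ l j)) = inc hΛ (idx X hΛ l j) := by
    rintro _ rfl h
    rw [Scheme.Hom.resLE_id]
    exact (congrArg (· ≫ _) (Scheme.homOfLE_rfl _ _)).trans (Category.id_comp _)
  refine Eq.trans ?_ (Category.comp_id _).symm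
  show Sigma.ι (fun j ↦ (top (idx X hΛ l j) : Scheme.{u})) j ≫ trY X hΛ (le_refl l) = _
  rw [← inc_idx, inc_trY]
  exact key _ e _

lemma trY_comp {m n l : Λ} (h : m ≤ n) (h' : n ≤ l) :
    trY X hΛ h' ≫ trY X hΛ h = trY X hΛ (h.trans h') := by
  refine Sigma.hom_ext _ _ fun j ↦ ?_
  rw [← inc_idx, ← Category.assoc, inc_trY, inc_trY, Category.assoc, inc_trY,
    Scheme.Hom.resLE_comp_resLE_assoc]
  have e : tr X h' ≫ tr X h = tr X (h.trans h') := by rw [← X.map_comp]; rfl
  have key : ∀ (f : X.obj (op l) ⟶ X.obj (op m)) (_ : f = tr X (h.trans h'))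
      (hle : top (idx X hΛ l j) ≤ f ⁻¹ᵁ top (res (h.trans h') (idx X hΛ l j))),
      f.resLE _ _ hle ≫ inc hΛ (res (h.trans h') (idx X hΛ l j)) =
        (tr X (h.trans h')).resLE _ _ (top_le_preimage _ _) ≫ inc hΛ (res (h.trans h') (idx X hΛ l j)) := by
    rintro _ rfl hle
    rfl
  exact key _ e _

lemma trY_proj {n l : Λ} (h : n ≤ l) :
    trY X hΛ h ≫ proj X hΛ n = proj X hΛ l ≫ tr X h := by
  refine Sigma.hom_ext _ _ fun j ↦ ?_
  rw [← inc_idx, ← Category.assoc, inc_trY, Category.assoc, inc_proj, ← Category.assoc, inc_proj,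
    Scheme.Hom.resLE_comp_ι]

include hΛ hqc hqs in
/-- The covering theorem. -/
theorem exists_affine_cover :
    ∃ (Y : Λᵒᵖ ⥤ Scheme.{u}) (π : Y ⟶ X), ∀ l : Λ,
      IsAffine (Y.obj (op l)) ∧ Surjective (π.app (op l)) ∧
        ∃ (ι : Type u) (U : ι → (Y.obj (op l)).Opens),
          Pairwise (fun i j => Disjoint (U i) (U j)) ∧ iSup U = ⊤ ∧
            ∀ i, IsOpenImmersion ((U i).ι ≫ π.app (op l)) := by
  let F : Λᵒᵖ ⥤ Scheme.{u} :=
    { obj := fun l ↦ Y X hΛ l.unop
      map := fun f ↦ trY X hΛ (leOfHom f.unop)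
      map_id := fun l ↦ trY_refl hΛ l.unop
      map_comp := fun f g ↦ (trY_comp hΛ (leOfHom g.unop) (leOfHom f.unop)).symm }
  let π : F ⟶ X :=
    { app := fun l ↦ proj X hΛ l.unop
      naturality := fun _ _ f ↦ trY_proj hΛ (leOfHom f.unop) }
  refine ⟨F, π, fun l ↦ ⟨?_, ⟨fun x ↦ ?_⟩, ULift.{u} (Fin (num X l)),
    fun j ↦ (Sigma.ι (fun j ↦ (top (idx X hΛ l j) : Scheme.{u})) j).opensRange, ?_, ?_, fun j ↦ ?_⟩⟩
  · have : ∀ j, IsAffine (top (idx X hΛ l j) : Scheme.{u}) := fun j ↦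
      isAffineOpen_of_mem_cov ((idx X hΛ l j).2 ⟨l, Set.self_mem_Iic⟩)
    exact inferInstanceAs (IsAffine (∐ fun j ↦ (top (idx X hΛ l j) : Scheme.{u})))
  · obtain ⟨U, hU⟩ := exists_fam_mem hΛ hqc hqs l x
    refine ⟨inc hΛ U ⟨x, hU⟩, ?_⟩
    show proj X hΛ l (inc hΛ U ⟨x, hU⟩) = x
    rw [← Scheme.Hom.comp_apply, inc_proj]
    rfl
  · intro i j h
    exact disjoint_opensRange_sigmaι.{u} (fun j ↦ (top (idx X hΛ l j) : Scheme.{u})) i j h
  · exact (sigmaOpenCover _).iSup_opensRange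
  · let f := Sigma.ι (fun j ↦ (top (idx X hΛ l j) : Scheme.{u})) j
    show IsOpenImmersion (f.opensRange.ι ≫ proj X hΛ l)
    let e := IsOpenImmersion.isoOfRangeEq f f.opensRange.ι (by rw [Scheme.Opens.range_ι]; rfl)
    have h1 : f.opensRange.ι = e.inv ≫ f :=
      (IsOpenImmersion.isoOfRangeEq_inv_fac _ _ _).symm
    rw [h1, Category.assoc, show f ≫ proj X hΛ l = (top (idx X hΛ l j)).ι by
      simp only [f]; rw [← inc_idx, inc_proj]]
    infer_instance

end Groth.Limits.CofiniteCover
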