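import Mathlib.RingTheory.TensorProduct.Basic
import Mathlib.RingTheory.TensorProduct.Nontrivial
import Mathlib.RingTheory.Ideal.Maximal
import Mathlib.Algebra.MvPolynomial.Eval
import Mathlib.Algebra.MvPolynomial.CommRing
import Mathlib.AlgebraicGeometry.ResidueField
import Mathlib.AlgebraicGeometry.Morphisms.Basic

/-!
# A common extension of a family of field extensions
-/

universe u

open CategoryTheory AlgebraicGeometry TensorProduct

namespace Groth.Limits

variable (k : Type u) [Field k] {ι : Type u} (L : ι → Type u) [∀ i, Field (L i)]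
  [∀ i, Algebra k (L i)]

theorem exists_field_finset (F : Finset ι) :
    ∃ (K : Type u) (_ : Field K) (_ : Algebra k K), ∀ i ∈ F, Nonempty (L i →ₐ[k] K) := by
  classical
  induction F using Finset.induction with
  | empty => exact ⟨k, inferInstance, inferInstance, by simp⟩
  | insert a s _ ih =>
    obtain ⟨K, _, _, hK⟩ := ih
    obtain ⟨m, hm⟩ := Ideal.exists_maximal (K ⊗[k] L a)
    letI := Ideal.Quotient.field m
    let q : K ⊗[k] L a →ₐ[k] (K ⊗[k] L a) ⧸ m := Ideal.Quotient.mkₐ k m
    refine ⟨(K ⊗[k] L a) ⧸ m, inferInstance, inferInstance, fun i hi ↦ ?_⟩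
    rcases Finset.mem_insert.mp hi with rfl | hi
    · exact ⟨q.comp Algebra.TensorProduct.includeRight⟩
    · exact ⟨(q.comp Algebra.TensorProduct.includeLeft).comp (hK i hi).some⟩

theorem exists_field_forall :
    ∃ (K : Type u) (_ : Field K) (_ : Algebra k K), ∀ i, Nonempty (L i →ₐ[k] K) := by
  classical
  let inc (i : ι) : MvPolynomial (L i) k →ₐ[k] (MvPolynomial (Σ i, L i) k) := MvPolynomial.rename fun x ↦ ⟨i, x⟩
  let p (i : ι) : MvPolynomial (L i) k →ₐ[k] L i := MvPolynomial.aeval id
  let N (i : ι) : Ideal (MvPolynomial (Σ i, L i) k) := (RingHom.ker (p i)).map (inc i)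
  have hne : (⨆ i, N i) ≠ ⊤ := by
    intro h
    have hc : IsCompactElement (⊤ : Ideal (MvPolynomial (Σ i, L i) k)) :=
      (Submodule.fg_iff_compact (⊤ : Ideal (MvPolynomial (Σ i, L i) k))).mp ⟨{1}, by simp⟩
    obtain ⟨F, hF⟩ := CompleteLattice.isCompactElement_iff_exists_le_iSup_of_le_iSup
      (⊤ : Ideal (MvPolynomial (Σ i, L i) k)) |>.mp hc ι N h.ge
    obtain ⟨K, _, _, hK⟩ := exists_field_finset k L F
    let e : (MvPolynomial (Σ i, L i) k) →ₐ[k] K := MvPolynomial.aeval fun x ↦
      if hx : x.1 ∈ F then (hK x.1 hx).some x.2 else 0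
    have : (⨆ i ∈ F, N i) ≤ RingHom.ker e := iSup₂_le fun i hi ↦ by
      rw [Ideal.map_le_iff_le_comap]
      intro z hz
      rw [RingHom.mem_ker] at hz
      rw [Ideal.mem_comap, RingHom.mem_ker]
      have he : e.comp (inc i) = (hK i hi).some.comp (p i) := by
        refine MvPolynomial.algHom_ext fun x ↦ ?_
        simp only [e, inc, p, AlgHom.comp_apply, MvPolynomial.rename_X, MvPolynomial.aeval_X]
        exact (dif_pos hi).trans rfl
      exact (DFunLike.congr_fun he z).trans (by simp [hz])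
    have h1 := this ((Finset.sup_eq_iSup F N ▸ hF) (Submodule.mem_top (x := (1 : (MvPolynomial (Σ i, L i) k)))))
    simp at h1
  obtain ⟨m, hm, hle⟩ := Ideal.exists_le_maximal _ hne
  letI := Ideal.Quotient.field m
  refine ⟨(MvPolynomial (Σ i, L i) k) ⧸ m, inferInstance, inferInstance, fun i ↦ ?_⟩
  have hs : Function.Surjective (p i) := fun x ↦ ⟨MvPolynomial.X x, by simp [p]⟩
  exact ⟨AlgHom.liftOfSurjective (p i) hs ((Ideal.Quotient.mkₐ k m).comp (inc i)) fun z hz ↦ by
    rw [RingHom.mem_ker]
    exact Ideal.Quotient.eq_zero_iff_mem.mpr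
      (hle (le_iSup N i (Ideal.mem_map_of_mem _ hz)))⟩

/-- Points over a common point are dominated by a common field-valued point. -/
theorem exists_field_point {S : Scheme.{u}} {ι : Type u} {T : ι → Scheme.{u}} (f : ∀ i, T i ⟶ S)
    (s : S) (x : ∀ i, T i) (hx : ∀ i, f i (x i) = s) :
    ∃ (K : Type u) (_ : Field K) (p : Spec (.of K) ⟶ S) (q : ∀ i, Spec (.of K) ⟶ T i),
      (∀ i, q i ≫ f i = p) ∧ ∀ z, p z = s := by
  let φ (i : ι) : S.residueField s ⟶ (T i).residueField (x i) :=
    (S.residueFieldCongr (hx i).symm).hom ≫ (f i).residueFieldMap (x i)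
  letI (i : ι) : Algebra (S.residueField s) ((T i).residueField (x i)) := (φ i).hom.toAlgebra
  obtain ⟨K, _, _, hK⟩ := exists_field_forall (S.residueField s)
    (fun i ↦ (T i).residueField (x i))
  refine ⟨K, inferInstance, Spec.map (CommRingCat.ofHom (algebraMap (S.residueField s) K)) ≫
    S.fromSpecResidueField s, fun i ↦ Spec.map (CommRingCat.ofHom (hK i).some.toRingHom) ≫
      (T i).fromSpecResidueField (x i), fun i ↦ ?_, fun z ↦ ?_⟩
  · rw [Category.assoc, ← Scheme.Hom.SpecMap_residueFieldMap_fromSpecResidueField,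
      ← S.residueFieldCongr_fromSpecResidueField (hx i).symm, ← Category.assoc, ← Category.assoc,
      ← Spec.map_comp, ← Spec.map_comp]
    congr 2
    ext a
    exact (hK i).some.commutes a
  · rw [Scheme.Hom.comp_apply]
    exact Scheme.fromSpecResidueField_apply _ _

end Groth.Limits
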