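import Groth.Prelude
import Mathlib

/-!
# Affine morphisms with free direct image over a scheme with only constant functions
-/

universe u

open CategoryTheory CategoryTheory.Limits AlgebraicGeometry Opposite TopologicalSpace

namespace Groth.LimConstFinite

theorem app_finsum {P : Scheme.{u}} {M N : P.Modules} {ι : Type*} (s : Finset ι) (f : ι → (M ⟶ N))
    (U : P.Opens) (x : Γ(M, U)) :
    Scheme.Modules.Hom.app (∑ i ∈ s, f i) U x = ∑ i ∈ s, Scheme.Modules.Hom.app (f i) U x := by
  classical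
  induction s using Finset.induction_on with
  | empty => simp
  | insert a s ha ih => simp [Finset.sum_insert ha, ih]

theorem app_smul' {P : Scheme.{u}} {M N : P.Modules} (f : M ⟶ N) (U : P.Opens) (r : Γ(P, U))
    (x : Γ(M, U)) : Scheme.Modules.Hom.app f U (r • x) = r • Scheme.Modules.Hom.app f U x :=
  ((f.val.app (op U)).hom.map_smul r x)

variable {k : Type u} [Field k] {P F : Scheme.{u}}

theorem exists_gens (f : F ⟶ P) {ι : Type u} [Fintype ι]
    (e : (Scheme.Modules.pushforward f).obj (SheafOfModules.unit F.ringCatSheaf) ≅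
      ∐ fun _ : ι => (SheafOfModules.unit P.ringCatSheaf : P.Modules)) :
    ∃ a : ι → Γ(F, ⊤), ∀ U : P.Opens, Function.Bijective
      (fun c : ι → Γ(P, U) => ∑ i, f.app U (c i) *
        F.presheaf.map (homOfLE (show f ⁻¹ᵁ U ≤ ⊤ from le_top)).op (a i)) := by
  classical
  let u : P.Modules := SheafOfModules.unit P.ringCatSheaf
  let M := (Scheme.Modules.pushforward f).obj (SheafOfModules.unit F.ringCatSheaf)
  let inj : ι → (u ⟶ ∐ fun _ : ι => u) := fun i => Sigma.ι (fun _ : ι => u) i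
  let prj : ι → ((∐ fun _ : ι => u) ⟶ u) := fun i =>
    Sigma.desc fun j => if j = i then 𝟙 u else 0
  have hid : ∑ i, prj i ≫ inj i = 𝟙 _ := by
    refine Sigma.hom_ext _ _ fun j => ?_
    simp only [Preadditive.comp_sum, Category.comp_id, prj, inj, Sigma.ι_desc_assoc]
    rw [Finset.sum_eq_single j]
    · simp
    · intro b _ hb
      rw [if_neg (Ne.symm hb), zero_comp]
    · simp
  have hij : ∀ i j, inj i ≫ prj j = if i = j then 𝟙 u else 0 := fun i j => by
    simp [inj, prj]
  let one : (U : P.Opens) → Γ(u, U) := fun U => (1 : Γ(P, U))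
  let g : ι → Γ(M, ⊤) := fun i =>
    Scheme.Modules.Hom.app e.inv ⊤ (Scheme.Modules.Hom.app (inj i) ⊤ (one ⊤))
  refine ⟨fun i => (g i : Γ(F, ⊤)), fun U => ?_⟩
  let gU : ι → Γ(M, U) := fun i =>
    Scheme.Modules.Hom.app e.inv U (Scheme.Modules.Hom.app (inj i) U (one U))
  have hg : ∀ i, M.presheaf.map (homOfLE (le_top : U ≤ ⊤)).op (g i) = gU i := by
    intro i
    have h1 : ∀ {A B : P.Modules} (φ : A ⟶ B) (x : Γ(A, ⊤)),
        B.presheaf.map (homOfLE (le_top : U ≤ ⊤)).op (Scheme.Modules.Hom.app φ ⊤ x) =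
          Scheme.Modules.Hom.app φ U (A.presheaf.map (homOfLE (le_top : U ≤ ⊤)).op x) := fun φ x =>
      (ConcreteCategory.congr_hom (φ.mapPresheaf.naturality (homOfLE (le_top : U ≤ ⊤)).op) x).symm
    simp only [g, gU, h1]
    exact congrArg (fun t => Scheme.Modules.Hom.app e.inv U (Scheme.Modules.Hom.app (inj i) U t))
      (map_one (P.presheaf.map (homOfLE (le_top : U ≤ ⊤)).op).hom)
  have hbij : Function.Bijective (fun c : ι → Γ(P, U) => ∑ i, c i • gU i) := by
    let co : ι → Γ(M, U) → Γ(P, U) := fun i x =>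
      Scheme.Modules.Hom.app (prj i) U (Scheme.Modules.Hom.app e.hom U x)
    have hrec : ∀ x, ∑ i, co i x • gU i = x := by
      intro x
      have h2 : ∀ i, co i x • gU i = Scheme.Modules.Hom.app e.inv U
          (Scheme.Modules.Hom.app (prj i ≫ inj i) U (Scheme.Modules.Hom.app e.hom U x)) := fun i => by
        rw [Scheme.Modules.Hom.comp_app]
        simp only [gU, ← app_smul']
        exact congrArg (fun t => Scheme.Modules.Hom.app e.inv U (Scheme.Modules.Hom.app (inj i) U t))
          (mul_one (co i x))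
      rw [Finset.sum_congr rfl fun i _ => h2 i, ← map_sum, ← app_finsum, hid]
      change Scheme.Modules.Hom.app (e.hom ≫ e.inv) U x = x
      rw [e.hom_inv_id]
      rfl
    have hco : ∀ (c : ι → Γ(P, U)) j, co j (∑ i, c i • gU i) = c j := by
      intro c j
      simp only [co, map_sum, app_smul', gU]
      have h3 : ∀ i, Scheme.Modules.Hom.app (prj j) U (Scheme.Modules.Hom.app e.hom U
          (Scheme.Modules.Hom.app e.inv U (Scheme.Modules.Hom.app (inj i) U (one U)))) =
            Scheme.Modules.Hom.app (if i = j then 𝟙 u else 0) U (one U) := fun i => by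
        rw [← hij]
        change Scheme.Modules.Hom.app (inj i ≫ e.inv ≫ e.hom ≫ prj j) U (one U) = _
        rw [e.inv_hom_id_assoc]
      simp only [h3]
      rw [Finset.sum_eq_single j]
      · simp only [if_pos]
        exact mul_one (c j)
      · intro b _ hb
        rw [if_neg hb]
        simp
      · simp
    refine ⟨fun c c' h => funext fun j => ?_, fun x => ⟨fun i => co i x, hrec x⟩⟩
    have h4 := congrArg (co j) h
    simpa only [hco] using h4
  have heq : (fun c : ι → Γ(P, U) => ∑ i, c i • gU i) = (fun c : ι → Γ(P, U) =>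
      ((∑ i, f.app U (c i) *
        F.presheaf.map (homOfLE (show f ⁻¹ᵁ U ≤ ⊤ from le_top)).op (g i : Γ(F, ⊤)) :
          Γ(F, f ⁻¹ᵁ U)) : Γ(M, U))) := funext fun c =>
    Finset.sum_congr rfl fun i _ => by rw [← hg i]; rfl
  rw [heq] at hbij
  exact hbij

/-- A morphism `f : F → P` over `k` with `f` affine, `f_*O` free and `Γ(P, O) = k` is a base change of an
affine `k`-scheme. -/
theorem exists_isPullback (pk : P ⟶ Spec (CommRingCat.of k))
    (hP : Function.Bijective (Coh.toGlobal pk)) (f : F ⟶ P) [IsAffineHom f] {ι : Type u} [Fintype ι]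
    (e : (Scheme.Modules.pushforward f).obj (SheafOfModules.unit F.ringCatSheaf) ≅
      ∐ fun _ : ι => (SheafOfModules.unit P.ringCatSheaf : P.Modules)) :
    ∃ (B : CommRingCat.{u}) (a : Spec B ⟶ Spec (CommRingCat.of k)) (c : F ⟶ Spec B),
      IsPullback c f a pk := by
  classical
  obtain ⟨g, hg⟩ := exists_gens f e
  let R : CommRingCat.{u} := CommRingCat.of k
  let φP : R ⟶ Γ(P, ⊤) := (Scheme.ΓSpecIso R).inv ≫ pk.appTop
  let φA : R ⟶ Γ(F, ⊤) := φP ≫ f.appTop
  let a : Spec Γ(F, ⊤) ⟶ Spec R := Spec.map φA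
  have hw : F.toSpecΓ ≫ a = f ≫ pk := by
    have h1 : F.toSpecΓ ≫ Spec.map (f ≫ pk).appTop = (f ≫ pk) ≫ (Spec R).toSpecΓ :=
      (Scheme.toSpecΓ_naturality (f ≫ pk)).symm
    have h2 : (Spec R).toSpecΓ ≫ Spec.map (Scheme.ΓSpecIso R).inv = 𝟙 _ :=
      toSpecΓ_SpecMap_ΓSpecIso_inv R
    calc F.toSpecΓ ≫ a
        = F.toSpecΓ ≫ Spec.map (f ≫ pk).appTop ≫ Spec.map (Scheme.ΓSpecIso R).inv := by
          rw [← Spec.map_comp]
          rfl
      _ = _ := by rw [reassoc_of% h1, h2, Category.comp_id]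
  let φ : F ⟶ pullback a pk := pullback.lift F.toSpecΓ f hw
  have hφ : φ ≫ pullback.snd a pk = f := pullback.lift_snd _ _ _
  have : IsAffineHom a := isAffineHom_of_isAffine a
  have : IsAffineHom (pullback.snd a pk) := MorphismProperty.pullback_snd _ _ ‹IsAffineHom a›
  have : IsAffineHom (φ ≫ pullback.snd a pk) := by rw [hφ]; infer_instance
  have : IsAffineHom φ := IsAffineHom.of_comp φ (pullback.snd a pk)
  have key : IsIso φ := by
    refine IsZariskiLocalAtTarget.of_iSup_eq_top (P := MorphismProperty.isomorphisms Scheme)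
      (fun U : P.affineOpens => pullback.snd a pk ⁻¹ᵁ (U : P.Opens)) ?_ fun U => ?_
    · rw [← Scheme.Hom.preimage_iSup, iSup_affineOpens_eq_top]
      rfl
    rw [MorphismProperty.isomorphisms.iff,
      isIso_morphismRestrict_iff_isIso_app φ (U.2.preimage (pullback.snd a pk))]
    -- the two pushout squares
    let UQ := pullback.snd a pk ⁻¹ᵁ (U : P.Opens)
    have hUQ : UQ = pullback.fst a pk ⁻¹ᵁ ⊤ ⊓ UQ := by simp
    have h1 := (isIso_pushoutSection_iff (IsPullback.of_hasPullback a pk)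
      (US := (⊤ : (Spec R).Opens)) (UT := (U : P.Opens)) (UX := ⊤)
      (show (U : P.Opens) ≤ pk ⁻¹ᵁ ⊤ from le_top) (show (⊤ : (Spec Γ(F, ⊤)).Opens) ≤ a ⁻¹ᵁ ⊤ from le_top)
      hUQ).mp (isIso_pushoutSection_of_isAffineOpen _ _ _ _ (isAffineOpen_top _) U.2 (isAffineOpen_top _))
    -- algebra
    let φU : R ⟶ Γ(P, (U : P.Opens)) := (Scheme.ΓSpecIso R).inv ≫ pk.appLE ⊤ U le_top
    let T := Γ(F, f ⁻¹ᵁ (U : P.Opens))
    let rT : Γ(F, ⊤) ⟶ T := F.presheaf.map (homOfLE le_top).op
    have hcomm : φA ≫ rT = φU ≫ f.app U := by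
      simp only [φA, φP, φU, rT, Category.assoc]
      congr 1
      simp only [Scheme.Hom.appLE, Category.assoc, Scheme.Hom.naturality]
      rfl
    letI : Algebra k Γ(P, (U : P.Opens)) := φU.hom.toAlgebra
    letI : Algebra k Γ(F, ⊤) := φA.hom.toAlgebra
    letI : Algebra Γ(P, (U : P.Opens)) T := (f.app U).hom.toAlgebra
    letI : Algebra Γ(F, ⊤) T := rT.hom.toAlgebra
    letI : Algebra k T := (φA ≫ rT).hom.toAlgebra
    haveI : IsScalarTower k Γ(F, ⊤) T := IsScalarTower.of_algebraMap_eq fun _ => rfl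
    haveI : IsScalarTower k Γ(P, (U : P.Opens)) T := IsScalarTower.of_algebraMap_eq fun x =>
      congrArg (fun m => (CommRingCat.Hom.hom m) x) hcomm
    have hk : Function.Bijective (fun c : ι → k => ∑ i, c i • g i) := by
      have h2 := (hg ⊤).comp (f := fun c : ι → k => fun i => φP.hom (c i))
        (Function.Bijective.piMap fun _ : ι => hP)
      convert! h2 using 1
      funext c
      refine Finset.sum_congr rfl fun i _ => ?_
      have h8 : F.presheaf.map (homOfLE (show f ⁻¹ᵁ ⊤ ≤ ⊤ from le_top)).op (g i) = g i :=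
        ConcreteCategory.congr_hom (F.presheaf.map_id (op ⊤)) (g i)
      simp only [h8, Algebra.smul_def]
      rfl
    let bA : Module.Basis ι k Γ(F, ⊤) :=
      Module.Basis.ofEquivFun (LinearEquiv.ofBijective (Fintype.linearCombination k g) hk).symm
    have hbA : ∀ i, bA i = g i := fun i => by
      simp [bA, Fintype.linearCombination_apply_single]
    let bT : Module.Basis ι Γ(P, (U : P.Opens)) T :=
      Module.Basis.ofEquivFun (LinearEquiv.ofBijective
        (Fintype.linearCombination Γ(P, (U : P.Opens)) fun i => rT (g i)) (hg U)).symm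
    have hbT : ∀ i, bT i = rT (g i) := fun i => by
      simp [bT, Fintype.linearCombination_apply_single]
    haveI : Algebra.IsPushout k Γ(P, (U : P.Opens)) Γ(F, ⊤) T := by
      refine ⟨IsBaseChange.of_equiv ((bA.baseChange _).equiv bT (Equiv.refl _)) fun x => ?_⟩
      refine LinearMap.congr_fun (f := ((((bA.baseChange Γ(P, (U : P.Opens))).equiv bT
        (Equiv.refl _)).toLinearMap).restrictScalars k).comp
          ((TensorProduct.mk k Γ(P, (U : P.Opens)) Γ(F, ⊤)) 1))
        (g := (IsScalarTower.toAlgHom k Γ(F, ⊤) T).toLinearMap) (bA.ext fun i => ?_) x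
      simp only [LinearMap.comp_apply, TensorProduct.mk_apply, LinearMap.restrictScalars_apply,
        LinearEquiv.coe_coe, AlgHom.toLinearMap_apply, IsScalarTower.coe_toAlgHom']
      rw [← Module.Basis.baseChange_apply, Module.Basis.equiv_apply, hbA]
      exact hbT i
    have h3 : IsPushout φA φU rT (f.app U) := (CommRingCat.isPushout_of_isPushout k
      Γ(P, (U : P.Opens)) Γ(F, ⊤) T).flip
    have h4 : IsPushout (a.appLE ⊤ ⊤ le_top) (pk.appLE ⊤ U le_top)
        ((Scheme.ΓSpecIso Γ(F, ⊤)).hom ≫ rT) (f.app U) := by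
      refine h3.of_iso (Scheme.ΓSpecIso R).symm (Scheme.ΓSpecIso Γ(F, ⊤)).symm (Iso.refl _)
        (Iso.refl _) ?_ ?_ ?_ ?_
      · simp only [Iso.symm_hom, a]
        rw [Scheme.ΓSpecIso_inv_naturality, Scheme.Hom.appTop, Scheme.Hom.app_eq_appLE (Spec.map φA)]
        rfl
      · simp [φU]
      · simp
      · simp
    have hpre : f ⁻¹ᵁ (U : P.Opens) = φ ⁻¹ᵁ UQ := by
      change f ⁻¹ᵁ (U : P.Opens) = (φ ≫ pullback.snd a pk) ⁻¹ᵁ (U : P.Opens)
      rw [hφ]
    have h5 : (pullback.fst a pk).appLE ⊤ UQ (by simp) ≫ φ.appLE UQ (f ⁻¹ᵁ U) hpre.le =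
        (Scheme.ΓSpecIso Γ(F, ⊤)).hom ≫ rT := by
      rw [Scheme.Hom.appLE_comp_appLE]
      simp only [φ, pullback.lift_fst]
      rw [Scheme.Hom.appLE, ← Scheme.toSpecΓ_appTop]
      rfl
    have h6 : (pullback.snd a pk).appLE U UQ le_rfl ≫ φ.appLE UQ (f ⁻¹ᵁ U) hpre.le = f.app U := by
      rw [Scheme.Hom.appLE_comp_appLE]
      simp only [φ, pullback.lift_snd]
      exact (Scheme.Hom.app_eq_appLE f).symm
    have h7 : φ.appLE UQ (f ⁻¹ᵁ U) hpre.le = (h1.isoPushout ≪≫ h4.isoPushout.symm).hom := by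
      refine h1.hom_ext ?_ ?_
      · rw [h5]; simp
      · rw [h6]; simp
    have h8 : IsIso (φ.appLE UQ (f ⁻¹ᵁ U) hpre.le) := by rw [h7]; infer_instance
    rw [Scheme.Hom.appLE] at h8
    haveI : IsIso (homOfLE hpre.le).op := ⟨(homOfLE hpre.ge).op, rfl, rfl⟩
    exact IsIso.of_isIso_comp_right (φ.app UQ) (F.presheaf.map (homOfLE hpre.le).op)
  exact ⟨_, a, F.toSpecΓ, IsPullback.of_iso_pullback ⟨hw⟩ (asIso φ) (pullback.lift_fst _ _ _)
    (pullback.lift_snd _ _ _)⟩

end Groth.LimConstFinite
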