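import Mathlib.RingTheory.RingHom.FinitePresentation
import Mathlib.Algebra.Category.Ring.Under.Basic
import Mathlib.Algebra.Category.Ring.FilteredColimits
import Mathlib.Algebra.Category.Ring.Colimits
import Mathlib.CategoryTheory.Limits.Types.Filtered
import Mathlib.CategoryTheory.Limits.Constructions.Over.Connected
import Mathlib.RingTheory.Ideal.Quotient.Operations

/-!
# Algebras of finite presentation are those whose identity factors through stages of every colimit
-/

universe u

open CategoryTheory Limits

namespace Groth.Limits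

/-- A retract of an algebra of finite presentation is of finite presentation. -/
theorem finitePresentation_of_retract {A Q B : Type u} [CommRing A] [CommRing Q] [CommRing B]
    [Algebra A Q] [Algebra A B] [Algebra.FinitePresentation A Q] (π : Q →ₐ[A] B) (s : B →ₐ[A] Q)
    (h : π.comp s = AlgHom.id A B) : Algebra.FinitePresentation A B := by
  classical
  have hπ : ∀ b, π (s b) = b := fun b ↦ DFunLike.congr_fun h b
  obtain ⟨G, hG⟩ := (inferInstance : Algebra.FiniteType A Q).out
  refine Algebra.FinitePresentation.of_surjective (f := π) (fun b ↦ ⟨s b, hπ b⟩)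
    ⟨G.image fun x ↦ x - s (π x), le_antisymm ?_ fun q hq ↦ ?_⟩
  · refine Ideal.span_le.mpr fun x hx ↦ ?_
    obtain ⟨y, -, rfl⟩ := Finset.mem_image.mp hx
    simp [hπ]
  · let J := Ideal.span ((G.image fun x ↦ x - s (π x) : Finset Q) : Set Q)
    let m := Ideal.Quotient.mkₐ A J
    have : m = m.comp (s.comp π) := by
      refine AlgHom.ext_of_adjoin_eq_top hG fun x hx ↦ ?_
      exact (Ideal.Quotient.eq (I := J)).mpr (Ideal.subset_span (Finset.mem_image_of_mem _ hx))
    have h₂ := DFunLike.congr_fun this q
    rw [RingHom.mem_ker] at hq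
    simp only [AlgHom.coe_comp, Function.comp_apply] at h₂
    rw [show π q = 0 from hq, map_zero, map_zero] at h₂
    exact Ideal.Quotient.eq_zero_iff_mem.mp h₂

variable {A : CommRingCat.{u}} {J : Type u} [Preorder J] [IsDirected J (· ≤ ·)] [Nonempty J]

/-- Criterion for a directed system of algebras to have a given colimit. -/
noncomputable def isColimitOfElements {F : J ⥤ Under A} (c : Cocone F)
    (hsurj : ∀ x : c.pt.right, ∃ (i : J) (xi : (F.obj i).right), (c.ι.app i).right xi = x)
    (hinj : ∀ (i : J) (x y : (F.obj i).right), (c.ι.app i).right x = (c.ι.app i).right y →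
      ∃ (k : J) (f : i ⟶ k), (F.map f).right x = (F.map f).right y) : IsColimit c :=
  have : IsConnected J := IsFiltered.isConnected J
  have : ReflectsColimit F (Under.forget A) :=
    reflectsColimit_of_reflectsIsomorphisms F (Under.forget A)
  have : ReflectsColimit (F ⋙ Under.forget A) (forget CommRingCat.{u}) :=
    reflectsColimit_of_reflectsIsomorphisms _ _
  isColimitOfReflects (Under.forget A) (isColimitOfReflects (forget CommRingCat.{u})
    (Types.FilteredColimit.isColimitOf' _ _
      (fun x ↦ by obtain ⟨i, xi, h⟩ := hsurj x; exact ⟨i, xi, h.symm⟩) hinj))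

end Groth.Limits

namespace Groth.Limits

variable (A : CommRingCat.{u}) (B : Type u) [CommRing B] [Algebra A B]

/-- The system of finitely generated subalgebras. -/
noncomputable def adjoinSystem : Finset B ⥤ Under A where
  obj S := A.mkUnder (Algebra.adjoin A (S : Set B))
  map {S T} h := (Subalgebra.inclusion (Algebra.adjoin_mono (Finset.coe_subset.mpr (leOfHom h)))).toUnder
  map_id S := by ext; rfl
  map_comp f g := by ext; rfl

/-- `B` as a cocone on `adjoinSystem`. -/
noncomputable def adjoinCocone : Cocone (adjoinSystem A B) where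
  pt := A.mkUnder B
  ι :=
  { app := fun S ↦ (Algebra.adjoin A (S : Set B)).val.toUnder
    naturality := fun S T h ↦ by ext; rfl }

/-- The quotients by finitely generated parts of a kernel. -/
noncomputable def quotientSystem {n : ℕ} (p : MvPolynomial (Fin n) A →ₐ[A] B) :
    Finset (RingHom.ker p) ⥤ Under A where
  obj R := A.mkUnder (MvPolynomial (Fin n) A ⧸ Ideal.span (Subtype.val '' (R : Set (RingHom.ker p))))
  map {R R'} h := (Ideal.Quotient.factorₐ A
    (Ideal.span_mono (Set.image_mono (Finset.coe_subset.mpr (leOfHom h))))).toUnder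
  map_id R := by
    ext x
    obtain ⟨x, rfl⟩ := Ideal.Quotient.mk_surjective x
    rfl
  map_comp f g := by
    ext x
    obtain ⟨x, rfl⟩ := Ideal.Quotient.mk_surjective x
    rfl

/-- `B` as a cocone on `quotientSystem`. -/
noncomputable def quotientCocone {n : ℕ} (p : MvPolynomial (Fin n) A →ₐ[A] B) :
    Cocone (quotientSystem A B p) where
  pt := A.mkUnder B
  ι :=
  { app := fun R ↦ (Ideal.Quotient.liftₐ _ p fun a ha ↦ RingHom.mem_ker.mp
      (Ideal.span_le.mpr (by rintro _ ⟨⟨x, hx⟩, -, rfl⟩; exact hx) ha)).toUnder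
    naturality := fun R R' h ↦ by
      ext x
      obtain ⟨x, rfl⟩ := Ideal.Quotient.mk_surjective x
      rfl }

/-- If the identity factors through a stage of every directed colimit presentation, then the
algebra is of finite presentation. -/
theorem finitePresentation_of_exists_section
    (h : ∀ (J : Type u) [Preorder J] [IsDirected J (· ≤ ·)] [Nonempty J] (F : J ⥤ Under A)
      (ι : F ⟶ (Functor.const J).obj (A.mkUnder B)), IsColimit (Cocone.mk _ ι) →
      ∃ (j : J) (s : A.mkUnder B ⟶ F.obj j), s ≫ ι.app j = 𝟙 _) :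
    Algebra.FinitePresentation A B := by
  classical
  -- finite type
  obtain ⟨S, s, hs⟩ := h (Finset B) (adjoinSystem A B) (adjoinCocone A B).ι
    (isColimitOfElements (adjoinCocone A B)
      (fun x ↦ ⟨{x}, ⟨x, Algebra.subset_adjoin (Finset.mem_coe.mpr (Finset.mem_singleton_self x))⟩, rfl⟩)
      (fun i x y hxy ↦ ⟨i, 𝟙 i, by rw [Subtype.ext hxy]⟩))
  have hS : Algebra.adjoin A (S : Set B) = ⊤ := by
    refine eq_top_iff.mpr fun b _ ↦ ?_
    have := DFunLike.congr_fun (congrArg (fun m : A.mkUnder B ⟶ A.mkUnder B ↦ (Under.Hom.right m).hom) hs) b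
    exact Set.mem_of_eq_of_mem (show b = (s.right b).1 from this.symm) (s.right b).2
  have : Algebra.FiniteType A B := ⟨⟨S, hS⟩⟩
  obtain ⟨n, p, hp⟩ := Algebra.FiniteType.iff_quotient_mvPolynomial''.mp this
  obtain ⟨R, s, hs⟩ := h (Finset (RingHom.ker p)) (quotientSystem A B p) (quotientCocone A B p).ι
    (isColimitOfElements (quotientCocone A B p)
      (fun x ↦ by
        obtain ⟨x, rfl⟩ := hp x
        exact ⟨∅, Ideal.Quotient.mk _ x, rfl⟩)
      (fun i x y hxy ↦ by
        obtain ⟨x, rfl⟩ := Ideal.Quotient.mk_surjective x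
        obtain ⟨y, rfl⟩ := Ideal.Quotient.mk_surjective y
        have hmem : x - y ∈ RingHom.ker p := by
          rw [RingHom.mem_ker, map_sub, sub_eq_zero]
          exact hxy
        refine ⟨insert ⟨x - y, hmem⟩ i, homOfLE (Finset.subset_insert _ _), ?_⟩
        exact Ideal.Quotient.eq.mpr (Ideal.subset_span ⟨⟨x - y, hmem⟩, by simp, rfl⟩)))
  let I := Ideal.span (Subtype.val '' (R : Set (RingHom.ker p)))
  have : Algebra.FinitePresentation A (MvPolynomial (Fin n) A ⧸ I) :=
    Algebra.FinitePresentation.quotient ((R.finite_toSet.image Subtype.val).toFinset |>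
      fun T ↦ Submodule.fg_span (R.finite_toSet.image Subtype.val))
  have hker : ∀ a ∈ I, p a = 0 := fun a ha ↦ RingHom.mem_ker.mp
      (Ideal.span_le.mpr (by rintro _ ⟨⟨x, hx⟩, -, rfl⟩; exact hx) ha)
  let s' : B →ₐ[A] MvPolynomial (Fin n) A ⧸ I :=
    { s.right.hom with
      commutes' := fun a ↦ DFunLike.congr_fun (congrArg (fun m ↦ m.hom) (Under.w s)) a }
  refine finitePresentation_of_retract (Ideal.Quotient.liftₐ I p hker) s' (AlgHom.ext fun b ↦ ?_)
  exact DFunLike.congr_fun (congrArg (fun m : A.mkUnder B ⟶ A.mkUnder B ↦ (Under.Hom.right m).hom) hs) b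

end Groth.Limits
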