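import Groth.Agent.Limits.UnivOpen
import Mathlib.AlgebraicGeometry.Pullbacks
import Mathlib.AlgebraicGeometry.Morphisms.FinitePresentation
import Mathlib.RingTheory.Ideal.GoingUp
import Mathlib.RingTheory.FiniteType

/-!
# Closed sets avoiding a fibre come from base changes of finite presentation
-/

set_option backward.isDefEq.respectTransparency false
set_option backward.defeqAttrib.useBackward true

universe u

open CategoryTheory Limits AlgebraicGeometry TopologicalSpace TensorProduct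

namespace Groth.Limits

section

variable {A R B : Type u} [CommRing A] [CommRing R] [CommRing B] [Algebra A R] [Algebra A B]

theorem exists_finset_mem_range (x : R ⊗[A] B) : ∃ s : Finset B,
    ∀ (B' : Type u) [CommRing B'] [Algebra A B'] (φ : B' →ₐ[A] B), (↑s : Set B) ⊆ Set.range φ →
      x ∈ Set.range (Algebra.TensorProduct.map (AlgHom.id A R) φ) := by
  classical
  induction x using TensorProduct.induction_on with
  | zero => exact ⟨∅, fun B' _ _ φ _ ↦ ⟨0, map_zero _⟩⟩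
  | tmul r b =>
    refine ⟨{b}, fun B' _ _ φ h ↦ ?_⟩
    obtain ⟨b', hb'⟩ := h (Finset.mem_singleton_self b)
    exact ⟨r ⊗ₜ b', by simp [hb']⟩
  | add x y hx hy =>
    obtain ⟨s, hs⟩ := hx
    obtain ⟨t, ht⟩ := hy
    refine ⟨s ∪ t, fun B' _ _ φ h ↦ ?_⟩
    rw [Finset.coe_union, Set.union_subset_iff] at h
    obtain ⟨x', rfl⟩ := hs B' φ h.1
    obtain ⟨y', rfl⟩ := ht B' φ h.2
    exact ⟨x' + y', map_add _ _ _⟩

/-- An ideal missing the fibre over `P` contains an element whose lifts along suitable maps to `B`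
miss the fibre as well. -/
theorem exists_finset_avoid (J : Ideal (R ⊗[A] B)) (P : Ideal B) [P.IsPrime]
    (hJ : ∀ Q : Ideal (R ⊗[A] B), Q.IsPrime → J ≤ Q →
      Q.comap (Algebra.TensorProduct.includeRight (R := A) (A := R) (B := B)).toRingHom ≠ P) :
    ∃ s : Finset B, ∀ (B' : Type u) [CommRing B'] [Algebra A B'] (φ : B' →ₐ[A] B),
      (↑s : Set B) ⊆ Set.range φ → ∃ j' : R ⊗[A] B',
        Algebra.TensorProduct.map (AlgHom.id A R) φ j' ∈ J ∧
        ∀ Q : Ideal (R ⊗[A] B'), Q.IsPrime →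
          Q.comap (Algebra.TensorProduct.includeRight (R := A) (A := R) (B := B')).toRingHom =
            P.comap φ.toRingHom → j' ∉ Q := by
  classical
  let ι := (Algebra.TensorProduct.includeRight (R := A) (A := R) (B := B)).toRingHom
  let S : Submonoid (R ⊗[A] B) := P.primeCompl.map (ι : B →* R ⊗[A] B)
  let K := J ⊔ P.map ι
  obtain ⟨x, hxS, hxK⟩ : ∃ x, x ∈ S ∧ x ∈ K := by
    by_contra h
    obtain ⟨Q, hQ, hKQ, hdis⟩ := Ideal.exists_le_prime_disjoint K S
      (Set.disjoint_left.2 fun x hxK hxS ↦ h ⟨x, hxS, hxK⟩)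
    refine hJ Q hQ (le_sup_left.trans hKQ) (le_antisymm (fun b hb ↦ ?_) ?_)
    · by_contra hbP
      exact Set.disjoint_left.1 hdis hb ⟨b, hbP, rfl⟩
    · exact Ideal.map_le_iff_le_comap.1 (le_sup_right.trans hKQ)
  obtain ⟨c, hc, rfl⟩ := hxS
  obtain ⟨j, hj, y, hy, hjy⟩ := Submodule.mem_sup.1 hxK
  have key : ∀ z ∈ P.map ι, ∃ s : Finset B, ∀ (B' : Type u) [CommRing B'] [Algebra A B']
      (φ : B' →ₐ[A] B), (↑s : Set B) ⊆ Set.range φ → ∃ z' : R ⊗[A] B',
        Algebra.TensorProduct.map (AlgHom.id A R) φ z' = z ∧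
        z' ∈ (P.comap φ.toRingHom).map
          (Algebra.TensorProduct.includeRight (R := A) (A := R) (B := B')).toRingHom := by
    intro z hz
    induction hz using Submodule.span_induction with
    | mem z hz =>
      obtain ⟨b, hb, rfl⟩ := hz
      refine ⟨{b}, fun B' _ _ φ h ↦ ?_⟩
      obtain ⟨b', hb'⟩ := h (Finset.mem_singleton_self b)
      exact ⟨1 ⊗ₜ b', by simp [hb', ι],
        Ideal.mem_map_of_mem _ (show φ b' ∈ P by rw [hb']; exact hb)⟩
    | zero => exact ⟨∅, fun B' _ _ φ _ ↦ ⟨0, map_zero _, zero_mem _⟩⟩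
    | add z w _ _ hz hw =>
      obtain ⟨s, hs⟩ := hz
      obtain ⟨t, ht⟩ := hw
      refine ⟨s ∪ t, fun B' _ _ φ h ↦ ?_⟩
      rw [Finset.coe_union, Set.union_subset_iff] at h
      obtain ⟨z', hz₁, hz₂⟩ := hs B' φ h.1
      obtain ⟨w', hw₁, hw₂⟩ := ht B' φ h.2
      exact ⟨z' + w', by rw [map_add, hz₁, hw₁], add_mem hz₂ hw₂⟩
    | smul a z _ hz =>
      obtain ⟨s, hs⟩ := hz
      obtain ⟨t, ht⟩ := exists_finset_mem_range a
      refine ⟨s ∪ t, fun B' _ _ φ h ↦ ?_⟩
      rw [Finset.coe_union, Set.union_subset_iff] at h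
      obtain ⟨z', hz₁, hz₂⟩ := hs B' φ h.1
      obtain ⟨a', ha'⟩ := ht B' φ h.2
      exact ⟨a' * z', by rw [map_mul, hz₁, ha', smul_eq_mul], Ideal.mul_mem_left _ _ hz₂⟩
  obtain ⟨s, hs⟩ := key y hy
  refine ⟨s ∪ {c}, fun B' _ _ φ h ↦ ?_⟩
  rw [Finset.coe_union, Set.union_subset_iff] at h
  obtain ⟨c', hc'⟩ := h.2 (Finset.mem_singleton_self c)
  obtain ⟨y', hy₁, hy₂⟩ := hs B' φ h.1
  refine ⟨1 ⊗ₜ c' - y', ?_, fun Q hQ hQP hmem ↦ ?_⟩
  · rw [map_sub, hy₁]
    have : (1 : R) ⊗ₜ[A] c - y = j := by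
      rw [sub_eq_iff_eq_add, hjy]
      rfl
    simpa [hc', this] using hj
  · have hy'Q : y' ∈ Q := Ideal.map_le_iff_le_comap.2 hQP.ge hy₂
    have h1 : c' ∈ P.comap φ.toRingHom := by
      rw [← hQP]
      show (1 : R) ⊗ₜ[A] c' ∈ Q
      simpa using add_mem hmem hy'Q
    exact hc (show c ∈ P by rw [← hc']; exact h1)

end

/-- The chart `Spec (R ⊗[A] B')` of a base change. -/
theorem isPullback_chart {A R B : CommRingCat.{u}} [Algebra A R] [Algebra A B] {S : Scheme.{u}}
    (iS : Spec A ⟶ S) [Mono iS] :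
    IsPullback (Spec.map (CommRingCat.ofHom
        (Algebra.TensorProduct.includeLeftRingHom : R →+* (R : Type u) ⊗[A] B)))
      (Spec.map (CommRingCat.ofHom
        (Algebra.TensorProduct.includeRight (R := A) (A := R) (B := B)).toRingHom))
      (Spec.map (CommRingCat.ofHom (algebraMap A R)) ≫ iS)
      (Spec.map (CommRingCat.ofHom (algebraMap A B)) ≫ iS) := by
  refine isPullback_comp_mono ?_ iS
  exact IsPullback.of_iso_pullback ⟨by
    rw [← Spec.map_comp, ← Spec.map_comp]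
    congr 1
    ext a
    exact (Algebra.TensorProduct.includeRight (R := A) (A := R) (B := B)).commutes a |>.symm⟩
    (pullbackSpecIso A R B).symm (pullbackSpecIso_inv_fst A R B) (pullbackSpecIso_inv_snd A R B)

/-- Lifting a chart of `X` to a chart of a base change. -/
theorem range_lift_chart {X S T Q W : Scheme.{u}} {f : X ⟶ S} {g : T ⟶ S} {ρ : W ⟶ X}
    {p₁ : Q ⟶ W} {p₂ : Q ⟶ T} (h : IsPullback p₁ p₂ (ρ ≫ f) g) (e : Q ⟶ pullback f g)
    (h₁ : e ≫ pullback.fst f g = p₁ ≫ ρ) (h₂ : e ≫ pullback.snd f g = p₂) :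
    IsPullback e p₁ (pullback.fst f g) ρ :=
  IsPullback.of_right (v₁₃ := g) (h₁₂ := pullback.snd f g) (h₂₂ := f)
    (by rw [h₂]; exact h.flip) h₁ (IsPullback.of_hasPullback f g).flip

open scoped Classical in
/-- Closed sets avoiding a fibre come, locally on the base, from closed sets avoiding a fibre of a
base change of finite presentation. -/
theorem exists_avoid_fibre {X S T : Scheme.{u}} (f : X ⟶ S) [QuasiCompact f] (g : T ⟶ S) (t : T)
    (Z : Set ↥(pullback f g)) (hZ : IsClosed Z) (hZt : ∀ z ∈ Z, pullback.snd f g z ≠ t) :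
    ∃ (V : T.Opens) (ht : t ∈ V) (T' : Scheme.{u}) (b : T' ⟶ S) (a : (V : Scheme.{u}) ⟶ T')
      (n : pullback f (V.ι ≫ g) ⟶ pullback f g) (m : pullback f (V.ι ≫ g) ⟶ pullback f b)
      (Z' : Set ↥(pullback f b)),
      IsAffineOpen V ∧ IsAffine T' ∧ LocallyOfFinitePresentation b ∧ a ≫ b = V.ι ≫ g ∧
      n ≫ pullback.fst f g = pullback.fst f (V.ι ≫ g) ∧
      n ≫ pullback.snd f g = pullback.snd f (V.ι ≫ g) ≫ V.ι ∧
      m ≫ pullback.fst f b = pullback.fst f (V.ι ≫ g) ∧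
      m ≫ pullback.snd f b = pullback.snd f (V.ι ≫ g) ≫ a ∧
      IsClosed Z' ∧ (∀ z' ∈ Z', pullback.snd f b z' ≠ a ⟨t, ht⟩) ∧
      ∀ z : ↥(pullback f (V.ι ≫ g)), n z ∈ Z → m z ∈ Z' := by
  obtain ⟨_, ⟨(S₀ : S.Opens), (hS₀ : IsAffineOpen S₀), rfl⟩, htS₀, -⟩ :=
    S.isBasis_affineOpens.exists_subset_of_mem_open (Set.mem_univ (g t)) isOpen_univ
  obtain ⟨_, ⟨(V : T.Opens), (hV : IsAffineOpen V), rfl⟩, htV, hVS⟩ := T.isBasis_affineOpens.exists_subset_of_mem_open
    (show t ∈ g ⁻¹ᵁ S₀ from htS₀) (g ⁻¹ᵁ S₀).isOpen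
  let n : pullback f (V.ι ≫ g) ⟶ pullback f g :=
    pullback.map f (V.ι ≫ g) f g (𝟙 _) V.ι (𝟙 _) (by simp) (by simp)
  let A : CommRingCat.{u} := Γ(S, S₀)
  let B : CommRingCat.{u} := Γ(T, V)
  letI : Algebra A B := (g.appLE S₀ V hVS).hom.toAlgebra
  have hgV : Spec.map (CommRingCat.ofHom (algebraMap A B)) ≫ hS₀.fromSpec =
      hV.isoSpec.inv ≫ V.ι ≫ g := by
    rw [IsAffineOpen.isoSpec_inv_ι_assoc]
    exact IsAffineOpen.SpecMap_appLE_fromSpec g hS₀ hV hVS
  let pt : Spec B := hV.isoSpec.hom ⟨t, htV⟩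
  -- finitely many charts of `X` over `S₀`
  obtain ⟨κ, hκ, hκX⟩ := isCompact_iff_finite_and_eq_biUnion_affineOpens.1
    (f.isCompact_preimage hS₀.isCompact)
  have hle : ∀ k : κ, k.1.1 ≤ f ⁻¹ᵁ S₀ := fun k ↦ by
    rw [hκX]
    exact le_iSup₂_of_le (f := fun (i : X.affineOpens) (_ : i ∈ κ) ↦ i.1) k.1 k.2 le_rfl
  letI alg : ∀ k : κ, Algebra A Γ(X, k.1.1) := fun k ↦ (f.appLE S₀ k.1.1 (hle k)).hom.toAlgebra
  have hρ : ∀ k : κ, Spec.map (CommRingCat.ofHom (algebraMap A Γ(X, k.1.1))) ≫ hS₀.fromSpec =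
      k.1.2.fromSpec ≫ f := fun k ↦ IsAffineOpen.SpecMap_appLE_fromSpec f hS₀ k.1.2 (hle k)
  have hsq : ∀ (k : κ) (B' : CommRingCat.{u}) [Algebra A B'],
      IsPullback (Spec.map (CommRingCat.ofHom (Algebra.TensorProduct.includeLeftRingHom :
          Γ(X, k.1.1) →+* (Γ(X, k.1.1) : Type u) ⊗[A] B')))
        (Spec.map (CommRingCat.ofHom
          (Algebra.TensorProduct.includeRight (R := A) (A := Γ(X, k.1.1)) (B := B')).toRingHom))
        (k.1.2.fromSpec ≫ f)
        (Spec.map (CommRingCat.ofHom (algebraMap A B')) ≫ hS₀.fromSpec) := fun k B' _ ↦ by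
    rw [← hρ k]
    exact isPullback_chart hS₀.fromSpec
  let e : ∀ k : κ, Spec (CommRingCat.of ((Γ(X, k.1.1) : Type u) ⊗[A] B)) ⟶ pullback f (V.ι ≫ g) :=
    fun k ↦ pullback.lift (Spec.map (CommRingCat.ofHom Algebra.TensorProduct.includeLeftRingHom) ≫
        k.1.2.fromSpec)
      (Spec.map (CommRingCat.ofHom
          (Algebra.TensorProduct.includeRight (R := A) (A := Γ(X, k.1.1)) (B := B)).toRingHom) ≫
        hV.isoSpec.inv)
      (by rw [Category.assoc, Category.assoc, (hsq k B).w, hgV])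
  let J : ∀ k : κ, Ideal ((Γ(X, k.1.1) : Type u) ⊗[A] B) := fun k ↦
    PrimeSpectrum.vanishingIdeal (e k ⁻¹' (n ⁻¹' Z))
  have hcl : ∀ k, IsClosed (e k ⁻¹' (n ⁻¹' Z)) := fun k ↦
    (hZ.preimage n.continuous).preimage (e k).continuous
  have hJ : ∀ (k : κ) (Q : Ideal ((Γ(X, k.1.1) : Type u) ⊗[A] B)) (hQ : Q.IsPrime), J k ≤ Q →
      Q.comap (Algebra.TensorProduct.includeRight (R := A) (A := Γ(X, k.1.1)) (B := B)).toRingHom ≠
        pt.asIdeal := by
    intro k Q hQ hJQ hQt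
    let w : Spec (CommRingCat.of ((Γ(X, k.1.1) : Type u) ⊗[A] B)) := ⟨Q, hQ⟩
    have hw : w ∈ e k ⁻¹' (n ⁻¹' Z) := by
      rw [← (hcl k).closure_eq]
      exact (PrimeSpectrum.zeroLocus_vanishingIdeal_eq_closure _).le hJQ
    refine hZt _ hw ?_
    have hc : Spec.map (CommRingCat.ofHom
        (Algebra.TensorProduct.includeRight (R := A) (A := Γ(X, k.1.1)) (B := B)).toRingHom) w = pt :=
      PrimeSpectrum.ext hQt
    rw [← Scheme.Hom.comp_apply, ← Scheme.Hom.comp_apply]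
    simp only [n, e, pullback.map, Category.assoc, pullback.lift_snd, pullback.lift_snd_assoc]
    rw [Scheme.Hom.comp_apply, Scheme.Hom.comp_apply, hc]
    show V.ι (hV.isoSpec.inv (hV.isoSpec.hom ⟨t, htV⟩)) = t
    rw [← Scheme.Hom.comp_apply, ← Scheme.Hom.comp_apply, Iso.hom_inv_id_assoc]
    rfl
  choose s hs using fun k : κ ↦ exists_finset_avoid (J k) pt.asIdeal (hJ k)
  have := hκ.fintype
  let s₀ : Finset B := Finset.univ.biUnion s
  let B' : CommRingCat.{u} := CommRingCat.of (MvPolynomial s₀ A)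
  let φ : MvPolynomial s₀ A →ₐ[A] B := MvPolynomial.aeval fun i ↦ i.1
  have hsub : ∀ k, (↑(s k) : Set B) ⊆ Set.range φ := fun k x hx ↦
    ⟨MvPolynomial.X ⟨x, Finset.mem_biUnion.2 ⟨k, Finset.mem_univ _, hx⟩⟩, MvPolynomial.aeval_X _ _⟩
  choose j' hj'J hj' using fun k ↦ hs k _ φ (hsub k)
  let b : Spec B' ⟶ S := Spec.map (CommRingCat.ofHom (algebraMap A (MvPolynomial s₀ A))) ≫ hS₀.fromSpec
  let a : (V : Scheme.{u}) ⟶ Spec B' := hV.isoSpec.hom ≫ Spec.map (CommRingCat.ofHom φ.toRingHom)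
  have hab : a ≫ b = V.ι ≫ g := by
    simp only [a, b, Category.assoc]
    rw [← Spec.map_comp_assoc, ← CommRingCat.ofHom_comp, AlgHom.toRingHom_eq_coe,
      AlgHom.comp_algebraMap]
    exact (congrArg (hV.isoSpec.hom ≫ ·) hgV).trans (Iso.hom_inv_id_assoc _ _)
  let m : pullback f (V.ι ≫ g) ⟶ pullback f b :=
    pullback.lift (pullback.fst _ _) (pullback.snd _ _ ≫ a)
      (by rw [Category.assoc, hab, pullback.condition])
  have : LocallyOfFinitePresentation b := by
    have : LocallyOfFinitePresentation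
        (Spec.map (CommRingCat.ofHom (algebraMap A (MvPolynomial s₀ A)))) :=
      (HasRingHomProperty.Spec_iff (P := @LocallyOfFinitePresentation)).2
        (RingHom.finitePresentation_algebraMap.2 inferInstance)
    infer_instance
  let e' : ∀ k : κ,
      Spec (CommRingCat.of ((Γ(X, k.1.1) : Type u) ⊗[A] MvPolynomial s₀ A)) ⟶ pullback f b :=
    fun k ↦ pullback.lift (Spec.map (CommRingCat.ofHom Algebra.TensorProduct.includeLeftRingHom) ≫
        k.1.2.fromSpec)
      (Spec.map (CommRingCat.ofHom (Algebra.TensorProduct.includeRight (R := A) (A := Γ(X, k.1.1))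
        (B := MvPolynomial s₀ A)).toRingHom))
      (by rw [Category.assoc]; exact (hsq k B').w)
  refine ⟨V, htV, Spec B', b, a, n, m, closure (m '' (n ⁻¹' Z)), hV, inferInstance, inferInstance,
    hab, ?_, ?_, pullback.lift_fst _ _ _, pullback.lift_snd _ _ _, isClosed_closure, ?_,
    fun z hz ↦ subset_closure ⟨z, hz, rfl⟩⟩
  · simp [n]
  · simp [n]
  intro z' hz' hz't
  have hzS : pullback.fst f b z' ∈ f ⁻¹ᵁ S₀ := by
    show f (pullback.fst f b z') ∈ S₀
    rw [← Scheme.Hom.comp_apply, pullback.condition, Scheme.Hom.comp_apply, hz't,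
      ← Scheme.Hom.comp_apply, hab, Scheme.Hom.comp_apply]
    exact htS₀
  rw [hκX] at hzS
  obtain ⟨U, hU, hzU⟩ : ∃ U : X.affineOpens, U ∈ κ ∧ pullback.fst f b z' ∈ U.1 := by
    simpa [TopologicalSpace.Opens.mem_iSup] using hzS
  let k : κ := ⟨U, hU⟩
  -- the chart of the finitely presented base change
  have hP' : IsPullback (e' k) (Spec.map (CommRingCat.ofHom (Algebra.TensorProduct.includeLeftRingHom :
      Γ(X, k.1.1) →+* (Γ(X, k.1.1) : Type u) ⊗[A] MvPolynomial s₀ A))) (pullback.fst f b)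
      k.1.2.fromSpec :=
    range_lift_chart (hsq k B') (e' k) (pullback.lift_fst _ _ _) (pullback.lift_snd _ _ _)
  have : IsOpenImmersion (e' k) :=
    MorphismProperty.of_isPullback (P := @IsOpenImmersion) hP'.flip inferInstance
  obtain ⟨Q, rfl⟩ : z' ∈ Set.range (e' k) := by
    rw [← Set.image_univ, ← Set.preimage_univ (f := ⇑(Spec.map _)),
      image_preimage_of_isPullback hP'.flip, Set.image_univ]
    show pullback.fst f b z' ∈ Set.range k.1.2.fromSpec
    rw [IsAffineOpen.range_fromSpec]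
    exact hzU
  have hQt : Spec.map (CommRingCat.ofHom (Algebra.TensorProduct.includeRight (R := A)
      (A := Γ(X, k.1.1)) (B := MvPolynomial s₀ A)).toRingHom) Q = a ⟨t, htV⟩ := by
    rw [← hz't, ← Scheme.Hom.comp_apply, pullback.lift_snd]
  refine hj' k Q.asIdeal Q.2 ?_ ?_
  · have : a ⟨t, htV⟩ = Spec.map (CommRingCat.ofHom φ.toRingHom) pt := Scheme.Hom.comp_apply _ _ _
    exact congrArg PrimeSpectrum.asIdeal (hQt.trans this)
  -- the element vanishes on the closure
  have hVj : closure (e' k ⁻¹' (m '' (n ⁻¹' Z))) ⊆ PrimeSpectrum.zeroLocus {j' k} := by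
    refine closure_minimal ?_ (PrimeSpectrum.isClosed_zeroLocus _)
    rintro Q₁ ⟨z, hz, hzQ⟩
    have hP : IsPullback (e k) (Spec.map (CommRingCat.ofHom (Algebra.TensorProduct.includeLeftRingHom :
        Γ(X, k.1.1) →+* (Γ(X, k.1.1) : Type u) ⊗[A] B))) (pullback.fst f (V.ι ≫ g))
        k.1.2.fromSpec := by
      refine range_lift_chart (p₂ := Spec.map (CommRingCat.ofHom (Algebra.TensorProduct.includeRight
        (R := A) (A := Γ(X, k.1.1)) (B := B)).toRingHom) ≫ hV.isoSpec.inv) ?_ (e k)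
        (pullback.lift_fst _ _ _) (pullback.lift_snd _ _ _)
      exact (hsq k B).of_iso (Iso.refl _) (Iso.refl _) hV.isoSpec.symm (Iso.refl _) (by simp)
        (by simp) (by simp) (by simp [hgV])
    obtain ⟨w, rfl⟩ : z ∈ Set.range (e k) := by
      rw [← Set.image_univ, ← Set.preimage_univ (f := ⇑(Spec.map _)),
        image_preimage_of_isPullback hP.flip, Set.image_univ]
      show pullback.fst f (V.ι ≫ g) z ∈ Set.range k.1.2.fromSpec
      rw [← pullback.lift_fst (f := f) (g := b) (pullback.fst f (V.ι ≫ g))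
        (pullback.snd _ _ ≫ a) (by rw [Category.assoc, hab, pullback.condition])]
      show (m ≫ pullback.fst f b) z ∈ _
      rw [Scheme.Hom.comp_apply, hzQ, ← Scheme.Hom.comp_apply, pullback.lift_fst,
        Scheme.Hom.comp_apply]
      exact ⟨_, rfl⟩
    let mid := Algebra.TensorProduct.map (AlgHom.id A Γ(X, k.1.1)) φ
    have hem : e k ≫ m = Spec.map (CommRingCat.ofHom mid.toRingHom) ≫ e' k := by
      apply pullback.hom_ext
      · simp only [e, e', m, Category.assoc, pullback.lift_fst, pullback.lift_fst_assoc]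
        rw [← Spec.map_comp_assoc]
        congr 2
        ext r
        simp [mid]
      · simp only [e, e', m, a, Category.assoc, pullback.lift_snd, pullback.lift_snd_assoc,
          Iso.inv_hom_id_assoc]
        rw [← Spec.map_comp, ← Spec.map_comp]
        congr 1
    have hwQ : Spec.map (CommRingCat.ofHom mid.toRingHom) w = Q₁ :=
      (e' k).isOpenEmbedding.injective (by rw [← Scheme.Hom.comp_apply, ← hem, Scheme.Hom.comp_apply, hzQ])
    rw [← hwQ, PrimeSpectrum.mem_zeroLocus, Set.singleton_subset_iff]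
    show mid (j' k) ∈ w.asIdeal
    exact (PrimeSpectrum.mem_vanishingIdeal _ _).1 (hj'J k) w hz
  have := hVj (((e' k).isOpenEmbedding.isOpenMap.preimage_closure_subset_closure_preimage) hz')
  exact Set.singleton_subset_iff.1 this

end Groth.Limits
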