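import Groth.Agent.BMCoh.Piece
import Groth.Agent.Limits.ClosedApprox
import Mathlib.CategoryTheory.Limits.Connected
import Groth.Agent.FibreDim.BaseChange
import Groth.Agent.FibreDim.Semicontinuity
import Groth.Agent.FibreDim.Retrocompact
import Mathlib.AlgebraicGeometry.AffineTransitionLimit

/-!
# Fibre dimensions in a limit of morphisms

If the transition maps `X_j ⟶ X_i ×_{S_i} S_j` are closed immersions and the limit morphism has
fibres of dimension at most `d`, then so has some stage.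
-/

set_option backward.isDefEq.respectTransparency false
set_option backward.defeqAttrib.useBackward true

universe u

open CategoryTheory Limits AlgebraicGeometry TopologicalSpace

namespace Groth.Limits

open Topology in
/-- Local dimension does not increase on a subspace. -/
theorem localDim_le_of_isEmbedding {A B : Type*} [TopologicalSpace A] [TopologicalSpace B]
    {e : A → B} (he : IsEmbedding e) (a : A) : FlatMor.localDim A a ≤ FlatMor.localDim B (e a) := by
  refine le_iInf fun ⟨U, hU⟩ ↦ iInf_le_of_le ⟨U.comap ⟨e, he.continuous⟩, hU⟩ ?_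
  have : IsEmbedding (fun x : (U.comap ⟨e, he.continuous⟩ : Set A) ↦
      (⟨e x.1, x.2⟩ : (U : Set B))) :=
    (he.comp IsEmbedding.subtypeVal).codRestrict _ _
  exact this.isInducing.topologicalKrullDim_le

/-- Fibre dimension does not increase on a closed subscheme. -/
theorem fibreDimAt_comp_le {X Y Z : Scheme.{u}} (l : X ⟶ Y) [IsClosedImmersion l] (g : Y ⟶ Z)
    (x : X) : FlatMor.fibreDimAt (l ≫ g) x ≤ FlatMor.fibreDimAt g (l x) := by
  let z := g (l x)
  have h1 := Groth.FibreDim.fibreDimAt_eq_of_range (l ≫ g) z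
    (A := ↥(⇑l ⁻¹' (⇑g ⁻¹' {z}))) (e := Subtype.val) Topology.IsEmbedding.subtypeVal
    (by rw [Subtype.range_coe]; rfl) ⟨x, rfl⟩
  have h2 := Groth.FibreDim.fibreDimAt_eq_of_range g z (A := ↥(⇑g ⁻¹' {z}))
    (e := Subtype.val) Topology.IsEmbedding.subtypeVal Subtype.range_coe ⟨l x, rfl⟩
  rw [h1, h2]
  exact localDim_le_of_isEmbedding
    (e := fun a : ↥(⇑l ⁻¹' (⇑g ⁻¹' {z})) ↦ (⟨l a.1, a.2⟩ : ↥(⇑g ⁻¹' {z})))
    (l.isEmbedding.restrictPreimage _) ⟨x, rfl⟩

variable {I : Type u} [SmallCategory I] [IsCofiltered I] {DX DS : I ⥤ Scheme.{u}} (φ : DX ⟶ DS)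
  {cX : Cone DX} {cS : Cone DS}

/-- If all fibres of the limit morphism have dimension at most `d`, some stage has this property. -/
theorem exists_dim_fiber_le_of_limit (hX : IsLimit cX) (hS : IsLimit cS)
    [∀ (i j : I) (a : i ⟶ j), IsAffineHom (DS.map a)] [∀ i, CompactSpace (DS.obj i)]
    [∀ i, LocallyOfFiniteType (φ.app i)] [∀ i, QuasiCompact (φ.app i)]
    (hcl : ∀ (i j : I) (a : i ⟶ j),
      IsClosedImmersion (pullback.lift (DX.map a) (φ.app i) (φ.naturality a)))
    (f : cX.pt ⟶ cS.pt) (hf : ∀ i, f ≫ cS.π.app i = cX.π.app i ≫ φ.app i) (d : ℕ)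
    (hd : ∀ s : cS.pt, topologicalKrullDim ↥(f.fiber s) ≤ d) :
    ∃ i : I, ∀ s : DS.obj i, topologicalKrullDim ↥((φ.app i).fiber s) ≤ d := by
  classical
  let B (i : I) : Set (DX.obj i) := {x | ¬ FlatMor.fibreDimAt (φ.app i) x ≤ d}
  by_contra hcon
  push_neg at hcon
  have hBne : ∀ i, (B i).Nonempty := fun i ↦ by
    obtain ⟨s, hs⟩ := hcon i
    obtain ⟨x, hx, -⟩ := (Groth.FibreDim.setOf_lt_dim_fiber (φ.app i) d).le (not_le.2 hs :
      s ∈ {y | ¬ topologicalKrullDim ↥((φ.app i).fiber y) ≤ (d : WithBot ℕ∞)})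
    exact ⟨x, hx⟩
  have hBcl : ∀ i, IsClosed (B i) := fun i ↦
    (Groth.FibreDim.isOpen_fibreDimAt_le (φ.app i) d).isClosed_compl
  have : ∀ i, CompactSpace (DX.obj i) := fun i ↦
    QuasiCompact.compactSpace_of_compactSpace (φ.app i)
  have haff : ∀ (i j : I) (a : i ⟶ j), IsAffineHom (DX.map a) := fun i j a ↦ by
    have := hcl i j a
    have : IsAffineHom (pullback.fst (φ.app j) (DS.map a)) :=
      MorphismProperty.pullback_fst _ _ inferInstance
    rw [← pullback.lift_fst (DX.map a) (φ.app i) (φ.naturality a)]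
    infer_instance
  have hmaps : ∀ {i j : I} (a : i ⟶ j), Set.MapsTo (DX.map a) (B i) (B j) := by
    intro i j a x hx hle
    have := hcl i j a
    refine hx ?_
    conv_lhs => rw [← pullback.lift_snd (DX.map a) (φ.app i) (φ.naturality a)]
    refine (fibreDimAt_comp_le _ _ x).trans ?_
    rw [Groth.FibreDim.fibreDimAt_baseChange (φ.app j) (DS.map a) _ _
      (IsPullback.of_hasPullback (φ.app j) (DS.map a)), ← Scheme.Hom.comp_apply, pullback.lift_fst]
    exact hle
  obtain ⟨x, hx⟩ := exists_mem_of_isClosed_of_nonempty DX cX hX B hBcl hBne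
    (fun i ↦ (hBcl i).isCompact) hmaps
  obtain ⟨i₀⟩ : Nonempty I := IsCofiltered.nonempty
  let s := f x
  let σ := cS.pt.fromSpecResidueField s
  let P (k : Over i₀) : Scheme.{u} := pullback (φ.app k.left) (σ ≫ cS.π.app k.left)
  let P₀ : Scheme.{u} := pullback (φ.app i₀) (σ ≫ cS.π.app i₀)
  let m (k : Over i₀) : P k ⟶ P₀ :=
    pullback.lift (pullback.fst _ _ ≫ DX.map k.hom) (pullback.snd _ _) (by
      rw [Category.assoc, φ.naturality, pullback.condition_assoc, Category.assoc, cS.w])
  have hm : ∀ k, IsClosedImmersion (m k) := fun k ↦ by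
    let l := pullback.lift (DX.map k.hom) (φ.app k.left) (φ.naturality k.hom)
    have : IsClosedImmersion l := hcl _ _ k.hom
    let n : P₀ ⟶ pullback (φ.app i₀) (DS.map k.hom) :=
      pullback.lift (pullback.fst _ _) (pullback.snd _ _ ≫ σ ≫ cS.π.app k.left) (by
        rw [Category.assoc, Category.assoc, cS.w]
        exact pullback.condition)
    have hbot : IsPullback n (pullback.snd _ _) (pullback.snd (φ.app i₀) (DS.map k.hom))
        (σ ≫ cS.π.app k.left) := by
      refine IsPullback.of_right ?_ (pullback.lift_snd _ _ _)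
        (IsPullback.of_hasPullback (φ.app i₀) (DS.map k.hom))
      rw [pullback.lift_fst, Category.assoc, cS.w]
      exact IsPullback.of_hasPullback _ _
    have htop : IsPullback (pullback.fst _ _) (m k) l n := by
      refine IsPullback.of_bot ?_ ?_ hbot
      · rw [pullback.lift_snd, pullback.lift_snd]
        exact IsPullback.of_hasPullback _ _
      · apply pullback.hom_ext
        · simp [l, n, m]
        · simp [l, n, m, pullback.condition]
    exact MorphismProperty.of_isPullback htop this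
  have : LocallyOfFiniteType (pullback.snd (φ.app i₀) (σ ≫ cS.π.app i₀)) := inferInstance
  have : IsLocallyNoetherian P₀ :=
    LocallyOfFiniteType.isLocallyNoetherian (pullback.snd (φ.app i₀) (σ ≫ cS.π.app i₀))
  have : CompactSpace P₀ :=
    QuasiCompact.compactSpace_of_compactSpace (pullback.snd (φ.app i₀) (σ ≫ cS.π.app i₀))
  have : AlgebraicGeometry.IsNoetherian P₀ := {}
  let Z (k : Over i₀) : Closeds P₀ :=
    ⟨Set.range (m k), (hm k).base_closed.isClosed_range⟩
  obtain ⟨_, ⟨k₀, rfl⟩, hk₀⟩ := wellFounded_lt.has_min (Set.range Z)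
    ⟨_, Over.mk (𝟙 i₀), rfl⟩
  -- transition maps
  let t {k k' : Over i₀} (b : k' ⟶ k) : P k' ⟶ P k :=
    pullback.lift (pullback.fst _ _ ≫ DX.map b.left) (pullback.snd _ _) (by
      rw [Category.assoc, φ.naturality, pullback.condition_assoc, Category.assoc, cS.w])
  have ht : ∀ {k k' : Over i₀} (b : k' ⟶ k), t b ≫ m k = m k' := fun b ↦ by
    apply pullback.hom_ext
    · simp [t, m, ← Functor.map_comp]
    · simp [t, m]
  have hmin : ∀ k, Z k₀ ≤ Z k := fun k ↦ by
    obtain ⟨k', b, b', -⟩ := IsCofilteredOrEmpty.cone_objs k₀ k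
    have hle : ∀ {k₁ : Over i₀} (c : k' ⟶ k₁), Z k' ≤ Z k₁ := fun {k₁} c y ↦ by
      rintro ⟨p, rfl⟩
      exact ⟨t c p, by rw [← Scheme.Hom.comp_apply, ht]⟩
    have h1 : Z k' = Z k₀ := (eq_or_lt_of_le (hle b)).resolve_right (hk₀ _ ⟨k', rfl⟩)
    exact h1 ▸ hle b'
  let W := (Scheme.IdealSheafData.vanishingIdeal (Z k₀)).subscheme
  let ι : W ⟶ P₀ := (Scheme.IdealSheafData.vanishingIdeal (Z k₀)).subschemeι
  have : IsReduced W := Groth.BMCohLib.isReduced_vanishingIdeal _
  have hrange : Set.range ι = (Z k₀ : Set P₀) := by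
    rw [Scheme.IdealSheafData.range_subschemeι,
      Scheme.IdealSheafData.coe_support_vanishingIdeal]
  have hlift : ∀ k, ∃ h : W ⟶ P k, h ≫ m k = ι := fun k ↦
    have := hm k
    Groth.BMCohLib.exists_lift_closed ι (m k) (hrange.le.trans (hmin k))
  choose h hh using hlift
  have hcomp : ∀ {k k' : Over i₀} (b : k' ⟶ k), h k' ≫ t b = h k := fun {k k'} b ↦ by
    have := hm k
    rw [← cancel_mono (m k), Category.assoc, ht, hh, hh]
  let hX' := (Functor.Initial.isLimitWhiskerEquiv (Over.forget i₀) cX).symm hX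
  let hS' := (Functor.Initial.isLimitWhiskerEquiv (Over.forget i₀) cS).symm hS
  let cW : Cone (Over.forget i₀ ⋙ DX) :=
    { pt := W
      π :=
        { app := fun k ↦ h k ≫ pullback.fst _ _
          naturality := fun k' k b ↦ by
            show 𝟙 W ≫ h k ≫ pullback.fst _ _ = (h k' ≫ pullback.fst _ _) ≫ DX.map b.left
            rw [Category.id_comp, ← hcomp b]
            simp [t] } }
  let w : W ⟶ cX.pt := hX'.lift cW
  have hw : ∀ k : Over i₀, w ≫ cX.π.app k.left = h k ≫ pullback.fst _ _ := fun k ↦ hX'.fac cW k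
  have hsnd : ∀ k : Over i₀, h k ≫ pullback.snd _ _ = ι ≫ pullback.snd _ _ := fun k ↦ by
    rw [← hh k, Category.assoc, pullback.lift_snd]
  have hws : w ≫ f = (ι ≫ pullback.snd _ _) ≫ σ := hS'.hom_ext fun k ↦ by
    show (w ≫ f) ≫ cS.π.app k.left = ((ι ≫ pullback.snd _ _) ≫ σ) ≫ cS.π.app k.left
    rw [Category.assoc, hf, reassoc_of% hw k, pullback.condition, reassoc_of% hsnd k]
    simp
  let v : W ⟶ f.fiber s := pullback.lift w (ι ≫ pullback.snd _ _) hws
  let e : f.fiber s ⟶ P₀ := pullback.lift (f.fiberι s ≫ cX.π.app i₀) (f.fiberToSpecResidueField s)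
    (by
      rw [Category.assoc, ← hf, ← Category.assoc, ← Category.assoc]
      exact congrArg (· ≫ cS.π.app i₀) pullback.condition)
  have hve : v ≫ e = ι := by
    apply pullback.hom_ext
    · simp only [e, v, Category.assoc, pullback.lift_fst]
      rw [show pullback.lift w (ι ≫ pullback.snd _ _) hws ≫ f.fiberι s ≫ cX.π.app i₀ =
        w ≫ cX.π.app i₀ from pullback.lift_fst_assoc _ _ _ _,
        show w ≫ cX.π.app i₀ = _ from hw (Over.mk (𝟙 i₀))]
      conv_rhs => rw [← hh (Over.mk (𝟙 i₀))]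
      simp [m]
      exact (congrArg _ (Category.id_comp _)).symm
    · simp only [e, v, Category.assoc, pullback.lift_snd]
      exact pullback.lift_snd _ _ _
  -- the dimension of `W`
  have hdimW : topologicalKrullDim W ≤ d := by
    refine le_trans ?_ (hd s)
    refine (Topology.IsEmbedding.of_comp v.continuous e.continuous ?_).isInducing.topologicalKrullDim_le
    have : ⇑e ∘ ⇑v = ⇑ι := funext fun p ↦ by
      rw [Function.comp_apply, ← Scheme.Hom.comp_apply, hve]
    rw [this]
    exact ι.isEmbedding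
  -- the stage `k₀` of `x`
  have hdimP : topologicalKrullDim (P k₀) ≤ d := by
    have := hm k₀
    refine le_trans ?_ hdimW
    let g : P k₀ ≃ₜ W := ((m k₀).isEmbedding.toHomeomorph.trans
      (Homeomorph.setCongr (show Set.range (m k₀) = Set.range ι from hrange.symm))).trans
        ι.isEmbedding.toHomeomorph.symm
    exact g.isEmbedding.isInducing.topologicalKrullDim_le
  let pt : Spec (cS.pt.residueField s) := IsLocalRing.closedPoint _
  have hs : (σ ≫ cS.π.app k₀.left) pt = φ.app k₀.left (cX.π.app k₀.left x) := by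
    rw [← Scheme.Hom.comp_apply, ← hf, Scheme.Hom.comp_apply]
    simp [σ, s, pt]
  have hfib : topologicalKrullDim ↥((φ.app k₀.left).fiber ((σ ≫ cS.π.app k₀.left) pt)) ≤ d := by
    rw [← Groth.FibreDim.dim_fiber_baseChange (φ.app k₀.left) (σ ≫ cS.π.app k₀.left) _ _
      (IsPullback.of_hasPullback (φ.app k₀.left) (σ ≫ cS.π.app k₀.left)) pt]
    exact le_trans
      ((pullback.snd (φ.app k₀.left) (σ ≫ cS.π.app k₀.left)).fiberι pt).isEmbedding.isInducing.topologicalKrullDim_le
      hdimP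
  rw [hs] at hfib
  refine hx k₀.left (le_trans ?_ hfib)
  rw [Groth.FibreDim.dim_fiber_eq_iSup]
  exact le_iSup (fun z ↦ FlatMor.localDim _ z) ((φ.app k₀.left).asFiber (cX.π.app k₀.left x))

end Groth.Limits

namespace Groth.Limits

/-- A closed subscheme with fibres of dimension at most `d` lies in a finitely presented one. -/
theorem exists_fp_closedSubscheme_dim_fiber_le {X S Z : Scheme.{u}} [CompactSpace S]
    [QuasiSeparatedSpace S] (f : X ⟶ S) [LocallyOfFinitePresentation f] [QuasiCompact f]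
    [QuasiSeparated f] (d : ℕ) (ι : Z ⟶ X) [IsClosedImmersion ι]
    (hZ : ∀ s : S, topologicalKrullDim ↥((ι ≫ f).fiber s) ≤ d) :
    ∃ (Z' : Scheme.{u}) (ι' : Z' ⟶ X) (k : Z ⟶ Z'), IsClosedImmersion ι' ∧
      LocallyOfFinitePresentation ι' ∧ k ≫ ι' = ι ∧
      ∀ s : S, topologicalKrullDim ↥((ι' ≫ f).fiber s) ≤ d := by
  have : CompactSpace X := QuasiCompact.compactSpace_of_compactSpace f
  have : QuasiSeparatedSpace X := quasiSeparatedSpace_of_quasiSeparated f
  obtain ⟨I, _, _, _, D, c, hc, e, hD, hDa⟩ := exists_closedApprox ι (P := X)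
  have : IsConnected Iᵒᵖ := IsCofiltered.isConnected _
  let DS : Iᵒᵖ ⥤ Scheme.{u} := (Functor.const Iᵒᵖ).obj S
  let φ : D ⋙ Over.forget X ⟶ DS :=
    { app := fun i ↦ (D.obj i).hom ≫ f
      naturality := fun i j a ↦ by
        show (D.map a).left ≫ (D.obj j).hom ≫ f = ((D.obj i).hom ≫ f) ≫ 𝟙 S
        rw [Category.comp_id, Over.w_assoc] }
  have (i : Iᵒᵖ) : LocallyOfFiniteType (φ.app i) := by
    have := (hD i).2
    exact inferInstanceAs (LocallyOfFiniteType ((D.obj i).hom ≫ f))
  have (i : Iᵒᵖ) : QuasiCompact (φ.app i) := by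
    have := (hD i).1
    exact inferInstanceAs (QuasiCompact ((D.obj i).hom ≫ f))
  have (i j : Iᵒᵖ) (a : i ⟶ j) : IsAffineHom (DS.map a) := inferInstanceAs (IsAffineHom (𝟙 S))
  have (i : Iᵒᵖ) : CompactSpace (DS.obj i) := ‹CompactSpace S›
  have hcl : ∀ (i j : Iᵒᵖ) (a : i ⟶ j), IsClosedImmersion
      (pullback.lift ((D ⋙ Over.forget X).map a) (φ.app i) (φ.naturality a)) := fun i j a ↦ by
    have : IsIso (DS.map a) := inferInstanceAs (IsIso (𝟙 S))
    have : IsClosedImmersion
        (pullback.lift ((D ⋙ Over.forget X).map a) (φ.app i) (φ.naturality a) ≫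
          pullback.fst (φ.app j) (DS.map a)) := by
      rw [pullback.lift_fst]
      exact hDa i j a
    exact IsClosedImmersion.of_comp _ (pullback.fst (φ.app j) (DS.map a))
  obtain ⟨i, hi⟩ := exists_dim_fiber_le_of_limit φ (isLimitOfPreserves (Over.forget X) hc)
    (isLimitConstCone Iᵒᵖ S) hcl (e.hom.left ≫ ι ≫ f) (fun i ↦ by
      show (e.hom.left ≫ ι ≫ f) ≫ 𝟙 S = (c.π.app i).left ≫ (D.obj i).hom ≫ f
      rw [Category.comp_id, Over.w_assoc]
      exact (Category.assoc _ _ _).symm.trans (congrArg (· ≫ f) (Over.w e.hom))) d (fun s ↦ by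
      refine le_trans ?_ (hZ s)
      have : LocallyOfFiniteType (ι ≫ f) := inferInstance
      exact (Groth.FibreDim.dim_fiber_baseChange (ι ≫ f) (𝟙 S) (e.hom.left ≫ ι ≫ f) e.hom.left
        (IsPullback.of_horiz_isIso ⟨(Category.comp_id _).symm⟩) s).le)
  exact ⟨(D.obj i).left, (D.obj i).hom, (e.inv ≫ c.π.app i).left, (hD i).1, (hD i).2,
    Over.w (e.inv ≫ c.π.app i), hi⟩

end Groth.Limits
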