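import Groth.Agent.PropsBasic2.Reduced
import Mathlib.AlgebraicGeometry.Morphisms.ClosedImmersion
import Mathlib.AlgebraicGeometry.Morphisms.QuasiSeparated
import Mathlib.AlgebraicGeometry.IdealSheaf.Functorial
import Mathlib.RingTheory.KrullDimension.Zero
import Mathlib.RingTheory.Localization.AtPrime.Basic
import Mathlib.CategoryTheory.Filtered.Basic
import Mathlib.CategoryTheory.Category.Preorder

/-!
# Induction down to a field-valued point

A property of quasi-compact quasi-separated schemes over `T` which is insensitive to thickenings,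
passes to limits with affine transition maps and to one of the pieces of a decomposition into a
closed subscheme and its quasi-compact open complement, holds at some field-valued point.
-/

set_option backward.isDefEq.respectTransparency false

universe u

open CategoryTheory Limits AlgebraicGeometry TopologicalSpace
open Scheme (IdealSheafData)

namespace Groth.Limits

theorem isUnit_of_basicOpen_eq_top {W : Scheme.{u}} {r : Γ(W, ⊤)} (h : W.basicOpen r = ⊤) :
    IsUnit r :=
  W.toRingedSpace.isUnit_of_isUnit_germ ⊤ r fun x hx ↦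
    (W.mem_basicOpen r x hx).1 (by rw [h]; trivial)

theorem toSpecΓ_SpecMap_appTop {W : Scheme.{u}} {R : CommRingCat.{u}} (g : W ⟶ Spec R) :
    W.toSpecΓ ≫ Spec.map ((Scheme.ΓSpecIso R).inv ≫ g.appTop) = g := by
  rw [Spec.map_comp, ← Scheme.toSpecΓ_naturality_assoc, ← SpecMap_ΓSpecIso_hom, ← Spec.map_comp,
    Iso.inv_hom_id, Spec.map_id, Category.comp_id]

variable (T : Scheme.{u}) (P : ∀ ⦃T' : Scheme.{u}⦄, (T' ⟶ T) → Prop)

theorem exists_field_point_of_induction [CompactSpace T] [QuasiSeparatedSpace T] [Nonempty T]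
    (h1 : ∀ ⦃T' T'' : Scheme.{u}⦄ (a : T' ⟶ T) (t : T'' ⟶ T') [IsClosedImmersion t] [Surjective t]
      [CompactSpace T'] [QuasiSeparatedSpace T'] [CompactSpace T''] [QuasiSeparatedSpace T''],
        P (t ≫ a) ↔ P a)
    (h2 : ∀ ⦃I : Type u⦄ [SmallCategory I] [IsCofiltered I] (D : I ⥤ Over T) (c : Cone D)
      (_ : IsLimit c), (∀ (i j : I) (m : i ⟶ j), IsAffineHom (D.map m).left) →
      (∀ i, CompactSpace (D.obj i).left ∧ QuasiSeparatedSpace (D.obj i).left) →
      (∀ i, P (D.obj i).hom) → P c.pt.hom)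
    (h3 : ∀ ⦃T' Z V : Scheme.{u}⦄ (a : T' ⟶ T) [CompactSpace T'] [QuasiSeparatedSpace T']
      (i : Z ⟶ T') [IsClosedImmersion i] (j : V ⟶ T') [IsOpenImmersion j] [CompactSpace V],
        Set.range j = (Set.range i)ᶜ → P a → P (j ≫ a) ∨ P (i ≫ a))
    (hT : P (𝟙 T)) :
    ∃ (K : Type u) (_ : Field K) (t : Spec (CommRingCat.of K) ⟶ T), P t := by
  classical
  have hcpt : ∀ {W : Scheme.{u}} (a : W ⟶ T) [IsClosedImmersion a],
      CompactSpace W ∧ QuasiSeparatedSpace W := fun a _ ↦
    ⟨QuasiCompact.compactSpace_of_compactSpace a, quasiSeparatedSpace_of_quasiSeparated a⟩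
  -- `P` of a closed immersion passes to the reduced closed subscheme on its range
  have hred : ∀ {W : Scheme.{u}} (a : W ⟶ T) [IsClosedImmersion a] (Z : Closeds T),
      (Z : Set T) = Set.range a → P a → P (IdealSheafData.vanishingIdeal Z).subschemeι := by
    intro W a _ Z hZ hPa
    let J := IdealSheafData.vanishingIdeal Z
    have hJ : (J.support : Set T) = Z := by simp [J]
    have hle : a.ker ≤ J.subschemeι.ker := by
      rw [IdealSheafData.ker_subschemeι, ← IdealSheafData.le_support_iff_le_vanishingIdeal,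
        ← SetLike.coe_subset_coe, Scheme.Hom.support_ker, hZ]
      exact subset_closure
    let t := IsClosedImmersion.lift a J.subschemeι hle
    have hfac : t ≫ a = J.subschemeι := IsClosedImmersion.lift_fac _ _ _
    have : IsClosedImmersion (t ≫ a) := hfac ▸ inferInstance
    have : IsClosedImmersion t := IsClosedImmersion.of_comp t a
    have : Surjective t := ⟨fun w ↦ by
      obtain ⟨v, hv⟩ : a w ∈ Set.range J.subschemeι := by
        rw [Scheme.IdealSheafData.range_subschemeι, hJ, hZ]; exact ⟨w, rfl⟩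
      exact ⟨v, a.isClosedEmbedding.injective (by rw [← Scheme.Hom.comp_apply, hfac, hv])⟩⟩
    obtain ⟨_, _⟩ := hcpt a
    obtain ⟨_, _⟩ := hcpt J.subschemeι
    exact hfac ▸ (h1 a t).2 hPa
  let 𝒮 : Set (Closeds T) :=
    {Z | (Z : Set T).Nonempty ∧ P (IdealSheafData.vanishingIdeal Z).subschemeι}
  have htop : (⊤ : Closeds T) ∈ 𝒮 :=
    ⟨Set.univ_nonempty, hred (𝟙 T) ⊤ (by simp) hT⟩
  -- minimal elements exist
  obtain ⟨Z, -, hZ⟩ := zorn_le_nonempty₀ (α := (Closeds T)ᵒᵈ) (OrderDual.ofDual ⁻¹' 𝒮)
    (fun c hc hchain y hy ↦ by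
      let C : Set (Closeds T) := OrderDual.toDual ⁻¹' c
      let IC := {Z // Z ∈ C}
      have : Nonempty IC := ⟨⟨OrderDual.ofDual y, hy⟩⟩
      have hdir : IsDirectedOrder ICᵒᵈ := ⟨fun a b ↦ by
        rcases hchain.total (OrderDual.ofDual a).2 (OrderDual.ofDual b).2 with h | h
        · exact ⟨b, h, le_rfl⟩
        · exact ⟨a, le_rfl, h⟩⟩
      have : IsCodirectedOrder IC := ⟨fun a b ↦ by
        rcases hchain.total a.2 b.2 with h | h
        · exact ⟨b, h, le_rfl⟩
        · exact ⟨a, le_rfl, h⟩⟩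
      let I : IC → T.IdealSheafData := fun Z ↦ IdealSheafData.vanishingIdeal Z.1
      have hanti : ∀ {a b : IC}, a ≤ b → I b ≤ I a :=
        fun h ↦ IdealSheafData.vanishingIdeal_antimono h
      let D : IC ⥤ Over T :=
        { obj := fun Z ↦ Over.mk (I Z).subschemeι
          map := fun m ↦ Over.homMk (IdealSheafData.inclusion (hanti (leOfHom m)))
            (IdealSheafData.inclusion_subschemeι _)
          map_id := fun _ ↦ by ext1; simp [← cancel_mono (IdealSheafData.subschemeι _)]
          map_comp := fun _ _ ↦ by ext1; simp [← cancel_mono (IdealSheafData.subschemeι _)] }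
      let J : T.IdealSheafData := ⨆ Z, I Z
      let cn : Cone D :=
        { pt := Over.mk J.subschemeι
          π := { app := fun Z ↦ Over.homMk (IdealSheafData.inclusion (le_iSup I Z))
                   (IdealSheafData.inclusion_subschemeι _)
                 naturality := fun _ _ _ ↦ by
                   ext1; simp [D, ← cancel_mono (IdealSheafData.subschemeι _)] } }
      let lim : IsLimit cn :=
        { lift := fun s ↦ Over.homMk (IsClosedImmersion.lift J.subschemeι s.pt.hom (by
              rw [IdealSheafData.ker_subschemeι]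
              refine iSup_le fun Z ↦ ?_
              rw [show s.pt.hom = (s.π.app Z).left ≫ (D.obj Z).hom from (Over.w (s.π.app Z)).symm]
              exact le_trans (le_of_eq (IdealSheafData.ker_subschemeι _).symm)
                (Scheme.Hom.le_ker_comp _ _))) (IsClosedImmersion.lift_fac _ _ _)
          fac := fun s Z ↦ by
            ext1
            rw [← cancel_mono (I Z).subschemeι]
            simpa [cn, D] using (Over.w (s.π.app Z)).symm
          uniq := fun s m _ ↦ by
            ext1
            rw [← cancel_mono J.subschemeι]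
            simpa [cn] using Over.w m }
      have hP : P J.subschemeι := by
        refine h2 D cn lim (fun a b m ↦ ?_) (fun Z ↦ hcpt (I Z).subschemeι) fun Z ↦ (hc Z.2).2
        have : IsClosedImmersion ((D.map m).left ≫ (D.obj b).hom) :=
          (Over.w (D.map m)).symm ▸ inferInstanceAs (IsClosedImmersion (I a).subschemeι)
        have : IsClosedImmersion (D.obj b).hom := inferInstanceAs (IsClosedImmersion (I b).subschemeι)
        have : IsClosedImmersion (D.map m).left := IsClosedImmersion.of_comp _ (D.obj b).hom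
        infer_instance
      have hsupp : (J.support : Set T) = ⋂ Z : IC, (Z.1 : Set T) := by simp [J, I]
      have hne : (J.support : Set T).Nonempty := by
        rw [hsupp]
        refine IsCompact.nonempty_iInter_of_directed_nonempty_isCompact_isClosed _ (fun a b ↦ ?_)
          (fun Z ↦ (hc Z.2).1) (fun Z ↦ Z.1.isClosed.isCompact) fun Z ↦ Z.1.isClosed
        rcases hchain.total a.2 b.2 with h | h
        · exact ⟨b, h, subset_rfl⟩
        · exact ⟨a, subset_rfl, h⟩
      refine ⟨OrderDual.toDual J.support, ⟨hne, hred J.subschemeι _ ?_ hP⟩, fun Z hZ ↦ ?_⟩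
      · exact J.range_subschemeι.symm
      · show J.support ≤ OrderDual.ofDual Z
        rw [← SetLike.coe_subset_coe, hsupp]
        exact Set.iInter_subset (fun W : IC ↦ (W.1 : Set T)) ⟨OrderDual.ofDual Z, hZ⟩)
      (OrderDual.toDual ⊤) htop
  obtain ⟨⟨hne, hPZ⟩, hmin⟩ := hZ
  let I := IdealSheafData.vanishingIdeal (OrderDual.ofDual Z)
  let X := I.subscheme
  let a : X ⟶ T := I.subschemeι
  obtain ⟨_, _⟩ := hcpt a
  have : IsReduced X := Groth.PropsBasic2.isReduced_vanishingIdeal_subscheme _
  have hrange : Set.range a = ((OrderDual.ofDual Z : Closeds T) : Set T) := by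
    rw [Scheme.IdealSheafData.range_subschemeι]; simp [I]
  -- `P` holds on all nonempty quasi-compact opens of the minimal closed subscheme
  have hopen : ∀ V : X.Opens, IsCompact (V : Set X) → (V : Set X).Nonempty → P (V.ι ≫ a) := by
    intro V hV hVne
    have : CompactSpace (V : Scheme.{u}) := isCompact_iff_compactSpace.1 hV
    by_cases hVtop : V = ⊤
    · have : Surjective V.ι := ⟨fun x ↦ by
        have : x ∈ Set.range V.ι := by rw [Scheme.Opens.range_ι, hVtop]; trivial
        exact this⟩
      have : IsIso V.ι := by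
        subst hVtop
        exact inferInstanceAs (IsIso X.topIso.hom)
      have : QuasiSeparatedSpace (V : Scheme.{u}) := quasiSeparatedSpace_of_quasiSeparated V.ι
      exact (h1 a V.ι).2 hPZ
    let W : Closeds X := ⟨(V : Set X)ᶜ, V.2.isClosed_compl⟩
    let i := (IdealSheafData.vanishingIdeal W).subschemeι
    have hri : Set.range i = (V : Set X)ᶜ := by
      rw [Scheme.IdealSheafData.range_subschemeι]; simp [W]
    refine (h3 a i V.ι ?_ hPZ).resolve_right fun hPi ↦ ?_
    · rw [hri, compl_compl, Scheme.Opens.range_ι]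
    let Z' : Closeds T := ⟨Set.range (i ≫ a), (i ≫ a).isClosedEmbedding.isClosed_range⟩
    have hsub : Z' ≤ OrderDual.ofDual Z := by
      rw [← SetLike.coe_subset_coe, ← hrange]
      rintro _ ⟨w, rfl⟩
      exact ⟨i w, (Scheme.Hom.comp_apply _ _ _).symm⟩
    have hne' : (Z' : Set T).Nonempty := by
      obtain ⟨x, hx⟩ : ((V : Set X)ᶜ).Nonempty := by
        rw [Set.nonempty_compl]
        exact fun h ↦ hVtop (SetLike.coe_injective h)
      obtain ⟨w, -⟩ := hri.symm.subset hx
      exact ⟨_, w, rfl⟩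
    have heq := hmin (y := OrderDual.toDual Z') ⟨hne', hred (i ≫ a) Z' rfl hPi⟩ hsub
    obtain ⟨v, hv⟩ := hVne
    have hav : a v ∈ (Z' : Set T) := by
      have : OrderDual.ofDual Z ≤ Z' := heq
      exact this (hrange.subset ⟨v, rfl⟩)
    obtain ⟨w, hw⟩ := hav
    have : i w = v := a.isClosedEmbedding.injective (by rw [← Scheme.Hom.comp_apply, hw])
    exact (hri.subset ⟨w, this⟩) hv
  obtain ⟨x₀⟩ : Nonempty X := by
    obtain ⟨t, ht⟩ := hne
    obtain ⟨x, -⟩ := hrange.symm.subset ht
    exact ⟨x⟩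
  obtain ⟨_, ⟨U, hU, rfl⟩, hx₀, -⟩ :=
    X.isBasis_affineOpens.exists_subset_of_mem_open (Set.mem_univ x₀) isOpen_univ
  let A := Γ(X, U)
  have : Nonempty U := ⟨⟨x₀, hx₀⟩⟩
  have : _root_.IsReduced A := IsReduced.component_reduced U
  have : Nontrivial A := Scheme.component_nontrivial X U
  obtain ⟨⟨p, hp⟩⟩ := Ideal.nonempty_minimalPrimes (I := (⊥ : Ideal A)) bot_ne_top
  have := hp.1.1
  let m : Spec (CommRingCat.of A) ⟶ T := hU.fromSpec ≫ a
  -- the system of standard opens containing the minimal prime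
  let J := {W : (Spec (CommRingCat.of A)).Opens // ∃ f : A, f ∉ p ∧ W = PrimeSpectrum.basicOpen f}
  have : Nonempty J :=
    ⟨⟨_, 1, fun h ↦ hp.1.1.ne_top ((Ideal.eq_top_iff_one _).2 h), rfl⟩⟩
  have : IsCodirectedOrder J := ⟨fun U₁ U₂ ↦ by
    obtain ⟨_, f, hf, rfl⟩ := U₁
    obtain ⟨_, g, hg, rfl⟩ := U₂
    exact ⟨⟨_, f * g, fun h ↦ (hp.1.1.mem_or_mem h).elim hf hg, rfl⟩,
      PrimeSpectrum.basicOpen_mul_le_left f g, PrimeSpectrum.basicOpen_mul_le_right f g⟩⟩
  let D : J ⥤ Over T :=
    { obj := fun W ↦ Over.mk (W.1.ι ≫ m)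
      map := fun h ↦ Over.homMk ((Spec (CommRingCat.of A)).homOfLE (leOfHom h))
        (by simp)
      map_id := fun _ ↦ by ext1; simp
      map_comp := fun _ _ ↦ by ext1; simp }
  let q : Spec (CommRingCat.of (Localization.AtPrime p)) ⟶ Spec (CommRingCat.of A) :=
    Spec.map (CommRingCat.ofHom (algebraMap A (Localization.AtPrime p)))
  have hq : ∀ W : J, Set.range q ⊆ Set.range W.1.ι := by
    rintro ⟨_, f, hf, rfl⟩ _ ⟨r, rfl⟩
    rw [Scheme.Opens.range_ι]
    show algebraMap A (Localization.AtPrime p) f ∉ r.asIdeal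
    exact fun h ↦ r.2.ne_top (Ideal.eq_top_of_isUnit_mem _ h
      (IsLocalization.map_units _ (⟨f, hf⟩ : p.primeCompl)))
  let cn : Cone D :=
    { pt := Over.mk (q ≫ m)
      π := { app := fun W ↦ Over.homMk (IsOpenImmersion.lift W.1.ι q (hq W))
               (show _ ≫ W.1.ι ≫ m = _ by simp)
             naturality := fun _ W _ ↦ by
               ext1; simp [D, ← cancel_mono W.1.ι] } }
  let W₁ : J := ⟨_, 1, fun h ↦ hp.1.1.ne_top ((Ideal.eq_top_iff_one _).2 h), rfl⟩
  have hbase : ∀ (s : Cone D) (W : J), (s.π.app W).left ≫ W.1.ι = (s.π.app W₁).left ≫ W₁.1.ι := by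
    intro s W
    have hle : W ≤ W₁ := fun x _ ↦ by simp [W₁]
    rw [← s.w (homOfLE hle)]
    simp [D]
  let φ : ∀ s : Cone D, CommRingCat.of A ⟶ Γ(s.pt.left, ⊤) := fun s ↦
    (Scheme.ΓSpecIso (CommRingCat.of A)).inv ≫ ((s.π.app W₁).left ≫ W₁.1.ι).appTop
  have hφ : ∀ s : Cone D, s.pt.left.toSpecΓ ≫ Spec.map (φ s) = (s.π.app W₁).left ≫ W₁.1.ι :=
    fun s ↦ toSpecΓ_SpecMap_appTop ((s.π.app W₁).left ≫ W₁.1.ι)
  have hunit : ∀ (s : Cone D) (f : p.primeCompl), IsUnit (φ s f.1) := by
    intro s f
    refine isUnit_of_basicOpen_eq_top ?_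
    rw [← Scheme.toSpecΓ_preimage_basicOpen]
    show (s.pt.left.toSpecΓ ≫ Spec.map (φ s)) ⁻¹ᵁ PrimeSpectrum.basicOpen f.1 = ⊤
    rw [hφ, ← hbase s ⟨_, f.1, f.2, rfl⟩]
    exact TopologicalSpace.Opens.ext (Set.eq_univ_of_forall fun w ↦
      ((s.π.app ⟨_, f.1, f.2, rfl⟩).left w).2)
  let lim : IsLimit cn :=
    { lift := fun s ↦ Over.homMk
        (s.pt.left.toSpecΓ ≫ Spec.map (CommRingCat.ofHom (IsLocalization.lift (hunit s))))
        (by
          show (s.pt.left.toSpecΓ ≫ _) ≫ q ≫ m = s.pt.hom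
          rw [Category.assoc, ← Spec.map_comp_assoc, ← CommRingCat.ofHom_comp,
            IsLocalization.lift_comp, CommRingCat.ofHom_hom, reassoc_of% hφ s]
          exact Over.w (s.π.app W₁))
      fac := fun s W ↦ by
        ext1
        rw [← cancel_mono W.1.ι]
        show ((s.pt.left.toSpecΓ ≫ _) ≫ IsOpenImmersion.lift W.1.ι q (hq W)) ≫ W.1.ι = _
        rw [Category.assoc, IsOpenImmersion.lift_fac, Category.assoc, ← Spec.map_comp,
          ← CommRingCat.ofHom_comp, IsLocalization.lift_comp, CommRingCat.ofHom_hom, hφ, ← hbase s W]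
      uniq := fun s l hl ↦ by
        have : IsPreimmersion q := .of_isLocalization p.primeCompl
        ext1
        rw [← cancel_mono q]
        show _ = (s.pt.left.toSpecΓ ≫ _) ≫ q
        rw [Category.assoc, ← Spec.map_comp, ← CommRingCat.ofHom_comp, IsLocalization.lift_comp,
          CommRingCat.ofHom_hom, hφ, ← hl W₁]
        simp [cn] }
  have hfield : IsField (Localization.AtPrime p) := by
    have : Ring.KrullDimLE 0 (Localization.AtPrime p) :=
      Ring.KrullDimLE.of_isLocalization p hp _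
    exact Ring.KrullDimLE.isField_of_isReduced
  let := hfield.toField
  refine ⟨Localization.AtPrime p, inferInstance, q ≫ m, ?_⟩
  have haff : ∀ W : J, IsAffineOpen W.1 := by
    rintro ⟨_, f, hf, rfl⟩
    exact IsAffineOpen.Spec_basicOpen f
  refine h2 D cn lim (fun W W' h ↦ ?_) (fun W ↦ ?_) fun W ↦ ?_
  · have : IsAffine (D.obj W).left := haff W
    have : IsAffine (D.obj W').left := haff W'
    infer_instance
  · have : IsAffine (D.obj W).left := haff W
    exact ⟨inferInstance, inferInstance⟩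
  · show P (W.1.ι ≫ hU.fromSpec ≫ a)
    have : IsAffine (W.1 : Scheme.{u}) := haff W
    let k : (W.1 : Scheme.{u}) ⟶ X := W.1.ι ≫ hU.fromSpec
    have hWne : (W.1 : Set (Spec (CommRingCat.of A))).Nonempty := by
      obtain ⟨_, f, hf, rfl⟩ := W
      exact ⟨⟨p, hp.1.1⟩, hf⟩
    have key := hopen k.opensRange (isCompact_range k.continuous)
      (hWne.to_subtype.elim fun w ↦ ⟨k w, w, rfl⟩)
    let e := IsOpenImmersion.isoOfRangeEq k k.opensRange.ι (by rw [Scheme.Opens.range_ι]; rfl)
    have he : e.hom ≫ k.opensRange.ι ≫ a = W.1.ι ≫ hU.fromSpec ≫ a := by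
      rw [IsOpenImmersion.isoOfRangeEq_hom_fac_assoc, Category.assoc]
    have : CompactSpace (k.opensRange : Scheme.{u}) :=
      isCompact_iff_compactSpace.1 (isCompact_range k.continuous)
    have : QuasiSeparatedSpace (k.opensRange : Scheme.{u}) :=
      quasiSeparatedSpace_of_quasiSeparated k.opensRange.ι
    rw [← he]
    exact (h1 (k.opensRange.ι ≫ a) e.hom).2 key

end Groth.Limits
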