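import Groth.Agent.Limits.FlatDescent
import Groth.Agent.Limits.Descend
import Mathlib.AlgebraicGeometry.Morphisms.FlatRank

/-!
# Descending finite locally free morphisms of given degree along limits
-/

set_option backward.isDefEq.respectTransparency false
set_option backward.defeqAttrib.useBackward true

universe u

open CategoryTheory Limits AlgebraicGeometry

namespace Groth.Limits

/-- Base change along a composite, as a cartesian square. -/
theorem exists_isPullback_snd_comp {X₀ Y₀ A B : Scheme.{u}} (f₀ : X₀ ⟶ Y₀) (r : A ⟶ B) (p : B ⟶ Y₀)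
    (q : A ⟶ Y₀) (h : r ≫ p = q) :
    ∃ m : pullback f₀ q ⟶ pullback f₀ p,
      IsPullback m (pullback.snd f₀ q) (pullback.snd f₀ p) r := by
  subst h
  refine ⟨pullback.lift (pullback.fst _ _) (pullback.snd _ _ ≫ r)
      (by rw [pullback.condition, Category.assoc]), ?_⟩
  refine IsPullback.of_right ?_ (pullback.lift_snd _ _ _) (IsPullback.of_hasPullback f₀ p)
  rw [pullback.lift_fst]
  exact IsPullback.of_hasPullback f₀ (r ≫ p)

variable {I : Type u} [Category.{u} I] [IsCofiltered I] {D : I ⥤ Scheme.{u}}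
  [∀ (i j : I) (m : i ⟶ j), IsAffineHom (D.map m)] {c : Cone D}
  {i₀ : I} {X₀ Y₀ X Y : Scheme.{u}} {f₀ : X₀ ⟶ Y₀} {g₀ : Y₀ ⟶ D.obj i₀} {f : X ⟶ Y}
  {g : Y ⟶ c.pt} {qY : Y ⟶ Y₀} {qX : X ⟶ X₀}

/-- If the base change to the limit is finite locally free of degree `d`, so is some stage. -/
theorem exists_finLocFreeOfDeg_stage (hc : IsLimit c) (hY : IsPullback qY g g₀ (c.π.app i₀))
    (hX : IsPullback qX f f₀ qY) [CompactSpace X₀] [CompactSpace Y₀] [QuasiCompact f₀]
    [QuasiSeparated f₀] [LocallyOfFinitePresentation f₀] (d : ℕ) [IsFinite f] [Flat f]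
    (hd : ∀ y, f.finrank y = d) :
    ∃ j : Over i₀, let fj := pullback.snd f₀ (pullback.snd (D.map j.hom) g₀)
      IsFinite fj ∧ Flat fj ∧ LocallyOfFinitePresentation fj ∧ ∀ y, fj.finrank y = d := by
  let E := pullbackDiagram D i₀ g₀
  let p (j : Over i₀) : E.obj j ⟶ Y₀ := pullback.snd (D.map j.hom) g₀
  have hp : ∀ {j k : Over i₀} (m : k ⟶ j), E.map m ≫ p j = p k := fun m ↦ pullback.lift_snd _ _ _
  obtain ⟨j₁, hj₁⟩ := exists_isFinite_stage hc hY hX
  obtain ⟨j₂, hj₂⟩ := exists_prop_stage @Flat ringDescends_flat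
    (fun _ _ _ h ↦ have : IsOpenImmersion _ := h; inferInstance) hc hY hX inferInstance
  obtain ⟨k, m₁, m₂, -⟩ := IsCofilteredOrEmpty.cone_objs j₁ j₂
  let fk := pullback.snd f₀ (p k)
  have : IsFinite fk := prop_snd_comp @IsFinite _ (E.map m₁) _ _ (hp m₁) hj₁
  have : Flat fk := prop_snd_comp @Flat _ (E.map m₂) _ _ (hp m₂) hj₂
  have : LocallyOfFinitePresentation fk := inferInstance
  have : CompactSpace (E.obj k) :=
    QuasiCompact.compactSpace_of_compactSpace (pullback.snd (D.map k.hom) g₀)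
  let F : Set (E.obj k) := fk.finrank ⁻¹' {d}ᶜ
  have hF : IsClosed F := by
    have := (Scheme.Hom.isLocallyConstant_finrank fk).isOpen_fiber d
    exact this.isClosed_compl
  let e := hY.flip.isoPullback
  have hq : (pullbackCone D i₀ g₀ c).π.app k ≫ p k = pullback.snd (c.π.app i₀) g₀ :=
    pullback.lift_snd _ _ _
  obtain ⟨l, m, hl⟩ := exists_preimage_eq_empty E (pullbackCone D i₀ g₀ c)
    (isLimitPullbackCone D i₀ g₀ hc) (pc_of_isClosed hF).qcImage (by
      refine Set.eq_empty_of_forall_notMem fun y hy ↦ hy ?_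
      let r : Y ⟶ E.obj k := e.hom ≫ (pullbackCone D i₀ g₀ c).π.app k
      have hr : r ≫ p k = qY := by
        rw [Category.assoc, hq]
        exact hY.flip.isoPullback_hom_snd
      obtain ⟨y', rfl⟩ : ∃ y', e.hom y' = y :=
        ⟨e.inv y, by rw [← Scheme.Hom.comp_apply, Iso.inv_hom_id]; rfl⟩
      have hsq : IsPullback (pullback.lift qX (f ≫ r) (by rw [Category.assoc, hr, hX.w]))
          f fk r := by
        refine IsPullback.of_right ?_ (pullback.lift_snd _ _ _)
          (IsPullback.of_hasPullback f₀ (p k))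
        rw [pullback.lift_fst, hr]
        exact hX
      exact (Scheme.Hom.finrank_of_isPullback _ _ _ _ hsq y').symm.trans (hd y'))
  refine ⟨l, prop_snd_comp @IsFinite _ (E.map (m ≫ m₁)) _ _ (hp _) hj₁,
    prop_snd_comp @Flat _ (E.map (m ≫ m₂)) _ _ (hp _) hj₂, inferInstance, fun y ↦ ?_⟩
  obtain ⟨t, ht⟩ := exists_isPullback_snd_comp f₀ (E.map m) (p k) _ (hp m)
  rw [Scheme.Hom.finrank_of_isPullback _ _ _ _ ht y]
  by_contra hne
  exact Set.eq_empty_iff_forall_notMem.1 hl y hne

end Groth.Limits
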