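import Groth.Agent.Calg4.FlatClosureDedekind

/-!
# Flat closures from an open subset of a Dedekind base
-/

universe u
open CategoryTheory CategoryTheory.Limits AlgebraicGeometry TopologicalSpace

namespace Groth.LimFlatClosure

/-- A flat scheme over an integral base is schematically dominated by its generic fibre. -/
theorem dominant_generic {Y Z : Scheme.{u}} [IsIntegral Y] (q : Z ⟶ Y) [Flat q] :
    IsSchemeTheoreticallyDominant (pullback.fst q (Y.fromSpecResidueField (genericPoint Y))) ∧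
      QuasiCompact (pullback.fst q (Y.fromSpecResidueField (genericPoint Y))) :=
  ⟨inferInstance, inferInstance⟩

/-- Closed flat extension of a closed subscheme over a nonempty open, with uniqueness. -/
theorem exists_unique_open {Y P : Scheme.{u}} [IsIntegral Y] [IsLocallyNoetherian Y]
    (hY : ∀ y : Y, IsRegularLocalRing (Y.presheaf.stalk y) ∧ ringKrullDim (Y.presheaf.stalk y) ≤ 1)
    (p : P ⟶ Y) (U : Y.Opens) (hU : (U : Set Y).Nonempty) {X : Scheme.{u}}
    (i : X ⟶ ↑(p ⁻¹ᵁ U)) [IsClosedImmersion i] [Flat (i ≫ (p ⁻¹ᵁ U).ι ≫ p)] :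
    ∃ (X' : Scheme.{u}) (i' : X' ⟶ P) (j : X ⟶ X'),
      IsClosedImmersion i' ∧ Flat (i' ≫ p) ∧ IsPullback j i i' (p ⁻¹ᵁ U).ι ∧
      ∀ (X'' : Scheme.{u}) (i'' : X'' ⟶ P) (j'' : X ⟶ X''),
        IsClosedImmersion i'' → Flat (i'' ≫ p) →
        IsPullback j'' i i'' (p ⁻¹ᵁ U).ι → ∃ e : X' ≅ X'', e.hom ≫ i'' = i' := by
  haveI : Nonempty U.toScheme := hU.to_subtype
  haveI : IsDominant U.ι := ⟨by
    rw [DenseRange, Scheme.Opens.range_ι]
    exact U.isOpen.dense hU⟩
  haveI : IsSchemeTheoreticallyDominant U.ι := .of_isDominant _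
  haveI : QuasiCompact U.ι := inferInstance
  have hbc : IsPullback (p ⁻¹ᵁ U).ι (p ∣_ U) p U.ι := (isPullback_morphismRestrict p U).flip
  haveI : QuasiCompact (p ⁻¹ᵁ U).ι := MorphismProperty.of_isPullback hbc.flip ‹QuasiCompact U.ι›
  set g := i ≫ (p ⁻¹ᵁ U).ι with hg
  haveI : QuasiCompact g := inferInstance
  haveI := Groth.Flatmor4.isSchemeTheoreticallyDominant_toImage g
  haveI : Flat (g ≫ p) := by rw [hg, Category.assoc]; infer_instance
  obtain ⟨hd, hq⟩ := dominant_generic (g ≫ p)
  let w := pullback.fst (g ≫ p) (Y.fromSpecResidueField (genericPoint Y))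
  haveI : IsSchemeTheoreticallyDominant (w ≫ g.toImage) := inferInstance
  haveI : QuasiCompact g.toImage :=
    have : QuasiCompact (g.toImage ≫ g.imageι) := by rw [g.toImage_imageι]; infer_instance
    .of_comp g.toImage g.imageι
  have h1 : (w ≫ g.toImage) ≫ g.imageι ≫ p =
      pullback.snd (g ≫ p) _ ≫ Y.fromSpecResidueField (genericPoint Y) :=
    (Category.assoc _ _ _).trans
      ((congrArg (fun m => w ≫ m) (g.toImage_imageι_assoc p)).trans pullback.condition)
  have h1x : ∀ x, (g.imageι ≫ p) ((w ≫ g.toImage) x) = genericPoint Y := fun x => by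
    rw [← Scheme.Hom.comp_apply, h1, Scheme.Hom.comp_apply]
    exact Scheme.fromSpecResidueField_apply _ _
  haveI : Flat (g.imageι ≫ p) :=
    Groth.Calg4.FlatClosure.flat_of_schDominant hY (g.imageι ≫ p) (w ≫ g.toImage) h1x
  refine ⟨g.image, g.imageι, g.toImage, inferInstance, inferInstance, ?_, ?_⟩
  · let u : X ⟶ pullback g.imageι (p ⁻¹ᵁ U).ι := pullback.lift g.toImage i (g.toImage_imageι)
    have hu1 : u ≫ pullback.fst _ _ = g.toImage := pullback.lift_fst _ _ _
    have hu2 : u ≫ pullback.snd _ _ = i := pullback.lift_snd _ _ _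
    have : IsClosedImmersion (u ≫ pullback.snd g.imageι (p ⁻¹ᵁ U).ι) := by rw [hu2]; infer_instance
    have : IsClosedImmersion u := .of_comp u (pullback.snd g.imageι (p ⁻¹ᵁ U).ι)
    have hsq : IsPullback u (𝟙 X) (pullback.fst g.imageι (p ⁻¹ᵁ U).ι) g.toImage := by
      refine IsPullback.of_isLimit' ⟨by rw [hu1, Category.id_comp]⟩
        (PullbackCone.IsLimit.mk _ (fun c => c.snd) (fun c => ?_) (fun c => Category.comp_id _)
          fun c l _ hl => by simpa using hl)
      rw [← cancel_mono (pullback.fst g.imageι (p ⁻¹ᵁ U).ι), Category.assoc, hu1]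
      exact c.condition.symm
    have : IsSchemeTheoreticallyDominant u := .of_isPullback hsq.flip
    have : IsIso u := IsClosedImmersion.isIso_of_ker_eq u (𝟙 _) u (Category.comp_id _)
      (by rw [u.ker_eq_bot, Scheme.Hom.ker_eq_bot (𝟙 _)])
    exact IsPullback.of_iso_pullback ⟨g.toImage_imageι⟩ (asIso u) hu1 hu2
  · intro X'' i'' j'' h1 h2 hs
    have hp : IsPullback j'' (i ≫ p ∣_ U) (i'' ≫ p) U.ι := hs.paste_vert hbc
    haveI : IsSchemeTheoreticallyDominant j'' := .of_isPullback hp.flip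
    haveI : QuasiCompact j'' := MorphismProperty.of_isPullback hp.flip ‹QuasiCompact U.ι›
    have heq : i''.ker = g.imageι.ker := by
      rw [show g.imageι.ker = g.ker from Scheme.IdealSheafData.ker_subschemeι _, hg, ← hs.w, Scheme.Hom.ker_comp,
        j''.ker_eq_bot, Scheme.IdealSheafData.map_bot]
    have := IsClosedImmersion.isIso_lift i'' g.imageι heq
    exact ⟨asIso (IsClosedImmersion.lift i'' g.imageι heq.le), IsClosedImmersion.lift_fac _ _ _⟩

end Groth.LimFlatClosure
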