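import Groth.Agent.Limits.CurveMult
import Groth.Agent.Variety2.Reg.Cohom
import Groth.Agent.PicAux.Powers

/-!
# Koszul complex of sections of an invertible module, with integral powers
-/

universe u

open CategoryTheory CategoryTheory.Limits AlgebraicGeometry Opposite TopologicalSpace

namespace Groth.LimKoszul

open Groth.PicAux Groth.PropsBasic.Ample Groth.Variety2.Reg

variable {X : Scheme.{u}} {L M : X.Modules} (e : CohB1.tensorMod M L ≅ Coh.structureModule X)

/-- The pairing of `μ` with `t`. -/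
noncomputable def pr {W : X.Opens} (μ : Γ(M, W)) (t : Γ(L, W)) : Γ(X, W) :=
  toFun (e.hom.app W (tmulSec μ t))

theorem pr_smul {W : X.Opens} (μ : Γ(M, W)) (c : Γ(X, W)) (t : Γ(L, W)) :
    pr e μ (c • t) = c * pr e μ t := by
  rw [pr, tmulSec_smul_right, Scheme.Modules.Hom.app_smul, toFun_smul]
  rfl

theorem pr_res {W V : X.Opens} (h : V ≤ W) (μ : Γ(M, W)) (t : Γ(L, W)) :
    resX X h (pr e μ t) = pr e (res M h μ) (res L h t) := by
  rw [pr, pr, ← toFun_res, ← app_res, res_tmulSec]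

theorem pr_cross (hL : PicF.IsInvertible L) {W : X.Opens} (μ : Γ(M, W)) (s t : Γ(L, W)) :
    pr e μ s • t = pr e μ t • s := by
  choose U g hxU hg using (isInvertible_iff_exists_gen L).1 hL
  refine res_ext (fun i => W ⊓ U i) (fun i => inf_le_left)
    (fun z hz => Opens.mem_iSup.2 ⟨z, hz, hxU z⟩) fun i => ?_
  obtain ⟨c, hc⟩ := (hg i).exists_coeff (inf_le_right : W ⊓ U i ≤ U i) (res L inf_le_left s)
  obtain ⟨d, hd⟩ := (hg i).exists_coeff (inf_le_right : W ⊓ U i ≤ U i) (res L inf_le_left t)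
  rw [res_smul, res_smul, pr_res, pr_res, hc, hd, pr_smul, pr_smul, smul_smul, smul_smul]
  ring_nf

variable (hL : PicF.IsInvertible L) (hM : PicF.IsInvertible M)

/-- Tensoring with a global section. -/
noncomputable def mulS {A : X.Modules} (hA : PicF.IsInvertible A) (t : Γ(L, ⊤)) :
    A ⟶ CohB1.tensorMod A L :=
  (Groth.VarietyBC.CurveGG.exists_mulHom hA t).choose

theorem mulS_app {A : X.Modules} (hA : PicF.IsInvertible A) (t : Γ(L, ⊤)) (W : X.Opens) (a : Γ(A, W)) :
    (mulS hA t).app W a = tmulSec a (res L le_top t) :=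
  (Groth.VarietyBC.CurveGG.exists_mulHom hA t).choose_spec W a

theorem bijective_stalk_mulHom {N : X.Modules} (φ : N ⟶ CohB1.tensorMod N L) (t : Γ(L, ⊤))
    (hφ : ∀ (W : X.Opens) a, φ.app W a = tmulSec a (res L le_top t)) (x : X) (hx : x ∈ gloc t) :
    Function.Bijective ((Groth.QCohMod.stalk x).map φ) := by
  have hV : ∀ (V : X.Opens), V ≤ gloc t → Function.Bijective (φ.app V) := fun V hV => by
    have h2 := Groth.Ega2Proj.tmulSec_bijective (M := N) hV (gen_gloc t le_rfl)
    rw [res_res] at h2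
    convert h2 using 1
    exact funext (hφ V)
  constructor
  · rw [injective_iff_map_eq_zero]
    intro a ha
    obtain ⟨W, hxW, m, rfl⟩ := TopCat.Presheaf.exists_germ_eq N.presheaf a
    rw [Groth.QCohMod.stalk_map_germ] at ha
    obtain ⟨V, hxV, e1, e2, heq⟩ := TopCat.Presheaf.germ_eq _ x hxW hxW _ 0
      (ha.trans (map_zero _).symm)
    have h3 : φ.app (V ⊓ gloc t) (res N (inf_le_left.trans e1.le) m) = 0 := by
      refine (app_res φ (inf_le_left.trans e1.le) m).trans ?_
      have h4 : res (CohB1.tensorMod N L) e1.le (φ.app W m) = 0 := heq.trans (map_zero _)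
      rw [← res_res e1.le inf_le_left, h4, res_zero]
    have h5 := (hV _ inf_le_right).1 (h3.trans (map_zero _).symm)
    change (N.presheaf.germ W x hxW) m = 0
    rw [← Groth.QCohMod.germ_res N (inf_le_left.trans e1.le) x ⟨hxV, hx⟩ m]
    exact (congrArg _ h5).trans (map_zero _)
  · intro b
    obtain ⟨W, hxW, m, rfl⟩ := TopCat.Presheaf.exists_germ_eq (CohB1.tensorMod N L).presheaf b
    obtain ⟨a, ha⟩ := (hV (W ⊓ gloc t) inf_le_right).2 (res _ inf_le_left m)
    refine ⟨N.presheaf.germ (W ⊓ gloc t) x ⟨hxW, hx⟩ a, ?_⟩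
    rw [Groth.QCohMod.stalk_map_germ, ha]
    exact Groth.QCohMod.germ_res _ inf_le_left x ⟨hxW, hx⟩ m

/-- Tensoring an isomorphism with the identity. -/
noncomputable def idTensor (A : X.Modules) {B B' : X.Modules} (e : B ≅ B') :
    CohB1.tensorMod A B ≅ CohB1.tensorMod A B' :=
  ⟨KoszTw.tensorMap (𝟙 A) e.hom, KoszTw.tensorMap (𝟙 A) e.inv,
    tensor_hom_ext fun W a b => by
      simp only [Scheme.Modules.Hom.comp_app, ConcreteCategory.comp_apply, tensorMap_app_tmulSec]
      exact congrArg (tmulSec a) congr($(e.hom_inv_id).app W b),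
    tensor_hom_ext fun W a b => by
      simp only [Scheme.Modules.Hom.comp_app, ConcreteCategory.comp_apply, tensorMap_app_tmulSec]
      exact congrArg (tmulSec a) congr($(e.inv_hom_id).app W b)⟩

/-- The contraction `M^(n+1) ⊗ L ≅ M^n`. -/
noncomputable def contr (n : ℕ) :
    CohB1.tensorMod (CohB1.tensorPow M (n + 1)) L ≅ CohB1.tensorPow M n :=
  (exists_associator (CohB1.tensorPow M n) M L).choose ≪≫
    idTensor _ e ≪≫ SecTwist.unitorR _

/-- The negative operators. -/
noncomputable def negOp (t : Γ(L, ⊤)) (n : ℕ) :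
    CohB1.tensorPow M (n + 1) ⟶ CohB1.tensorPow M n :=
  mulS (isInvertible_tensorPow hM (n + 1)) t ≫ (contr e n).hom

theorem contr_tmul (n : ℕ) (W : X.Opens) (m : Γ(CohB1.tensorPow M n, W)) (μ : Γ(M, W)) (t : Γ(L, W)) :
    (contr e n).hom.app W (tmulSec (L := CohB1.tensorPow M (n + 1)) (M := L)
      (tmulSec (L := CohB1.tensorPow M n) (M := M) m μ) t) = pr e μ t • m := by
  have h1 := (exists_associator (CohB1.tensorPow M n) M L).choose_spec W m μ t
  have h2 := tensorMap_app_tmulSec (𝟙 (CohB1.tensorPow M n)) e.hom W m (tmulSec μ t)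
  have h3 : (SecTwist.unitorR (CohB1.tensorPow M n)).hom.app W
      (tmulSec (L := CohB1.tensorPow M n) (M := Coh.structureModule X) m (e.hom.app W (tmulSec μ t))) =
        pr e μ t • m :=
    SecTwist.unitorR_tmul (CohB1.tensorPow M n) W m (pr e μ t)
  refine Eq.trans ?_ h3
  refine congrArg ((SecTwist.unitorR (CohB1.tensorPow M n)).hom.app W) ?_
  refine Eq.trans ?_ h2
  exact congrArg ((KoszTw.tensorMap (𝟙 (CohB1.tensorPow M n)) e.hom).app W) h1

theorem negOp_tmul (t : Γ(L, ⊤)) (n : ℕ) (W : X.Opens) (m : Γ(CohB1.tensorPow M n, W)) (μ : Γ(M, W)) :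
    (negOp e hM t n).app W (tmulSec (L := CohB1.tensorPow M n) (M := M) m μ) =
      pr e μ (res L le_top t) • m :=
  (congrArg ((contr e n).hom.app W)
    (mulS_app (isInvertible_tensorPow hM (n + 1)) t W
      (tmulSec (L := CohB1.tensorPow M n) (M := M) m μ))).trans
    (contr_tmul e n W m μ (res L le_top t))

/-- Integral powers. -/
noncomputable def zG (L M : X.Modules) : ℤ → X.Modules
  | Int.ofNat n => CohB1.tensorPow L n
  | Int.negSucc n => CohB1.tensorPow M (n + 1)

/-- The basic operators. -/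
noncomputable def op₀ (t : Γ(L, ⊤)) : ∀ a : ℤ, zG L M a ⟶ zG L M (a + 1)
  | Int.ofNat n => mulS (isInvertible_tensorPow hL n) t
  | Int.negSucc 0 => negOp e hM t 0
  | Int.negSucc (n + 1) => negOp e hM t (n + 1)

theorem bijective_op₀ (t : Γ(L, ⊤)) (x : X) (hx : x ∈ gloc t) (a : ℤ) :
    Function.Bijective ((Groth.QCohMod.stalk x).map (op₀ e hL hM t a)) := by
  have h2 : ∀ n, Function.Bijective ((Groth.QCohMod.stalk x).map (negOp e hM t n)) := fun n => by
    rw [negOp, Functor.map_comp, AddCommGrpCat.coe_comp]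
    exact (ConcreteCategory.bijective_of_isIso ((Groth.QCohMod.stalk x).map (contr e n).hom)).comp
      (bijective_stalk_mulHom _ t (mulS_app _ t) x hx)
  match a with
  | Int.ofNat n =>
    exact bijective_stalk_mulHom (mulS (isInvertible_tensorPow hL n) t) t
      (mulS_app (isInvertible_tensorPow hL n) t) x hx
  | Int.negSucc 0 => exact h2 0
  | Int.negSucc (n + 1) => exact h2 (n + 1)

include hL in
theorem negOp_comm (s t : Γ(L, ⊤)) (n : ℕ) :
    negOp e hM s (n + 1) ≫ negOp e hM t n = negOp e hM t (n + 1) ≫ negOp e hM s n := by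
  refine tensor_hom_ext₃ (L := CohB1.tensorPow M n) (M := M) (N := M) fun W m μ ν => ?_
  have key : ∀ s t : Γ(L, ⊤), (negOp e hM t n).app W ((negOp e hM s (n + 1)).app W
      (tmulSec (L := CohB1.tensorPow M (n + 1)) (M := M)
        (tmulSec (L := CohB1.tensorPow M n) (M := M) m μ) ν)) =
      (pr e ν (res L le_top s) * pr e μ (res L le_top t)) • m := fun s t => by
    rw [negOp_tmul e hM s (n + 1) W, Scheme.Modules.Hom.app_smul, negOp_tmul e hM t n W, smul_smul]
  refine (key s t).trans (Eq.trans ?_ (key t s).symm)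
  refine congrArg (fun c : Γ(X, W) => c • m) ?_
  calc pr e ν (res L le_top s) * pr e μ (res L le_top t)
      = pr e μ (pr e ν (res L le_top s) • res L le_top t) := (pr_smul e μ _ _).symm
    _ = pr e μ (pr e ν (res L le_top t) • res L le_top s) := by rw [pr_cross e hL ν]
    _ = _ := pr_smul e μ _ _

theorem cross_comm (s t : Γ(L, ⊤)) :
    negOp e hM s 0 ≫ mulS (isInvertible_tensorPow hL 0) t =
      negOp e hM t 0 ≫ mulS (isInvertible_tensorPow hL 0) s := by
  refine tensor_hom_ext (L := Coh.structureModule X) (M := M) fun W m μ => ?_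
  have key : ∀ s t : Γ(L, ⊤), (mulS (isInvertible_tensorPow hL 0) t).app W
      ((negOp e hM s 0).app W (tmulSec (L := Coh.structureModule X) (M := M) m μ)) =
      tmulSec (L := Coh.structureModule X) (M := L) m (pr e μ (res L le_top s) • res L le_top t) :=
    fun s t => by
      have h1 := negOp_tmul e hM s 0 W m μ
      refine (congrArg ((mulS (isInvertible_tensorPow hL 0) t).app W) h1).trans ?_
      refine (mulS_app (isInvertible_tensorPow hL 0) t W _).trans ?_
      exact (tmulSec_smul_left (L := Coh.structureModule X) (M := L) _ _ _).trans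
        (tmulSec_smul_right (L := Coh.structureModule X) (M := L) _ _ _).symm
  refine (key s t).trans (Eq.trans ?_ (key t s).symm)
  rw [pr_cross e hL μ]

theorem op₀_comm (s t : Γ(L, ⊤)) (a : ℤ) :
    op₀ e hL hM s a ≫ op₀ e hL hM t (a + 1) = op₀ e hL hM t a ≫ op₀ e hL hM s (a + 1) := by
  match a with
  | Int.ofNat n =>
    change mulS (isInvertible_tensorPow hL n) s ≫ mulS (isInvertible_tensorPow hL (n + 1)) t =
      mulS (isInvertible_tensorPow hL n) t ≫ mulS (isInvertible_tensorPow hL (n + 1)) s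
    ext W m
    simp only [Scheme.Modules.Hom.comp_app, ConcreteCategory.comp_apply]
    erw [mulS_app, mulS_app, mulS_app, mulS_app]
    exact Groth.LimCurveMult.mul_comm_sec hL _ _ _
  | Int.negSucc 0 => exact cross_comm e hL hM s t
  | Int.negSucc 1 => exact negOp_comm e hL hM s t 0
  | Int.negSucc (n + 2) => exact negOp_comm e hL hM s t (n + 1)

/-- The operators in the form used by the Koszul complex. -/
noncomputable def zop (σ : ℕ → Γ(L, ⊤)) (i : ℕ) (a b : ℤ) (h : b = a + 1) :
    zG L M a ⟶ zG L M b :=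
  op₀ e hL hM (σ i) a ≫ eqToHom (by rw [h])

theorem zop_self (σ : ℕ → Γ(L, ⊤)) (i : ℕ) (a : ℤ) :
    zop e hL hM σ i a (a + 1) rfl = op₀ e hL hM (σ i) a := by simp [zop]

theorem zop_comm (σ : ℕ → Γ(L, ⊤)) : ∀ (t t' : ℕ) (a b b' c : ℤ) (hab : b = a + 1) (hab' : b' = a + 1)
    (hbc : c = b + 1) (hbc' : c = b' + 1),
    zop e hL hM σ t a b hab ≫ zop e hL hM σ t' b c hbc =
      zop e hL hM σ t' a b' hab' ≫ zop e hL hM σ t b' c hbc' := by
  intro t t' a b b' c hab hab' hbc hbc'
  subst hab hab' hbc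
  simp only [zop_self]
  exact op₀_comm e hL hM _ _ a

theorem zop_iso (σ : ℕ → Γ(L, ⊤)) (r : ℕ) (hσ : ∀ x : X, ∃ i < r, x ∈ gloc (σ i)) :
    ∀ x : X, ∃ i < r, ∀ (a b : ℤ) (h : b = a + 1),
      Function.Bijective ((Groth.QCohMod.stalk x).map (zop e hL hM σ i a b h)) := by
  intro x
  obtain ⟨i, hi, hx⟩ := hσ x
  refine ⟨i, hi, fun a b h => ?_⟩
  subst h
  rw [zop_self]
  exact bijective_op₀ e hL hM (σ i) x hx a

section Bounded

variable {G : ℤ → X.Modules} (op : ∀ (_ : ℕ) (a b : ℤ), b = a + 1 → (G a ⟶ G b)) (r : ℕ)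
  (hcomm : ∀ (t t' : ℕ) (a b b' c : ℤ) (hab : b = a + 1) (hab' : b' = a + 1) (hbc : c = b + 1)
    (hbc' : c = b' + 1), op t a b hab ≫ op t' b c hbc = op t' a b' hab' ≫ op t b' c hbc')
  (hiso : ∀ x : X, ∃ i < r, ∀ (a b : ℤ) (h : b = a + 1),
    Function.Bijective ((QCohMod.stalk x).map (op i a b h)))
  (k : Type u) [Field k] [X.Over (Spec (CommRingCat.of k))]

include hcomm hiso k in
/-- `exists_sum_of_kosz` with vanishing only in degrees `< r`. -/
theorem exists_sum_of_kosz' (a : ℤ)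
    (h : ∀ j : ℕ, 1 ≤ j → j < r → Subsingleton (Coh.HH X (G (a - 1 - j)) j))
    (P : Γ(G a, ⊤) → Prop) (P0 : P 0) (Padd : ∀ u v, P u → P v → P (u + v))
    (Pop : ∀ t < r, ∀ v, P ((op t (a - 1) a (by omega)).app ⊤ v)) (z : Γ(G a, ⊤)) : P z := by
  have hker : Subsingleton (Coh.HH X (kernel (Kosz.d op r 0 a)) 1) := by
    suffices H : ∀ (n j : ℕ), r ≤ j + n →
        Subsingleton (Coh.HH X (kernel (Kosz.d op r j a)) (j + 1)) by
      simpa using H r 0 (by omega)
    intro n
    induction n with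
    | zero =>
      intro j hj
      exact subsingleton_of_isZero' k
        (IsZero.of_mono (kernel.ι (Kosz.d op r j a)) (isZero_kosz r (j + 1) a (by omega))) _
    | succ n ih =>
      intro j hj
      obtain ⟨w, hw⟩ := shortExact_cycles op r hcomm hiso j a
      refine subsingleton_right k hw ?_ (ih (j + 1) (by omega))
      rcases lt_or_ge (j + 1) r with hjr | hjr
      · refine subsingleton_kosz k r (j + 2) a _ ?_
        have := h (j + 1) (by omega) hjr
        rwa [show a - 1 - ((j + 1 : ℕ) : ℤ) = a - ((j + 2 : ℕ) : ℤ) by omega] at this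
      · exact subsingleton_of_isZero' k (isZero_kosz r (j + 2) a (by omega)) _
  have key : ∀ (t : ℕ), t ≤ r → ∀ w : Γ(Kosz.obj G t 1 a, ⊤),
      P ((Kosz.obj0Iso (G := G) t a).hom.app ⊤ ((Kosz.d op t 0 a).app ⊤ w)) := by
    intro t
    induction t with
    | zero =>
      intro _ w
      simpa [Kosz.d] using P0
    | succ t ih =>
      intro hr w
      have e : (Kosz.obj0Iso (G := G) t a).hom.app ⊤ ((Kosz.act op t t 0 (a - 1) a (by omega)).app ⊤
          ((Kosz.π₂ G t 0 a).app ⊤ w)) =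
          (op t (a - 1) a (by omega)).app ⊤
            ((Kosz.obj0Iso (G := G) t (a - 1)).hom.app ⊤ ((Kosz.π₂ G t 0 a).app ⊤ w)) :=
        congr(($(Kosz.act_obj0Iso op t t (a - 1) a (by omega))).app ⊤ ((Kosz.π₂ G t 0 a).app ⊤ w))
      have hsum : (Kosz.obj0Iso (G := G) (t + 1) a).hom.app ⊤ ((Kosz.d op (t + 1) 0 a).app ⊤ w) =
          (Kosz.obj0Iso (G := G) t a).hom.app ⊤ ((Kosz.d op t 0 a).app ⊤ ((Kosz.π₁ G t 0 a).app ⊤ w)) +
          (Kosz.obj0Iso (G := G) t a).hom.app ⊤ ((Kosz.act op t t 0 (a - 1) a (by omega)).app ⊤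
            ((Kosz.π₂ G t 0 a).app ⊤ w)) := by
        have e1 : Kosz.d op (t + 1) 0 a ≫ (Kosz.obj0Iso (G := G) (t + 1) a).hom =
            Kosz.π₁ G t 0 a ≫ Kosz.d op t 0 a ≫ (Kosz.obj0Iso (G := G) t a).hom +
              Kosz.π₂ G t 0 a ≫ Kosz.act op t t 0 (a - 1) a (by omega) ≫
                (Kosz.obj0Iso (G := G) t a).hom := by
          simp [Kosz.d, Kosz.obj0Iso]
        exact congr(($e1).app ⊤ w)
      rw [hsum, e]
      exact Padd _ _ (ih (by omega) _) (Pop t (by omega) _)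
  have := epi_kosz op r hcomm hiso a
  obtain ⟨w, hw⟩ := surjective_app_top k (kernel_shortExact (Kosz.d op r 0 a)) hker
    ((Kosz.obj0Iso (G := G) r a).inv.app ⊤ z)
  have hz : (Kosz.obj0Iso (G := G) r a).hom.app ⊤ ((Kosz.obj0Iso (G := G) r a).inv.app ⊤ z) = z := by
    rw [← ConcreteCategory.comp_apply, ← Scheme.Modules.Hom.comp_app, Iso.inv_hom_id]
    rfl
  rw [← hz, ← hw]
  exact key r le_rfl w

end Bounded

end Groth.LimKoszul
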