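import Groth.Agent.Limits.DescentAffine
import Groth.Agent.Limits.Topology

/-!
# Descending properties of morphisms of limit systems

`φ : DX ⟶ DY` is a morphism of cofiltered systems with affine transition maps, `f` the induced map
of the limits, `liftMap φ m : X_k ⟶ X_j ×_{Y_j} Y_k` the comparison maps. If `f` is affine, then so
is some `φ_k`; if `f` is a closed immersion (resp. integral) and the comparison maps are closed
immersions (resp. finite) and the `φ_k` are locally of finite type, then some `φ_k` is a closed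
immersion (resp. finite).
-/

universe u

open CategoryTheory Limits AlgebraicGeometry

namespace Groth.Limits

variable {I : Type u} [Category.{u} I] {DX DY : I ⥤ Scheme.{u}} (φ : DX ⟶ DY)

/-- A property of a stage passes to the later stages, given it for the comparison maps. -/
theorem app_of_hom (P : MorphismProperty Scheme.{u}) [P.IsStableUnderComposition]
    [P.IsStableUnderBaseChange] {i k : I} (m : k ⟶ i) (h : P (φ.app i))
    (hl : P (liftMap φ m)) : P (φ.app k) := by
  rw [← pullback.lift_snd (DX.map m) (φ.app k) (φ.naturality m)]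
  exact P.comp_mem _ _ hl (MorphismProperty.pullback_snd _ _ h)

theorem isAffineHom_liftMap {i k : I} (m : k ⟶ i) [IsAffineHom (DX.map m)]
    [IsAffineHom (DY.map m)] : IsAffineHom (liftMap φ m) := by
  have : IsAffineHom (pullback.fst (φ.app i) (DY.map m)) :=
    MorphismProperty.pullback_fst _ _ inferInstance
  have : IsAffineHom (liftMap φ m ≫ pullback.fst (φ.app i) (DY.map m)) := by
    rw [pullback.lift_fst]
    infer_instance
  exact IsAffineHom.of_comp (liftMap φ m) (pullback.fst (φ.app i) (DY.map m))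

theorem preimage_naturality {i k : I} (m : k ⟶ i) (V : (DY.obj i).Opens) :
    DX.map m ⁻¹ᵁ (φ.app i ⁻¹ᵁ V) = φ.app k ⁻¹ᵁ (DY.map m ⁻¹ᵁ V) := by
  rw [← Scheme.Hom.comp_preimage, φ.naturality, Scheme.Hom.comp_preimage]

section affine

variable [IsCofiltered I] [∀ (i j : I) (m : i ⟶ j), IsAffineHom (DX.map m)]
  [∀ (i j : I) (m : i ⟶ j), IsAffineHom (DY.map m)]
  {cX : Cone DX} {cY : Cone DY} (hX : IsLimit cX) (hY : IsLimit cY) (f : cX.pt ⟶ cY.pt)
  (hf : ∀ j, f ≫ cY.π.app j = cX.π.app j ≫ φ.app j)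

include hX hY hf in
/-- Affineness descends to some stage. -/
theorem exists_isAffineHom (i : I) [CompactSpace (DY.obj i)] [QuasiCompact (φ.app i)]
    [QuasiSeparated (φ.app i)] [IsAffineHom f] :
    ∃ (k : I) (_ : k ⟶ i), IsAffineHom (φ.app k) := by
  have := isAffineHom_π_app _ _ hY i
  have key (V : (DY.obj i).Opens) (hV : IsAffineOpen V) :
      ∃ (k : I) (m : k ⟶ i), IsAffineOpen (DX.map m ⁻¹ᵁ (φ.app i ⁻¹ᵁ V)) := by
    have (j : Over i) : CompactSpace ((opensDiagram DX i (φ.app i ⁻¹ᵁ V)).obj j) :=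
      isCompact_iff_compactSpace.mp ((DX.map j.hom).isCompact_preimage
        ((φ.app i).isCompact_preimage hV.isCompact))
    have (j : Over i) : QuasiSeparatedSpace ((opensDiagram DX i (φ.app i ⁻¹ᵁ V)).obj j) :=
      (isQuasiSeparated_iff_quasiSeparatedSpace _ (DX.map _ ⁻¹ᵁ _).2).mp
        ((DX.map j.hom).isQuasiSeparated_preimage
          ((φ.app i).isQuasiSeparated_preimage hV.isQuasiSeparated))
    have : IsAffine (opensCone DX cX i (φ.app i ⁻¹ᵁ V)).pt := by
      have h : IsAffineOpen ((cX.π.app i) ⁻¹ᵁ (φ.app i ⁻¹ᵁ V) : cX.pt.Opens) := by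
        rw [← Scheme.Hom.comp_preimage, ← hf, Scheme.Hom.comp_preimage]
        exact (hV.preimage _).preimage f
      exact h
    obtain ⟨j, hj⟩ := Scheme.exists_isAffine_of_isLimit _ _
      (isLimitOpensCone DX cX hX i (φ.app i ⁻¹ᵁ V))
    exact ⟨j.left, j.hom, hj⟩
  let 𝒰 := (DY.obj i).affineCover.finiteSubcover
  obtain ⟨k, m, hm⟩ := exists_forall_mem_of_finite (G := (Set.univ : Set 𝒰.I₀))
    (fun a ⦃k⦄ (m : k ⟶ i) ↦ IsAffineOpen (DX.map m ⁻¹ᵁ (φ.app i ⁻¹ᵁ (𝒰.f a).opensRange)))
    (fun a k l m q h ↦ by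
      rw [DX.map_comp, Scheme.Hom.comp_preimage]
      exact h.preimage _)
    Set.finite_univ fun a _ ↦ key _ (isAffineOpen_opensRange _)
  refine ⟨k, m, isAffineHom_of_forall_exists_isAffineOpen _ fun x ↦ ?_⟩
  obtain ⟨a, ha⟩ : ∃ a, DY.map m x ∈ Set.range (𝒰.f a) := ⟨_, 𝒰.covers _⟩
  refine ⟨DY.map m ⁻¹ᵁ (𝒰.f a).opensRange, ha, (isAffineOpen_opensRange _).preimage _, ?_⟩
  rw [← preimage_naturality]
  exact hm a trivial

end affine

section restrict

variable (i : I) (V : (DY.obj i).Opens)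

/-- Restriction of a morphism of systems to an open of a stage of the target. -/
noncomputable def restrictTrans :
    opensDiagram DX i (φ.app i ⁻¹ᵁ V) ⟶ opensDiagram DY i V where
  app j := (φ.app j.left).resLE (DY.map j.hom ⁻¹ᵁ V) (DX.map j.hom ⁻¹ᵁ (φ.app i ⁻¹ᵁ V))
    (preimage_naturality φ j.hom V).le
  naturality j k q := by
    simp [opensDiagram, Scheme.Hom.resLE_comp_resLE, φ.naturality]

theorem restrictTrans_app_iff (P : MorphismProperty Scheme.{u}) [P.RespectsIso] (j : Over i) :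
    P ((restrictTrans φ i V).app j) ↔ P (φ.app j.left ∣_ (DY.map j.hom ⁻¹ᵁ V)) := by
  rw [← Scheme.Hom.resLE_eq_morphismRestrict]
  exact Scheme.Hom.resLE_congr _ _ rfl (preimage_naturality φ j.hom V) P

/-- The comparison maps of a restricted morphism are restrictions of the comparison maps. -/
theorem liftMap_restrictTrans (P : MorphismProperty Scheme.{u}) [P.IsStableUnderBaseChange]
    (hl : ∀ (j k : I) (m : k ⟶ j), P (liftMap φ m)) {j k : Over i} (m : k ⟶ j) :
    P (liftMap (restrictTrans φ i V) m) := by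
  let ιX (a : Over i) : (opensDiagram DX i (φ.app i ⁻¹ᵁ V)).obj a ⟶ DX.obj a.left :=
    Scheme.Opens.ι _
  let ιY (a : Over i) : (opensDiagram DY i V).obj a ⟶ DY.obj a.left := Scheme.Opens.ι _
  have hXm : (opensDiagram DX i (φ.app i ⁻¹ᵁ V)).map m ≫ ιX j = ιX k ≫ DX.map m.left :=
    Scheme.Hom.resLE_comp_ι _ _
  have hYm : (opensDiagram DY i V).map m ≫ ιY j = ιY k ≫ DY.map m.left :=
    Scheme.Hom.resLE_comp_ι _ _
  have hφ (a : Over i) : (restrictTrans φ i V).app a ≫ ιY a = ιX a ≫ φ.app a.left :=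
    Scheme.Hom.resLE_comp_ι _ _
  have : ∀ a, IsOpenImmersion (ιX a) := fun a ↦ inferInstanceAs (IsOpenImmersion (Scheme.Opens.ι _))
  have : ∀ a, IsOpenImmersion (ιY a) := fun a ↦ inferInstanceAs (IsOpenImmersion (Scheme.Opens.ι _))
  let q := pullback.map ((restrictTrans φ i V).app j) ((opensDiagram DY i V).map m)
    (φ.app j.left) (DY.map m.left) (ιX j) (ιY k) (ιY j) (hφ j) hYm
  have hcomm : ιX k ≫ liftMap φ m.left = liftMap (restrictTrans φ i V) m ≫ q := by
    apply pullback.hom_ext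
    · simp only [q, liftMap, Category.assoc, pullback.lift_fst, pullback.lift_fst_assoc, hXm]
    · simp only [q, liftMap, Category.assoc, pullback.lift_snd, pullback.lift_snd_assoc, hφ]
  refine P.of_isPullback (IsOpenImmersion.isPullback (liftMap (restrictTrans φ i V) m) (ιX k) q
    (liftMap φ m.left) hcomm ?_).flip (hl j.left k.left m.left)
  · refine le_antisymm ?_ ?_
    · intro x ⟨z, hz⟩
      have h1 : pullback.fst (φ.app j.left) (DY.map m.left) (q z) = DX.map m.left x := by
        rw [hz, ← Scheme.Hom.comp_apply, pullback.lift_fst]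
      rw [← Scheme.Hom.comp_apply, pullback.lift_fst, Scheme.Hom.comp_apply] at h1
      simp only [ιX, opensDiagram, Scheme.Opens.opensRange_ι]
      change DX.map k.hom x ∈ φ.app i ⁻¹ᵁ V
      rw [← Over.w m, DX.map_comp, Scheme.Hom.comp_apply, ← h1]
      exact (pullback.fst ((restrictTrans φ i V).app j) ((opensDiagram DY i V).map m) z).2
    · rintro x ⟨y, rfl⟩
      refine ⟨liftMap (restrictTrans φ i V) m y, ?_⟩
      rw [← Scheme.Hom.comp_apply, ← Scheme.Hom.comp_apply]
      rw [hcomm]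

end restrict

section global

variable [IsCofiltered I] [∀ (i j : I) (m : i ⟶ j), IsAffineHom (DX.map m)]
  [∀ (i j : I) (m : i ⟶ j), IsAffineHom (DY.map m)]
  {cX : Cone DX} {cY : Cone DY} (hX : IsLimit cX) (hY : IsLimit cY) (f : cX.pt ⟶ cY.pt)
  (hf : ∀ j, f ≫ cY.π.app j = cX.π.app j ≫ φ.app j)

include hX hY hf in
/-- A target-local property descends to some stage as soon as it does so for affine systems. -/
theorem exists_app_of_affine_case (P P' : MorphismProperty Scheme.{u})
    [IsZariskiLocalAtTarget P] [P.IsStableUnderComposition] [P.IsStableUnderBaseChange]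
    [IsZariskiLocalAtTarget P'] (i : I) [CompactSpace (DY.obj i)]
    (hl : ∀ (j k : I) (m : k ⟶ j), P (liftMap φ m)) (hP : P' f)
    (core : ∀ (V : (DY.obj i).Opens), IsAffineOpen V →
      ∀ (f' : (opensCone DX cX i (φ.app i ⁻¹ᵁ V)).pt ⟶ (opensCone DY cY i V).pt),
        (∀ j, f' ≫ (opensCone DY cY i V).π.app j =
          (opensCone DX cX i (φ.app i ⁻¹ᵁ V)).π.app j ≫ (restrictTrans φ i V).app j) →
        P' f' → ∃ (j : Over i), P ((restrictTrans φ i V).app j)) :
    ∃ (k : I) (_ : k ⟶ i), P (φ.app k) := by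
  have key (V : (DY.obj i).Opens) (hV : IsAffineOpen V) :
      ∃ (k : I) (m : k ⟶ i), P ((restrictTrans φ i V).app (Over.mk m)) := by
    have e : cX.π.app i ⁻¹ᵁ (φ.app i ⁻¹ᵁ V) = f ⁻¹ᵁ (cY.π.app i ⁻¹ᵁ V) := by
      rw [← Scheme.Hom.comp_preimage, ← hf, Scheme.Hom.comp_preimage]
    obtain ⟨j, hj⟩ := core V hV (f.resLE (cY.π.app i ⁻¹ᵁ V) (cX.π.app i ⁻¹ᵁ (φ.app i ⁻¹ᵁ V)) e.le)
      (fun j ↦ (Scheme.Hom.resLE_comp_resLE f e.le (cY.π.app j.left) (W := DY.map j.hom ⁻¹ᵁ V) _).trans
        (Eq.trans (by simp only [hf]) (Scheme.Hom.resLE_comp_resLE (cX.π.app j.left) _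
          (φ.app j.left) (W := DY.map j.hom ⁻¹ᵁ V) _).symm))
      ((Scheme.Hom.resLE_congr f _ rfl e P').mpr
        ((Scheme.Hom.resLE_eq_morphismRestrict (f := f) (U := cY.π.app i ⁻¹ᵁ V)).symm ▸
          IsZariskiLocalAtTarget.restrict hP _))
    exact ⟨j.left, j.hom, hj⟩
  let 𝒰 := (DY.obj i).affineCover.finiteSubcover
  obtain ⟨k, m, hm⟩ := exists_forall_mem_of_finite (G := (Set.univ : Set 𝒰.I₀))
    (fun a ⦃k⦄ (m : k ⟶ i) ↦ P ((restrictTrans φ i (𝒰.f a).opensRange).app (Over.mk m)))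
    (fun a k l m q h ↦ app_of_hom _ P (Over.homMk q : Over.mk (q ≫ m) ⟶ Over.mk m) h
      (liftMap_restrictTrans φ i _ P hl _))
    Set.finite_univ fun a _ ↦ key _ (isAffineOpen_opensRange _)
  refine ⟨k, m, ?_⟩
  rw [IsZariskiLocalAtTarget.iff_of_iSup_eq_top (P := P)
    (fun a ↦ DY.map m ⁻¹ᵁ (𝒰.f a).opensRange) ?_]
  · exact fun a ↦ (restrictTrans_app_iff φ i _ P (Over.mk m)).mp (hm a trivial)
  · rw [eq_top_iff]
    rintro x -
    exact TopologicalSpace.Opens.mem_iSup.mpr ⟨_, 𝒰.covers (DY.map m x)⟩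

include hX hY hf in
/-- Closed immersions descend along morphisms of systems. -/
theorem exists_isClosedImmersion (i : I) [CompactSpace (DY.obj i)] [∀ k, QuasiCompact (φ.app k)]
    [∀ k, QuasiSeparated (φ.app k)] [∀ k, LocallyOfFiniteType (φ.app k)]
    (hl : ∀ (j k : I) (m : k ⟶ j), IsClosedImmersion (liftMap φ m)) [IsClosedImmersion f] :
    ∃ (k : I) (_ : k ⟶ i), IsClosedImmersion (φ.app k) := by
  obtain ⟨i', m', hi'⟩ := exists_isAffineHom φ hX hY f hf i
  have : CompactSpace (DY.obj i') := compactSpace_obj DY m'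
  obtain ⟨k, m, hk⟩ := exists_app_of_affine_case φ hX hY f hf @IsClosedImmersion @IsClosedImmersion
    i' hl (inferInstance : IsClosedImmersion f) fun V hV f' hf' hP ↦ by
    have (j : Over i') : IsAffine ((opensDiagram DX i' (φ.app i' ⁻¹ᵁ V)).obj j) :=
      (hV.preimage (φ.app i')).preimage (DX.map _)
    have (j : Over i') : IsAffine ((opensDiagram DY i' V).obj j) := hV.preimage (DY.map _)
    have : LocallyOfFiniteType ((restrictTrans φ i' V).app (Over.mk (𝟙 i'))) :=
      (restrictTrans_app_iff φ i' V @LocallyOfFiniteType _).mpr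
        (IsZariskiLocalAtTarget.restrict (inferInstance : LocallyOfFiniteType (φ.app i')) _)
    obtain ⟨j, -, hj⟩ := exists_isClosedImmersion_of_isAffine (restrictTrans φ i' V)
      (isLimitOpensCone DX cX hX i' _) (isLimitOpensCone DY cY hY i' V) f' hf' (Over.mk (𝟙 i'))
      (fun _ _ _ ↦ liftMap_restrictTrans φ i' V @IsClosedImmersion hl _)
    exact ⟨j, hj⟩
  exact ⟨k, m ≫ m', hk⟩

include hX hY hf in
/-- Finiteness descends along morphisms of systems, an integral limit map being enough. -/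
theorem exists_isFinite (i : I) [CompactSpace (DY.obj i)] [∀ k, QuasiCompact (φ.app k)]
    [∀ k, QuasiSeparated (φ.app k)] [∀ k, LocallyOfFiniteType (φ.app k)]
    (hl : ∀ (j k : I) (m : k ⟶ j), IsFinite (liftMap φ m)) [IsIntegralHom f] :
    ∃ (k : I) (_ : k ⟶ i), IsFinite (φ.app k) := by
  obtain ⟨i', m', hi'⟩ := exists_isAffineHom φ hX hY f hf i
  have : CompactSpace (DY.obj i') := compactSpace_obj DY m'
  obtain ⟨k, m, hk⟩ := exists_app_of_affine_case φ hX hY f hf @IsFinite @IsIntegralHom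
    i' hl (inferInstance : IsIntegralHom f) fun V hV f' hf' hP ↦ by
    have (j : Over i') : IsAffine ((opensDiagram DX i' (φ.app i' ⁻¹ᵁ V)).obj j) :=
      (hV.preimage (φ.app i')).preimage (DX.map _)
    have (j : Over i') : IsAffine ((opensDiagram DY i' V).obj j) := hV.preimage (DY.map _)
    have : LocallyOfFiniteType ((restrictTrans φ i' V).app (Over.mk (𝟙 i'))) :=
      (restrictTrans_app_iff φ i' V @LocallyOfFiniteType _).mpr
        (IsZariskiLocalAtTarget.restrict (inferInstance : LocallyOfFiniteType (φ.app i')) _)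
    obtain ⟨j, -, hj⟩ := exists_isFinite_of_isAffine (restrictTrans φ i' V)
      (isLimitOpensCone DX cX hX i' _) (isLimitOpensCone DY cY hY i' V) f' hf' (Over.mk (𝟙 i'))
      (fun _ _ _ ↦ liftMap_restrictTrans φ i' V @IsFinite hl _)
    exact ⟨j, hj⟩
  exact ⟨k, m ≫ m', hk⟩

end global

end Groth.Limits
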