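import Groth.Agent.Limits.ClosedApprox
import Groth.Agent.Limits.PropDescent
import Groth.Agent.Limits.DescentSetup
import Mathlib.CategoryTheory.Limits.Final

/-!
# Scheme-theoretic images at the stages of a system, and base change of systems
-/

set_option backward.isDefEq.respectTransparency false
set_option backward.defeqAttrib.useBackward true

universe u

open CategoryTheory Limits AlgebraicGeometry Opposite TopologicalSpace

namespace Groth.Limits

namespace ZSystem

variable {X P : Scheme.{u}} (A : ZSystem P) (h : X ⟶ P)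

/-- The scheme-theoretic images of `h` at the stages. -/
noncomputable def images : A.Iᵒᵖ ⥤ Scheme.{u} where
  obj b := (h ≫ A.π.app b).ker.subscheme
  map {b a} m := Scheme.IdealSheafData.subschemeMap _ _ (A.D.map m)
    (by
      rw [Scheme.IdealSheafData.map_ker, Category.assoc]
      exact le_of_eq (congrArg (fun q ↦ (h ≫ q).ker) (A.cone.w m).symm))
  map_id b := by
    rw [← cancel_mono (h ≫ A.π.app b).ker.subschemeι]
    simp
  map_comp {c b a} m n := by
    rw [← cancel_mono (h ≫ A.π.app a).ker.subschemeι]
    simp

/-- The inclusions of the images. -/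
noncomputable def imagesι : A.images h ⟶ A.D where
  app b := (h ≫ A.π.app b).ker.subschemeι
  naturality _ _ _ := by simp [images]

instance (b : A.Iᵒᵖ) : IsClosedImmersion ((A.imagesι h).app b) :=
  inferInstanceAs (IsClosedImmersion (h ≫ A.π.app b).ker.subschemeι)

/-- The comparison maps of the images are closed immersions. -/
theorem isClosedImmersion_liftMap_imagesι {a b : A.Iᵒᵖ} (m : b ⟶ a) :
    IsClosedImmersion (liftMap (A.imagesι h) m) := by
  have : IsClosedImmersion (liftMap (A.imagesι h) m ≫ pullback.snd ((A.imagesι h).app a) (A.D.map m)) := by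
    rw [pullback.lift_snd]; infer_instance
  exact IsClosedImmersion.of_comp _ (pullback.snd ((A.imagesι h).app a) (A.D.map m))

theorem isAffineHom_images_map {a b : A.Iᵒᵖ} (m : b ⟶ a) : IsAffineHom ((A.images h).map m) := by
  have : IsAffineHom (A.D.map m) := A.affine _ _ m
  have : IsAffineHom ((A.images h).map m ≫ (A.imagesι h).app a) := by
    rw [(A.imagesι h).naturality]
    infer_instance
  exact IsAffineHom.of_comp _ ((A.imagesι h).app a)

/-- The cone of the images. -/
noncomputable def imagesCone : Cone (A.images h) where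
  pt := X
  π :=
    { app := fun b ↦ (h ≫ A.π.app b).toImage
      naturality := fun b a m ↦ by
        rw [← cancel_mono (h ≫ A.π.app a).ker.subschemeι]
        simp only [Functor.const_obj_map, Category.id_comp, images, Category.assoc,
          Scheme.IdealSheafData.subschemeMap_subschemeι, Scheme.Hom.toImage_imageι,
          Scheme.Hom.toImage_imageι_assoc]
        exact congrArg (h ≫ ·) (A.cone.w m).symm }

theorem imagesCone_w (b : A.Iᵒᵖ) :
    h ≫ A.π.app b = (A.imagesCone h).π.app b ≫ (A.imagesι h).app b :=
  (Scheme.Hom.toImage_imageι _).symm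

variable [IsClosedImmersion h]

/-- A closed subscheme is the limit of its images at the stages. -/
noncomputable def isLimitImagesCone : IsLimit (A.imagesCone h) :=
  let sA (s : Cone (A.images h)) : s.pt ⟶ P :=
    A.isLimit.lift ((Cone.postcompose (A.imagesι h)).obj s)
  { lift := fun s ↦ IsClosedImmersion.lift h (sA s) ((A.ker_le_iSup_stageIdeal h).trans
      (iSup_le fun b ↦ by
        show Scheme.IdealSheafData.comap _ _ ≤ _
        rw [← Scheme.IdealSheafData.le_map_iff_comap_le, Scheme.IdealSheafData.map_ker,
          show sA s ≫ A.π.app (op b) = s.π.app (op b) ≫ (A.imagesι h).app (op b) from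
            A.isLimit.fac _ (op b)]
        refine le_trans (le_of_eq ?_) (Scheme.Hom.le_ker_comp _ _)
        exact (Scheme.IdealSheafData.ker_subschemeι _).symm))
    fac := fun s b ↦ by
      rw [← cancel_mono ((A.imagesι h).app b), Category.assoc, ← A.imagesCone_w h b]
      erw [IsClosedImmersion.lift_fac_assoc]
      exact A.isLimit.fac _ b
    uniq := fun s m hm ↦ by
      rw [← cancel_mono h, IsClosedImmersion.lift_fac]
      refine A.isLimit.hom_ext fun b ↦ ?_
      refine Eq.trans ?_ (A.isLimit.fac ((Cone.postcompose (A.imagesι h)).obj s) b).symm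
      change (m ≫ h) ≫ A.π.app b = s.π.app b ≫ (A.imagesι h).app b
      rw [Category.assoc, A.imagesCone_w h b, ← Category.assoc, hm b] }

end ZSystem

section baseChange

variable {S : Scheme.{u}} (A : ZSystem S) (i : A.I) {P₀ : Scheme.{u}} (g : P₀ ⟶ A.D.obj (op i))

/-- The indices above `i`, as objects over `i`. -/
def aboveOver : (Set.Ici i)ᵒᵖ ⥤ Over (op i : A.Iᵒᵖ) where
  obj b := Over.mk ((homOfLE b.unop.2).op : (op (b.unop : A.I)) ⟶ op i)
  map {a b} m := Over.homMk ((homOfLE (leOfHom m.unop : (b.unop : A.I) ≤ a.unop)).op)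
    (Subsingleton.elim _ _)

instance (i : A.I) : IsDirected (Set.Ici i) (fun a b => a ≤ b) where
  directed a b := by
    obtain ⟨c, h₁, h₂⟩ := exists_ge_ge (a : A.I) b
    exact ⟨⟨c, le_trans a.2 h₁⟩, h₁, h₂⟩

instance (i : A.I) : Nonempty (Set.Ici i) := ⟨⟨i, le_rfl⟩⟩

instance aboveOver_initial : (aboveOver A i).Initial := by
  refine Functor.initial_of_exists_of_isCofiltered _ (fun d ↦ ⟨op ⟨d.left.unop, leOfHom d.hom.unop⟩,
    ⟨Over.homMk (𝟙 _) (Subsingleton.elim _ _)⟩⟩) fun {d c} s s' ↦ ⟨c, 𝟙 _, ?_⟩
  ext1
  exact Subsingleton.elim _ _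

/-- The base change of a system along a morphism to one of its stages. -/
noncomputable def baseChangeDiagram : (Set.Ici i)ᵒᵖ ⥤ Scheme.{u} :=
  haveI : ∀ (a b : A.Iᵒᵖ) (m : a ⟶ b), IsAffineHom (A.D.map m) := A.affine
  aboveOver A i ⋙ pullbackDiagram A.D (op i) g

instance isAffineHom_baseChangeDiagram_map (a b : (Set.Ici i)ᵒᵖ) (m : a ⟶ b) :
    IsAffineHom ((baseChangeDiagram A i g).map m) :=
  haveI : ∀ (a b : A.Iᵒᵖ) (m : a ⟶ b), IsAffineHom (A.D.map m) := A.affine
  inferInstanceAs (IsAffineHom ((pullbackDiagram A.D (op i) g).map _))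

/-- The base change of the limit cone. -/
noncomputable def baseChangeCone : Cone (baseChangeDiagram A i g) :=
  haveI : ∀ (a b : A.Iᵒᵖ) (m : a ⟶ b), IsAffineHom (A.D.map m) := A.affine
  (pullbackCone A.D (op i) g A.cone).whisker (aboveOver A i)

/-- The base change of the limit cone is a limit. -/
noncomputable def isLimitBaseChangeCone : IsLimit (baseChangeCone A i g) :=
  haveI : ∀ (a b : A.Iᵒᵖ) (m : a ⟶ b), IsAffineHom (A.D.map m) := A.affine
  (Functor.Initial.isLimitWhiskerEquiv (aboveOver A i) (pullbackCone A.D (op i) g A.cone)).symm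
    (isLimitPullbackCone A.D (op i) g A.isLimit)

/-- The projection to the stages of the base. -/
noncomputable def baseChangeFst (b : (Set.Ici i)ᵒᵖ) :
    (baseChangeDiagram A i g).obj b ⟶ A.D.obj (op (b.unop : A.I)) :=
  pullback.fst (A.trans b.unop.2) g

/-- The projection to the fixed scheme. -/
noncomputable def baseChangeSnd :
    baseChangeDiagram A i g ⟶ (Functor.const _).obj P₀ where
  app b := pullback.snd (A.trans b.unop.2) g
  naturality a b m := (pullback.lift_snd _ _ _).trans (Category.comp_id _).symm

theorem baseChangeFst_naturality {a b : (Set.Ici i)ᵒᵖ} (m : a ⟶ b) :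
    (baseChangeDiagram A i g).map m ≫ baseChangeFst A i g b =
      baseChangeFst A i g a ≫ A.trans (leOfHom m.unop : (b.unop : A.I) ≤ a.unop) :=
  pullback.lift_fst _ _ _

theorem baseChange_condition (b : (Set.Ici i)ᵒᵖ) :
    baseChangeFst A i g b ≫ A.trans b.unop.2 = (baseChangeSnd A i g).app b ≫ g :=
  pullback.condition

theorem baseChangeCone_π_fst (b : (Set.Ici i)ᵒᵖ) :
    (baseChangeCone A i g).π.app b ≫ baseChangeFst A i g b =
      pullback.fst (A.π.app (op i)) g ≫ A.π.app (op (b.unop : A.I)) :=
  pullback.lift_fst _ _ _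

theorem baseChangeCone_π_snd (b : (Set.Ici i)ᵒᵖ) :
    (baseChangeCone A i g).π.app b ≫ (baseChangeSnd A i g).app b =
      pullback.snd (A.π.app (op i)) g :=
  pullback.lift_snd _ _ _

variable [QuasiCompact g] [LocallyOfFiniteType g]

/-- The base change of a system along a morphism of finite type to one of its stages. -/
noncomputable def baseChangeSystem : ZSystem (pullback (A.π.app (op i)) g) where
  I := Set.Ici i
  D := baseChangeDiagram A i g
  π := (baseChangeCone A i g).π
  isLimit := isLimitBaseChangeCone A i g
  affine a b m := inferInstance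
  compact b := by
    have : CompactSpace (A.D.obj (op (b.unop : A.I))) := A.compact _
    have : QuasiCompact (baseChangeFst A i g b) := inferInstanceAs (QuasiCompact (pullback.fst _ g))
    exact QuasiCompact.compactSpace_of_compactSpace (baseChangeFst A i g b)
  locallyOfFiniteType b := by
    have := A.locallyOfFiniteType (op (b.unop : A.I))
    have : LocallyOfFiniteType (baseChangeFst A i g b) :=
      inferInstanceAs (LocallyOfFiniteType (pullback.fst _ g))
    rw [show Limits.IsTerminal.from specULiftZIsTerminal ((baseChangeDiagram A i g).obj b) =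
      baseChangeFst A i g b ≫ Limits.IsTerminal.from specULiftZIsTerminal _ from
      specULiftZIsTerminal.hom_ext _ _]
    infer_instance

end baseChange

end Groth.Limits
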