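import Groth.Agent.Limits.ApproxStage
import Groth.Agent.Limits.Approximation
import Groth.Agent.Limits.ApproxHom
import Groth.Agent.Chow.AffineImm

/-!
# Morphisms locally of finite type are immersed in morphisms of finite presentation
-/

set_option backward.isDefEq.respectTransparency false
set_option backward.defeqAttrib.useBackward true

universe u

open CategoryTheory Limits AlgebraicGeometry Opposite TopologicalSpace

namespace Groth.Limits

/-- Finitely many sections generating the sections of an affine open over a base open, realized at a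
stage, make the graph a closed immersion. -/
theorem isClosedImmersion_graph {X S T Z : Scheme.{u}} [IsAffine Z] (q : X ⟶ T) (f : X ⟶ S)
    {tT : T ⟶ Z} {tS : S ⟶ Z} (w : q ≫ tT = f ≫ tS) {O : T.Opens} {V : S.Opens} {W : X.Opens}
    (hW : IsAffineOpen W) (hO : IsAffineOpen O) (hV : IsAffineOpen V) (eO : W ≤ q ⁻¹ᵁ O)
    (eV : W ≤ f ⁻¹ᵁ V)
    (hgen : letI := (f.appLE V W eV).hom.toAlgebra
      ∃ s : Finset Γ(X, W), Algebra.adjoin Γ(S, V) (s : Set Γ(X, W)) = ⊤ ∧
        ∀ b ∈ s, ∃ z, q.appLE O W eO z = b) :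
    IsClosedImmersion (pullback.lift (q.resLE O W eO) (f.resLE V W eV)
      (by rw [Scheme.Hom.resLE_comp_ι_assoc, Scheme.Hom.resLE_comp_ι_assoc, w]) :
      W.toScheme ⟶ pullback (O.ι ≫ tT) (V.ι ≫ tS)) := by
  have : IsAffine O.toScheme := hO
  have : IsAffine V.toScheme := hV
  have : IsAffine W.toScheme := hW
  set j := (pullback.lift (q.resLE O W eO) (f.resLE V W eV)
      (by rw [Scheme.Hom.resLE_comp_ι_assoc, Scheme.Hom.resLE_comp_ι_assoc, w]) :
      W.toScheme ⟶ pullback (O.ι ≫ tT) (V.ι ≫ tS))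
  refine IsClosedImmersion.of_surjective_of_isAffine j fun y ↦ ?_
  obtain ⟨s, hs, hsz⟩ := hgen
  letI := (f.appLE V W eV).hom.toAlgebra
  let φ := (j.appTop ≫ W.topIso.hom).hom
  have hV' : ∀ v, f.appLE V W eV v ∈ φ.range := fun v ↦ by
    refine ⟨(pullback.snd (O.ι ≫ tT) (V.ι ≫ tS)).appTop (V.topIso.inv v), ?_⟩
    have h1 : (pullback.snd (O.ι ≫ tT) (V.ι ≫ tS)).appTop ≫ j.appTop =
        (f.resLE V W eV).appTop := by
      rw [← Scheme.Hom.comp_appTop, pullback.lift_snd]
    show (j.appTop ≫ W.topIso.hom) _ = _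
    rw [← CommRingCat.comp_apply, ← Category.assoc, h1, CommRingCat.comp_apply,
      topIso_resLE_appTop, ← CommRingCat.comp_apply (V.topIso.inv), Iso.inv_hom_id]
    rfl
  let A : Subalgebra Γ(S, V) Γ(X, W) :=
    { φ.range with algebraMap_mem' := hV' }
  have hA : ∀ b, b ∈ A := by
    refine fun b ↦ (Algebra.adjoin_le (S := A) ?_ : Algebra.adjoin _ (s : Set Γ(X, W)) ≤ A)
      (hs ▸ Algebra.mem_top)
    intro b hb
    obtain ⟨z, hz⟩ := hsz b hb
    refine ⟨(pullback.fst (O.ι ≫ tT) (V.ι ≫ tS)).appTop (O.topIso.inv z), ?_⟩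
    have h1 : (pullback.fst (O.ι ≫ tT) (V.ι ≫ tS)).appTop ≫ j.appTop =
        (q.resLE O W eO).appTop := by
      rw [← Scheme.Hom.comp_appTop, pullback.lift_fst]
    show (j.appTop ≫ W.topIso.hom) _ = _
    rw [← CommRingCat.comp_apply, ← Category.assoc, h1, CommRingCat.comp_apply,
      topIso_resLE_appTop, ← CommRingCat.comp_apply (O.topIso.inv), Iso.inv_hom_id]
    exact hz
  obtain ⟨a, ha⟩ := hA (W.topIso.hom y)
  refine ⟨a, ?_⟩
  have key : W.topIso.inv (W.topIso.hom (j.appTop a)) = W.topIso.inv (W.topIso.hom y) :=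
    congrArg W.topIso.inv ha
  simpa only [Iso.hom_inv_id_apply] using key

/-- A morphism locally of finite type from a quasi-compact quasi-separated scheme is an immersion
into a morphism of finite presentation. -/
theorem exists_immersion_fp {X S : Scheme.{u}} (f : X ⟶ S) [LocallyOfFiniteType f]
    [CompactSpace X] [QuasiSeparatedSpace X] :
    ∃ (X' : Scheme.{u}) (f' : X' ⟶ S) (j : X ⟶ X'), LocallyOfFinitePresentation f' ∧
      QuasiCompact f' ∧ QuasiSeparated f' ∧ IsImmersion j ∧ j ≫ f' = f := by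
  classical
  have hloc : ∀ x : X, ∃ (W : X.Opens) (V : S.Opens), x ∈ W ∧ IsAffineOpen W ∧ IsAffineOpen V ∧
      W ≤ f ⁻¹ᵁ V := fun x ↦ by
    obtain ⟨_, ⟨V, hV, rfl⟩, hx, -⟩ :=
      S.isBasis_affineOpens.exists_subset_of_mem_open (Set.mem_univ (f x)) isOpen_univ
    obtain ⟨_, ⟨W, hW, rfl⟩, hxW, hle⟩ :=
      X.isBasis_affineOpens.exists_subset_of_mem_open (show x ∈ f ⁻¹ᵁ V from hx) (f ⁻¹ᵁ V).2
    exact ⟨W, V, hxW, hW, hV, hle⟩
  choose W V hxW hW hV hWV using hloc
  obtain ⟨t, ht⟩ := isCompact_univ.elim_finite_subcover (fun x ↦ (W x : Set X))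
    (fun x ↦ (W x).2) fun x _ ↦ Set.mem_iUnion.2 ⟨x, hxW x⟩
  obtain ⟨B⟩ := exists_zsystem X
  -- the opens at a common stage
  have hO : ∀ x, ∃ (i : B.I) (O : (B.D.obj (op i)).Opens),
      IsAffineOpen O ∧ B.π.app (op i) ⁻¹ᵁ O = W x := fun x ↦ by
    obtain ⟨⟨i⟩, O, -, hO⟩ := exists_preimage_eq B.D B.cone B.isLimit (W x) (hW x).isCompact
    obtain ⟨k, hik, hk⟩ := B.exists_isAffineOpen O (by
      have := hW x
      rwa [← hO] at this)
    exact ⟨k, _, hk, (B.preimage_pullOpen hik O).trans hO⟩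
  choose i O hOaff hOW using hO
  obtain ⟨m, -, him⟩ := B.exists_upper_bound (Classical.arbitrary B.I) (fun x : t ↦ i x)
  -- generators
  have hgen : ∀ x : t, ∃ s : Finset Γ(X, W x),
      letI := (f.appLE (V x) (W x) (hWV x)).hom.toAlgebra
      Algebra.adjoin Γ(S, V x) (s : Set Γ(X, W x)) = ⊤ := fun x ↦ by
    have h := f.finiteType_appLE (hV x) (hW x) (hWV x)
    let _ := (f.appLE (V x) (W x) (hWV x)).hom.toAlgebra
    have h' : Algebra.FiniteType Γ(S, V x) Γ(X, W x) := h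
    exact h'.out
  choose s hs using hgen
  -- realize them
  let Om (x : t) : (B.D.obj (op m)).Opens := B.pullOpen (him x) (O x)
  have hOm : ∀ x : t, B.π.app (op m) ⁻¹ᵁ Om x = W x := fun x ↦
    (B.preimage_pullOpen (him x) (O x)).trans (hOW x)
  have hlift : ∀ (p : Σ x : t, s x), ∃ (k : B.I) (h : m ≤ k)
      (z : Γ(B.D.obj (op k), B.pullOpen h (Om p.1))),
      (B.π.app (op k)).appLE _ (W p.1) ((B.preimage_pullOpen h (Om p.1)).trans (hOm p.1)).ge z =
        p.2.1 := fun p ↦ B.exists_section (Om p.1) (hOm p.1) p.2.1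
  choose k hk z hz using hlift
  obtain ⟨n, hmn, hkn⟩ := B.exists_upper_bound m k
  let On (x : t) : (B.D.obj (op n)).Opens := B.pullOpen hmn (Om x)
  have hOn : ∀ x : t, B.π.app (op n) ⁻¹ᵁ On x = W x := fun x ↦
    (B.preimage_pullOpen hmn (Om x)).trans (hOm x)
  have hOnaff : ∀ x : t, IsAffineOpen (On x) := fun x ↦ by
    show IsAffineOpen (B.pullOpen hmn (B.pullOpen (him x) (O x)))
    rw [B.pullOpen_pullOpen]
    exact (hOaff x).preimage _
  have hgen' : ∀ x : t, letI := (f.appLE (V x) (W x) (hWV x)).hom.toAlgebra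
      ∃ s : Finset Γ(X, W x), Algebra.adjoin Γ(S, V x) (s : Set Γ(X, W x)) = ⊤ ∧
        ∀ b ∈ s, ∃ z, (B.π.app (op n)).appLE (On x) (W x) (hOn x).ge z = b := fun x ↦
    ⟨s x, hs x, fun b hb ↦ by
      let p : Σ x : t, s x := ⟨x, b, hb⟩
      refine ⟨(B.trans (hkn p)).appLE _ (On x) (B.pullOpen_pullOpen (hk p) (hkn p) (Om x)).ge (z p), ?_⟩
      exact (appLE_appLE (B.π_trans (hkn p)) _ _ _ (z p)).trans (hz p)⟩
  -- the product
  let T := B.D.obj (op n)
  let tT := Limits.IsTerminal.from specULiftZIsTerminal T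
  let tS := Limits.IsTerminal.from specULiftZIsTerminal S
  have : CompactSpace T := B.compact _
  have : QuasiSeparatedSpace T := inferInstance
  have : QuasiCompact tT := inferInstance
  have : QuasiSeparated tT := inferInstance
  have : LocallyOfFiniteType tT := B.locallyOfFiniteType _
  have : LocallyOfFinitePresentation tT := locallyOfFinitePresentation_from
  let j : X ⟶ pullback tT tS :=
    pullback.lift (B.π.app (op n)) f (specULiftZIsTerminal.hom_ext _ _)
  refine ⟨_, pullback.snd tT tS, j, inferInstance, inferInstance, inferInstance, ?_,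
    pullback.lift_snd _ _ _⟩
  let p (x : t) : pullback ((On x).ι ≫ tT) ((V x).ι ≫ tS) ⟶ pullback tT tS :=
    pullback.map _ _ _ _ (On x).ι (V x).ι (𝟙 _) (by simp) (by simp)
  have hpre : ∀ x : t, j ⁻¹ᵁ (p x).opensRange = W x := fun x ↦ by
    ext y
    show j y ∈ Set.range (p x) ↔ _
    rw [Scheme.Pullback.range_map]
    simp only [Set.mem_inter_iff, Set.mem_preimage, Scheme.Opens.range_ι, SetLike.mem_coe]
    rw [← Scheme.Hom.comp_apply, ← Scheme.Hom.comp_apply, pullback.lift_fst, pullback.lift_snd]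
    refine ⟨fun h ↦ (hOn x).le h.1, fun h ↦ ⟨(hOn x).ge h, hWV x h⟩⟩
  refine Groth.Chow.isImmersion_of_pieces j (fun x : t ↦ (p x).opensRange) (fun y ↦ ?_) fun x ↦ ?_
  · obtain ⟨x, hx, hy⟩ := Set.mem_iUnion₂.1 (ht (Set.mem_univ y))
    exact ⟨⟨x, hx⟩, (hpre ⟨x, hx⟩).ge hy⟩
  · let jx : (W x).toScheme ⟶ pullback ((On x).ι ≫ tT) ((V x).ι ≫ tS) :=
      pullback.lift ((B.π.app (op n)).resLE (On x) (W x) (hOn x).ge) (f.resLE (V x) (W x) (hWV x))
        (specULiftZIsTerminal.hom_ext _ _)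
    have hjx : IsClosedImmersion jx := isClosedImmersion_graph (tT := tT) (tS := tS)
      (B.π.app (op n)) f (specULiftZIsTerminal.hom_ext _ _) (hW x) (hOnaff x) (hV x) (hOn x).ge
      (hWV x) (hgen' x)
    let e₁ := X.isoOfEq (hpre x)
    let e₂ := (p x).isoOpensRange.symm
    have comm : e₁.hom ≫ jx = (j ∣_ (p x).opensRange) ≫ e₂.hom := by
      rw [← cancel_mono (p x)]
      simp only [e₂, Iso.symm_hom, Category.assoc, Scheme.Hom.isoOpensRange_inv_comp]
      rw [morphismRestrict_ι]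
      apply pullback.hom_ext <;> simp [e₁, j, jx, p]
    exact (MorphismProperty.arrow_mk_iso_iff @IsClosedImmersion
      (Arrow.isoMk e₁ e₂ comm : Arrow.mk (j ∣_ (p x).opensRange) ≅ Arrow.mk jx)).mpr hjx

end Groth.Limits
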