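import Mathlib.Algebra.Module.FinitePresentation
import Mathlib.Algebra.Category.ModuleCat.FilteredColimits
import Mathlib.Algebra.Category.ModuleCat.Colimits
import Mathlib.CategoryTheory.Limits.ConcreteCategory.Basic
import Mathlib.CategoryTheory.Limits.Types.Filtered

/-!
# Hom out of finite / finitely presented modules into a filtered colimit
-/

universe u

open CategoryTheory Limits

namespace Groth.Limits

variable {A : Type u} [CommRing A] {J : Type u} [Preorder J] [IsDirected J (· ≤ ·)] [Nonempty J]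
  (N : J ⥤ ModuleCat.{u} A)

/-- Finitely many elements killed in the colimit are killed at some stage. -/
theorem exists_map_eq_zero_finset (i : J) (s : Finset (N.obj i))
    (h : ∀ x ∈ s, colimit.ι N i x = 0) : ∃ (k : J) (f : i ⟶ k), ∀ x ∈ s, N.map f x = 0 := by
  classical
  induction s using Finset.induction with
  | empty => exact ⟨i, 𝟙 i, by simp⟩
  | insert a s _ ih =>
    obtain ⟨k, f, hf⟩ := ih fun x hx ↦ h x (Finset.mem_insert_of_mem hx)
    obtain ⟨l, g, g', hg⟩ := Concrete.colimit_exists_of_rep_eq N a (0 : N.obj i)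
      ((h a (Finset.mem_insert_self a s)).trans (map_zero (colimit.ι N i).hom).symm)
    obtain ⟨m, p, q, -⟩ := IsFilteredOrEmpty.cocone_objs k l
    refine ⟨m, f ≫ p, fun x hx ↦ ?_⟩
    rcases Finset.mem_insert.mp hx with rfl | hx
    · rw [show f ≫ p = g ≫ q from Subsingleton.elim _ _, N.map_comp, ConcreteCategory.comp_apply,
        hg, map_zero, map_zero]
    · rw [N.map_comp, ConcreteCategory.comp_apply, hf x hx, map_zero]

variable (M : ModuleCat.{u} A)

theorem injective_post_coyoneda [Module.Finite A M] :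
    Function.Injective (colimit.post N (coyoneda.obj (Opposite.op M))) := by
  classical
  intro x y hxy
  obtain ⟨i, a, rfl⟩ := Types.jointly_surjective_of_isColimit (colimit.isColimit _) x
  obtain ⟨j, b, rfl⟩ := Types.jointly_surjective_of_isColimit (colimit.isColimit _) y
  have h : (a : M ⟶ N.obj i) ≫ colimit.ι N i = (b : M ⟶ N.obj j) ≫ colimit.ι N j :=
    (ConcreteCategory.congr_hom (colimit.ι_post N (coyoneda.obj (Opposite.op M)) i) a).symm.trans
      (hxy.trans (ConcreteCategory.congr_hom (colimit.ι_post N (coyoneda.obj (Opposite.op M)) j) b))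
  obtain ⟨k, p, q, -⟩ := IsFilteredOrEmpty.cocone_objs i j
  obtain ⟨G, hG⟩ := Module.Finite.fg_top (R := A) (M := M)
  let d : M ⟶ N.obj k := (a : M ⟶ N.obj i) ≫ N.map p - (b : M ⟶ N.obj j) ≫ N.map q
  have hd : d ≫ colimit.ι N k = 0 := by
    simp [d, Preadditive.sub_comp, h]
  obtain ⟨l, r, hr⟩ := exists_map_eq_zero_finset N k (G.image d) (by
    simp only [Finset.mem_image, forall_exists_index, and_imp, forall_apply_eq_imp_iff₂]
    intro g _
    rw [← ConcreteCategory.comp_apply, hd]
    rfl)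
  have hdr : d ≫ N.map r = 0 := by
    ext : 1
    exact LinearMap.ext_on hG fun g hg ↦ hr _ (Finset.mem_image_of_mem _ hg)
  refine (Types.FilteredColimit.colimit_eq_iff _).mpr ⟨l, p ≫ r, q ≫ r, ?_⟩
  simp only [d, Preadditive.sub_comp, sub_eq_zero] at hdr
  change (a : M ⟶ N.obj i) ≫ N.map (p ≫ r) = (b : M ⟶ N.obj j) ≫ N.map (q ≫ r)
  simpa using hdr

theorem bijective_post_coyoneda [Module.FinitePresentation A M] :
    Function.Bijective (colimit.post N (coyoneda.obj (Opposite.op M))) := by
  classical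
  refine ⟨injective_post_coyoneda N M, fun g ↦ ?_⟩
  obtain ⟨n, K, e, hK⟩ := Module.FinitePresentation.exists_fin A M
  let g' : (Fin n → A) →ₗ[A] ↑(colimit N : ModuleCat.{u} A) := (g : M ⟶ colimit N).hom ∘ₗ e.symm.toLinearMap ∘ₗ K.mkQ
  choose j y hy using fun m : Fin n ↦
    Concrete.colimit_exists_rep N (g' (Pi.basisFun A (Fin n) m))
  obtain ⟨k, hk⟩ := IsFiltered.sup_objs_exists (Finset.univ.image j)
  let a (m : Fin n) : j m ⟶ k := (hk (Finset.mem_image_of_mem j (Finset.mem_univ m))).some
  let φ : (Fin n → A) →ₗ[A] N.obj k := (Pi.basisFun A (Fin n)).constr A fun m ↦ N.map (a m) (y m)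
  have hφ : (colimit.ι N k).hom ∘ₗ φ = g' := by
    refine (Pi.basisFun A (Fin n)).ext fun m ↦ ?_
    rw [LinearMap.comp_apply, Module.Basis.constr_basis, ← hy m]
    exact ConcreteCategory.congr_hom (colimit.w N (a m)) (y m)
  obtain ⟨S, hS⟩ := hK
  obtain ⟨l, r, hr⟩ := exists_map_eq_zero_finset N k (S.image φ) (by
    simp only [Finset.mem_image, forall_exists_index, and_imp, forall_apply_eq_imp_iff₂]
    intro s hs
    have := DFunLike.congr_fun hφ s
    rw [LinearMap.comp_apply] at this
    rw [this]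
    have hs' : K.mkQ s = 0 := by
      rw [Submodule.mkQ_apply, Submodule.Quotient.mk_eq_zero, ← hS]
      exact Submodule.subset_span hs
    simp [g', hs'])
  have hker : K ≤ LinearMap.ker ((N.map r).hom ∘ₗ φ) := by
    rw [← hS, Submodule.span_le]
    exact fun s hs ↦ hr _ (Finset.mem_image_of_mem _ hs)
  let ψ : M ⟶ N.obj l := ModuleCat.ofHom ((K.liftQ _ hker) ∘ₗ e.toLinearMap)
  refine ⟨colimit.ι (N ⋙ coyoneda.obj (Opposite.op M)) l ψ, ?_⟩
  refine (ConcreteCategory.congr_hom (colimit.ι_post N (coyoneda.obj (Opposite.op M)) l) ψ).trans ?_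
  change ψ ≫ colimit.ι N l = g
  ext : 1
  apply LinearMap.ext
  intro x
  obtain ⟨z, hz⟩ := K.mkQ_surjective (e x)
  have h₁ : ψ.hom x = N.map r (φ z) := by
    simp [ψ, ← hz]
  rw [ModuleCat.hom_comp, LinearMap.comp_apply, h₁]
  refine (ConcreteCategory.congr_hom (colimit.w N r) (φ z)).trans ((DFunLike.congr_fun hφ z).trans ?_)
  simp [g', hz]

end Groth.Limits
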