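import Groth.Prelude.Def_Found
import Groth.Agent.Calg4.Japanese
import Mathlib.RingTheory.Ideal.KrullsHeightTheorem
import Mathlib.RingTheory.Ideal.GoingUp
import Mathlib.RingTheory.IntegralClosure.IntegrallyClosed

/-!
# One-dimensional normal test rings over Nagata rings
-/

universe u

namespace Groth.Limits

/-- If every nonzero prime below a prime `q` of a Noetherian domain contains a fixed nonzero element,
there is no prime strictly between zero and `q`. -/
theorem eq_bot_or_eq_of_forall_mem {R : Type u} [CommRing R] [IsDomain R] [IsNoetherianRing R]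
    (q : Ideal R) [q.IsPrime] (f : R) (hf : f ≠ 0)
    (h : ∀ P : Ideal R, P.IsPrime → P ≠ ⊥ → P ≤ q → f ∈ P) (P : Ideal R) [hP : P.IsPrime]
    (hPq : P ≤ q) : P = ⊥ ∨ P = q := by
  classical
  by_contra hcon
  rw [not_or] at hcon
  obtain ⟨hP0, hPq'⟩ := hcon
  have hspan (a : R) (m : Ideal R) (hm : m ∈ (Ideal.span {a}).minimalPrimes) : m.height ≤ 1 :=
    Ideal.height_le_one_of_isPrincipal_of_mem_minimalPrimes (Ideal.span {a}) m hm
  have hht : (1 : ℕ∞) < q.height := by
    have h1 : (⊥ : Ideal R).height < P.height :=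
      Ideal.height_strict_mono_of_isPrime (bot_lt_iff_ne_bot.2 hP0)
    have h2 : P.height < q.height :=
      Ideal.height_strict_mono_of_isPrime (lt_of_le_of_ne hPq hPq')
    exact lt_of_le_of_lt (Order.one_le_iff_pos.2 (zero_le.trans_lt h1)) h2
  let s := (Ideal.finite_minimalPrimes_of_isNoetherianRing R (Ideal.span {f})).toFinset
  have hs : ¬ ((q : Set R) ⊆ ⋃ m ∈ (↑s : Set (Ideal R)), (m : Set R)) := fun hsub ↦ by
    obtain ⟨m, hm, hqm⟩ := (Ideal.subset_union_prime (f := fun m : Ideal R ↦ m) ⊥ ⊥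
      (fun m hm _ _ ↦ ((Set.Finite.mem_toFinset _).1 hm).1.1)).1 hsub
    have hm' := (Set.Finite.mem_toFinset _).1 hm
    exact absurd ((Ideal.height_mono hqm).trans (hspan f m hm')) (not_le.2 hht)
  obtain ⟨a, haq, ha⟩ := Set.not_subset.1 hs
  obtain ⟨Q, hQ, hQq⟩ := Ideal.exists_minimalPrimes_le
    (show Ideal.span {a} ≤ q from (Ideal.span_singleton_le_iff_mem _).2 haq)
  have := hQ.1.1
  have haQ : a ∈ Q := hQ.1.2 (Ideal.mem_span_singleton_self a)
  by_cases ha0 : a = 0
  · obtain ⟨m, hm, -⟩ := Ideal.exists_minimalPrimes_le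
      (show Ideal.span {f} ≤ q from (Ideal.span_singleton_le_iff_mem _).2
        (h q ‹_› (fun hq0 ↦ hP0 (le_bot_iff.1 (hq0 ▸ hPq))) le_rfl))
    exact ha (Set.mem_biUnion ((Set.Finite.mem_toFinset _).2 hm) (ha0 ▸ m.zero_mem))
  have hQ0 : Q ≠ ⊥ := fun hQ0 ↦ ha0 (by simpa [hQ0] using haQ)
  obtain ⟨m, hm, hmQ⟩ := Ideal.exists_minimalPrimes_le
    (show Ideal.span {f} ≤ Q from (Ideal.span_singleton_le_iff_mem _).2 (h Q ‹_› hQ0 hQq))
  have := hm.1.1
  have hm0 : m ≠ ⊥ := fun hm0 ↦ hf (by
    simpa [hm0] using hm.1.2 (Ideal.mem_span_singleton_self f))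
  refine ha (Set.mem_biUnion ((Set.Finite.mem_toFinset _).2 hm) ?_)
  by_contra haM
  have h1 : (⊥ : Ideal R).height < m.height :=
    Ideal.height_strict_mono_of_isPrime (bot_lt_iff_ne_bot.2 hm0)
  have h2 : m.height < Q.height :=
    Ideal.height_strict_mono_of_isPrime (lt_of_le_of_ne hmQ fun e ↦ haM (e ▸ haQ))
  exact absurd (hspan a Q hQ) (not_le.2 (lt_of_le_of_lt (Order.one_le_iff_pos.2 (zero_le.trans_lt h1)) h2))

/-- The normalization of a curve-like quotient of a Nagata ring in a finite extension of its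
residue field, with a maximal prime of height one over a given maximal ideal. -/
theorem exists_testRing {R : Type u} [CommRing R] (hR : CAlg.IsNagata R) {K L : Type u} [Field K]
    [Field L] [Algebra R K] [Algebra K L] [Algebra R L] [IsScalarTower R K L] [Module.Finite K L]
    (hK : ∀ k : K, ∃ a b : R, algebraMap R K b ≠ 0 ∧ k * algebraMap R K b = algebraMap R K a)
    (q : Ideal R) [q.IsMaximal] (f : R) (hf : algebraMap R K f ≠ 0)
    (hlt : RingHom.ker (algebraMap R K) < q)
    (hbet : ∀ P : Ideal R, P.IsPrime → RingHom.ker (algebraMap R K) < P → P ≤ q → f ∈ P) :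
    ∃ (N : Type u) (_ : CommRing N) (_ : IsDomain N) (_ : Algebra R N) (_ : Algebra N L)
      (_ : IsScalarTower R N L) (_ : IsFractionRing N L) (_ : IsIntegrallyClosed N)
      (_ : Algebra.FiniteType R N) (c : Ideal N) (_ : c.IsMaximal),
      c.comap (algebraMap R N) = q ∧ c.height = 1 ∧ IsNoetherianRing N := by
  let p := RingHom.ker (algebraMap R K)
  have hp : p.IsPrime := RingHom.ker_isPrime _
  let R₀ := R ⧸ p
  have hNoe : IsNoetherianRing R := hR.1
  letI : Algebra R₀ K := (RingHom.kerLift (algebraMap R K)).toAlgebra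
  have hmk : ∀ r : R, algebraMap R₀ K (Ideal.Quotient.mk p r) = algebraMap R K r := fun r ↦ rfl
  have : IsScalarTower R R₀ K := IsScalarTower.of_algebraMap_eq fun r ↦ rfl
  have hinj : Function.Injective (algebraMap R₀ K) := RingHom.kerLift_injective _
  have : FaithfulSMul R₀ K := (faithfulSMul_iff_algebraMap_injective R₀ K).2 hinj
  have : IsFractionRing R₀ K := IsFractionRing.of_field R₀ K fun k ↦ by
    obtain ⟨a, b, hb, hab⟩ := hK k
    exact ⟨Ideal.Quotient.mk p a, Ideal.Quotient.mk p b, by rw [hmk, hmk, ← hab, mul_div_assoc, div_self hb, mul_one]⟩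
  letI : Algebra R₀ L := ((algebraMap K L).comp (algebraMap R₀ K)).toAlgebra
  have : IsScalarTower R₀ K L := IsScalarTower.of_algebraMap_eq fun _ ↦ rfl
  have : IsScalarTower R R₀ L := IsScalarTower.of_algebraMap_eq fun r ↦ IsScalarTower.algebraMap_apply R K L r
  have hfin : Module.Finite R₀ (integralClosure R₀ L) :=
    Groth.Calg4.finite_ic_of_isN2 (hR.2 p) K L
  let N := integralClosure R₀ L
  have : IsFractionRing N L := integralClosure.isFractionRing_of_finite_extension K L
  have : IsIntegrallyClosed N := integralClosure.isIntegrallyClosedOfFiniteExtension K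
  have : Algebra.IsIntegral R₀ N := Algebra.IsIntegral.of_finite R₀ N
  have hNinj : Function.Injective (algebraMap R₀ N) := fun a b hab ↦ by
    have : algebraMap R₀ L a = algebraMap R₀ L b := congrArg Subtype.val hab
    exact hinj ((algebraMap K L).injective this)
  have : IsNoetherianRing N := IsNoetherianRing.of_finite R₀ N
  have hpq : p ≤ q := hlt.le
  let q₀ : Ideal R₀ := q.map (Ideal.Quotient.mk p)
  have hq₀ : q₀.IsMaximal :=
    Ideal.IsMaximal.map_of_surjective_of_ker_le Ideal.Quotient.mk_surjective (by rwa [Ideal.mk_ker])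
  obtain ⟨c, hcmax, hc⟩ := Ideal.exists_ideal_over_maximal_of_isIntegral (S := N) q₀
    (by rw [(RingHom.injective_iff_ker_eq_bot _).1 hNinj]; exact bot_le)
  have hq₀q : q₀.comap (Ideal.Quotient.mk p) = q := by
    rw [Ideal.comap_map_of_surjective _ Ideal.Quotient.mk_surjective, ← RingHom.ker_eq_comap_bot,
      Ideal.mk_ker, sup_eq_left.2 hpq]
  have hcq : c.comap (algebraMap R N) = q := by
    rw [IsScalarTower.algebraMap_eq R R₀ N, ← Ideal.comap_comap, hc]
    exact hq₀q
  have hbet₀ : ∀ P : Ideal R₀, P.IsPrime → P ≤ q₀ → P = ⊥ ∨ P = q₀ := by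
    intro P hP hPq
    refine eq_bot_or_eq_of_forall_mem q₀ (Ideal.Quotient.mk p f) (fun h0 ↦ hf ?_) ?_ P hPq
    · rw [← hmk, h0, map_zero]
    intro P' hP' hP'0 hP'q
    have hle : p ≤ P'.comap (Ideal.Quotient.mk p) := fun r hr ↦ by
      rw [Ideal.mem_comap, Ideal.Quotient.eq_zero_iff_mem.2 hr]; exact P'.zero_mem
    have hlt' : p < P'.comap (Ideal.Quotient.mk p) := by
      refine lt_of_le_of_ne hle fun e ↦ hP'0 ?_
      rw [← Ideal.map_comap_of_surjective _ Ideal.Quotient.mk_surjective P', ← e, Ideal.map_quotient_self]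
    exact hbet _ inferInstance hlt' ((Ideal.comap_mono hP'q).trans hq₀q.le)
  have hq₀0 : q₀ ≠ ⊥ := fun e ↦ by
    have h1 : q₀.comap (Ideal.Quotient.mk p) = p := by
      rw [e, ← RingHom.ker_eq_comap_bot, Ideal.mk_ker]
    exact hlt.ne' (hq₀q ▸ h1)
  have hc0 : c ≠ ⊥ := fun e ↦ hq₀0 (by
    rw [← hc, e, ← RingHom.ker_eq_comap_bot, (RingHom.injective_iff_ker_eq_bot _).1 hNinj])
  have hcht : c.height = 1 := by
    refine le_antisymm ?_ ?_
    · refine Ideal.height_le_iff.2 fun P hP hPc ↦ ?_
      have hP0 : P = ⊥ := by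
        rcases hbet₀ (P.comap (algebraMap R₀ N)) inferInstance
          (hc ▸ Ideal.comap_mono hPc.le) with h0 | h0
        · exact Ideal.eq_bot_of_comap_eq_bot h0
        · have : (P.comap (algebraMap R₀ N)).IsMaximal := h0 ▸ hq₀
          have := Ideal.isMaximal_of_isIntegral_of_isMaximal_comap (R := R₀) P this
          exact absurd (this.eq_of_le hcmax.ne_top hPc.le) hPc.ne
      subst hP0
      simp
    · exact Order.one_le_iff_pos.2 (zero_le.trans_lt
        (Ideal.height_strict_mono_of_isPrime (bot_lt_iff_ne_bot.2 hc0)))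
  have : Algebra.FiniteType R N := Algebra.FiniteType.trans (S := R₀) inferInstance inferInstance
  exact ⟨N, inferInstance, inferInstance, inferInstance, inferInstance,
    IsScalarTower.of_algebraMap_eq fun r ↦ by
      rw [IsScalarTower.algebraMap_apply R R₀ L r, IsScalarTower.algebraMap_apply R₀ N L,
        IsScalarTower.algebraMap_apply R R₀ N r],
    inferInstance, inferInstance, this, c, hcmax, hcq, hcht, inferInstance⟩

/-- In a Noetherian domain, a nonzero element vanishes near a prime of height one only there. -/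
theorem exists_notMem_forall_eq {N : Type u} [CommRing N] [IsDomain N] [IsNoetherianRing N]
    (c : Ideal N) [c.IsMaximal] (hc : c.height = 1) (e : N) (he : e ≠ 0) :
    ∃ h, h ∉ c ∧ ∀ P : Ideal N, P.IsPrime → h ∉ P → e ∈ P → P = c := by
  classical
  let s := (Ideal.finite_minimalPrimes_of_isNoetherianRing N (Ideal.span {e})).toFinset.erase c
  have hnot : ∀ m ∈ s, ∃ h ∈ m, h ∉ c := fun m hm ↦ by
    obtain ⟨hmc, hm⟩ := Finset.mem_erase.1 hm
    have hm := (Set.Finite.mem_toFinset _).1 hm
    have := hm.1.1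
    by_contra hcon
    simp only [not_exists, not_and, not_not] at hcon
    have hm0 : m ≠ ⊥ := fun h0 ↦ he (by
      simpa [h0] using hm.1.2 (Ideal.mem_span_singleton_self e))
    have h1 : (1 : ℕ∞) ≤ m.height := Order.one_le_iff_pos.2 (zero_le.trans_lt
      (Ideal.height_strict_mono_of_isPrime (bot_lt_iff_ne_bot.2 hm0)))
    have h2 : m.height < c.height :=
      Ideal.height_strict_mono_of_isPrime (lt_of_le_of_ne hcon hmc)
    exact absurd (hc ▸ h2) (not_lt.2 h1)
  choose! g hg hgc using hnot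
  refine ⟨∏ m ∈ s, g m, fun hmem ↦ ?_, fun P hP hhP heP ↦ ?_⟩
  · obtain ⟨m, hm, hgm⟩ := (Ideal.IsPrime.prod_mem_iff (p := c)).1 hmem
    exact hgc m hm hgm
  · obtain ⟨m, hm, hmP⟩ := Ideal.exists_minimalPrimes_le
      (show Ideal.span {e} ≤ P from (Ideal.span_singleton_le_iff_mem _).2 heP)
    rcases eq_or_ne m c with rfl | hmc
    · exact ((inferInstance : m.IsMaximal).eq_of_le hP.ne_top hmP).symm
    · have hms : m ∈ s := Finset.mem_erase.2 ⟨hmc, (Set.Finite.mem_toFinset _).2 hm⟩
      exact absurd (P.mem_of_dvd (Finset.dvd_prod_of_mem g hms) (hmP (hg m hms))) hhP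

end Groth.Limits
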