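import Groth.Agent.S1585
import Groth.Agent.PicAux.Cocycle
import Groth.Agent.PicAux.Pullback
import Groth.Agent.QCohMod.Sections
import Groth.Agent.PicAux.QCoh
import Groth.Agent.PicAux.GenLocal
import Groth.Agent.EulerDeg.DimOne
import Groth.Agent.EulerDeg.Coherent

/-!
# Surjectivity of `Pic(X) → Pic(X^ν)` for curves
-/

universe u

open CategoryTheory CategoryTheory.Limits AlgebraicGeometry TopologicalSpace Opposite

namespace Groth.LimNormPic

open Groth.PicAux

theorem germ_resX {X : Scheme.{u}} {U V : X.Opens} (h : V ≤ U) (x : X) (hx : x ∈ V) (a : Γ(X, U)) :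
    X.presheaf.germ V x hx (resX X h a) = X.presheaf.germ U x (h hx) a :=
  X.presheaf.germ_res_apply (homOfLE h) x hx a

/-- A generator near finitely many incomparable points of an affine open. -/
theorem exists_gen_finset {X : Scheme.{u}} {L : X.Modules} (hL : PicF.IsInvertible L) {U : X.Opens}
    (hU : IsAffineOpen U) (F : Finset X) (hFU : ∀ p ∈ F, p ∈ U)
    (hF : ∀ p ∈ F, ∀ q ∈ F, q ⤳ p → q = p) :
    ∃ (G : X.Opens) (e : Γ(L, G)), (∀ p ∈ F, p ∈ G) ∧ G ≤ U ∧ Gen L G e := by
  classical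
  haveI := isQCoh_of_isInvertible hL
  have h0 : ∀ p : {p // p ∈ F}, ∃ (g : Γ(X, U)) (e : Γ(L, X.basicOpen g)) (t : Γ(L, U)) (n : ℕ),
      (p : X) ∈ X.basicOpen g ∧ Gen L (X.basicOpen g) e ∧
        res L (X.basicOpen_le g) t = resX X (X.basicOpen_le g) g ^ n • e := fun p => by
    obtain ⟨V, e, hpV, he⟩ := (isInvertible_iff_exists_gen L).1 hL p
    obtain ⟨g, hg, hpg⟩ := hU.exists_basicOpen_le ⟨(p : X), hpV⟩ (hFU p p.2)
    obtain ⟨n, t, ht⟩ := Groth.QCohMod.exists_pow_smul_eq_res L hU g (res L hg e)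
    exact ⟨g, _, t, n, hpg, he.res hg, ht⟩
  choose g e t n hpg he ht using h0
  have h1 : ∀ p q : {p // p ∈ F}, ∃ a : Γ(X, U),
      (p : X) ∈ X.basicOpen a ∧ (q ≠ p → (q : X) ∉ X.basicOpen a) := fun p q => by
    by_cases h : q = p
    · exact ⟨1, by rw [Scheme.basicOpen_of_isUnit _ isUnit_one]; exact hFU p p.2, fun h' => absurd h h'⟩
    · have hne : ¬ (q : X) ⤳ (p : X) := fun hs => h (Subtype.ext (hF p p.2 q q.2 hs))
      rw [specializes_iff_forall_open] at hne
      push Not at hne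
      obtain ⟨O, hO, hpO, hqO⟩ := hne
      obtain ⟨a, ha, hpa⟩ := hU.exists_basicOpen_le (V := ⟨O, hO⟩) ⟨(p : X), hpO⟩ (hFU p p.2)
      exact ⟨a, hpa, fun _ hq => hqO (ha hq)⟩
  choose a ha₁ ha₂ using h1
  let b : {p // p ∈ F} → Γ(X, U) := fun p => ∏ q, a p q
  let m : Γ(L, U) := ∑ p, b p • t p
  have hb : ∀ (p : {p // p ∈ F}) (hp : (p : X) ∈ U), IsUnit (X.presheaf.germ U p hp (b p)) := fun p hp => by
    rw [map_prod, IsUnit.prod_univ_iff]
    exact fun q => (Scheme.mem_basicOpen _ _ _ hp).1 (ha₁ p q)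
  have hb' : ∀ p q : {p // p ∈ F}, q ≠ p → ∀ (hq : (q : X) ∈ U),
      ¬ IsUnit (X.presheaf.germ U q hq (b p)) := fun p q hne hq hu => by
    rw [map_prod, IsUnit.prod_univ_iff] at hu
    exact ha₂ p q hne ((Scheme.mem_basicOpen _ _ _ hq).2 (hu q))
  choose c hc using fun p => (he p).exists_coeff le_rfl (res L (X.basicOpen_le (g p)) m)
  have hc' : ∀ p, res L (X.basicOpen_le (g p)) m = c p • e p := fun p => by
    have := hc p
    rwa [res_self] at this
  have hmem : ∀ p : {p // p ∈ F}, (p : X) ∈ X.basicOpen (c p) := fun p => by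
    let r := X.basicOpen_le (g p)
    choose d hd using fun q => (he p).exists_coeff le_rfl (res L r (t q))
    have h2 : c p = ∑ q, resX X r (b q) * d q := by
      refine (he p).smul_inj le_rfl ?_
      rw [res_self, ← hc' p, Finset.sum_smul]
      refine (map_sum ((L.presheaf.map (homOfLE r).op).hom) _ _).trans (Finset.sum_congr rfl fun q _ => ?_)
      refine (res_smul r (b q) (t q)).trans ?_
      rw [hd q, res_self, smul_smul]
    have hdp : d p = resX X r (g p) ^ n p := by
      refine (he p).smul_inj le_rfl ?_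
      rw [← hd p, ht p, res_self]
    rw [Scheme.mem_basicOpen _ _ _ (hpg p), h2, map_sum, ← Finset.add_sum_erase _ _ (Finset.mem_univ p)]
    have hu : IsUnit (X.presheaf.germ (X.basicOpen (g p)) p (hpg p) (resX X r (b p) * d p)) := by
      rw [map_mul, hdp, map_pow, germ_resX, germ_resX]
      exact (hb p _).mul (((Scheme.mem_basicOpen _ _ _ (hFU p p.2)).1 (hpg p)).pow _)
    have hrest : ∑ q ∈ Finset.univ.erase p,
        X.presheaf.germ (X.basicOpen (g p)) p (hpg p) (resX X r (b q) * d q) ∈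
          IsLocalRing.maximalIdeal (X.presheaf.stalk (p : X)) :=
      Ideal.sum_mem _ fun q hq => by
        rw [map_mul, germ_resX]
        exact Ideal.mul_mem_right _ _ (hb' q p (Ne.symm (Finset.ne_of_mem_erase hq)) _)
    by_contra hnu
    exact ((IsLocalRing.mem_maximalIdeal _).1 (by
      have := sub_mem ((IsLocalRing.mem_maximalIdeal _).2 hnu) hrest
      rwa [add_sub_cancel_right] at this)) hu
  let G : X.Opens := ⨆ p, X.basicOpen (c p)
  have hGU : G ≤ U := iSup_le fun p => (X.basicOpen_le (c p)).trans (X.basicOpen_le (g p))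
  refine ⟨G, res L hGU m, fun p hp => Opens.mem_iSup.2 ⟨⟨p, hp⟩, hmem ⟨p, hp⟩⟩, hGU, ?_⟩
  refine Gen.of_cover (fun p => X.basicOpen (c p)) (fun p => le_iSup (fun p => X.basicOpen (c p)) p)
    le_rfl fun p => ?_
  rw [res_res, ← res_res (X.basicOpen_le (g p)) (X.basicOpen_le (c p)), hc' p, res_smul]
  exact ((he p).res (X.basicOpen_le (c p))).smul_unit (RingedSpace.isUnit_res_basicOpen _ (c p))

theorem bijective_app_of_isIso_restrict {X Y : Scheme.{u}} (f : Y ⟶ X) {V : X.Opens} [IsIso (f ∣_ V)]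
    {W : X.Opens} (hW : W ≤ V) : Function.Bijective (f.app W) := by
  have h1 : V.ι ''ᵁ (V.ι ⁻¹ᵁ W) = W := by
    rw [Scheme.Hom.image_preimage_eq_opensRange_inf, Scheme.Opens.opensRange_ι, inf_eq_right.mpr hW]
  have h2 : IsIso ((f ∣_ V).app (V.ι ⁻¹ᵁ W)) := inferInstance
  rw [morphismRestrict_app] at h2
  have h3 : IsIso (f.app (V.ι ''ᵁ (V.ι ⁻¹ᵁ W))) :=
    @IsIso.of_isIso_comp_right _ _ _ _ _ (f.app (V.ι ''ᵁ (V.ι ⁻¹ᵁ W))) _
      (@Functor.map_isIso _ _ _ _ _ _ Y.presheaf _ (by infer_instance)) h2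
  rw [h1] at h3
  exact ConcreteCategory.bijective_of_isIso _

/-- Surjectivity of pullback on Picard groups along a finite dominant morphism that is an isomorphism
outside finitely many closed points. -/
theorem exists_descent {X Y : Scheme.{u}} (f : Y ⟶ X) [IsFinite f] [IsSchemeTheoreticallyDominant f]
    (V : X.Opens) [IsIso (f ∣_ V)] (hfin : ((V : Set X)ᶜ).Finite)
    (hcl : ∀ x : X, x ∉ V → IsClosed ({x} : Set X)) {N : Y.Modules} (hN : PicF.IsInvertible N) :
    ∃ L : X.Modules, PicF.IsInvertible L ∧ Nonempty ((Scheme.Modules.pullback f).obj L ≅ N) := by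
  classical
  have hinj : ∀ W : X.Opens, Function.Injective (f.app W) := fun W => f.app_injective W
  have h0 : ∀ x : X, ∃ (W : X.Opens) (e : Γ(N, f ⁻¹ᵁ W)), x ∈ W ∧ Gen N (f ⁻¹ᵁ W) e ∧
      ∀ y ∈ W, y ∈ V ∨ y = x := fun x => by
    obtain ⟨U, hU, hxU⟩ := Groth.QCohMod.exists_affine_mem x
    have hfib : (f ⁻¹' {x}).Finite := f.finite_preimage_singleton x
    obtain ⟨G, e, hG, -, he⟩ := exists_gen_finset hN (hU.preimage f) hfib.toFinset
      (fun p hp => by
        have hp' : f p = x := hfib.mem_toFinset.1 hp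
        show f p ∈ U
        rw [hp']; exact hxU)
      (fun p hp q hq hqp => by
        obtain ⟨O, hO, hOeq⟩ := (isDiscrete_iff_forall_mem_exists_isOpen.mp
          (f.isDiscrete_preimage_singleton x)) p (hfib.mem_toFinset.1 hp)
        have hpO : p ∈ O := (hOeq.ge rfl : p ∈ O ∩ f ⁻¹' {x}).1
        have hq2 : q ∈ O ∩ f ⁻¹' {x} := ⟨hqp.mem_open hO hpO, hfib.mem_toFinset.1 hq⟩
        exact hOeq.le hq2)
    have hcl1 : IsClosed (f '' ((G : Set Y)ᶜ)) := f.isClosedMap _ G.isOpen.isClosed_compl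
    have hcl2 : IsClosed (((V : Set X)ᶜ) \ {x}) := by
      rw [← Set.biUnion_of_singleton (((V : Set X)ᶜ) \ {x})]
      exact (hfin.subset Set.sdiff_subset).isClosed_biUnion fun y hy => hcl y hy.1
    let W : X.Opens := ⟨(f '' ((G : Set Y)ᶜ))ᶜ, hcl1.isOpen_compl⟩ ⊓
      ⟨(((V : Set X)ᶜ) \ {x})ᶜ, hcl2.isOpen_compl⟩
    have hWG : f ⁻¹ᵁ W ≤ G := fun z hz => by
      by_contra hzG
      exact hz.1 ⟨z, hzG, rfl⟩
    refine ⟨W, res N hWG e, ⟨?_, fun h => h.2 rfl⟩, he.res hWG, fun y hy => ?_⟩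
    · rintro ⟨z, hz, hzx⟩
      exact hz (hG z (hfib.mem_toFinset.2 hzx))
    · by_contra h
      push Not at h
      exact hy.2 ⟨h.1, h.2⟩
  choose W e hxW he hWV using h0
  have hη0 : ∀ x y : X, ∃ η : Γ(X, W x ⊓ W y),
      res N (f.preimage_mono inf_le_left) (e x) = f.app _ η • res N (f.preimage_mono inf_le_right) (e y) := by
    intro x y
    obtain ⟨r, hr⟩ := (he y).exists_coeff (f.preimage_mono (inf_le_right : W x ⊓ W y ≤ W y))
      (res N (f.preimage_mono inf_le_left) (e x))
    by_cases hxy : x = y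
    · subst hxy
      exact ⟨1, by rw [map_one]; exact (one_smul _ _).symm⟩
    · have hle : W x ⊓ W y ≤ V := fun z hz => by
        rcases hWV x z hz.1 with h | h
        · exact h
        · rcases hWV y z hz.2 with h' | h'
          · exact h'
          · exact absurd (h.symm.trans h') hxy
      obtain ⟨η, rfl⟩ := (bijective_app_of_isIso_restrict f hle).2 r
      exact ⟨η, hr⟩
  choose η hη using hη0
  have hηr : ∀ (x y : X) (Z : X.Opens) (hZ : Z ≤ W x ⊓ W y),
      res N (f.preimage_mono (hZ.trans inf_le_left)) (e x) =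
        f.app Z (resX X hZ (η x y)) • res N (f.preimage_mono (hZ.trans inf_le_right)) (e y) := by
    intro x y Z hZ
    have h := congrArg (res N (f.preimage_mono hZ)) (hη x y)
    rw [res_res, res_smul, res_res] at h
    refine h.trans (congrArg (· • _) ?_)
    exact (ConcreteCategory.congr_hom (f.naturality (homOfLE hZ).op) (η x y)).symm
  have huniq : ∀ (y : X) (Z : X.Opens) (hZ : Z ≤ W y) (a b : Γ(X, Z)),
      f.app Z a • res N (f.preimage_mono hZ) (e y) = f.app Z b • res N (f.preimage_mono hZ) (e y) →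
        a = b :=
    fun y Z hZ a b h => hinj Z ((he y).smul_inj (f.preimage_mono hZ) h)
  have hunit : ∀ x y, IsUnit (η x y) := fun x y => by
    have h1 := hηr x y _ le_rfl
    have h2 := hηr y x (W x ⊓ W y) (inf_comm (W x) (W y)).le
    rw [resX_self] at h1
    rw [h2, smul_smul, ← map_mul] at h1
    refine IsUnit.of_mul_eq_one (resX X (inf_comm (W x) (W y)).le (η y x)) (huniq x _ inf_le_left _ 1 ?_)
    rw [map_one, one_smul]
    exact h1.symm
  obtain ⟨L, s, hs, hL, hrel⟩ := exists_module_of_cocycle W η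
    (top_le_iff.1 fun x _ => Opens.mem_iSup.2 ⟨x, hxW x⟩) hunit fun x y z => by
      refine huniq z _ inf_le_right _ _ ?_
      rw [map_mul, mul_smul]
      refine (hηr x z _ (inf_le_inf_right (W z) inf_le_left)).symm.trans ?_
      refine (hηr x y _ inf_le_left).trans ?_
      exact congrArg _ (hηr y z _ (inf_le_inf_right (W z) inf_le_right))
  refine ⟨L, hL, ?_⟩
  obtain ⟨φ, -⟩ := exists_iso_of_gen (L := (Scheme.Modules.pullback f).obj L) (M := N)
    (U := fun x => f ⁻¹ᵁ W x) (top_le_iff.1 fun z _ => Opens.mem_iSup.2 ⟨f z, hxW (f z)⟩)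
    (fun x => pullSec f L (s x)) (fun x => (hs x).pull f) e (fun x => he x) fun x y r hr => by
      have h1 : res ((Scheme.Modules.pullback f).obj L) (f.preimage_mono inf_le_left) (pullSec f L (s x)) =
          f.app (W x ⊓ W y) (η x y) • res ((Scheme.Modules.pullback f).obj L)
            (f.preimage_mono inf_le_right) (pullSec f L (s y)) := by
        rw [res_pullSec f L inf_le_left, res_pullSec f L inf_le_right, ← pullSec_smul, hrel]
      have h2 : r = f.app (W x ⊓ W y) (η x y) :=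
        ((hs y).pull f).smul_inj (f.preimage_mono inf_le_right) (hr.symm.trans h1)
      rw [h2]
      exact hη x y
  exact ⟨φ⟩

end Groth.LimNormPic
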