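import Groth.Agent.Limits.Components
import Groth.Agent.S4785

/-!
# Reducedness along systems of open immersions
-/

universe u

open CategoryTheory Limits AlgebraicGeometry

namespace Groth.Limits

/-- A stalk is reduced once the germs of generators of the nilradical of an affine open vanish. -/
theorem isReduced_stalk_of_germ_eq_zero {X : Scheme.{u}} {U : X.Opens} (hU : IsAffineOpen U)
    (G : Set Γ(X, U)) (hG : Ideal.span G = nilradical Γ(X, U)) (x : X) (hx : x ∈ U)
    (h : ∀ g ∈ G, X.presheaf.germ U x hx g = 0) : _root_.IsReduced (X.presheaf.stalk x) := by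
  letI := (X.presheaf.germ U x hx).hom.toAlgebra
  have hloc : IsLocalization.AtPrime (X.presheaf.stalk x) (hU.primeIdealOf ⟨x, hx⟩).asIdeal :=
    hU.isLocalization_stalk ⟨x, hx⟩
  refine ⟨fun z ⟨n, hn⟩ ↦ ?_⟩
  obtain ⟨⟨a, s⟩, hz⟩ := IsLocalization.surj (hU.primeIdealOf ⟨x, hx⟩).asIdeal.primeCompl z
  have ha : algebraMap Γ(X, U) (X.presheaf.stalk x) (a ^ n) = 0 := by
    rw [map_pow, ← hz, mul_pow, hn, zero_mul]
  obtain ⟨t, ht⟩ := (IsLocalization.map_eq_zero_iff
    (hU.primeIdealOf ⟨x, hx⟩).asIdeal.primeCompl _ _).mp ha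
  have hta : (t : Γ(X, U)) * a ∈ nilradical Γ(X, U) := mem_nilradical.mpr ⟨n + 1, by
    rw [mul_pow, pow_succ (t : Γ(X, U)), pow_succ a]
    linear_combination ((t : Γ(X, U)) ^ n * a) * ht⟩
  have h0 : nilradical Γ(X, U) ≤ RingHom.ker (algebraMap Γ(X, U) (X.presheaf.stalk x)) := by
    rw [← hG]
    exact Ideal.span_le.mpr fun g hg ↦ h g hg
  have hta0 := h0 hta
  rw [RingHom.mem_ker, map_mul, (IsLocalization.map_units _ t).mul_right_eq_zero] at hta0
  exact (IsLocalization.map_units _ s).mul_left_eq_zero.mp (hz.trans hta0)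

/-- An open subscheme is reduced where it kills generators of the nilradicals downstairs. -/
theorem isReduced_of_isOpenImmersion_of_app_eq_zero {X Y : Scheme.{u}} (f : X ⟶ Y)
    [IsOpenImmersion f] {κ : Type*} (U : κ → Y.Opens) (hU : ∀ a, IsAffineOpen (U a))
    (G : ∀ a, Set Γ(Y, U a)) (hG : ∀ a, Ideal.span (G a) = nilradical Γ(Y, U a))
    (hcov : ∀ x, ∃ a, f x ∈ U a) (h : ∀ a, ∀ g ∈ G a, f.app (U a) g = 0) : IsReduced X := by
  have : ∀ x, _root_.IsReduced (X.presheaf.stalk x) := fun x ↦ by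
    obtain ⟨a, ha⟩ := hcov x
    have := isReduced_stalk_of_germ_eq_zero (hU a) (G a) (hG a) (f x) ha fun g hg ↦ by
      refine (ConcreteCategory.bijective_of_isIso (f.stalkMap x)).1 ?_
      rw [Scheme.Hom.germ_stalkMap_apply, h a g hg, map_zero, map_zero]
    exact isReduced_of_injective (inv (f.stalkMap x)).hom
      (ConcreteCategory.bijective_of_isIso _).1
  exact isReduced_of_isReduced_stalk _

variable {I : Type u} [Category.{u} I] [IsCofiltered I] (D : I ⥤ Scheme.{u})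
  [∀ (i j : I) (f : i ⟶ j), IsAffineHom (D.map f)] (c : Cone D) (hc : IsLimit c)

omit [IsCofiltered I] [∀ (i j : I) (f : i ⟶ j), IsAffineHom (D.map f)] in
theorem app_map_comp_eq_zero {i k l : I} (q : l ⟶ k) (m : k ⟶ i) (U : (D.obj i).Opens)
    (g : Γ(D.obj i, U)) (h : (D.map m).app U g = 0) : (D.map (q ≫ m)).app U g = 0 := by
  rw [D.map_comp, Scheme.Hom.comp_app]
  exact (congrArg ((D.map q).app _) h).trans (map_zero _)

include hc in
theorem exists_app_eq_zero_of_nilradical (i₀ : I) (U : (D.obj i₀).Opens) (hU : IsAffineOpen U)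
    (G : Finset Γ(D.obj i₀, U))
    (hG : Ideal.span (G : Set Γ(D.obj i₀, U)) = nilradical Γ(D.obj i₀, U)) [IsReduced c.pt] :
    ∃ (k : I) (m : k ⟶ i₀), ∀ g ∈ G, (D.map m).app U g = 0 := by
  refine exists_forall_mem_of_finite (G := (G : Set Γ(D.obj i₀, U)))
    (fun g ⦃k⦄ (m : k ⟶ i₀) ↦ (D.map m).app U g = 0)
    (fun g k l m q h ↦ app_map_comp_eq_zero D q m U g h)
    G.finite_toSet fun g hg ↦ exists_app_map_eq_zero_of_isLimit D c hc hU.isCompact g ?_
  have h : IsNilpotent g := by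
    rw [← mem_nilradical, ← hG]
    exact Ideal.subset_span hg
  have : _root_.IsReduced Γ(c.pt, (c.π.app i₀ ⁻¹ᵁ U : c.pt.Opens)) := inferInstance
  exact @IsNilpotent.eq_zero _ _ _ _ this (h.map ((c.π.app i₀).app U).hom)

include hc in
/-- A reduced limit of open subschemes comes from reduced stages. -/
theorem exists_forall_isReduced_of_isOpenImmersion (i₀ : I) [CompactSpace (D.obj i₀)]
    (hoi : ∀ (i j : I) (φ : i ⟶ j), IsOpenImmersion (D.map φ))
    (hN : ∀ U : (D.obj i₀).affineOpens, (nilradical Γ(D.obj i₀, U)).FG) [IsReduced c.pt] :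
    ∃ (i : I) (_ : i ⟶ i₀), ∀ (j : I) (_ : j ⟶ i), IsReduced (D.obj j) := by
  classical
  let 𝒰 := (D.obj i₀).affineCover.finiteSubcover
  let U (a : 𝒰.I₀) : (D.obj i₀).Opens := (𝒰.f a).opensRange
  have hU (a : 𝒰.I₀) : IsAffineOpen (U a) := isAffineOpen_opensRange _
  choose G hG using fun a ↦ hN ⟨U a, hU a⟩
  obtain ⟨i, φ, hi⟩ := exists_forall_mem_of_finite (G := (Set.univ : Set 𝒰.I₀))
    (fun a ⦃k⦄ (m : k ⟶ i₀) ↦ ∀ g ∈ G a, (D.map m).app (U a) g = 0)
    (fun a k l m q h g hg ↦ app_map_comp_eq_zero D q m _ g (h g hg))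
    Set.finite_univ fun a _ ↦
      exists_app_eq_zero_of_nilradical D c hc i₀ (U a) (hU a) (G a) (hG a)
  refine ⟨i, φ, fun j ψ ↦ ?_⟩
  have := hoi j i₀ (ψ ≫ φ)
  refine isReduced_of_isOpenImmersion_of_app_eq_zero (D.map (ψ ≫ φ)) U hU (fun a ↦ G a) hG
    (fun y ↦ ⟨_, 𝒰.covers _⟩) fun a g hg ↦ ?_
  exact app_map_comp_eq_zero D ψ φ _ g (hi a trivial g hg)

include hc in
/-- A limit of eventually reduced open subschemes is reduced. -/
theorem isReduced_of_isOpenImmersion (hoi : ∀ (i j : I) (φ : i ⟶ j), IsOpenImmersion (D.map φ))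
    (i : I) [IsReduced (D.obj i)] : IsReduced c.pt := by
  have : ∀ s, _root_.IsReduced (c.pt.presheaf.stalk s) := fun s ↦ by
    have := (Groth.Agent.S4785.result D c hc hoi i).2 s
    exact isReduced_of_injective (inv ((c.π.app i).stalkMap s)).hom
      (ConcreteCategory.bijective_of_isIso _).1
  exact isReduced_of_isReduced_stalk _

end Groth.Limits
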