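import Groth.Agent.FlatMor2.AffineThickening
import Mathlib.AlgebraicGeometry.QuasiAffine

/-!
# A thickening of a quasi-affine scheme is quasi-affine

Powers of functions with affine non-vanishing locus lift along square zero thickenings.
-/

set_option backward.isDefEq.respectTransparency false
set_option backward.defeqAttrib.useBackward true

universe u

open AlgebraicGeometry CategoryTheory Limits TopologicalSpace Opposite

namespace Groth.Limits.QAffThickening

open Groth.FlatMor2 Groth.FlatMor2.SquareZero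

theorem pow_sub_pow_of_sq_zero {R : Type*} [CommRing R] {p q : R} (h : (p - q) * (p - q) = 0) :
    ∀ n : ℕ, p ^ (n + 1) - q ^ (n + 1) = (n + 1 : ℕ) * p ^ n * (p - q)
  | 0 => by simp
  | n + 1 => by
    have ih := pow_sub_pow_of_sq_zero h n
    push_cast at ih ⊢
    linear_combination q * ih - (n + 1 : R) * p ^ n * h

variable {X X' : Scheme.{u}} {i : X ⟶ X'}

theorem isQuasiSeparated_inf {U V : X'.Opens} (hU : IsAffineOpen U) :
    IsQuasiSeparated ((U ⊓ V : X'.Opens) : Set X') :=
  hU.isQuasiSeparated.of_subset Set.inter_subset_left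

/-- Sections of a compact open inside an affine open killed on a basic open are killed by a power. -/
theorem exists_pow_mul_eq_zero' {W : X'.Opens} (hW : IsCompact (W : Set X'))
    (hW' : IsQuasiSeparated (W : Set X')) (a : Γ(X', W)) {V : X'.Opens} (hV : V = X'.basicOpen a)
    {z : Γ(X', W)} (hz : res X' (hV.le.trans (X'.basicOpen_le a)) z = 0) : ∃ n, a ^ n * z = 0 := by
  subst hV
  letI : Algebra Γ(X', W) Γ(X', X'.basicOpen a) := (res X' (X'.basicOpen_le a)).toAlgebra
  have := isLocalization_basicOpen_of_qcqs hW hW' a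
  obtain ⟨n, hn⟩ := IsLocalization.Away.exists_of_eq (S := Γ(X', X'.basicOpen a)) a (a := z) (b := 0)
    (by simpa [RingHom.algebraMap_toAlgebra] using hz)
  exact ⟨n, by simpa using hn⟩

variable [IsClosedImmersion i] [Surjective i] [CompactSpace X'] [QuasiSeparatedSpace X']

set_option maxHeartbeats 1000000 in
/-- A power of a function with affine non-vanishing locus lifts along a square zero thickening. -/
theorem exists_lift_pow
    (hsq : ∀ (U : X'.Opens) (x y : Γ(X', U)), i.app U x = 0 → i.app U y = 0 → x * y = 0)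
    (g : Γ(X, ⊤)) {D : X'.Opens} (hD : IsAffineOpen D) (hDg : i ⁻¹ᵁ D = X.basicOpen g) :
    ∃ (n : ℕ) (f : Γ(X', ⊤)), 0 < n ∧ i.appTop f = g ^ n := by
  classical
  obtain ⟨t, ht⟩ := isCompact_univ.elim_finite_subcover (fun V : X'.affineOpens => (V.1 : Set X'))
    (fun V => V.1.2) (fun x _ => by
      obtain ⟨_, ⟨V, hV, rfl⟩, hx, -⟩ :=
        X'.isBasis_affineOpens.exists_subset_of_mem_open (Set.mem_univ x) isOpen_univ
      exact Set.mem_iUnion.mpr ⟨⟨V, hV⟩, hx⟩)
  let ι := {x // x ∈ t}
  let U : ι → X'.Opens := fun α => α.1.1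
  have hU : ∀ α, IsAffineOpen (U α) := fun α => α.1.2
  have hcov : (⊤ : X'.Opens) ≤ iSup U := fun x _ => by
    obtain ⟨y, hy, hxy⟩ := Set.mem_iUnion₂.mp (ht (Set.mem_univ x))
    exact Opens.mem_iSup.mpr ⟨⟨y, hy⟩, hxy⟩
  have hlift : ∀ α, ∃ z : Γ(X', U α), i.app (U α) z = res X le_top g := fun α =>
    i.app_surjective (U α) (hU α) _
  choose L hL using hlift
  obtain ⟨G, hG⟩ := i.app_surjective D hD (res X le_top g)
  have hLres : ∀ {α} {W : X'.Opens} (h : W ≤ U α), i.app W (res X' h (L α)) = res X le_top g := by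
    intro α W h; rw [app_res, hL, res_res]
  have hGres : ∀ {W : X'.Opens} (h : W ≤ D), i.app W (res X' h G) = res X le_top g := by
    intro W h; rw [app_res, hG, res_res]
  have hbo : ∀ α, U α ⊓ D = X'.basicOpen (L α) := fun α =>
    eq_of_preimage_eq (i := i) (by
      rw [i.preimage_inf, i.preimage_basicOpen, hL, Scheme.basicOpen_res, hDg])
  let a : ∀ α, Γ(X', U α ⊓ D) := fun α => res X' inf_le_left (L α) - res X' inf_le_right G
  have ha : ∀ α, i.app _ (a α) = 0 := fun α => by simp only [a, map_sub, hLres, hGres, sub_self]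
  have hd : ∀ α, ∃ (m : ℕ) (d : Γ(X', U α)), i.app _ d = 0 ∧
      res X' (inf_le_left (b := D)) d = res X' (inf_le_left (b := D)) (L α) ^ m * a α := by
    intro α
    obtain ⟨m, d, hd⟩ := exists_pow_mul_eq (hU α) (L α) (hbo α) (a α)
    have h0 : res X (i.preimage_mono (inf_le_left (b := D))) (i.app _ d) = 0 := by
      rw [← app_res i (inf_le_left (b := D)) d, hd, map_mul, ha, mul_zero]
    obtain ⟨k, hk⟩ := exists_pow_mul_eq_zero ((hU α).preimage i) (res X le_top g)
      (V := i ⁻¹ᵁ (U α ⊓ D)) (by rw [Scheme.basicOpen_res, i.preimage_inf, hDg]) h0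
    refine ⟨k + m, L α ^ k * d, by rw [map_mul, map_pow, hL, hk], ?_⟩
    rw [map_mul, map_pow, hd, pow_add, mul_assoc]
  choose m0 d0 hd0 hd0' using hd
  let m := Finset.univ.sup m0
  let d : ∀ α, Γ(X', U α) := fun α => L α ^ (m - m0 α) * d0 α
  have hd : ∀ α, i.app _ (d α) = 0 := fun α => by simp only [d, map_mul, hd0, mul_zero]
  have hd' : ∀ α {W : X'.Opens} (hW : W ≤ U α ⊓ D),
      res X' (hW.trans inf_le_left) (d α) =
        res X' (hW.trans inf_le_left) (L α) ^ m * res X' hW (a α) := by
    intro α W hW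
    rw [← res_res hW inf_le_left, ← res_res hW inf_le_left, ← map_pow, ← map_mul]
    congr 1
    simp only [d, map_mul, map_pow, hd0']
    rw [← mul_assoc, ← pow_add, Nat.sub_add_cancel (Finset.le_sup (f := m0) (Finset.mem_univ α))]
  let c : ∀ α β, Γ(X', U α ⊓ U β) := fun α β =>
    res X' inf_le_left (L α) ^ m * (res X' inf_le_left (L α) - res X' inf_le_right (L β))
      - (res X' inf_le_left (d α) - res X' inf_le_right (d β))
  have hM : ∀ α β, ∃ M, res X' (inf_le_left (b := U β)) (L α) ^ M * c α β = 0 := by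
    intro α β
    refine exists_pow_mul_eq_zero'
      (QuasiSeparatedSpace.inter_isCompact (U α).1 (U β).1 (U α).2 (hU α).isCompact (U β).2
        (hU β).isCompact)
      (isQuasiSeparated_inf (hU α)) _ (V := U α ⊓ U β ⊓ D)
      (by rw [Scheme.basicOpen_res, ← hbo α]; apply Opens.ext; ext; simp; tauto) ?_
    have l1 : U α ⊓ U β ⊓ D ≤ U α ⊓ D := inf_le_inf_right _ inf_le_left
    have l2 : U α ⊓ U β ⊓ D ≤ U β ⊓ D := inf_le_inf_right _ inf_le_right
    simp only [c, map_sub, map_mul, map_pow, res_res]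
    rw [hd' α l1, hd' β l2,
      lift_mul_eq hsq (p := res X' (l2.trans inf_le_left) (L β) ^ m)
        (q := res X' (l1.trans inf_le_left) (L α) ^ m) (by simp only [map_pow, hLres])
        (by rw [app_res, ha, map_zero])]
    simp only [a, map_sub, res_res]
    ring
  choose M0 hM0 using hM
  let M := (Finset.univ : Finset (ι × ι)).sup fun p => M0 p.1 p.2
  let n := m + M + 1
  let s : ∀ α, Γ(X', U α) := fun α => L α ^ n - (n : Γ(X', U α)) * (L α ^ M * d α)
  have hs : TopCat.Presheaf.IsCompatible X'.sheaf.obj U s := by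
    intro α β
    show res X' inf_le_left (s α) = res X' inf_le_right (s β)
    have hMc : res X' (inf_le_left (b := U β)) (L α) ^ M * c α β = 0 := by
      obtain ⟨k, hk⟩ := Nat.exists_eq_add_of_le
        (Finset.le_sup (f := fun p : ι × ι => M0 p.1 p.2) (Finset.mem_univ (α, β)))
      rw [show M = k + M0 α β by rw [add_comm]; exact hk, pow_add, mul_assoc, hM0, mul_zero]
    have hp := pow_sub_pow_of_sq_zero
      (p := res X' (inf_le_left (b := U β)) (L α)) (q := res X' inf_le_right (L β))
      (hsq _ _ _ (by simp only [map_sub, hLres, sub_self]) (by simp only [map_sub, hLres, sub_self]))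
      (m + M)
    have hdb : res X' (inf_le_right (a := U α)) (L β) ^ M * res X' inf_le_right (d β) =
        res X' inf_le_left (L α) ^ M * res X' inf_le_right (d β) :=
      lift_mul_eq hsq (by simp only [map_pow, hLres]) (by rw [app_res, hd, map_zero])
    simp only [c] at hMc
    simp only [s, n, map_sub, map_mul, map_pow, map_natCast]
    rw [hdb]
    push_cast at hp ⊢
    linear_combination hp + (m + M + 1 : Γ(X', U α ⊓ U β)) * hMc
  obtain ⟨f, hf, -⟩ := X'.sheaf.existsUnique_gluing' U ⊤ (fun α => homOfLE le_top) hcov s hs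
  refine ⟨n, f, Nat.succ_pos _, eq_of_res (U := fun α => i ⁻¹ᵁ U α) (fun α => le_top) ?_ fun α => ?_⟩
  · intro x _
    obtain ⟨α, hα⟩ := Opens.mem_iSup.mp (hcov (Set.mem_univ (i x)))
    exact Opens.mem_iSup.mpr ⟨α, hα⟩
  · refine (app_res i (le_top : U α ≤ ⊤) f).symm.trans ?_
    have : res X' (le_top : U α ≤ ⊤) f = s α := hf α
    rw [this]
    simp only [s, map_sub, map_mul, map_pow, hd, mul_zero, sub_zero, hL]

omit [CompactSpace X'] [QuasiSeparatedSpace X'] in
/-- A square zero thickening of a quasi-affine scheme is quasi-affine. -/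
theorem isQuasiAffine_of_ker_sq_eq_bot (i : X ⟶ X') [IsClosedImmersion i] [Surjective i]
    [X.IsQuasiAffine] (h : i.ker * i.ker = ⊥) : X'.IsQuasiAffine := by
  have : CompactSpace X' := ⟨by
    rw [← Set.image_univ_of_surjective i.surjective]; exact isCompact_univ.image i.continuous⟩
  have : QuasiSeparatedSpace X' := by
    rw [quasiSeparatedSpace_iff_quasiSeparated]
    have : QuasiSeparated (i ≫ terminal.from X') := by
      rw [terminal.comp_from, ← quasiSeparatedSpace_iff_quasiSeparated]; infer_instance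
    exact quasiSeparated_of_comp_surjective i _
  have hsq : ∀ (U : X'.Opens) (x y : Γ(X', U)), i.app U x = 0 → i.app U y = 0 → x * y = 0 :=
    fun U x y hx hy => eq_zero_of_res_affine fun W hW hWa => by
      have hk : ∀ z : Γ(X', U), i.app U z = 0 →
          X'.presheaf.map (homOfLE hW).op z ∈ i.ker.ideal ⟨W, hWa⟩ := fun z hz => by
        rw [Scheme.Hom.ker_apply, RingHom.mem_ker]
        exact (congr($(i.naturality (homOfLE hW).op) z)).trans
          ((congrArg (X.presheaf.map _).hom hz).trans (map_zero _))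
      have hbot : i.ker.ideal ⟨W, hWa⟩ * i.ker.ideal ⟨W, hWa⟩ = ⊥ := by
        rw [← Pi.mul_apply (f := i.ker.ideal), ← Scheme.IdealSheafData.ideal_mul, h]
        simp
      have := Ideal.mul_mem_mul (hk x hx) (hk y hy)
      rw [hbot, Ideal.mem_bot] at this
      rw [map_mul]
      exact this
  refine .of_forall_exists_mem_basicOpen _ fun x => ?_
  obtain ⟨y, rfl⟩ := i.surjective x
  obtain ⟨_, ⟨_, ⟨g, hg, rfl⟩, rfl⟩, hyg, -⟩ :=
    (Scheme.IsQuasiAffine.isBasis_basicOpen X).exists_subset_of_mem_open (Set.mem_univ y) isOpen_univ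
  obtain ⟨D, hDg⟩ : ∃ D : X'.Opens, i ⁻¹ᵁ D = X.basicOpen g := by
    obtain ⟨V, hV, hVg⟩ := i.isEmbedding.isInducing.isOpen_iff.1 (X.basicOpen g).2
    exact ⟨⟨V, hV⟩, Opens.ext hVg⟩
  have hD : IsAffineOpen D := by
    have : IsAffine (i ⁻¹ᵁ D : Scheme.{u}) := by rw [hDg]; exact hg
    have : IsClosedImmersion (i ∣_ D) :=
      MorphismProperty.of_isPullback (isPullback_morphismRestrict i D).flip inferInstance
    have : Surjective (i ∣_ D) :=
      MorphismProperty.of_isPullback (isPullback_morphismRestrict i D).flip inferInstance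
    exact isAffine_of_surjective_closedImmersion (i ∣_ D)
  obtain ⟨n, f, hn, hf⟩ := exists_lift_pow hsq g hD hDg
  have hfD : X'.basicOpen f = D := eq_of_preimage_eq (i := i) (by
    rw [Scheme.preimage_basicOpen_top, hf, Scheme.basicOpen_pow _ _ hn, hDg])
  refine ⟨f, hfD ▸ hD, ?_⟩
  rw [hfD]
  exact hDg.ge hyg

omit [CompactSpace X'] [QuasiSeparatedSpace X'] in
theorem isQuasiAffine_of_ker_pow_eq_bot (n : ℕ) : ∀ {X : Scheme.{u}} (i : X ⟶ X') [IsClosedImmersion i]
    [Surjective i] [X.IsQuasiAffine], i.ker ^ (2 ^ n) = ⊥ → X'.IsQuasiAffine := by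
  induction n generalizing X' with
  | zero =>
    intro X i _ _ _ h
    apply isQuasiAffine_of_ker_sq_eq_bot i
    rw [pow_zero, pow_one] at h
    ext U
    simp [h]
  | succ n ih =>
    intro X i _ _ _ h
    let K := i.ker
    let L := K ^ (2 ^ n)
    have hle : L.subschemeι.ker ≤ i.ker := by
      rw [Scheme.IdealSheafData.ker_subschemeι]
      intro U
      show (K.ideal ^ 2 ^ n) U ≤ K.ideal U
      rw [Pi.pow_apply]
      exact Ideal.pow_le_self (by positivity)
    let j := IsClosedImmersion.lift L.subschemeι i hle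
    have hj : j ≫ L.subschemeι = i := IsClosedImmersion.lift_fac _ _ hle
    have : IsClosedImmersion (j ≫ L.subschemeι) := by rw [hj]; infer_instance
    have : IsClosedImmersion j := IsClosedImmersion.of_comp j L.subschemeι
    have : Surjective L.subschemeι := by
      have : Surjective (j ≫ L.subschemeι) := by rw [hj]; infer_instance
      exact Surjective.of_comp j _
    have : Surjective j := ⟨fun y => by
      obtain ⟨x, hx⟩ := i.surjective (L.subschemeι y)
      refine ⟨x, L.subschemeι.isClosedEmbedding.injective ?_⟩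
      rw [← hx, ← Scheme.Hom.comp_apply, hj]⟩
    -- the kernel of `j` has `2 ^ n`-th power zero
    have hjn : j.ker ^ (2 ^ n) = ⊥ := by
      refine Scheme.IdealSheafData.ext_of_iSup_eq_top
        (fun W : X'.affineOpens => ⟨L.subschemeι ⁻¹ᵁ W.1, W.2.preimage _⟩) ?_ fun W => ?_
      · exact IsOpenCover.comap (iSup_affineOpens_eq_top X') _
      have hsub : j.ker.ideal ⟨L.subschemeι ⁻¹ᵁ W.1, W.2.preimage _⟩ ≤
          (K.ideal W).map (L.subschemeι.app W.1).hom := by
        intro z hz
        rw [Scheme.Hom.ker_apply, RingHom.mem_ker] at hz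
        obtain ⟨w, rfl⟩ := L.subschemeι.app_surjective W.1 W.2 z
        refine Ideal.mem_map_of_mem _ ?_
        rw [Scheme.Hom.ker_apply, RingHom.mem_ker]
        have := congr($(Scheme.Hom.congr_app hj.symm W.1) w)
        refine this.trans ?_
        rw [Scheme.Hom.comp_app]
        exact (congrArg (X.presheaf.map _).hom hz).trans (map_zero _)
      rw [Scheme.IdealSheafData.ideal_pow, Pi.pow_apply, Scheme.IdealSheafData.ideal_bot, Pi.bot_apply,
        eq_bot_iff]
      refine (Ideal.pow_right_mono hsub _).trans ?_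
      rw [← Ideal.map_pow, Ideal.map_le_iff_le_comap]
      intro w hw
      rw [Ideal.mem_comap, Ideal.mem_bot, ← RingHom.mem_ker, ← Scheme.Hom.ker_apply,
        Scheme.IdealSheafData.ker_subschemeι]
      exact hw
    have : L.subscheme.IsQuasiAffine := ih (X' := L.subscheme) j hjn
    apply isQuasiAffine_of_ker_sq_eq_bot L.subschemeι
    rw [Scheme.IdealSheafData.ker_subschemeι, ← pow_add, ← two_mul, ← pow_succ']
    exact h

omit [CompactSpace X'] [QuasiSeparatedSpace X'] in
/-- If `i : X ⟶ X'` is a surjective closed immersion and `X` is quasi-affine, so is `X'`. -/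
theorem isQuasiAffine_of_surjective_closedImmersion (i : X ⟶ X') [IsClosedImmersion i] [Surjective i]
    [X.IsQuasiAffine] : X'.IsQuasiAffine := by
  have : CompactSpace X' := ⟨by
    rw [← Set.image_univ_of_surjective i.surjective]; exact isCompact_univ.image i.continuous⟩
  have : QuasiSeparatedSpace X' := by
    rw [quasiSeparatedSpace_iff_quasiSeparated]
    have : QuasiSeparated (i ≫ terminal.from X') := by
      rw [terminal.comp_from, ← quasiSeparatedSpace_iff_quasiSeparated]; infer_instance
    exact quasiSeparated_of_comp_surjective i _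
  let Λ := {K : X'.IdealSheafData // K ≤ i.ker ∧ ∃ n, K ^ (2 ^ n) = ⊥}
  have : Nonempty Λ := ⟨⟨⊥, bot_le, 0, pow_one _⟩⟩
  have : IsDirected Λ (· ≤ ·) := ⟨fun K L => by
    obtain ⟨m, hm⟩ := K.2.2
    obtain ⟨n, hn⟩ := L.2.2
    refine ⟨⟨K.1 ⊔ L.1, sup_le K.2.1 L.2.1, 2 ^ m + 2 ^ n, ?_⟩, (le_sup_left : K.1 ≤ _), (le_sup_right : L.1 ≤ _)⟩
    ext U : 2
    rw [Scheme.IdealSheafData.ideal_pow, Pi.pow_apply, Scheme.IdealSheafData.ideal_sup, Pi.sup_apply,
      Scheme.IdealSheafData.ideal_bot, Pi.bot_apply, eq_bot_iff]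
    have hm' : K.1.ideal U ^ 2 ^ m = ⊥ := congr(($hm).ideal U)
    have hn' : L.1.ideal U ^ 2 ^ n = ⊥ := congr(($hn).ideal U)
    refine (Ideal.pow_le_pow_right Nat.lt_two_pow_self.le).trans ?_
    refine Ideal.sup_pow_add_le_pow_sup_pow.trans ?_
    rw [hm', hn', sup_idem]⟩
  let D : Λᵒᵖ ⥤ Scheme.{u} :=
    { obj := fun K => K.unop.1.subscheme
      map := fun f => Scheme.IdealSheafData.inclusion f.unop.le
      map_id := fun K => Scheme.IdealSheafData.inclusion_id _
      map_comp := fun f g => (Scheme.IdealSheafData.inclusion_comp _ _).symm }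
  let c : Cone D :=
    { pt := X
      π :=
        { app := fun K => IsClosedImmersion.lift K.unop.1.subschemeι i
            (by rw [Scheme.IdealSheafData.ker_subschemeι]; exact K.unop.2.1)
          naturality := fun K L f => by
            rw [← cancel_mono L.unop.1.subschemeι]
            simp [D] } }
  have hb : ∀ (s : Cone D) (K : Λᵒᵖ), s.π.app K ≫ K.unop.1.subschemeι =
      s.π.app (op ⟨⊥, bot_le, 0, pow_one _⟩) ≫ (⊥ : X'.IdealSheafData).subschemeι := fun s K => by
    rw [← s.w (homOfLE (bot_le : (⊥ : X'.IdealSheafData) ≤ K.unop.1) :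
      (⟨⊥, bot_le, 0, pow_one _⟩ : Λ) ⟶ K.unop).op]
    simp [D]
  let b : ∀ s : Cone D, s.pt ⟶ X' := fun s =>
    s.π.app (op ⟨⊥, bot_le, 0, pow_one _⟩) ≫ (⊥ : X'.IdealSheafData).subschemeι
  have hker : ∀ s : Cone D, i.ker ≤ (b s).ker := fun s W z hz => by
    obtain ⟨K, hK, hn, hzK⟩ := exists_nilpotent_le_ker i W z hz
    have h1 : K ≤ (b s).ker := by
      rw [show b s = s.π.app (op ⟨K, hK, hn⟩) ≫ K.subschemeι from (hb s (op ⟨K, hK, hn⟩)).symm]
      exact K.ker_subschemeι.ge.trans (Scheme.Hom.le_ker_comp _ _)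
    exact h1 W hzK
  let hc : IsLimit c :=
    { lift := fun s => IsClosedImmersion.lift i (b s) (hker s)
      fac := fun s K => by
        rw [← cancel_mono K.unop.1.subschemeι]
        simp [c, hb s K, b]
      uniq := fun s m hm => by
        rw [← cancel_mono i, IsClosedImmersion.lift_fac]
        simp only [b, ← hm, c, Category.assoc, IsClosedImmersion.lift_fac] }
  have : ∀ {K L : Λᵒᵖ} (f : K ⟶ L), IsAffineHom (D.map f) := fun {K L} f => by
    have : IsClosedImmersion (D.map f ≫ L.unop.1.subschemeι) := by simp [D]; infer_instance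
    have : IsClosedImmersion (D.map f) := IsClosedImmersion.of_comp _ L.unop.1.subschemeι
    infer_instance
  have : ∀ K : Λᵒᵖ, CompactSpace (D.obj K) := fun K =>
    QuasiCompact.compactSpace_of_compactSpace K.unop.1.subschemeι
  have : ∀ K : Λᵒᵖ, QuasiSeparatedSpace (D.obj K) := fun K =>
    quasiSeparatedSpace_of_quasiSeparated K.unop.1.subschemeι
  have : c.pt.IsQuasiAffine := ‹_›
  obtain ⟨K, hK⟩ := Scheme.exists_isQuasiAffine_of_isLimit D c hc
  obtain ⟨n, hn⟩ := K.unop.2.2
  have : Surjective K.unop.1.subschemeι := by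
    have : Surjective (c.π.app K ≫ K.unop.1.subschemeι) := by simp [c]; infer_instance
    exact Surjective.of_comp (c.π.app K) _
  have : K.unop.1.subscheme.IsQuasiAffine := hK
  exact isQuasiAffine_of_ker_pow_eq_bot n K.unop.1.subschemeι (by rwa [Scheme.IdealSheafData.ker_subschemeι])


end Groth.Limits.QAffThickening
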