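import Mathlib.RingTheory.RingHom.FiniteType
import Mathlib.RingTheory.RingHom.Finite
import Mathlib.RingTheory.IntegralClosure.IsIntegral.Basic
import Mathlib.Algebra.Category.Ring.Constructions
import Mathlib.RingTheory.TensorProduct.Basic

/-!
# Ring lemmas for descending closed immersions and finite morphisms along limits
-/

universe u

open CategoryTheory

namespace Groth.Limits

theorem closure_range_union_range_eq_top_of_isPushout {R A B C : CommRingCat.{u}} {f : R ⟶ A}
    {g : R ⟶ B} {a : A ⟶ C} {b : B ⟶ C} (h : IsPushout f g a b) :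
    Subring.closure (Set.range a ∪ Set.range b) = ⊤ := by
  algebraize [f.hom, g.hom]
  have ht := CommRingCat.isPushout_tensorProduct R A B
  have h' : IsPushout (CommRingCat.ofHom (algebraMap R A)) (CommRingCat.ofHom (algebraMap R B)) a b :=
    h
  let e := ht.isoIsPushout _ _ h'
  have hl := IsPushout.inl_isoIsPushout_hom _ _ ht h'
  have hr := IsPushout.inr_isoIsPushout_hom _ _ ht h'
  have key := congrArg (Subring.map e.hom.hom)
    (Algebra.TensorProduct.closure_range_union_range_eq_top R A B)
  rw [RingHom.map_closure, Set.image_union, ← Set.range_comp, ← Set.range_comp,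
    ← RingHom.range_eq_map, RingHom.range_eq_top.mpr e.commRingCatIsoToRingEquiv.surjective] at key
  convert! key using 3
  · exact congrArg Set.range (congrArg (fun m : A ⟶ C ↦ (m : A → C)) hl.symm)
  · exact congrArg Set.range (congrArg (fun m : B ⟶ C ↦ (m : B → C)) hr.symm)

variable {B A B' A' C : Type u} [CommRing B] [CommRing A] [CommRing B'] [CommRing A'] [CommRing C]
  (a : B →+* A) (b : B →+* B') (a' : B' →+* A') (m : A →+* A') (ψ : C →+* A') (cA : A →+* C)
  (cB : B' →+* C)

/-- A finite-type map becomes surjective once the images of its generators lie in the image. -/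
theorem surjective_of_generators (hsq : m.comp a = a'.comp b)
    (hA : ψ.comp cA = m) (hB : ψ.comp cB = a')
    (hC : Subring.closure (Set.range cA ∪ Set.range cB) = ⊤) (hψ : Function.Surjective ψ)
    (G : Set A) (hG : Subring.closure (Set.range a ∪ G) = ⊤) (h : ∀ g ∈ G, m g ∈ a'.range) :
    Function.Surjective a' := by
  rw [← RingHom.range_eq_top, eq_top_iff, ← RingHom.range_eq_top.mpr hψ]
  rintro _ ⟨x, rfl⟩
  have hm : ∀ y, m y ∈ a'.range := fun y ↦ by
    have : Subring.closure (Set.range a ∪ G) ≤ a'.range.comap m := Subring.closure_le.mpr <| by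
      rintro z (⟨z, rfl⟩ | hz)
      · exact ⟨b z, (DFunLike.congr_fun hsq z).symm⟩
      · exact h z hz
    exact this (hG ▸ Subring.mem_top y)
  have : Subring.closure (Set.range cA ∪ Set.range cB) ≤ a'.range.comap ψ :=
    Subring.closure_le.mpr <| by
      rintro z (⟨z, rfl⟩ | ⟨z, rfl⟩)
      · simpa [← hA] using hm z
      · exact ⟨z, (DFunLike.congr_fun hB z).symm⟩
  exact this (hC ▸ Subring.mem_top x)

/-- A finite-type map becomes finite once the images of its generators are integral. -/
theorem finite_of_generators (hsq : m.comp a = a'.comp b)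
    (hA : ψ.comp cA = m) (hB : ψ.comp cB = a')
    (hC : Subring.closure (Set.range cA ∪ Set.range cB) = ⊤) (hψ : ψ.Finite)
    (G : Set A) (hGf : G.Finite) (hG : Subring.closure (Set.range a ∪ G) = ⊤)
    (h : ∀ g ∈ G, a'.IsIntegralElem (m g)) : a'.Finite := by
  algebraize [a']
  let S : Subalgebra B' A' := Algebra.adjoin B' (m '' G)
  have hS : Module.Finite B' S := Algebra.finite_adjoin_of_finite_of_isIntegral (hGf.image m)
    (by rintro _ ⟨g, hg, rfl⟩; exact h g hg)
  have hm : ∀ y, m y ∈ S := fun y ↦ by
    have : Subring.closure (Set.range a ∪ G) ≤ S.toSubring.comap m := Subring.closure_le.mpr <| by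
      rintro z (⟨z, rfl⟩ | hz)
      · change m (a z) ∈ S
        rw [show m (a z) = a' (b z) from DFunLike.congr_fun hsq z]
        exact S.algebraMap_mem _
      · exact Algebra.subset_adjoin ⟨z, hz, rfl⟩
    exact this (hG ▸ Subring.mem_top y)
  have hx : ∀ x, ψ x ∈ S.toSubring := fun x ↦ by
    have : Subring.closure (Set.range cA ∪ Set.range cB) ≤ S.toSubring.comap ψ :=
      Subring.closure_le.mpr <| by
        rintro z (⟨z, rfl⟩ | ⟨z, rfl⟩)
        · change ψ (cA z) ∈ S
          rw [show ψ (cA z) = m z from DFunLike.congr_fun hA z]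
          exact hm z
        · change ψ (cB z) ∈ S
          rw [show ψ (cB z) = a' z from DFunLike.congr_fun hB z]
          exact S.algebraMap_mem _
    exact this (hC ▸ Subring.mem_top x)
  have hval : S.val.toRingHom.Finite :=
    RingHom.Finite.of_comp_finite (f := ψ.codRestrict S.toSubring hx)
      (show (S.val.toRingHom.comp (ψ.codRestrict S.toSubring hx)).Finite from hψ)
  have hfin : (algebraMap B' S).Finite := RingHom.finite_algebraMap.mpr hS
  exact hval.comp hfin

theorem exists_finite_closure_eq_top (ha : a.FiniteType) :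
    ∃ G : Set A, G.Finite ∧ Subring.closure (Set.range a ∪ G) = ⊤ := by
  algebraize [a]
  obtain ⟨s, hs⟩ := Algebra.FiniteType.out (R := B) (A := A)
  refine ⟨s, s.finite_toSet, ?_⟩
  rw [← RingHom.algebraMap_toAlgebra a, ← Algebra.adjoin_eq_ring_closure, hs]
  rfl

end Groth.Limits
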