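import Groth.Agent.Limits.OpenPullback
import Mathlib.AlgebraicGeometry.AffineSpace
import Mathlib.AlgebraicGeometry.PullbackCarrier
import Mathlib.LinearAlgebra.TensorProduct.Finiteness

/-!
# Openness of images in base changes
-/

set_option backward.isDefEq.respectTransparency false
set_option backward.defeqAttrib.useBackward true

universe u

open CategoryTheory Limits AlgebraicGeometry TensorProduct

namespace Groth.Limits

/-- In a cartesian square, the image of a preimage is the preimage of the image. -/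
theorem image_preimage_of_isPullback {P X Y S : Scheme.{u}} {fst : P ⟶ X} {snd : P ⟶ Y}
    {f : X ⟶ S} {g : Y ⟶ S} (h : IsPullback fst snd f g) (V : Set X) :
    ⇑snd '' (⇑fst ⁻¹' V) = ⇑g ⁻¹' (⇑f '' V) := by
  ext y
  constructor
  · rintro ⟨z, hz, rfl⟩
    exact ⟨fst z, hz, by rw [← Scheme.Hom.comp_apply, h.w, Scheme.Hom.comp_apply]⟩
  · rintro ⟨x, hx, hxy⟩
    obtain ⟨z, hz₁, hz₂⟩ := Scheme.Pullback.exists_preimage_pullback x y hxy
    refine ⟨h.isoPullback.inv z, ?_, ?_⟩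
    · rw [Set.mem_preimage, ← Scheme.Hom.comp_apply, h.isoPullback_inv_fst, hz₁]
      exact hx
    · rw [← Scheme.Hom.comp_apply, h.isoPullback_inv_snd, hz₂]

theorem isPullback_comp_mono {P X Y S S' : Scheme.{u}} {fst : P ⟶ X} {snd : P ⟶ Y}
    {f : X ⟶ S} {g : Y ⟶ S} (h : IsPullback fst snd f g) (j : S ⟶ S') [Mono j] :
    IsPullback fst snd (f ≫ j) (g ≫ j) :=
  ⟨⟨by rw [reassoc_of% h.w]⟩, ⟨PullbackCone.IsLimit.mk _
    (fun s ↦ h.lift s.fst s.snd (by simpa [← cancel_mono j] using s.condition))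
    (fun s ↦ h.lift_fst _ _ _) (fun s ↦ h.lift_snd _ _ _)
    (fun s m h₁ h₂ ↦ h.hom_ext (by simpa using h₁) (by simpa using h₂))⟩⟩

section

variable {A B C : CommRingCat.{u}} [Algebra A B] [Algebra A C]

/-- Every section of a fibre product of affine schemes comes from a product with an affine space. -/
theorem exists_polynomial_preimage (a : C ⊗[A] B) :
    ∃ (n : ℕ) (_ : 0 < n) (φ : MvPolynomial (ULift.{u} (Fin n)) A →ₐ[A] B)
      (a' : C ⊗[A] MvPolynomial (ULift.{u} (Fin n)) A),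
      Algebra.TensorProduct.map (AlgHom.id A C) φ a' = a := by
  classical
  obtain ⟨S, rfl⟩ := TensorProduct.exists_finset a
  let e := S.equivFin
  let b (i : ULift.{u} (Fin (S.card + 1))) : B :=
    if h : i.down.1 < S.card then (e.symm ⟨i.down.1, h⟩).1.2 else 0
  refine ⟨S.card + 1, Nat.succ_pos _, MvPolynomial.aeval b,
    ∑ s : S, s.1.1 ⊗ₜ MvPolynomial.X ⟨(e s).castSucc⟩, ?_⟩
  rw [map_sum, ← Finset.sum_coe_sort S]
  refine Finset.sum_congr rfl fun s _ ↦ ?_
  simp [b]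

/-- Images of small opens in an affine base change are open if images in affine spaces are. -/
theorem exists_isOpen_image_of_polynomial
    (H : ∀ n : ℕ, 0 < n → IsOpenMap ⇑(Spec.map (CommRingCat.ofHom
      (Algebra.TensorProduct.includeRight.toRingHom :
        MvPolynomial (ULift.{u} (Fin n)) A →+* C ⊗[A] MvPolynomial (ULift.{u} (Fin n)) A))))
    (z : Spec (CommRingCat.of (C ⊗[A] B))) (O : (Spec (CommRingCat.of (C ⊗[A] B))).Opens)
    (hz : z ∈ O) :
    ∃ W : Set (Spec (CommRingCat.of (C ⊗[A] B))), z ∈ W ∧ W ⊆ O ∧ IsOpen (⇑(Spec.map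
      (CommRingCat.ofHom (Algebra.TensorProduct.includeRight.toRingHom :
        B →+* C ⊗[A] B))) '' W) := by
  obtain ⟨_, ⟨a, rfl⟩, hza, haO⟩ :=
    PrimeSpectrum.isTopologicalBasis_basic_opens.exists_subset_of_mem_open hz O.2
  obtain ⟨n, hn, φ, a', rfl⟩ := exists_polynomial_preimage a
  let R := CommRingCat.of (MvPolynomial (ULift.{u} (Fin n)) A)
  let ψ : R ⟶ B := CommRingCat.ofHom φ.toRingHom
  let m : CommRingCat.of (C ⊗[A] R) ⟶ CommRingCat.of (C ⊗[A] B) :=
    CommRingCat.ofHom (Algebra.TensorProduct.map (AlgHom.id A C) φ).toRingHom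
  have hB := isPullback_SpecMap_of_isPushout _ _ _ _ (CommRingCat.isPushout_tensorProduct A C B)
  have hR := isPullback_SpecMap_of_isPushout _ _ _ _ (CommRingCat.isPushout_tensorProduct A C R)
  have hsq : IsPullback (Spec.map m)
      (Spec.map (CommRingCat.ofHom (Algebra.TensorProduct.includeRight.toRingHom :
        B →+* C ⊗[A] B)))
      (Spec.map (CommRingCat.ofHom (Algebra.TensorProduct.includeRight.toRingHom :
        R →+* C ⊗[A] R))) (Spec.map ψ) := by
    refine IsPullback.of_right ?_ ?_ hR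
    · have e₁ : Spec.map m ≫ Spec.map (CommRingCat.ofHom
          (Algebra.TensorProduct.includeLeftRingHom : C →+* C ⊗[A] R)) =
          Spec.map (CommRingCat.ofHom (Algebra.TensorProduct.includeLeftRingHom : C →+* C ⊗[A] B)) := by
        rw [← Spec.map_comp]
        congr 1
        ext x
        simp [m]
      have e₂ : Spec.map ψ ≫ Spec.map (CommRingCat.ofHom (algebraMap A R)) =
          Spec.map (CommRingCat.ofHom (algebraMap A B)) := by
        rw [← Spec.map_comp]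
        congr 1
        ext x
        exact φ.commutes x
      rw [e₁, e₂]
      exact hB
    · rw [← Spec.map_comp, ← Spec.map_comp]
      congr 1
  refine ⟨⇑(Spec.map m) ⁻¹' ((PrimeSpectrum.basicOpen a' :) : Set (PrimeSpectrum (C ⊗[A] R))),
    hza, haO, ?_⟩
  rw [image_preimage_of_isPullback hsq]
  exact ((H n hn) _ (PrimeSpectrum.basicOpen a').isOpen).preimage (Spec.map ψ).continuous

end

/-- S4780 -/
theorem universallyOpen_of_affineSpace {X Y : Scheme.{u}} (f : X ⟶ Y)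
    (h : ∀ n : ℕ, 0 < n →
      IsOpenMap ⇑(pullback.snd f (AffineSpace (ULift.{u} (Fin n)) Y ↘ Y))) :
    UniversallyOpen f := by
  rw [universallyOpen_iff_pullback_snd]
  intro T a O hO
  refine isOpen_iff_forall_mem_open.mpr ?_
  rintro _ ⟨p, hp, rfl⟩
  -- affine charts
  obtain ⟨U, hU, hxU, -⟩ := exists_isAffineOpen_mem_and_subset (U := (⊤ : Y.Opens))
    (Set.mem_univ (f (pullback.fst f a p)))
  obtain ⟨W, hW, hxW, hWU⟩ := exists_isAffineOpen_mem_and_subset (U := f ⁻¹ᵁ U) hxU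
  have hpT : a (pullback.snd f a p) ∈ U := by
    rw [← Scheme.Hom.comp_apply, ← pullback.condition, Scheme.Hom.comp_apply]
    exact hxU
  obtain ⟨V, hV, hxV, hVU⟩ := exists_isAffineOpen_mem_and_subset (U := a ⁻¹ᵁ U) hpT
  let α := f.appLE U W hWU
  let β := a.appLE U V hVU
  letI := α.hom.toAlgebra
  letI := β.hom.toAlgebra
  have hα : Spec.map α ≫ hU.fromSpec = hW.fromSpec ≫ f :=
    IsAffineOpen.SpecMap_appLE_fromSpec f hU hW hWU
  have hβ : Spec.map β ≫ hU.fromSpec = hV.fromSpec ≫ a :=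
    IsAffineOpen.SpecMap_appLE_fromSpec a hU hV hVU
  have hsq := isPullback_comp_mono (isPullback_SpecMap_of_isPushout _ _ _ _
    (CommRingCat.isPushout_tensorProduct Γ(Y, U) Γ(X, W) Γ(T, V))) hU.fromSpec
  change IsPullback _ _ (Spec.map α ≫ hU.fromSpec) (Spec.map β ≫ hU.fromSpec) at hsq
  rw [hα, hβ] at hsq
  let q := hsq.isoPullback.hom ≫ pullback.map (hW.fromSpec ≫ f) (hV.fromSpec ≫ a) f a
    hW.fromSpec hV.fromSpec (𝟙 Y) (by simp) (by simp)
  obtain ⟨z, hz⟩ : ∃ z, q z = p := by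
    obtain ⟨w, hw⟩ : pullback.fst f a p ∈ Set.range hW.fromSpec := by
      rw [hW.range_fromSpec]
      exact hxW
    obtain ⟨v, hv⟩ : pullback.snd f a p ∈ Set.range hV.fromSpec := by
      rw [hV.range_fromSpec]
      exact hxV
    have hr : p ∈ Set.range (pullback.map (hW.fromSpec ≫ f) (hV.fromSpec ≫ a) f a
        hW.fromSpec hV.fromSpec (𝟙 Y) (by simp) (by simp)) := by
      rw [Scheme.Pullback.range_map]
      exact ⟨⟨w, hw⟩, ⟨v, hv⟩⟩
    obtain ⟨z, hz⟩ := hr
    refine ⟨hsq.isoPullback.inv z, ?_⟩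
    rw [← Scheme.Hom.comp_apply, Iso.inv_hom_id_assoc, hz]
  have H : ∀ n : ℕ, 0 < n → IsOpenMap ⇑(Spec.map (CommRingCat.ofHom
      (Algebra.TensorProduct.includeRight.toRingHom : MvPolynomial (ULift.{u} (Fin n)) Γ(Y, U) →+*
        Γ(X, W) ⊗[Γ(Y, U)] MvPolynomial (ULift.{u} (Fin n)) Γ(Y, U)))) := by
    intro n hn S hS
    let σ := ULift.{u} (Fin n)
    let R := CommRingCat.of (MvPolynomial σ Γ(Y, U))
    let r : Spec R ⟶ 𝔸(σ; Y) := (AffineSpace.SpecIso σ Γ(Y, U)).inv ≫ AffineSpace.map σ hU.fromSpec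
    have hr : r ≫ (𝔸(σ; Y) ↘ Y) =
        Spec.map (CommRingCat.ofHom (algebraMap Γ(Y, U) R)) ≫ hU.fromSpec := by
      simp only [r, Category.assoc, AffineSpace.map_over, AffineSpace.SpecIso_inv_over_assoc]
      rfl
    have : IsOpenImmersion (AffineSpace.map σ hU.fromSpec) :=
      MorphismProperty.of_isPullback (P := @IsOpenImmersion)
        (AffineSpace.isPullback_map hU.fromSpec).flip inferInstance
    have hR := isPullback_comp_mono (isPullback_SpecMap_of_isPushout _ _ _ _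
      (CommRingCat.isPushout_tensorProduct Γ(Y, U) Γ(X, W) R)) hU.fromSpec
    change IsPullback _ _ (Spec.map α ≫ hU.fromSpec) _ at hR
    rw [hα, ← hr] at hR
    let qn := hR.isoPullback.hom ≫ pullback.map (hW.fromSpec ≫ f) (r ≫ (𝔸(σ; Y) ↘ Y)) f
      (𝔸(σ; Y) ↘ Y) hW.fromSpec r (𝟙 Y) (by simp) (by simp)
    have hqn : qn ≫ pullback.snd f (𝔸(σ; Y) ↘ Y) = Spec.map (CommRingCat.ofHom
        (Algebra.TensorProduct.includeRight.toRingHom : R →+* Γ(X, W) ⊗[Γ(Y, U)] R)) ≫ r := by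
      simp [qn]
    have hopen := h n hn _ (qn.isOpenEmbedding.isOpenMap S hS)
    rw [← Set.image_comp, ← TopCat.coe_comp, ← Scheme.Hom.comp_base, hqn, Scheme.Hom.comp_base,
      TopCat.coe_comp, Set.image_comp] at hopen
    rw [← r.isOpenEmbedding.injective.preimage_image (⇑(Spec.map _) '' S)]
    exact hopen.preimage r.continuous
  obtain ⟨O', hzO', hO'O, hO'open⟩ := exists_isOpen_image_of_polynomial (A := Γ(Y, U))
    (B := Γ(T, V)) (C := Γ(X, W)) H z
    ⟨⇑q ⁻¹' O, hO.preimage q.continuous⟩ (show q z ∈ O from hz ▸ hp)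
  have hq : q ≫ pullback.snd f a = Spec.map (CommRingCat.ofHom
      (Algebra.TensorProduct.includeRight.toRingHom :
        Γ(T, V) →+* Γ(X, W) ⊗[Γ(Y, U)] Γ(T, V))) ≫ hV.fromSpec := by
    simp [q]
  refine ⟨⇑hV.fromSpec '' (⇑(Spec.map _) '' O'), ?_, hV.fromSpec.isOpenEmbedding.isOpenMap _ hO'open,
    ⟨_, ⟨z, hzO', rfl⟩, ?_⟩⟩
  · rintro _ ⟨_, ⟨w, hw, rfl⟩, rfl⟩
    refine ⟨q w, hO'O hw, ?_⟩
    rw [← Scheme.Hom.comp_apply, hq, Scheme.Hom.comp_apply]
    rfl
  · rw [← Scheme.Hom.comp_apply, ← hq, Scheme.Hom.comp_apply, hz]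

end Groth.Limits
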