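import Groth.Agent.Limits.DescentStage
import Groth.Agent.Limits.Descend
import Groth.Agent.Limits.UnivOpen
import Groth.Agent.Calg4.ColimitSmooth
import Mathlib.AlgebraicGeometry.AffineTransitionLimit
import Mathlib.AlgebraicGeometry.Pullbacks
import Mathlib.AlgebraicGeometry.Morphisms.FinitePresentation
import Mathlib.CategoryTheory.Presentable.Directed

/-!
# Descending properties given by properties of ring maps along limits
-/

set_option backward.isDefEq.respectTransparency false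
set_option backward.defeqAttrib.useBackward true

universe u

open CategoryTheory Limits AlgebraicGeometry TensorProduct

namespace Groth.Limits

/-- A property of ring maps descends along directed colimits of base changes. -/
def RingDescends (Q : ∀ {R S : Type u} [CommRing R] [CommRing S], (R →+* S) → Prop) : Prop :=
  ∀ {ι : Type u} [Preorder ι] [IsDirected ι (· ≤ ·)] [Nonempty ι] {A₀ : Type u} [CommRing A₀]
    {G : ι → Type u} [∀ n, CommRing (G n)] [∀ n, Algebra A₀ (G n)] {A : Type u} [CommRing A]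
    [Algebra A₀ A] {f : ∀ m n, m ≤ n → (G m →ₐ[A₀] G n)} {g : ∀ n, G n →ₐ[A₀] A}
    (_ : Groth.Calg4.IsColim f g) {C : Type u} [CommRing C] [Algebra A₀ C]
    [Algebra.FinitePresentation A₀ C],
    Q (algebraMap (A₀ ⊗[A₀] A) ((A₀ ⊗[A₀] A) ⊗[A₀] C)) →
      ∃ n, Q (algebraMap (A₀ ⊗[A₀] G n) ((A₀ ⊗[A₀] G n) ⊗[A₀] C))

/-- The property of a pullback, read off from any cartesian square. -/
theorem prop_iff_snd_of_isPullback (P : MorphismProperty Scheme.{u}) [P.RespectsIso]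
    {W U T S : Scheme.{u}} {p : W ⟶ U} {q : W ⟶ T} {x : U ⟶ S} {b : T ⟶ S}
    (h : IsPullback p q x b) : P q ↔ P (pullback.snd x b) := by
  rw [← h.isoPullback_hom_snd, P.cancel_left_of_respectsIso]

variable (P : MorphismProperty Scheme.{u})
  {Q : ∀ {R S : Type u} [CommRing R] [CommRing S], (R →+* S) → Prop}
  [HasRingHomProperty P Q]

/-- The base change of an affine morphism along an affine morphism, as a ring map. -/
theorem prop_snd_iff_algebraMap {U S T : Scheme.{u}} [IsAffine U] [IsAffine S] [IsAffine T]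
    (x : U ⟶ S) (b : T ⟶ S) :
    letI := x.appTop.hom.toAlgebra
    letI := b.appTop.hom.toAlgebra
    P (pullback.snd x b) ↔
      Q (algebraMap (Γ(S, ⊤) ⊗[Γ(S, ⊤)] Γ(T, ⊤)) ((Γ(S, ⊤) ⊗[Γ(S, ⊤)] Γ(T, ⊤)) ⊗[Γ(S, ⊤)] Γ(U, ⊤))) := by
  let aC : Algebra Γ(S, ⊤) Γ(U, ⊤) := x.appTop.hom.toAlgebra
  let aG : Algebra Γ(S, ⊤) Γ(T, ⊤) := b.appTop.hom.toAlgebra
  let A₀ : CommRingCat.{u} := Γ(S, ⊤)
  let G' : Type u := (Γ(S, ⊤) : Type u) ⊗[Γ(S, ⊤)] Γ(T, ⊤)
  have hbij : Function.Bijective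
      (Algebra.TensorProduct.lid Γ(S, ⊤) Γ(T, ⊤)).toAlgHom := (AlgEquiv.bijective _)
  let e' : CommRingCat.of G' ≅ Γ(T, ⊤) :=
    (Algebra.TensorProduct.lid Γ(S, ⊤) Γ(T, ⊤)).toRingEquiv.toCommRingCatIso
  let e : Spec (CommRingCat.of G') ≅ T := (Scheme.Spec.mapIso e'.op).symm ≪≫ T.isoSpec.symm
  have he : e.hom ≫ b = Spec.map (CommRingCat.ofHom (algebraMap Γ(S, ⊤) G')) ≫ S.isoSpec.inv := by
    simp only [e, Iso.trans_hom, Iso.symm_hom, Category.assoc]
    rw [← Scheme.isoSpec_inv_naturality, ← Category.assoc]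
    congr 1
    rw [Functor.mapIso_inv, Iso.op_inv]
    show Spec.map e'.inv ≫ Spec.map b.appTop = _
    rw [← Spec.map_comp]
    congr 1
    ext a
    show e'.inv (b.appTop a) = (a ⊗ₜ[Γ(S, ⊤)] (1 : Γ(T, ⊤)) : G')
    apply (ConcreteCategory.bijective_of_isIso e'.hom).1
    rw [Iso.inv_hom_id_apply]
    show b.appTop a = Algebra.TensorProduct.lid Γ(S, ⊤) Γ(T, ⊤) (a ⊗ₜ 1)
    rw [Algebra.TensorProduct.lid_tmul, Algebra.smul_def, mul_one]
    rfl
  have hsq := (IsPullback.of_iso_pullback (P := Spec (CommRingCat.of (G' ⊗[Γ(S, ⊤)] Γ(U, ⊤))))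
    (fst := Spec.map (CommRingCat.ofHom
      (Algebra.TensorProduct.includeLeftRingHom : G' →+* G' ⊗[Γ(S, ⊤)] Γ(U, ⊤))))
    (snd := Spec.map (CommRingCat.ofHom
      (Algebra.TensorProduct.includeRight (R := Γ(S, ⊤)) (A := G') (B := Γ(U, ⊤))).toRingHom))
    ⟨by
      rw [← Spec.map_comp, ← Spec.map_comp]
      congr 1
      ext a
      exact (Algebra.TensorProduct.includeRight (R := Γ(S, ⊤)) (A := G') (B := Γ(U, ⊤))).commutes a
        |>.symm⟩
    (pullbackSpecIso Γ(S, ⊤) G' Γ(U, ⊤)).symm (pullbackSpecIso_inv_fst Γ(S, ⊤) G' Γ(U, ⊤))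
    (pullbackSpecIso_inv_snd Γ(S, ⊤) G' Γ(U, ⊤))).flip
  have hsq' : IsPullback (Spec.map (CommRingCat.ofHom
      (Algebra.TensorProduct.includeRight (R := Γ(S, ⊤)) (A := G') (B := Γ(U, ⊤))).toRingHom) ≫
        U.isoSpec.inv)
      (Spec.map (CommRingCat.ofHom (algebraMap G' (G' ⊗[Γ(S, ⊤)] Γ(U, ⊤)))) ≫ e.hom) x b :=
    hsq.of_iso (Iso.refl _) U.isoSpec.symm e S.isoSpec.symm (by simp) (by simp; rfl)
      (by simp only [Iso.symm_hom]; exact Scheme.isoSpec_inv_naturality x)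
      (by simp only [Iso.symm_hom]; exact he.symm)
  rw [← prop_iff_snd_of_isPullback P hsq', P.cancel_right_of_respectsIso]
  exact HasRingHomProperty.Spec_iff (P := P)

variable {I : Type u} [Category.{u} I] [IsCofiltered I]

/-- Affine case. -/
theorem exists_stage_of_isAffine (hQ : RingDescends.{u} Q) (D : I ⥤ Scheme.{u})
    [∀ i, IsAffine (D.obj i)] (c : Cone D) (hc : IsLimit c) [IsAffine c.pt] (i : I)
    {U : Scheme.{u}} [IsAffine U] (x : U ⟶ D.obj i) [LocallyOfFinitePresentation x]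
    (h : P (pullback.snd x (c.π.app i))) : ∃ j : Over i, P (pullback.snd x (D.map j.hom)) := by
  obtain ⟨ι, _, _, _, F, _⟩ := IsFiltered.exists_directed (Over i)ᵒᵖ
  let o : ι → Over i := fun n ↦ (F.obj n).unop
  let t : ∀ {m n : ι}, m ≤ n → (o n ⟶ o m) := fun h ↦ (F.map (homOfLE h)).unop
  letI := x.appTop.hom.toAlgebra
  letI aA : Algebra Γ(D.obj i, ⊤) Γ(c.pt, ⊤) := (c.π.app i).appTop.hom.toAlgebra
  letI aG : ∀ n, Algebra Γ(D.obj i, ⊤) Γ(D.obj (o n).left, ⊤) :=
    fun n ↦ (D.map (o n).hom).appTop.hom.toAlgebra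
  have : Algebra.FinitePresentation Γ(D.obj i, ⊤) Γ(U, ⊤) :=
    (HasRingHomProperty.iff_of_isAffine (P := @LocallyOfFinitePresentation)).1 ‹_›
  let f : ∀ m n, m ≤ n → (Γ(D.obj (o m).left, ⊤) →ₐ[Γ(D.obj i, ⊤)] Γ(D.obj (o n).left, ⊤)) :=
    fun m n h ↦ ⟨(D.map (t h).left).appTop.hom, fun a ↦ by
      show (D.map (t h).left).appTop ((D.map (o m).hom).appTop a) = (D.map (o n).hom).appTop a
      rw [← ConcreteCategory.comp_apply, ← Scheme.Hom.comp_appTop, ← D.map_comp, Over.w]⟩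
  let g : ∀ n, Γ(D.obj (o n).left, ⊤) →ₐ[Γ(D.obj i, ⊤)] Γ(c.pt, ⊤) := fun n ↦
    ⟨(c.π.app (o n).left).appTop.hom, fun a ↦ by
      show (c.π.app (o n).left).appTop ((D.map (o n).hom).appTop a) = (c.π.app i).appTop a
      rw [← ConcreteCategory.comp_apply, ← Scheme.Hom.comp_appTop, c.w]
      rfl⟩
  have H : Groth.Calg4.IsColim f g := by
    refine ⟨fun m n h ↦ ?_, fun a ↦ ?_, fun n z hz ↦ ?_⟩
    · refine AlgHom.ext fun a ↦ ?_
      show (c.π.app (o n).left).appTop ((D.map (t h).left).appTop a) = (c.π.app (o m).left).appTop a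
      rw [← ConcreteCategory.comp_apply, ← Scheme.Hom.comp_appTop, c.w]
      rfl
    · obtain ⟨j, a', ha'⟩ := exists_appTop_π_eq_of_isAffine_of_isLimit D c hc a
      obtain ⟨j', r, r', -⟩ := IsCofilteredOrEmpty.cone_objs j i
      obtain ⟨n, ⟨s⟩⟩ := ((Functor.final_iff_of_isFiltered F).1 inferInstance).1 (Opposite.op (Over.mk r'))
      refine ⟨n, (D.map (s.unop.left ≫ r)).appTop a', ?_⟩
      show (c.π.app (o n).left).appTop _ = a
      rw [← ConcreteCategory.comp_apply, ← Scheme.Hom.comp_appTop, c.w]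
      exact ha'
    · obtain ⟨j, r, hr⟩ := exists_appTop_map_eq_zero_of_isAffine_of_isLimit D c hc (o n).left z hz
      let o' : Over i := Over.mk (r ≫ (o n).hom)
      let p : o' ⟶ o n := Over.homMk r
      obtain ⟨n₁, ⟨s⟩⟩ := ((Functor.final_iff_of_isFiltered F).1 inferInstance).1 (Opposite.op o')
      obtain ⟨n₂, hn₁, hn⟩ := directed_of (α := ι) (· ≤ ·) n₁ n
      obtain ⟨n₃, h₃, he⟩ := Functor.Final.exists_coeq F (F.map (homOfLE hn))
        (p.op ≫ s ≫ F.map (homOfLE hn₁))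
      have hn₂₃ : n₂ ≤ n₃ := leOfHom h₃
      refine ⟨n₃, hn.trans hn₂₃, ?_⟩
      show (D.map (t (hn.trans hn₂₃)).left).appTop z = 0
      have : (F.map (homOfLE (hn.trans hn₂₃))) = p.op ≫ s ≫ F.map (homOfLE hn₁) ≫ F.map h₃ := by
        rw [← homOfLE_comp hn hn₂₃, F.map_comp, show homOfLE hn₂₃ = h₃ from rfl, he]
        simp
      simp only [t, this, unop_comp, Over.comp_left, Quiver.Hom.unop_op]
      rw [D.map_comp, Scheme.Hom.comp_appTop, CommRingCat.comp_apply, show p.left = r from rfl]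
      exact (congrArg _ hr).trans (map_zero _)
  obtain ⟨n, hn⟩ := hQ H ((prop_snd_iff_algebraMap P (Q := Q) (T := c.pt) x (c.π.app i)).1 h)
  exact ⟨o n, (prop_snd_iff_algebraMap P (Q := Q) x (D.map (o n).hom)).2 hn⟩

/-- A cartesian square over an open of the target. -/
theorem isPullback_of_opens {U V X₀ S T' : Scheme.{u}} {oU : U ⟶ X₀} {α : U ⟶ V} {oV : V ⟶ S}
    [Mono oV] {x₀ : X₀ ⟶ S} (w : oU ≫ x₀ = α ≫ oV) (b : T' ⟶ S) {T : Scheme.{u}} {r : T ⟶ V}
    {o : T ⟶ T'} (hT : IsPullback r o oV b) :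
    IsPullback (pullback.fst α r) (pullback.snd α r ≫ o) (oU ≫ x₀) b := by
  rw [w]
  exact (IsPullback.of_hasPullback α r).paste_vert hT

variable [P.IsStableUnderComposition]

include Q in
/-- Properties of ring maps which descend along colimits descend along limits of schemes. -/
theorem exists_stage_of_ringDescends (hQ : RingDescends.{u} Q)
    (hopen : @IsOpenImmersion ≤ P) [P.IsStableUnderBaseChange] (D : I ⥤ Scheme.{u})
    [∀ (i j : I) (m : i ⟶ j), IsAffineHom (D.map m)] (c : Cone D) (hc : IsLimit c) (i : I)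
    {X₀ : Scheme.{u}} [CompactSpace X₀] (x₀ : X₀ ⟶ D.obj i) [LocallyOfFinitePresentation x₀]
    (h : P (pullback.snd x₀ (c.π.app i))) :
    ∃ j : Over i, P (pullback.snd x₀ (D.map j.hom)) := by
  classical
  -- charts
  have hchart : ∀ z : X₀, ∃ (U : X₀.Opens) (V : (D.obj i).Opens), z ∈ U ∧ IsAffineOpen U ∧
      IsAffineOpen V ∧ U ≤ x₀ ⁻¹ᵁ V := fun z ↦ by
    obtain ⟨_, ⟨(V : (D.obj i).Opens), hV, rfl⟩, hzV, -⟩ :=
      (D.obj i).isBasis_affineOpens.exists_subset_of_mem_open (Set.mem_univ (x₀ z)) isOpen_univ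
    obtain ⟨_, ⟨(U : X₀.Opens), hU, rfl⟩, hzU, hUV⟩ :=
      X₀.isBasis_affineOpens.exists_subset_of_mem_open (show z ∈ x₀ ⁻¹ᵁ V from hzV) (x₀ ⁻¹ᵁ V).isOpen
    exact ⟨U, V, hzU, hU, hV, hUV⟩
  choose U V hzU hU hV hUV using hchart
  obtain ⟨s, hs⟩ := CompactSpace.elim_nhds_subcover (fun z ↦ (U z : Set X₀))
    (fun z ↦ (U z).isOpen.mem_nhds (hzU z))
  -- each chart descends
  have hstage : ∀ z : s, ∃ j : Over i, ∀ (k : Over i) (_ : k ⟶ j),
      P (pullback.snd ((U z.1).ι ≫ x₀) (D.map k.hom)) := by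
    intro z
    let α := x₀.resLE (V z.1) (U z.1) (hUV z.1)
    have hw : (U z.1).ι ≫ x₀ = α ≫ (V z.1).ι := (Scheme.Hom.resLE_comp_ι _ _).symm
    let D' := opensDiagram D i (V z.1)
    have (k : Over i) : IsAffine (D'.obj k) := (hV z.1).preimage _
    have : IsAffine (U z.1 : Scheme.{u}) := hU z.1
    have : IsAffine (opensCone D c i (V z.1)).pt :=
      have := isAffineHom_π_app D c hc i
      (hV z.1).preimage (c.π.app i)
    have : LocallyOfFinitePresentation α := by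
      have : LocallyOfFinitePresentation ((U z.1).ι ≫ x₀) := inferInstance
      have : IsAffine (V z.1 : Scheme.{u}) := hV z.1
      exact inferInstance
    let k₀ : Over i := Over.mk (𝟙 i)
    let e : D'.obj k₀ ≅ (V z.1 : Scheme.{u}) :=
      (D.obj i).isoOfEq (by simp [k₀] : D.map k₀.hom ⁻¹ᵁ V z.1 = V z.1)
    let x' : (U z.1 : Scheme.{u}) ⟶ D'.obj k₀ := α ≫ e.inv
    have : LocallyOfFinitePresentation x' := inferInstance
    have he : e.inv ≫ (D.map k₀.hom ⁻¹ᵁ V z.1).ι = (V z.1).ι := Scheme.isoOfEq_inv_ι _ _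
    have hwx : (U z.1).ι ≫ x₀ = x' ≫ (D.map k₀.hom ⁻¹ᵁ V z.1).ι := by
      rw [hw, Category.assoc, he]
    -- the limit
    have hlim : P (pullback.snd x' ((opensCone D c i (V z.1)).π.app k₀)) := by
      have hT : IsPullback ((opensCone D c i (V z.1)).π.app k₀) (c.π.app i ⁻¹ᵁ V z.1).ι
          (D.map k₀.hom ⁻¹ᵁ V z.1).ι (c.π.app i) :=
        IsOpenImmersion.isPullback _ _ _ _ (by simp [k₀, opensCone]) (by simp [k₀])
      have h1 := isPullback_of_opens hwx (c.π.app i) hT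
      have h2 : P (pullback.snd ((U z.1).ι ≫ x₀) (c.π.app i)) := by
        have := P.comp_mem (pullback.snd (U z.1).ι (pullback.fst x₀ (c.π.app i))) _
          (hopen _ inferInstance) h
        rwa [← pullbackRightPullbackFstIso_hom_snd, P.cancel_left_of_respectsIso] at this
      rw [← prop_iff_snd_of_isPullback P h1] at h2
      exact P.of_isPullback (IsPullback.of_horiz_isIso_mono (fst := 𝟙 _)
        (snd := pullback.snd x' ((opensCone D c i (V z.1)).π.app k₀))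
        (g := (c.π.app i ⁻¹ᵁ V z.1).ι) ⟨Category.id_comp _⟩) h2
    obtain ⟨j, hj⟩ := exists_stage_of_isAffine P hQ D' _ (isLimitOpensCone D c hc i (V z.1)) k₀ x'
      hlim
    refine ⟨j.left, fun k m ↦ ?_⟩
    have hT : IsPullback (D'.map j.hom) (D.map j.left.hom ⁻¹ᵁ V z.1).ι
        (D.map k₀.hom ⁻¹ᵁ V z.1).ι (D.map j.left.hom) :=
      IsOpenImmersion.isPullback _ _ _ _ (by
          have hj0 : j.hom.left = j.left.hom := by
            simpa [k₀] using Over.w j.hom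
          simp [D', opensDiagram, k₀, hj0])
        (by simp [k₀, D', opensDiagram])
    have h1 := isPullback_of_opens hwx (D.map j.left.hom) hT
    have h2 : P (pullback.snd ((U z.1).ι ≫ x₀) (D.map j.left.hom)) :=
      (prop_iff_snd_of_isPullback P h1).1 (P.comp_mem _ _ hj (hopen _ inferInstance))
    exact prop_snd_comp P _ (D.map m.left) _ _ (by rw [← D.map_comp, Over.w]) h2
  choose j hj using hstage
  obtain ⟨k, hk⟩ := IsCofiltered.inf_objs_exists (Finset.univ.image j)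
  refine ⟨k, ?_⟩
  let 𝒰 : X₀.OpenCover := X₀.openCoverOfIsOpenCover (fun z : s ↦ U z.1)
    (top_le_iff.1 fun x _ ↦ by
      obtain ⟨z, hz, hxz⟩ := Set.mem_iUnion₂.1 (hs.ge (Set.mem_univ x))
      exact TopologicalSpace.Opens.mem_iSup.2 ⟨⟨z, hz⟩, hxz⟩)
  refine IsZariskiLocalAtSource.of_openCover (P := P) (𝒰.pullback₁ (pullback.fst x₀ (D.map k.hom)))
    fun z ↦ ?_
  have hz : P (pullback.snd (𝒰.f z ≫ x₀) (D.map k.hom)) :=
    hj z k (hk (Finset.mem_image_of_mem j (Finset.mem_univ _))).some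
  have hsq : IsPullback (pullback.snd (pullback.fst x₀ (D.map k.hom)) (𝒰.f z))
      (pullback.fst _ (𝒰.f z) ≫ pullback.snd x₀ (D.map k.hom)) (𝒰.f z ≫ x₀) (D.map k.hom) :=
    ((IsPullback.of_hasPullback (pullback.fst x₀ (D.map k.hom)) (𝒰.f z)).paste_horiz
      (IsPullback.of_hasPullback x₀ (D.map k.hom)).flip).flip
  exact (prop_iff_snd_of_isPullback P hsq).2 hz

end Groth.Limits
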