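import Groth.Agent.Limits.SyntomicRingDescent
import Groth.Agent.Limits.SmoothDescent
import Groth.Agent.Syntomic.Scheme

/-!
# Descending syntomic morphisms along limits
-/

set_option backward.isDefEq.respectTransparency false
set_option backward.defeqAttrib.useBackward true

universe u

open CategoryTheory Limits AlgebraicGeometry TensorProduct

namespace Groth.Limits

/-- Syntomic ring maps. -/
def RingSynt {R S : Type u} [CommRing R] [CommRing S] (f : R →+* S) : Prop :=
  f.Flat ∧ Groth.KoszulLCI.RingLCI f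

/-- Syntomic morphisms, as flat local complete intersection morphisms. -/
def syntProp : MorphismProperty Scheme.{u} := @Flat ⊓ Groth.KoszulLCI.MorLCI

instance : HasRingHomProperty syntProp.{u} @RingSynt := HasRingHomProperty.inf

theorem ringSynt_algebraMap {R S : Type u} [CommRing R] [CommRing S] [Algebra R S] :
    RingSynt (algebraMap R S) ↔ Synt.IsSyntomic R S := by
  rw [RingSynt, RingHom.flat_algebraMap_iff, Groth.KoszulLCI.ringLCI_algebraMap,
    Groth.Syntomic.isSyntomic_iff]

instance : syntProp.{u}.IsStableUnderComposition :=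
  inferInstanceAs (MorphismProperty.IsStableUnderComposition (@Flat ⊓ Groth.KoszulLCI.MorLCI.{u}))

theorem ringSynt_isStableUnderBaseChange : RingHom.IsStableUnderBaseChange @RingSynt.{u} := by
  refine .mk (HasRingHomProperty.isLocal_ringHomProperty syntProp.{u}).respectsIso ?_
  intro R S T _ _ _ _ _ h
  rw [ringSynt_algebraMap] at h ⊢
  exact SyntDescent.isSyntomic_baseChange h S

instance : syntProp.{u}.IsStableUnderBaseChange :=
  HasRingHomProperty.isStableUnderBaseChange ringSynt_isStableUnderBaseChange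

theorem ringDescends_synt : RingDescends.{u} @RingSynt := by
  intro ι _ _ _ A₀ _ G _ _ A _ _ f g H C _ _ _ h
  rw [ringSynt_algebraMap] at h
  obtain ⟨n, hn⟩ := SyntDescent.exists_isSyntomic (B := A₀) (C := C) H h
  exact ⟨n, ringSynt_algebraMap.2 hn⟩

theorem isOpenImmersion_le_syntProp : @IsOpenImmersion ≤ syntProp.{u} := fun _ _ f hf ↦
  have : IsOpenImmersion f := hf
  ⟨inferInstance, Groth.KoszulLCI.morLCI_of_smooth f⟩

variable {I : Type u} [Category.{u} I] [IsCofiltered I] {D : I ⥤ Scheme.{u}}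
  [∀ (i j : I) (m : i ⟶ j), IsAffineHom (D.map m)] {c : Cone D}
  {i₀ : I} {X₀ Y₀ X Y : Scheme.{u}} {f₀ : X₀ ⟶ Y₀} {g₀ : Y₀ ⟶ D.obj i₀} {f : X ⟶ Y}
  {g : Y ⟶ c.pt} {qY : Y ⟶ Y₀} {qX : X ⟶ X₀}

/-- If the base change to the limit is syntomic, so is some stage. -/
theorem exists_isSyntomicMor_stage (hc : IsLimit c) (hY : IsPullback qY g g₀ (c.π.app i₀))
    (hX : IsPullback qX f f₀ qY) [CompactSpace X₀] [LocallyOfFinitePresentation f₀]
    (h : Synt.IsSyntomicMor f) :
    ∃ j : Over i₀, Synt.IsSyntomicMor (pullback.snd f₀ (pullback.snd (D.map j.hom) g₀)) := by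
  obtain ⟨j, hj⟩ := exists_prop_stage syntProp.{u} ringDescends_synt isOpenImmersion_le_syntProp
    hc hY hX ((Groth.Syntomic.isSyntomicMor_iff f).1 h)
  exact ⟨j, (Groth.Syntomic.isSyntomicMor_iff _).2 hj⟩

end Groth.Limits
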