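import Groth.Agent.Syntomic.Main
import Groth.Agent.Calg4.ColimitTensor
import Groth.Agent.FlatMorOne.FlatLocusColimit
import Groth.Agent.FibreDim.FieldExt

/-!
# Syntomic algebras over a directed colimit of rings come from a stage
-/

universe u

open TensorProduct

namespace Groth.Limits.SyntDescent

/-- The dimension of a fibre of a finitely generated algebra does not change in a field extension. -/
theorem ringKrullDim_tensor_eq_of_field (R κ κ' L : Type u) [CommRing R] [Field κ] [Field κ']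
    [CommRing L] [Algebra R κ] [Algebra R κ'] [Algebra κ κ'] [IsScalarTower R κ κ'] [Algebra R L]
    [Algebra.FiniteType R L] : ringKrullDim (κ' ⊗[R] L) = ringKrullDim (κ ⊗[R] L) := by
  rw [← ringKrullDim_eq_of_ringEquiv
    (Algebra.TensorProduct.cancelBaseChange R κ κ' κ' L).toRingEquiv]
  exact le_antisymm (Groth.FibreDim.ringKrullDim_tensor_le (k := κ) (K := κ') (A := κ ⊗[R] L))
    (Groth.Calg5.RelGCI.ringKrullDim_le_tensor κ κ' _)

theorem subsingleton_tensor_of_field (R κ κ' L : Type u) [CommRing R] [Field κ] [Field κ']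
    [CommRing L] [Algebra R κ] [Algebra R κ'] [Algebra κ κ'] [IsScalarTower R κ κ'] [Algebra R L]
    (h : Subsingleton (κ ⊗[R] L)) : Subsingleton (κ' ⊗[R] L) :=
  (Algebra.TensorProduct.cancelBaseChange R κ κ' κ' L).symm.toEquiv.subsingleton

attribute [local instance] Algebra.TensorProduct.rightAlgebra MvPolynomial.algebraMvPolynomial

/-! ### Relative global complete intersection neighbourhoods -/

/-- `S` is a relative global complete intersection after inverting `t`. -/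
def IsRelGCIAt (R : Type u) [CommRing R] {S : Type u} [CommRing S] [Algebra R S] (t : S) : Prop :=
  ∃ (n c : ℕ) (F : Fin c → MvPolynomial (Fin n) R),
    Synt.IsRelGCI R n c F ∧ Nonempty (Synt.RelGCIRing R n c F ≃ₐ[R] Localization.Away t)

/-- Base change of relative global complete intersection presentations. -/
theorem isRelGCI_map {R : Type u} [CommRing R] (K : Type u) [CommRing K] [Algebra R K] {n c : ℕ}
    {F : Fin c → MvPolynomial (Fin n) R} (h : Synt.IsRelGCI R n c F) :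
    Synt.IsRelGCI K n c fun i ↦ MvPolynomial.map (algebraMap R K) (F i) := by
  intro p' hnt
  let p : Ideal R := p'.asIdeal.comap (algebraMap R K)
  let κ := p.ResidueField
  let κ' := p'.asIdeal.ResidueField
  letI : Algebra κ κ' :=
    (Ideal.ResidueField.mapₐ p p'.asIdeal (Algebra.ofId R K) rfl).toRingHom.toAlgebra
  haveI : IsScalarTower R κ κ' := .of_algebraMap_eq fun r ↦
    ((Ideal.ResidueField.mapₐ p p'.asIdeal (Algebra.ofId R K) rfl).commutes r).symm
  let e₁ := (Groth.Calg5.RelGCI.tensorQuotientEquiv κ'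
    (fun i ↦ MvPolynomial.map (algebraMap R K) (F i))).toRingEquiv
  let e₂ := (Groth.Calg5.RelGCI.tensorQuotientEquiv κ' F).toRingEquiv
  have heq : (fun i ↦ MvPolynomial.map (algebraMap K κ') (MvPolynomial.map (algebraMap R K) (F i))) =
      fun i ↦ MvPolynomial.map (algebraMap R κ') (F i) := funext fun i ↦ by
    rw [MvPolynomial.map_map, ← IsScalarTower.algebraMap_eq]
  have hd : ringKrullDim (p'.asIdeal.Fiber (Synt.RelGCIRing K n c
        fun i ↦ MvPolynomial.map (algebraMap R K) (F i))) =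
      ringKrullDim (κ' ⊗[R] Synt.RelGCIRing R n c F) := by
    rw [ringKrullDim_eq_of_ringEquiv e₁, heq, ← ringKrullDim_eq_of_ringEquiv (R := κ' ⊗[R] Synt.RelGCIRing R n c F) e₂]
  have hnt' : Nontrivial (p.Fiber (Synt.RelGCIRing R n c F)) := by
    refine not_subsingleton_iff_nontrivial.mp fun hs ↦ ?_
    have hs' := subsingleton_tensor_of_field R κ κ' (Synt.RelGCIRing R n c F) hs
    have h1 : Subsingleton (MvPolynomial (Fin n) κ' ⧸
        Ideal.span (Set.range fun i ↦ MvPolynomial.map (algebraMap R κ') (F i))) :=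
      e₂.symm.toEquiv.subsingleton
    rw [← heq] at h1
    exact not_subsingleton_iff_nontrivial.mpr hnt e₁.toEquiv.subsingleton
  obtain ⟨hc, hdim⟩ := h ⟨p, inferInstance⟩ hnt'
  exact ⟨hc, hd.trans ((ringKrullDim_tensor_eq_of_field R κ κ' _).trans hdim)⟩

/-- An algebra equivalence induces one between localizations away from corresponding elements. -/
noncomputable def awayCongr {R S T : Type u} [CommRing R] [CommRing S] [CommRing T] [Algebra R S]
    [Algebra R T] (e : S ≃ₐ[R] T) (s : S) (t : T) (h : e s = t) :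
    Localization.Away s ≃ₐ[R] Localization.Away t :=
  IsLocalization.algEquivOfAlgEquiv (M := Submonoid.powers s) (T := Submonoid.powers t)
    (Localization.Away s) (Localization.Away t) e (by rw [← h]; exact Submonoid.map_powers _ s)

/-- Relative global complete intersection neighbourhoods, base changed. -/
theorem IsRelGCIAt.baseChange {R : Type u} [CommRing R] {S : Type u} [CommRing S] [Algebra R S]
    {t : S} (h : IsRelGCIAt R t) (K : Type u) [CommRing K] [Algebra R K] :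
    IsRelGCIAt K ((1 : K) ⊗ₜ[R] t) := by
  obtain ⟨n, c, F, hF, ⟨e⟩⟩ := h
  exact ⟨n, c, _, isRelGCI_map K hF, ⟨(Groth.Calg5.RelGCI.tensorQuotientEquiv K F).symm.trans
    ((Algebra.TensorProduct.congr AlgEquiv.refl e).trans
      (Groth.Syntomic.tensorAwayEquiv K t).symm)⟩⟩

theorem IsRelGCIAt.of_algEquiv {R S T : Type u} [CommRing R] [CommRing S] [CommRing T] [Algebra R S]
    [Algebra R T] (e : S ≃ₐ[R] T) {s : S} {t : T} (ht : e s = t) (h : IsRelGCIAt R s) :
    IsRelGCIAt R t := by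
  obtain ⟨n, c, F, hF, ⟨e'⟩⟩ := h
  exact ⟨n, c, F, hF, ⟨e'.trans (awayCongr e s t ht)⟩⟩

/-- Relative global complete intersection neighbourhoods covering everything give syntomic. -/
theorem isSyntomic_of_span_eq_top {R S : Type u} [CommRing R] [CommRing S] [Algebra R S]
    {T : Set S} (hT : Ideal.span T = ⊤) (h : ∀ t ∈ T, IsRelGCIAt R t) : Synt.IsSyntomic R S := by
  refine Groth.Syntomic.IsLocRelGCI.isSyntomic fun Q hQ ↦ ?_
  obtain ⟨t, htT, htQ⟩ : ∃ t ∈ T, t ∉ Q := by
    by_contra hc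
    push_neg at hc
    exact hQ.ne_top (top_le_iff.1 (hT ▸ Ideal.span_le.2 hc))
  exact ⟨t, htQ, h t htT⟩

/-- Syntomic algebras are stable under base change. -/
theorem isSyntomic_baseChange {R : Type u} [CommRing R] {S : Type u} [CommRing S] [Algebra R S]
    (h : Synt.IsSyntomic R S) (K : Type u) [CommRing K] [Algebra R K] :
    Synt.IsSyntomic K (K ⊗[R] S) := by
  refine Groth.Syntomic.IsLocRelGCI.isSyntomic fun Q hQ ↦ ?_
  obtain ⟨t, ht, htat⟩ := Groth.Syntomic.isLocRelGCI_of_isSyntomic h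
    (Q.comap (Algebra.TensorProduct.includeRight : S →ₐ[R] K ⊗[R] S).toRingHom) inferInstance
  exact ⟨_, ht, IsRelGCIAt.baseChange htat K⟩

/-- Equations cutting out the fibre of `Q` in the expected dimension give a relative global complete
intersection neighbourhood of `Q`. -/
theorem exists_relGCI_nhd {R S : Type u} [CommRing R] [CommRing S] [Algebra R S] [Module.Flat R S]
    {n : ℕ} (φ : MvPolynomial (Fin n) R →ₐ[R] S) (hφ : Function.Surjective φ)
    (Q : Ideal S) [hQ : Q.IsPrime] (p : Ideal R) [hpp : p.IsPrime]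
    (hp : Q.comap (algebraMap R S) = p)
    (G : MvPolynomial (Fin n) R) (hG : φ G ∉ Q) (f : List (MvPolynomial (Fin n) R))
    (hfI : Ideal.ofList f ≤ RingHom.ker φ.toRingHom) (h : MvPolynomial (Fin n) R) (hhG : h ∣ G)
    (hh : ∀ x ∈ RingHom.ker φ.toRingHom, h * x ∈ Ideal.ofList f) (hfn : f.length ≤ n)
    (hdim : ringKrullDim (p.Fiber (Localization.Away (φ G))) ≤ ((n - f.length : ℕ) : WithBot ℕ∞)) :
    ∃ t ∉ Q, IsRelGCIAt R t := by
  let B := Localization.Away (φ G)
  have : Algebra.FiniteType R S := Algebra.FiniteType.of_surjective φ hφ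
  have : Algebra.FiniteType R B := (inferInstance : Algebra.FiniteType R S).trans inferInstance
  obtain ⟨W, hW, hWp, hWtr⟩ :=
    Groth.FibreDim.exists_open_trdeg_le (B := B) ⟨p, hpp⟩ (n - f.length) hdim
  have hdisj : Disjoint (Submonoid.powers (φ G) : Set S) Q := by
    rw [Set.disjoint_left]
    rintro _ ⟨k, rfl⟩ hk
    exact hG (hQ.mem_of_pow_mem k hk)
  let Q' : PrimeSpectrum B := ⟨Q.map (algebraMap S B),
    IsLocalization.isPrime_of_isPrime_disjoint _ _ Q hQ hdisj⟩
  have hQ' : Q'.comap (algebraMap R B) = ⟨p, hpp⟩ := by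
    refine PrimeSpectrum.ext ?_
    change (Q.map (algebraMap S B)).comap (algebraMap R B) = p
    rw [IsScalarTower.algebraMap_eq R S B, ← Ideal.comap_comap,
      show (Q.map (algebraMap S B)).comap (algebraMap S B) = Q from
        IsLocalization.under_map_of_isPrime_disjoint _ B hQ hdisj, hp]
  obtain ⟨_, ⟨β, rfl⟩, hβQ, hβW⟩ :=
    PrimeSpectrum.isTopologicalBasis_basic_opens.exists_subset_of_mem_open (hWp Q' hQ') hW
  obtain ⟨⟨σ, ⟨_, k, rfl⟩⟩, hσ⟩ := IsLocalization.surj (Submonoid.powers (φ G)) β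
  dsimp only at hσ
  have hσQ : σ ∉ Q := fun h0 => by
    have h1 : β * algebraMap S B (φ G ^ k) ∈ Q'.asIdeal := hσ ▸ Ideal.mem_map_of_mem _ h0
    refine (Q'.isPrime.mem_or_mem h1).elim hβQ fun h2 => Q'.isPrime.ne_top ?_
    refine Ideal.eq_top_of_isUnit_mem _ h2 ?_
    exact IsLocalization.map_units B (⟨_, k, rfl⟩ : Submonoid.powers (φ G))
  obtain ⟨a, rfl⟩ := hφ σ
  let G₂ := G * a
  have hG₂ : φ G₂ ∉ Q := fun h0 => by
    rw [map_mul] at h0
    exact (hQ.mem_or_mem h0).elim hG hσQ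
  obtain ⟨F, ⟨e⟩, -⟩ := Groth.Syntomic.exists_away_presentation φ hφ G₂ _
    (Groth.Syntomic.map_away_eq_ofList _ f hfI h G₂ (hhG.trans (dvd_mul_right G a)) hh)
  have hlen : (f.map (algebraMap _ (Localization.Away G₂))).length = f.length := List.length_map ..
  let B₂ := Localization.Away (φ G₂)
  have hu : IsUnit (algebraMap S B₂ (φ G)) := by
    refine isUnit_of_dvd_unit (map_dvd _ ?_) (IsLocalization.Away.algebraMap_isUnit (φ G₂))
    rw [map_mul]
    exact dvd_mul_right _ _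
  have hua : IsUnit (algebraMap S B₂ (φ a)) := by
    refine isUnit_of_dvd_unit (map_dvd _ ?_) (IsLocalization.Away.algebraMap_isUnit (φ G₂))
    rw [map_mul]
    exact dvd_mul_left _ _
  let ρ : B →+* B₂ := IsLocalization.Away.lift (φ G) hu
  have hρ : ∀ s, ρ (algebraMap S B s) = algebraMap S B₂ s := IsLocalization.Away.lift_eq (φ G) hu
  have : Algebra.FiniteType R B₂ := (inferInstance : Algebra.FiniteType R S).trans inferInstance
  have hfibre : ∀ (p' : Ideal R) [p'.IsPrime],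
      ringKrullDim (p'.Fiber B₂) ≤ ((n - f.length : ℕ) : WithBot ℕ∞) := by
    intro p' _
    refine Groth.Syntomic.ringKrullDim_fiber_le_of_trdeg p' _ fun K L _ _ _ χ ψ hcomp hgen => ?_
    let ψ' : B →+* L := ψ.comp ρ
    let Q₁ : PrimeSpectrum B := ⟨RingHom.ker ψ', RingHom.ker_isPrime ψ'⟩
    have hQ₁ : Q₁ ∈ W := hβW (by
      change ψ' β ≠ 0
      intro h0
      have h1 := congrArg ψ' hσ
      rw [map_mul, h0, zero_mul] at h1
      have h2 : ψ (algebraMap S B₂ (φ a)) = 0 := by rw [← hρ]; exact h1.symm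
      exact (hua.map ψ).ne_zero h2)
    refine hWtr Q₁ hQ₁ K L χ ψ' (fun r => ?_) (fun z => ?_) rfl
    · rw [hcomp, RingHom.comp_apply, IsScalarTower.algebraMap_apply R S B, hρ,
        ← IsScalarTower.algebraMap_apply]
    · obtain ⟨x, y, hy, rfl⟩ := hgen z
      obtain ⟨⟨x₀, ⟨_, i, rfl⟩⟩, hx⟩ := IsLocalization.surj (Submonoid.powers (φ G₂)) x
      obtain ⟨⟨y₀, ⟨_, j, rfl⟩⟩, hy'⟩ := IsLocalization.surj (Submonoid.powers (φ G₂)) y
      have hx' := congrArg ψ hx
      have hy'' := congrArg ψ hy'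
      dsimp only at hx' hy''
      rw [map_mul, ← hρ (φ G₂ ^ i), ← hρ x₀] at hx'
      rw [map_mul, ← hρ (φ G₂ ^ j), ← hρ y₀] at hy''
      have hi : ψ' (algebraMap S B (φ G₂ ^ i)) ≠ 0 := by
        rw [RingHom.comp_apply, hρ, map_pow, map_pow]
        exact pow_ne_zero _ ((IsLocalization.Away.algebraMap_isUnit (φ G₂)).map ψ).ne_zero
      have hj : ψ' (algebraMap S B (φ G₂ ^ j)) ≠ 0 := by
        rw [RingHom.comp_apply, hρ, map_pow, map_pow]
        exact pow_ne_zero _ ((IsLocalization.Away.algebraMap_isUnit (φ G₂)).map ψ).ne_zero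
      refine ⟨algebraMap S B x₀ * algebraMap S B (φ G₂ ^ j),
        algebraMap S B (φ G₂ ^ i) * algebraMap S B y₀, ?_, ?_⟩
      · rw [map_mul]
        refine mul_ne_zero hi ?_
        change ψ (ρ (algebraMap S B y₀)) ≠ 0
        rw [← hy'']
        exact mul_ne_zero hy hj
      · simp only [ψ', map_mul, RingHom.comp_apply] at hi hj ⊢
        rw [← hx', ← hy'']
        field_simp
  have hflatF : Module.Flat R (Synt.RelGCIRing R (n + 1) _ F) :=
    have := Module.Flat.trans R S B₂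
    Module.Flat.of_linearEquiv e.toLinearEquiv
  refine ⟨φ G₂, hG₂, n + 1, _, F, Groth.Syntomic.isRelGCI_of_koszul F ?_, ⟨e⟩⟩
  refine Groth.KoszulLCI.isKoszulRegularSeq_of_localization _ fun m _ hm =>
    Groth.KoszulReg.isKoszulRegularSeq_of_isWeaklyRegular
      (Groth.Calg5.RelGCI.regular_flat F m (Groth.Calg5.RelGCI.ofList_ofFn F ▸ hm)
        (by rw [hlen]; omega) (m.comap MvPolynomial.C) rfl ?_).1
  rw [ringKrullDim_eq_of_ringEquiv (Algebra.TensorProduct.congr
    (AlgEquiv.refl (R := (m.comap MvPolynomial.C).ResidueField)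
      (A₁ := (m.comap MvPolynomial.C).ResidueField)) e).toRingEquiv]
  refine (hfibre _).trans ?_
  exact_mod_cast (by rw [hlen]; omega : n - f.length ≤ n + 1 - (_ + 1))

/-! ### Base changes of a finitely presented algebra -/

section Stage

variable {A₀ : Type u} [CommRing A₀] {B : Type u} [CommRing B] [Algebra A₀ B]
  {C : Type u} [CommRing C] [Algebra B C]

/-- Base change of relative global complete intersection neighbourhoods between base changes. -/
theorem IsRelGCIAt.map {R K : Type u} [CommRing R] [CommRing K] [Algebra B R] [Algebra B K]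
    (ψ : R →ₐ[B] K) {t : R ⊗[B] C} (h : IsRelGCIAt R t) :
    IsRelGCIAt K (Algebra.TensorProduct.map ψ (AlgHom.id B C) t) := by
  letI := ψ.toRingHom.toAlgebra
  haveI : IsScalarTower B R K := .of_algebraMap_eq fun b ↦ (ψ.commutes b).symm
  refine (h.baseChange K).of_algEquiv (Algebra.TensorProduct.cancelBaseChange B R K K C) ?_
  clear h
  induction t using TensorProduct.induction_on with
  | zero => simp
  | tmul r c => simp [Algebra.smul_def, RingHom.algebraMap_toAlgebra]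
  | add a b ha hb => simp only [tmul_add, map_add, ha, hb]

/-- A bound on the dimension of a fibre of a localised base change, seen from a stage. -/
theorem ringKrullDim_fiber_le_of_map {R K : Type u} [CommRing R] [CommRing K] [Algebra B R]
    [Algebra B K] [Algebra.FiniteType B C] (ψ : R →ₐ[B] K) (p' : Ideal K) [p'.IsPrime]
    (t : R ⊗[B] C) (t' : K ⊗[B] C) (ht : Algebra.TensorProduct.map ψ (AlgHom.id B C) t = t') :
    ringKrullDim ((p'.comap ψ.toRingHom).Fiber (Localization.Away t)) ≤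
      ringKrullDim (p'.Fiber (Localization.Away t')) := by
  letI := ψ.toRingHom.toAlgebra
  haveI : IsScalarTower B R K := .of_algebraMap_eq fun b ↦ (ψ.commutes b).symm
  let p : Ideal R := p'.comap ψ.toRingHom
  let κ := p.ResidueField
  let κ' := p'.ResidueField
  letI : Algebra κ κ' :=
    (Ideal.ResidueField.mapₐ p p' (Algebra.ofId R K) rfl).toRingHom.toAlgebra
  haveI : IsScalarTower R κ κ' := .of_algebraMap_eq fun r ↦
    ((Ideal.ResidueField.mapₐ p p' (Algebra.ofId R K) rfl).commutes r).symm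
  let e₀ : Localization.Away ((1 : K) ⊗ₜ[R] t) ≃ₐ[K] Localization.Away t' :=
    awayCongr (Algebra.TensorProduct.cancelBaseChange B R K K C) _ _ (by
      rw [← ht]
      clear ht
      induction t using TensorProduct.induction_on with
      | zero => simp
      | tmul r c => simp [Algebra.smul_def, RingHom.algebraMap_toAlgebra]
      | add a b ha hb => simp only [tmul_add, map_add, ha, hb])
  let e : κ' ⊗[K] Localization.Away t' ≃+* κ' ⊗[κ] (κ ⊗[R] Localization.Away t) :=
    ((Algebra.TensorProduct.congr (AlgEquiv.refl (R := κ') (A₁ := κ'))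
      (((Groth.Syntomic.tensorAwayEquiv (R := R) K t).symm.trans e₀).symm)).toRingEquiv.trans
      (Algebra.TensorProduct.cancelBaseChange R K κ' κ' (Localization.Away t)).toRingEquiv).trans
        (Algebra.TensorProduct.cancelBaseChange R κ κ' κ' (Localization.Away t)).symm.toRingEquiv
  calc ringKrullDim (κ ⊗[R] Localization.Away t)
      ≤ ringKrullDim (κ' ⊗[κ] (κ ⊗[R] Localization.Away t)) :=
        Groth.Calg5.RelGCI.ringKrullDim_le_tensor κ κ' _
    _ = _ := (ringKrullDim_eq_of_ringEquiv e).symm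

variable {ι : Type u} [Preorder ι] [IsDirected ι (· ≤ ·)] [Nonempty ι]
  {G : ι → Type u} [∀ i, CommRing (G i)] [∀ i, Algebra A₀ (G i)]
  {A : Type u} [CommRing A] [Algebra A₀ A]
  {f : ∀ i j, i ≤ j → (G i →ₐ[A₀] G j)} {g : ∀ i, G i →ₐ[A₀] A}

open Groth.Calg4

variable (B) in
/-- Finitely many polynomials over the colimit come from a stage. -/
theorem exists_poly_lift (H : IsColim f g) (i₀ : ι) {n : ℕ} {κ : Type*} [Finite κ]
    (z : κ → MvPolynomial (Fin n) (B ⊗[A₀] A)) :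
    ∃ i, Nonempty (Trans g i₀ i) ∧ ∃ w : κ → MvPolynomial (Fin n) (B ⊗[A₀] G i),
      ∀ k, MvPolynomial.map (bmap B (g i)).toRingHom (w k) = z k := by
  classical
  obtain ⟨i, hi, w, hw⟩ := H.bsurj_ring (B := B) i₀
    (fun s : (k : κ) × (z k).support ↦ (z s.1).coeff s.2.1)
  refine ⟨i, hi, fun k ↦ ∑ d : (z k).support,
    MvPolynomial.monomial d.1 (w ⟨k, d⟩), fun k ↦ ?_⟩
  simp only [map_sum, MvPolynomial.map_monomial, AlgHom.toRingHom_eq_coe, RingHom.coe_coe, hw]
  rw [Finset.sum_coe_sort (z k).support (fun d ↦ MvPolynomial.monomial d ((z k).coeff d))]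
  exact (MvPolynomial.as_sum (z k)).symm

/-- Finitely many polynomials vanishing over the colimit vanish at a stage. -/
theorem exists_poly_kill (H : IsColim f g) {i : ι} {n : ℕ} {κ : Type*} [Finite κ]
    (w : κ → MvPolynomial (Fin n) (B ⊗[A₀] G i))
    (hw : ∀ k, MvPolynomial.map (bmap B (g i)).toRingHom (w k) = 0) :
    ∃ j, ∃ φ : Trans g i j, ∀ k, MvPolynomial.map (bmap B φ.1).toRingHom (w k) = 0 := by
  obtain ⟨j, φ, hφ⟩ := H.bkill_ring (B := B)
    (fun s : (k : κ) × (w k).support ↦ (w s.1).coeff s.2.1) fun s ↦ by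
      have := congrArg (MvPolynomial.coeff s.2.1) (hw s.1)
      rwa [MvPolynomial.coeff_map, MvPolynomial.coeff_zero] at this
  refine ⟨j, φ, fun k ↦ MvPolynomial.ext _ _ fun d ↦ ?_⟩
  rw [MvPolynomial.coeff_map, MvPolynomial.coeff_zero]
  by_cases hd : d ∈ (w k).support
  · exact hφ ⟨k, ⟨d, hd⟩⟩
  · rw [MvPolynomial.notMem_support_iff.1 hd, map_zero]

theorem map_bmap_map {G' G'' : Type u} [CommRing G'] [Algebra A₀ G'] [CommRing G''] [Algebra A₀ G'']
    (φ : G' →ₐ[A₀] G'') {n : ℕ} (x : MvPolynomial (Fin n) B) :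
    MvPolynomial.map (bmap B φ).toRingHom (MvPolynomial.map (algebraMap B (B ⊗[A₀] G')) x) =
      MvPolynomial.map (algebraMap B (B ⊗[A₀] G'')) x := by
  rw [MvPolynomial.map_map, show (bmap B φ).toRingHom.comp (algebraMap B (B ⊗[A₀] G')) =
    algebraMap B (B ⊗[A₀] G'') from (bmap B φ).comp_algebraMap]

/-- Base changes of a presentation commute with transition maps. -/
theorem cmap_bcPres {G' G'' : Type u} [CommRing G'] [Algebra A₀ G'] [CommRing G''] [Algebra A₀ G'']
    (φ : G' →ₐ[A₀] G'') {n : ℕ} (π : MvPolynomial (Fin n) B →ₐ[B] C)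
    (x : MvPolynomial (Fin n) (B ⊗[A₀] G')) :
    cmap B C φ (Groth.KoszulLCI.bcPres (A' := B ⊗[A₀] G') (B' := (B ⊗[A₀] G') ⊗[B] C) π x) =
      Groth.KoszulLCI.bcPres (A' := B ⊗[A₀] G'') (B' := (B ⊗[A₀] G'') ⊗[B] C) π
        (MvPolynomial.map (bmap B φ).toRingHom x) := by
  induction x using MvPolynomial.induction_on with
  | C a =>
    rw [MvPolynomial.map_C, Groth.KoszulLCI.bcPres, Groth.KoszulLCI.bcPres, MvPolynomial.aeval_C,
      MvPolynomial.aeval_C, cmap_algebraMap]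
    rfl
  | add p q hp hq => simp only [map_add, hp, hq]
  | mul_X p k hp =>
    simp only [map_mul, hp, MvPolynomial.map_X]
    congr 1
    simp [Groth.KoszulLCI.bcPres, RingHom.algebraMap_toAlgebra]

theorem flat_stage_mono {G' G'' : Type u} [CommRing G'] [Algebra A₀ G'] [CommRing G''] [Algebra A₀ G'']
    (φ : G' →ₐ[A₀] G'') [Module.Flat (B ⊗[A₀] G') ((B ⊗[A₀] G') ⊗[B] C)] :
    Module.Flat (B ⊗[A₀] G'') ((B ⊗[A₀] G'') ⊗[B] C) := by
  letI := (bmap B φ).toRingHom.toAlgebra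
  haveI : IsScalarTower B (B ⊗[A₀] G') (B ⊗[A₀] G'') :=
    .of_algebraMap_eq fun b ↦ ((bmap B φ).commutes b).symm
  exact Module.Flat.of_linearEquiv
    (AlgebraTensorModule.cancelBaseChange B (B ⊗[A₀] G') (B ⊗[A₀] G'') (B ⊗[A₀] G'') C).symm

open Groth.FlatMorOne in
theorem exists_flat_stage_model {R₀ S₀ N : Type u} [CommRing R₀] [CommRing S₀] [Algebra R₀ S₀]
    [AddCommGroup N] [Module R₀ N] [Module S₀ N] [IsScalarTower R₀ S₀ N]
    [IsNoetherianRing R₀] [Algebra.FiniteType R₀ S₀] [Module.Finite S₀ N]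
    {A₁ : Type u} [CommRing A₁] {κ : Type u} {D : κ → Type u} [∀ i, CommRing (D i)]
    [∀ i, Algebra A₁ (D i)] {A' : Type u} [CommRing A'] [Algebra A₁ A']
    {B₀ : Type u} [CommRing B₀] [Algebra A₁ B₀] [Algebra.FinitePresentation A₁ B₀]
    (M₀ : Type u) [AddCommGroup M₀] [Module B₀ M₀] [Module A₁ M₀] [IsScalarTower A₁ B₀ M₀]
    [Module.FinitePresentation B₀ M₀] [Algebra R₀ A₁] [Algebra R₀ A'] [IsScalarTower R₀ A₁ A']
    [∀ i, Algebra R₀ (D i)] [∀ i, IsScalarTower R₀ A₁ (D i)] [Algebra R₀ B₀] [IsScalarTower R₀ A₁ B₀]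
    [Algebra S₀ B₀] [IsScalarTower R₀ S₀ B₀] [Algebra.IsPushout R₀ A₁ S₀ B₀]
    [Module R₀ M₀] [IsScalarTower R₀ A₁ M₀] [Module S₀ M₀] [IsScalarTower S₀ B₀ M₀]
    {f₀ : N →ₗ[S₀] M₀} (hf₀ : IsBaseChange B₀ f₀)
    (hlift : ∀ (R₁ : Subalgebra R₀ A'), Algebra.FinitePresentation R₀ R₁ →
      ∃ j, Nonempty (R₁ →ₐ[R₀] D j))
    [Module.Flat A' (A' ⊗[A₁] M₀)] : ∃ i, Module.Flat (D i) (D i ⊗[A₁] M₀) := by
  have hβ : IsBaseChange A₁ ((pushoutModuleEquiv' (R₀ := R₀) (R := A₁) hf₀).toLinearMap.restrictScalars R₀ ∘ₗ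
      betaOf R₀ S₀ N A₁) :=
    (isBaseChange_betaOf R₀ S₀ N A₁).comp (IsBaseChange.ofEquiv (pushoutModuleEquiv' hf₀))
  have key : ∀ (E : Type u) [CommRing E] [Algebra R₀ E] [Algebra A₁ E] [IsScalarTower R₀ A₁ E],
      Module.Flat E (E ⊗[A₁] M₀) ↔ Module.Flat E (MOf R₀ S₀ N E) := fun E _ _ _ _ =>
    (flat_iff_flat_tensor_of_isBaseChange hβ E).trans
      (Module.Flat.equiv_iff (isBaseChange_betaOf R₀ S₀ N E).equiv)
  have : Module.Flat A' (MOf R₀ S₀ N A') := (key A').mp inferInstance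
  have hpushA : Algebra.IsPushout R₀ A' S₀ (SOf R₀ S₀ A') := TensorProduct.isPushout
  obtain ⟨R₁, hR₁, hflat⟩ := exists_stage_flat_global (R₀ := R₀) (R := A') (S := SOf R₀ S₀ A')
    (TensorProduct.isBaseChange S₀ N (SOf R₀ S₀ A'))
  have : Algebra.FiniteType R₀ R₁ := (Subalgebra.fg_iff_finiteType R₁).mp hR₁
  obtain ⟨j, ⟨φ⟩⟩ := hlift R₁ (Algebra.FinitePresentation.of_finiteType.mp this)
  refine ⟨j, (key (D j)).mpr ?_⟩
  letI : Algebra R₁ (D j) := φ.toRingHom.toAlgebra
  haveI : IsScalarTower R₀ R₁ (D j) := .of_algebraMap_eq fun r ↦ (φ.commutes r).symm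
  have := hflat R₁ hR₁ le_rfl
  exact Module.Flat.of_linearEquiv
    (isBaseChange_stageToTop (R₀ := R₀) (R := D j) (S₀ := S₀) (M₀ := N) R₁).equiv.symm

open Groth.FlatMorOne in
/-- A finitely presented algebra flat over the colimit is flat over a stage. -/
theorem exists_flat_stage (H : IsColim f g) [Algebra.FinitePresentation B C]
    [Module.Flat (B ⊗[A₀] A) ((B ⊗[A₀] A) ⊗[B] C)] :
    ∃ i, Module.Flat (B ⊗[A₀] G i) ((B ⊗[A₀] G i) ⊗[B] C) := by
  obtain ⟨R₀, hR₀, S₀, _, _, _, _, hS₀, hpush, N, _, _, _, _, _, _, f₀, hN, hf₀⟩ :=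
    exists_models B C C
  have : IsNoetherianRing R₀ := Algebra.FiniteType.isNoetherianRing ℤ R₀
  refine exists_flat_stage_model (R₀ := R₀) (S₀ := S₀) (N := N) (A' := B ⊗[A₀] A)
    (D := fun i ↦ B ⊗[A₀] G i) C hf₀ fun R₁ hfp ↦ ?_
  obtain ⟨n, π, hπ, hπker⟩ := hfp.out
  obtain ⟨s, r, hr⟩ := Submodule.fg_iff_exists_fin_generating_family.mp hπker
  obtain ⟨i, -, w, hw⟩ := H.bsurj_ring (B := B) (Classical.arbitrary ι)
    (fun k ↦ (π (MvPolynomial.X k) : B ⊗[A₀] A))
  let χ : MvPolynomial (Fin n) R₀ →ₐ[R₀] B ⊗[A₀] G i := MvPolynomial.aeval w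
  have hχ : ((bmap B (g i)).restrictScalars R₀).comp χ = R₁.val.comp π :=
    MvPolynomial.algHom_ext fun k ↦ by simp [χ, hw]
  obtain ⟨j, φ, hφ⟩ := H.bkill_ring (B := B) (fun l ↦ χ (r l)) fun l ↦ by
    refine (AlgHom.congr_fun hχ (r l)).trans ?_
    have : π (r l) = 0 := RingHom.mem_ker.mp (hr ▸ Submodule.subset_span ⟨l, rfl⟩)
    rw [AlgHom.comp_apply, this, map_zero]
  let χ' := ((bmap B φ.1).restrictScalars R₀).comp χ
  have hle : RingHom.ker π.toRingHom ≤ RingHom.ker χ'.toRingHom := by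
    rw [← hr]
    refine Submodule.span_le.2 ?_
    rintro _ ⟨l, rfl⟩
    exact RingHom.mem_ker.mpr (hφ l)
  exact ⟨j, ⟨AlgHom.liftOfSurjective π hπ χ' hle⟩⟩

theorem exists_common_trans (H : IsColim f g) (i₀ : ι) {κ : Type*} (s : Finset κ) (i : κ → ι) :
    ∃ j, Nonempty (Trans g i₀ j) ∧ ∀ k ∈ s, Nonempty (Trans g (i k) j) := by
  classical
  induction s using Finset.induction_on with
  | empty => exact ⟨i₀, ⟨Trans.refl _⟩, by simp⟩
  | insert a s _ ih =>
    obtain ⟨j, ⟨φ⟩, hj⟩ := ih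
    obtain ⟨l, ⟨ψ⟩, hl⟩ := H.exists_common j (i a)
    refine ⟨l, ⟨φ.trans ψ⟩, fun k hk ↦ ?_⟩
    rcases Finset.mem_insert.mp hk with rfl | hk
    · exact hl
    · exact ⟨(hj k hk).some.trans ψ⟩

/-- Near a prime of the limit, some stage is a relative global complete intersection. -/
theorem exists_stage_relGCI_nhd (H : IsColim f g) [Algebra.FinitePresentation B C] (i₀ : ι)
    [Module.Flat (B ⊗[A₀] G i₀) ((B ⊗[A₀] G i₀) ⊗[B] C)]
    (h : Synt.IsSyntomic (B ⊗[A₀] A) ((B ⊗[A₀] A) ⊗[B] C))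
    (Q : Ideal ((B ⊗[A₀] A) ⊗[B] C)) [hQ : Q.IsPrime] :
    ∃ (j : ι) (_ : Trans g i₀ j) (t : (B ⊗[A₀] G j) ⊗[B] C),
      IsRelGCIAt (B ⊗[A₀] G j) t ∧ cmap B C (g j) t ∉ Q := by
  classical
  let A' := B ⊗[A₀] A
  obtain ⟨n, π, hπ, hπker⟩ := (‹Algebra.FinitePresentation B C›).out
  obtain ⟨s, r, hr⟩ := Submodule.fg_iff_exists_fin_generating_family.mp hπker
  let φA := Groth.KoszulLCI.bcPres (A' := A') (B' := A' ⊗[B] C) π
  have hker : ∀ (D : Type u) [CommRing D] [Algebra A₀ D],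
      RingHom.ker (Groth.KoszulLCI.bcPres (A' := B ⊗[A₀] D) (B' := (B ⊗[A₀] D) ⊗[B] C) π).toRingHom =
        Ideal.span (Set.range fun l ↦ MvPolynomial.map (algebraMap B (B ⊗[A₀] D)) (r l)) := fun D _ _ ↦ by
    rw [Groth.KoszulLCI.ker_bcPres π hπ, ← hr, Ideal.map_span, ← Set.range_comp]
    rfl
  let q := Q.comap φA.toRingHom
  have hqp : q.IsPrime := inferInstanceAs (Q.comap φA.toRingHom).IsPrime
  let p := q.comap MvPolynomial.C
  have hpp : p.IsPrime := inferInstanceAs (q.comap MvPolynomial.C).IsPrime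
  have := h.1
  have hIfg : (RingHom.ker φA.toRingHom).FG := by
    rw [hker A]
    exact Submodule.fg_span (Set.finite_range _)
  obtain ⟨G₁, hG, fl, hfI, ⟨h₁, ⟨b₁, rfl⟩, hh⟩, hfn, hdim⟩ := Groth.Syntomic.exists_equations φA
    (Groth.KoszulLCI.bcPres_surjective π hπ) hIfg p (h.2.2 ⟨p, hpp⟩) q rfl fun x hx => by
      change φA x ∈ Q
      rw [show φA x = 0 from hx]
      exact zero_mem _
  -- coefficients of the two inclusions
  have hc : ∀ k : Fin fl.length, ∃ c : Fin s → MvPolynomial (Fin n) A',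
      ∑ l, c l * MvPolynomial.map (algebraMap B A') (r l) = fl.get k := fun k ↦
    Ideal.mem_span_range_iff_exists_fun.mp (hker A ▸ hfI (Ideal.subset_span (List.get_mem fl k)))
  choose c hc using hc
  have he : ∀ l : Fin s, ∃ e : Fin fl.length → MvPolynomial (Fin n) A',
      ∑ k, e k * fl.get k = h₁ * MvPolynomial.map (algebraMap B A') (r l) := fun l ↦ by
    have := hh (MvPolynomial.map (algebraMap B A') (r l)) (hker A ▸ Ideal.subset_span ⟨l, rfl⟩)
    rw [← List.ofFn_get fl, Groth.Calg5.RelGCI.ofList_ofFn] at this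
    exact Ideal.mem_span_range_iff_exists_fun.mp this
  choose e he using he
  obtain ⟨i, ⟨ψ₀⟩, w, hw⟩ := exists_poly_lift B H i₀
    (Sum.elim (fun x : Fin fl.length × Fin s ↦ c x.1 x.2)
      (Sum.elim (fun x : Fin s × Fin fl.length ↦ e x.1 x.2) (fun b : Bool ↦ cond b h₁ b₁)))
  let R (l : Fin s) := MvPolynomial.map (algebraMap B (B ⊗[A₀] G i)) (r l)
  let fi (k : Fin fl.length) := ∑ l, w (Sum.inl (k, l)) * R l
  let hi := w (Sum.inr (Sum.inr true))
  let bi := w (Sum.inr (Sum.inr false))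
  have hfi : ∀ k, MvPolynomial.map (bmap B (g i)).toRingHom (fi k) = fl.get k := fun k ↦ by
    simp only [fi, R, A', map_sum, map_mul, hw, Sum.elim_inl, map_bmap_map, hc]
  obtain ⟨j, ψ, hψ⟩ := exists_poly_kill H
    (fun l ↦ hi * R l - ∑ k, w (Sum.inr (Sum.inl (l, k))) * fi k) fun l ↦ by
      simp only [hi, R, A', map_sub, map_sum, map_mul, hw, hfi, Sum.elim_inr, Sum.elim_inl, cond_true,
        map_bmap_map, he, sub_self]
  let Rj := B ⊗[A₀] G j
  let T := MvPolynomial.map (σ := Fin n) (bmap B ψ.1).toRingHom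
  let φj := Groth.KoszulLCI.bcPres (A' := Rj) (B' := Rj ⊗[B] C) π
  have hT : ∀ x, MvPolynomial.map (bmap B (g j)).toRingHom (T x) =
      MvPolynomial.map (bmap B (g i)).toRingHom x := fun x ↦ by
    rw [MvPolynomial.map_map, show (bmap B (g j)).toRingHom.comp (bmap B ψ.1).toRingHom =
      (bmap B (g i)).toRingHom from RingHom.ext fun y ↦ ?_]
    exact (AlgHom.congr_fun ((bmap_comp ψ.1 (g j)).symm.trans (by rw [ψ.2])) y)
  have : Module.Flat Rj (Rj ⊗[B] C) := flat_stage_mono (B := B) (C := C) (ψ₀.trans ψ).1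
  let Qj := Q.comap (cmap B C (g j)).toRingHom
  have hp : p = Q.comap (algebraMap A' (A' ⊗[B] C)) := by
    change (Q.comap φA.toRingHom).comap MvPolynomial.C = _
    rw [Ideal.comap_comap]
    congr 1
    exact RingHom.ext fun a ↦ φA.commutes a
  have hpj : Qj.comap (algebraMap Rj (Rj ⊗[B] C)) = p.comap (bmap B (g j)).toRingHom := by
    rw [hp, Ideal.comap_comap, Ideal.comap_comap]
    congr 1
  have hGim : cmap B C (g j) (φj (T hi * T bi)) = φA (h₁ * b₁) := by
    rw [cmap_bcPres, map_mul, hT, hT]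
    simp only [hi, bi, hw, Sum.elim_inr, cond_true, cond_false]
    rfl
  obtain ⟨t, ht, htat⟩ := exists_relGCI_nhd φj (Groth.KoszulLCI.bcPres_surjective π hπ) Qj
    (p.comap (bmap B (g j)).toRingHom) hpj (T hi * T bi)
    (fun h0 ↦ hG (show φA (h₁ * b₁) ∈ Q from hGim ▸ h0))
    (List.ofFn fun k ↦ T (fi k)) (by
      rw [Groth.Calg5.RelGCI.ofList_ofFn, hker, Ideal.span_le]
      rintro _ ⟨k, rfl⟩
      simp only [fi, R, T, map_sum, map_mul, map_bmap_map]
      exact Ideal.sum_mem _ fun l _ ↦ Ideal.mul_mem_left _ _ (Ideal.subset_span ⟨l, rfl⟩))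
    (T hi) (dvd_mul_right _ _) (fun x hx ↦ by
      rw [hker] at hx
      refine Submodule.span_induction ?_ (by simp) (fun a b _ _ ha hb ↦ ?_) (fun a b _ hb ↦ ?_) hx
      · rintro _ ⟨l, rfl⟩
        have := hψ l
        rw [map_sub, map_sum, map_mul, map_bmap_map, sub_eq_zero] at this
        rw [show T hi * MvPolynomial.map (algebraMap B Rj) (r l) = _ from this,
          Groth.Calg5.RelGCI.ofList_ofFn]
        exact Ideal.sum_mem _ fun k _ ↦ by
          rw [map_mul]
          exact Ideal.mul_mem_left _ _ (Ideal.subset_span ⟨k, rfl⟩)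
      · rw [mul_add]; exact add_mem ha hb
      · rw [smul_eq_mul, mul_left_comm]; exact Ideal.mul_mem_left _ _ hb)
    (by rw [List.length_ofFn]; exact hfn)
    (by
      rw [List.length_ofFn]
      exact (ringKrullDim_fiber_le_of_map (bmap B (g j)) p _ _ hGim).trans hdim)
  exact ⟨j, ψ₀.trans ψ, t, htat, ht⟩

/-- **Syntomic descends along directed colimits of rings.** -/
theorem exists_isSyntomic (H : IsColim f g) [Algebra.FinitePresentation B C]
    (h : Synt.IsSyntomic (B ⊗[A₀] A) ((B ⊗[A₀] A) ⊗[B] C)) :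
    ∃ i, Synt.IsSyntomic (B ⊗[A₀] G i) ((B ⊗[A₀] G i) ⊗[B] C) := by
  classical
  have := h.1
  obtain ⟨i₀, hi₀⟩ := exists_flat_stage (B := B) (C := C) H
  let S := (B ⊗[A₀] A) ⊗[B] C
  choose j ψ t hat htQ using fun Q : PrimeSpectrum S ↦
    exists_stage_relGCI_nhd H i₀ h Q.asIdeal
  have htop : Ideal.span (Set.range fun Q ↦ cmap B C (g (j Q)) (t Q)) = ⊤ := by
    by_contra hne
    obtain ⟨M, hM, hle⟩ := Ideal.exists_le_maximal _ hne
    exact htQ ⟨M, hM.isPrime⟩ (hle (Ideal.subset_span ⟨⟨M, hM.isPrime⟩, rfl⟩))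
  obtain ⟨c, hc⟩ := Finsupp.mem_span_range_iff_exists_finsupp.mp
    (show (1 : S) ∈ Ideal.span (Set.range fun Q ↦ cmap B C (g (j Q)) (t Q)) from htop ▸ trivial)
  obtain ⟨i, -, hi⟩ := exists_common_trans H i₀ c.support j
  have θ := hi
  obtain ⟨i', ⟨θ'⟩, w, hw⟩ := H.bsurj_finite (B := B) (M := C) i fun Q : c.support ↦ c Q.1
  let t' (Q : c.support) := cmap B C ((θ Q.1 Q.2).some.trans θ').1 (t Q.1)
  have ht' : ∀ Q : c.support, cmap B C (g i') (t' Q) = cmap B C (g (j Q.1)) (t Q.1) := fun Q ↦ by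
    rw [← cmap_comp, ((θ Q.1 Q.2).some.trans θ').2]
  obtain ⟨l, θ'', hl⟩ := H.bkill (B := B) (M := C) (∑ Q : c.support, w Q * t' Q - 1) (by
    rw [← cmap_eq_mmap, map_sub, map_sum, map_one, sub_eq_zero]
    simp only [map_mul, ht', cmap_eq_mmap (g i') (w _), hw]
    rw [Finset.sum_coe_sort c.support (fun Q ↦ c Q * cmap B C (g (j Q)) (t Q))]
    simpa [Finsupp.sum] using hc)
  rw [← cmap_eq_mmap, map_sub, map_sum, map_one, sub_eq_zero] at hl
  refine ⟨l, isSyntomic_of_span_eq_top (T := Set.range fun Q ↦ cmap B C θ''.1 (t' Q)) ?_ ?_⟩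
  · rw [Ideal.eq_top_iff_one, ← hl]
    exact Ideal.sum_mem _ fun Q _ ↦ by
      rw [map_mul]
      exact Ideal.mul_mem_left _ _ (Ideal.subset_span ⟨Q, rfl⟩)
  · rintro _ ⟨Q, rfl⟩
    exact IsRelGCIAt.map _ (IsRelGCIAt.map _ (hat Q.1))

end Stage

end Groth.Limits.SyntDescent
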