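import Groth.Agent.Limits.FibreVanishingGeneral
import Groth.Agent.CohBase.GlobalSections
import Groth.Agent.PicAux.TensorLift
import Groth.Agent.PicAux.PicLaw

/-!
# Top degree cohomology and its fibres

For `X` proper over `A` with fibres of dimension `≤ d`, vanishing of `H^d` on the fibre at a prime
implies vanishing of `H^d` at that prime; consequences for `H^d` of the structure module and of free
modules.
-/

universe u

open CategoryTheory Limits AlgebraicGeometry TopologicalSpace Opposite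
open scoped TensorProduct

set_option maxHeartbeats 800000
set_option backward.isDefEq.respectTransparency false
set_option backward.defeqAttrib.useBackward true
set_option backward.isDefEq.respectTransparency.types false

namespace Groth.Limits.FibreVanishing

open CohBase

section Exact

variable {A : Type u} [CommRing A] {X : Scheme.{u}} [X.Over (Spec (CommRingCat.of A))]
  [X.IsSeparated] [CompactSpace X]

/-- Right exactness in the top degree. -/
theorem exists_TFun_map_eq_of_map_eq_zero (G : GoodCover X) (F : X.Modules) [F.IsQuasicoherent]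
    (d : ℕ) (hvan : ∀ (K : X.Modules) [K.IsQuasicoherent], Subsingleton (Coh.HH X K (d + 1)))
    {M₁ M₂ M₃ : ModuleCat.{u} A} (φ : M₁ ⟶ M₂) (ψ : M₂ ⟶ M₃)
    (hex : Function.Exact φ.hom ψ.hom) (hψ : Function.Surjective ψ.hom)
    (c : (CohIII.TFun (cxA A G.U F) (d : ℤ)).obj M₂)
    (hc : (CohIII.TFun (cxA A G.U F) (d : ℤ)).map ψ c = 0) :
    ∃ c₁, (CohIII.TFun (cxA A G.U F) (d : ℤ)).map φ c₁ = c := by
  let T := CohIII.TFun (cxA A G.U F) (d : ℤ)
  let τ := (CohIII.tensorAFunctor A F).map ψ
  let σ := (CohIII.tensorAFunctor A F).map φ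
  have hz : σ ≫ τ = 0 := by
    rw [← Functor.map_comp]
    have : φ ≫ ψ = 0 := ModuleCat.hom_ext (LinearMap.ext fun m => hex.apply_apply_eq_zero m)
    rw [this]
    let P : ModuleCat.{u} A ⥤ X.Modules :=
      tilde.functor (CommRingCat.of A) ⋙ Scheme.Modules.pullback (X ↘ Spec (CommRingCat.of A))
    haveI : P.IsLeftAdjoint := ((tilde.adjunction (R := CommRingCat.of A)).comp
      (Scheme.Modules.pullbackPushforwardAdjunction _)).isLeftAdjoint
    change (DCoh.tensorRightMod F).map (P.map 0) = 0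
    rw [Functor.map_zero, Functor.map_zero]
  haveI hτ : Epi τ := CohC3.epi_of_cover τ fun x => by
    obtain ⟨W, hW, hx⟩ := QCohMod.exists_affine_mem x
    refine ⟨W, hW, hx, fun t => ?_⟩
    obtain ⟨z, rfl⟩ := (tensorSec_bijective F M₃ hW).2 t
    obtain ⟨z', rfl⟩ := LinearMap.lTensor_surjective (secA A F W) hψ z
    exact ⟨tensorSec F M₂ W z', tensorSec_map F M₂ ψ W z'⟩
  haveI : (kernel τ).IsQuasicoherent := QCohMod.isQCoh_kernel _
  let σ' : (CohIII.tensorAFunctor A F).obj M₁ ⟶ kernel τ := kernel.lift τ σ hz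
  haveI : Epi σ' := CohC3.epi_of_cover σ' fun x => by
    obtain ⟨W, hW, hx⟩ := QCohMod.exists_affine_mem x
    refine ⟨W, hW, hx, fun t => ?_⟩
    obtain ⟨z, hz⟩ := (tensorSec_bijective F M₂ hW).2 ((kernel.ι τ).app W t)
    have h0 : tensorSec F M₃ W (ψ.hom.lTensor (secA A F W) z) = 0 := by
      refine ((tensorSec_map F M₂ ψ W z).symm.trans ?_)
      rw [hz]
      exact congr($(kernel.condition τ).app W t)
    have h1 : ψ.hom.lTensor (secA A F W) z = 0 :=
      (tensorSec_bijective F M₃ hW).1 (h0.trans (map_zero _).symm)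
    obtain ⟨z₁, rfl⟩ := (lTensor_exact (secA A F W) hex hψ z).1 h1
    refine ⟨tensorSec F M₁ W z₁, QCohMod.app_injective_of_mono (kernel.ι τ) W ?_⟩
    refine Eq.trans ?_ hz
    refine (congr($(kernel.lift_ι τ σ _).app W (tensorSec F M₁ W z₁))).trans ?_
    exact tensorSec_map F M₁ φ W z₁
  let S : ShortComplex X.Modules := ShortComplex.mk (kernel.ι τ) τ (kernel.condition τ)
  have hS : S.ShortExact :=
    ShortComplex.ShortExact.mk' (ShortComplex.exact_of_f_is_kernel S (kernelIsKernel τ))
      inferInstance inferInstance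
  have hcT : CohC3.hmap A τ d (tensorIsoApp A G F d M₂ c) = 0 := by
    have h := congr($((tensorIso A G F d).hom.naturality ψ) c)
    refine Eq.trans h.symm ?_
    change tensorIsoApp A G F d M₃ (T.map ψ c) = 0
    rw [hc, map_zero]
  obtain ⟨y, hy⟩ := CohC3.exists_of_hmap_g_eq_zero (A := A) hS _ hcT
  let S' : ShortComplex X.Modules := ShortComplex.mk (kernel.ι σ') σ' (kernel.condition σ')
  have hS' : S'.ShortExact :=
    ShortComplex.ShortExact.mk' (ShortComplex.exact_of_f_is_kernel S' (kernelIsKernel σ'))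
      inferInstance inferInstance
  haveI : (kernel σ').IsQuasicoherent := QCohMod.isQCoh_kernel _
  haveI := hvan (kernel σ')
  obtain ⟨y₁, hy₁⟩ := CohC3.exists_of_hdelta_eq_zero (A := A) hS' y (Subsingleton.elim _ _)
  refine ⟨(tensorIsoApp A G F d M₁).symm y₁, (tensorIsoApp A G F d M₂).injective ?_⟩
  have h := congr($((tensorIso A G F d).hom.naturality φ) ((tensorIsoApp A G F d M₁).symm y₁))
  refine Eq.trans h ?_
  change CohC3.hmap A σ d (tensorIsoApp A G F d M₁ ((tensorIsoApp A G F d M₁).symm y₁)) = _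
  rw [AddEquiv.apply_symm_apply, ← hy, ← hy₁]
  exact (congrArg (fun t => CohC3.hmap A t d y₁) (kernel.lift_ι τ σ hz).symm).trans
    (CohC3.hmap_comp _ _ _ _).symm

end Exact

section Vanish

variable {A : Type u} [CommRing A] {X : Scheme.{u}} [X.Over (Spec (CommRingCat.of A))]

open CategoryTheory in
/-- Multiplication maps form a module structure on `T(B)`; vanishing after reduction forces vanishing
at the prime, for finitely generated top cohomology. -/
theorem exists_smul_eq_zero_of_fibre [IsProper (X ↘ Spec (CommRingCat.of A))] (d : ℕ)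
    (hd : ∀ P, topologicalKrullDim ↥((X ↘ Spec (CommRingCat.of A)).fiber P) ≤ d) (F : X.Modules)
    (hF : Coh.IsCoh F) (k : Type u) [Field k] [Algebra A k] {Xk : Scheme.{u}}
    [Xk.Over (Spec (CommRingCat.of k))] {gk : Xk ⟶ X} (hsqk : IsBC (A := A) (A' := k) gk)
    (hk : Subsingleton (Coh.HH Xk ((Scheme.Modules.pullback gk).obj F) d)) (h : Coh.HH X F d) :
    ∃ s : A, algebraMap A k s ≠ 0 ∧ s • h = 0 := by
  classical
  haveI := hF.1
  let f := X ↘ Spec (CommRingCat.of A)
  haveI : CompactSpace X := CohFin.compactSpace_of_proper f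
  haveI : X.IsSeparated := CohFin.isSeparated_of_proper f
  have hvan : ∀ (K : X.Modules) [K.IsQuasicoherent], Subsingleton (Coh.HH X K (d + 1)) :=
    fun K hK => subsingleton_HH_of_dim_fiber_le (A := A) d hd K (d + 1) (Nat.lt_succ_self d)
  let P := RingHom.ker (algebraMap A k)
  haveI : P.IsPrime := RingHom.ker_isPrime _
  let B := Localization.AtPrime P
  have hunit : ∀ s : P.primeCompl, IsUnit (algebraMap A k s) := fun s =>
    isUnit_iff_ne_zero.2 fun e => s.2 e
  let ψ₀ : B →+* k := IsLocalization.lift hunit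
  have hψ₀ : ∀ a, ψ₀ (algebraMap A B a) = algebraMap A k a := IsLocalization.lift_eq hunit
  let m := IsLocalRing.maximalIdeal B
  have hm : m ≤ RingHom.ker ψ₀ := by
    rw [show m = Ideal.map (algebraMap A B) P from Localization.AtPrime.map_eq_maximalIdeal.symm,
      Ideal.map_le_iff_le_comap]
    intro a ha
    rw [Ideal.mem_comap, RingHom.mem_ker, hψ₀]
    exact ha
  let k₀ := IsLocalRing.ResidueField B
  let θ : k₀ →+* k := Ideal.Quotient.lift m ψ₀ fun a ha => hm ha
  letI : Algebra k₀ k := θ.toAlgebra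
  haveI : IsScalarTower A k₀ k := IsScalarTower.of_algebraMap_eq fun a => (hψ₀ a).symm
  obtain ⟨G⟩ := CohBase.exists_goodCover X
  let T := CohIII.TFun (cxA A G.U F) (d : ℤ)
  obtain ⟨ek, -⟩ := CohBase.exists_bcEquiv hsqk F G d
  haveI hTk : Subsingleton (T.obj (ModuleCat.of A k)) := ek.toEquiv.subsingleton
  -- `T(k₀)` is a retract of `T(k)`
  let i₀ : k₀ →ₗ[k₀] k := Algebra.linearMap k₀ k
  obtain ⟨r₀, hr₀⟩ := i₀.exists_leftInverse_of_injective
    (LinearMap.ker_eq_bot.2 θ.injective)
  haveI hT0 : Subsingleton (T.obj (ModuleCat.of A k₀)) := subsingleton_of_forall_eq 0 fun c => by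
    let i' : ModuleCat.of A k₀ ⟶ ModuleCat.of A k := ModuleCat.ofHom (i₀.restrictScalars A)
    let r' : ModuleCat.of A k ⟶ ModuleCat.of A k₀ := ModuleCat.ofHom (r₀.restrictScalars A)
    have e : i' ≫ r' = 𝟙 _ := ModuleCat.hom_ext (LinearMap.ext fun x => congr($hr₀ x))
    have : T.map r' (T.map i' c) = c := by
      rw [← ModuleCat.comp_apply, ← Functor.map_comp, e, T.map_id]
      rfl
    rw [← this, Subsingleton.elim (T.map i' c) 0, map_zero]
  -- cohomology over the local ring
  let j : Spec (CommRingCat.of B) ⟶ Spec (CommRingCat.of A) :=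
    Spec.map (CommRingCat.ofHom (algebraMap A B))
  let X' : Scheme.{u} := pullback f j
  let g : X' ⟶ X := pullback.fst f j
  letI : X'.Over (Spec (CommRingCat.of B)) := ⟨pullback.snd f j⟩
  have hsq : CohBase.IsBC (A := A) (A' := B) g := IsPullback.of_hasPullback f j
  haveI := QCohMod.isQCoh_pullback_obj g F
  suffices hsub : Subsingleton (Coh.HH X' ((Scheme.Modules.pullback g).obj F) d) by
    obtain ⟨s, hs, hsh⟩ := exists_smul_eq_zero_of_bc P.primeCompl hsq F d hsub h
    exact ⟨s, fun e => hs e, hsh⟩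
  obtain ⟨eB, heB⟩ := CohBase.exists_bcEquiv hsq F G d
  let H' := Coh.HH X' ((Scheme.Modules.pullback g).obj F) d
  haveI : Module.Finite B H' := finite_HH_pullback hsq F d hvan (finite_HH_top d hd F hF)
  let incl : ModuleCat.of A m ⟶ ModuleCat.of A B :=
    ModuleCat.ofHom ((Submodule.subtype m).restrictScalars A)
  let π : ModuleCat.of A B ⟶ ModuleCat.of A k₀ :=
    ModuleCat.ofHom (IsScalarTower.toAlgHom A B k₀).toLinearMap
  have hex : Function.Exact incl.hom π.hom := fun b => by
    constructor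
    · intro hb
      exact ⟨⟨b, Ideal.Quotient.eq_zero_iff_mem.1 hb⟩, rfl⟩
    · rintro ⟨y, rfl⟩
      exact Ideal.Quotient.eq_zero_iff_mem.2 y.2
  have hsurj : Function.Surjective π.hom := IsLocalRing.residue_surjective
  have key : ∀ c : T.obj (ModuleCat.of A B), eB c ∈ m • (⊤ : Submodule B H') := by
    intro c
    obtain ⟨c₁, rfl⟩ := exists_TFun_map_eq_of_map_eq_zero G F d hvan incl π hex hsurj c
      (Subsingleton.elim _ _)
    refine AddSubgroup.closure_induction (p := fun c₁ _ => eB (T.map incl c₁) ∈ m • ⊤) ?_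
      (by rw [map_zero, map_zero]; exact zero_mem _)
      (fun a b _ _ ha hb => by rw [map_add, map_add]; exact add_mem ha hb)
      (fun a _ ha => by rw [map_neg, map_neg]; exact neg_mem ha)
      (exists_span_TFun G F d hvan m c₁)
    rintro _ ⟨b, c₀, rfl⟩
    let α : ModuleCat.of A A ⟶ ModuleCat.of A B := ModuleCat.ofHom (Algebra.linearMap A B)
    have e : (show ModuleCat.of A A ⟶ ModuleCat.of A m from
        ModuleCat.ofHom (LinearMap.toSpanSingleton A m b)) ≫ incl =
        α ≫ ModuleCat.ofHom (LinearMap.mul A B b.1) :=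
      ModuleCat.hom_ext (LinearMap.ext_ring (by simp [α, incl]))
    rw [← ModuleCat.comp_apply, ← Functor.map_comp, e, Functor.map_comp, ModuleCat.comp_apply, heB]
    exact Submodule.smul_mem_smul b.2 trivial
  have hle : (⊤ : Submodule B H') ≤ m • ⊤ := fun y _ => by
    obtain ⟨c, rfl⟩ := eB.surjective y
    exact key c
  have htop := Submodule.eq_bot_of_le_smul_of_le_jacobson_bot m ⊤
    Module.Finite.fg_top hle (IsLocalRing.maximalIdeal_le_jacobson ⊥)
  exact subsingleton_of_forall_eq 0 fun y => (Submodule.mem_bot B).1 (htop.le trivial)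

/-- `H^d` of a base change vanishes if every class of `H^d` is killed by an element which becomes
invertible. -/
theorem subsingleton_HH_of_killed [IsProper (X ↘ Spec (CommRingCat.of A))] (d : ℕ)
    (hd : ∀ P, topologicalKrullDim ↥((X ↘ Spec (CommRingCat.of A)).fiber P) ≤ d) (F : X.Modules)
    [F.IsQuasicoherent] {A' : Type u} [CommRing A'] [Algebra A A'] {X' : Scheme.{u}}
    [X'.Over (Spec (CommRingCat.of A'))] {g : X' ⟶ X} (hsq : IsBC (A := A) (A' := A') g)
    (hkill : ∀ h : Coh.HH X F d, ∃ s : A, IsUnit (algebraMap A A' s) ∧ s • h = 0) :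
    Subsingleton (Coh.HH X' ((Scheme.Modules.pullback g).obj F) d) := by
  haveI : CompactSpace X := CohFin.compactSpace_of_proper (X ↘ Spec (CommRingCat.of A))
  haveI : X.IsSeparated := CohFin.isSeparated_of_proper (X ↘ Spec (CommRingCat.of A))
  have hvan : ∀ (K : X.Modules) [K.IsQuasicoherent], Subsingleton (Coh.HH X K (d + 1)) :=
    fun K hK => subsingleton_HH_of_dim_fiber_le (A := A) d hd K (d + 1) (Nat.lt_succ_self d)
  obtain ⟨G⟩ := CohBase.exists_goodCover X
  obtain ⟨e, -⟩ := CohBase.exists_bcEquiv hsq F G d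
  let T := CohIII.TFun (cxA A G.U F) (d : ℤ)
  suffices h0 : ∀ c : T.obj (ModuleCat.of A A'), c = 0 from
    subsingleton_of_forall_eq 0 fun y => by
      obtain ⟨c, rfl⟩ := e.surjective y
      rw [h0 c, map_zero]
  intro c
  refine AddSubgroup.closure_induction (p := fun c _ => c = 0) ?_ rfl
    (fun a b _ _ ha hb => by rw [ha, hb, add_zero]) (fun a _ ha => by rw [ha, neg_zero])
    (exists_span_TFun G F d hvan A' c)
  rintro _ ⟨b, c₀, rfl⟩
  obtain ⟨s, hs, hsc⟩ := hkill (selfLinIso A G F d c₀)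
  have hc₀ : s • c₀ = 0 :=
    (selfLinIso A G F d).injective (by rw [map_smul, hsc, map_zero])
  obtain ⟨v, hv⟩ := hs.exists_left_inv
  obtain ⟨z, rfl⟩ := FlatCxBase.clsT_surjective (cxA A G.U F) (FlatCxBase.cochain_next (d : ℤ))
    (ModuleCat.of A A) c₀
  let φ : ModuleCat.of A A ⟶ ModuleCat.of A A' :=
    ModuleCat.ofHom (LinearMap.toSpanSingleton A A' (v * b))
  have : T.map φ (s • FlatCxBase.clsT (cxA A G.U F) (FlatCxBase.cochain_next (d : ℤ)) _ z) = 0 := by
    rw [hc₀, map_zero]
  refine Eq.trans ?_ this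
  rw [← map_smul, FlatCxBase.TFun_map_clsT, FlatCxBase.TFun_map_clsT]
  congr 1
  apply Subtype.ext
  change (LinearMap.toSpanSingleton A A' b).lTensor _ z.1 =
    (LinearMap.toSpanSingleton A A' (v * b)).lTensor _ (s • z.1)
  rw [map_smul, ← LinearMap.smul_apply, ← LinearMap.lTensor_smul]
  congr 2
  refine LinearMap.ext_ring ?_
  simp only [LinearMap.toSpanSingleton_apply, one_smul, LinearMap.smul_apply, Algebra.smul_def]
  simp only [map_one, one_mul, mul_one]
  rw [← mul_assoc, mul_comm (algebraMap A A' s), hv, one_mul]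

/-- `H^d` of a free module vanishes with that of the structure module. -/
theorem subsingleton_HH_free [IsProper (X ↘ Spec (CommRingCat.of A))] (d : ℕ)
    (hd : ∀ P, topologicalKrullDim ↥((X ↘ Spec (CommRingCat.of A)).fiber P) ≤ d)
    (h0 : Subsingleton (Coh.HH X (Coh.structureModule X) d)) (ι : Type u) :
    Subsingleton (Coh.HH X (∐ fun _ : ι => Coh.structureModule X) d) := by
  let f := X ↘ Spec (CommRingCat.of A)
  haveI : CompactSpace X := CohFin.compactSpace_of_proper f
  haveI : X.IsSeparated := CohFin.isSeparated_of_proper f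
  haveI : (Coh.structureModule X).IsQuasicoherent := inferInstance
  have hvan : ∀ (K : X.Modules) [K.IsQuasicoherent], Subsingleton (Coh.HH X K (d + 1)) :=
    fun K hK => subsingleton_HH_of_dim_fiber_le (A := A) d hd K (d + 1) (Nat.lt_succ_self d)
  obtain ⟨G⟩ := CohBase.exists_goodCover X
  let L : ModuleCat.{u} A := ∐ fun _ : ι => ModuleCat.of A A
  let T := CohIII.TFun (cxA A G.U (Coh.structureModule X)) (d : ℤ)
  have hT : ∀ c : T.obj (ModuleCat.of A L), c = 0 := fun c => by
    refine AddSubgroup.closure_induction (p := fun c _ => c = 0) ?_ rfl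
      (fun a b _ _ ha hb => by rw [ha, hb, add_zero]) (fun a _ ha => by rw [ha, neg_zero])
      (exists_span_TFun G (Coh.structureModule X) d hvan L c)
    rintro _ ⟨b, c₀, rfl⟩
    rw [(selfLinIso A G (Coh.structureModule X) d).injective (Subsingleton.elim _
      (selfLinIso A G (Coh.structureModule X) d 0)) (a₁ := c₀), map_zero]
  have hG : Subsingleton (Coh.HH X ((CohIII.tensorAFunctor A (Coh.structureModule X)).obj L) d) :=
    subsingleton_of_forall_eq 0 fun y => by
      obtain ⟨c, rfl⟩ := (tensorIsoApp A G (Coh.structureModule X) d L).surjective y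
      rw [show c = 0 from hT c, map_zero]
  let P : ModuleCat.{u} A ⥤ X.Modules :=
    tilde.functor (CommRingCat.of A) ⋙ Scheme.Modules.pullback f
  haveI : P.IsLeftAdjoint :=
    ((tilde.adjunction (R := CommRingCat.of A)).comp
      (Scheme.Modules.pullbackPushforwardAdjunction f)).isLeftAdjoint
  haveI : PreservesColimit (Discrete.functor fun _ : ι => ModuleCat.of A A) P :=
    haveI := (Adjunction.ofIsLeftAdjoint P).leftAdjoint_preservesColimits
    inferInstance
  obtain ⟨ef⟩ := PicAux.pullback_structure_iso f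
  let e₁ : P.obj (ModuleCat.of A A) ≅ Coh.structureModule X :=
    (Scheme.Modules.pullback f).mapIso (tildeSelf (R := CommRingCat.of A)) ≪≫ ef
  let e : (∐ fun _ : ι => Coh.structureModule X) ≅
      (CohIII.tensorAFunctor A (Coh.structureModule X)).obj L :=
    Sigma.mapIso (fun _ => e₁.symm) ≪≫ (PreservesCoproduct.iso P _).symm ≪≫
      (SecTwist.unitorR (P.obj L)).symm
  exact (CohC3.hmap_bijective_of_isIso (A := A) e.hom d).1.subsingleton

end Vanish

/-- The structure sheaf criterion at a point of an affine base. -/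
theorem exists_smul_eq_zero_of_fiber_H {X Y : Scheme.{u}} (f : X ⟶ Y) [IsProper f] {V : Y.Opens}
    (hV : IsAffineOpen V) (d : ℕ) (hd : ∀ y ∈ V, topologicalKrullDim ↥(f.fiber y) ≤ d)
    (y : Y) (hy : y ∈ V)
    (h1 : Subsingleton (Coh.HH (f.fiber y) (Coh.structureModule (f.fiber y)) d)) :
    letI : ((f ⁻¹ᵁ V : X.Opens) : Scheme.{u}).Over (Spec (CommRingCat.of Γ(Y, V))) :=
      ⟨preimageToSpec f⟩
    ∀ h : Coh.HH (f ⁻¹ᵁ V : X.Opens) (Coh.structureModule (f ⁻¹ᵁ V : X.Opens)) d,
      ∃ s : Γ(Y, V), y ∈ Y.basicOpen s ∧ s • h = 0 := by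
  letI : ((f ⁻¹ᵁ V : X.Opens) : Scheme.{u}).Over (Spec (CommRingCat.of Γ(Y, V))) :=
    ⟨preimageToSpec f⟩
  intro h
  letI : Algebra Γ(Y, V) (Y.residueField y) := (Y.evaluation V y hy).hom.toAlgebra
  letI : (f.fiber y).Over (Spec (CommRingCat.of (Y.residueField y))) :=
    ⟨f.fiberToSpecResidueField y⟩
  haveI : IsProper ((f ⁻¹ᵁ V : X.Opens).toScheme ↘ Spec (CommRingCat.of Γ(Y, V))) :=
    MorphismProperty.of_isPullback (isPullback_preimageToSpec f hV) ‹IsProper f›
  have hd' : ∀ P, topologicalKrullDim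
      ↥(((f ⁻¹ᵁ V : X.Opens).toScheme ↘ Spec (CommRingCat.of Γ(Y, V))).fiber P) ≤ d := fun P => by
    have hP : hV.fromSpec.base P ∈ V := hV.range_fromSpec.le ⟨P, rfl⟩
    have e : hV.primeIdealOf ⟨_, hP⟩ = P := hV.fromSpec.isEmbedding.injective
      (hV.fromSpec_primeIdealOf ⟨_, hP⟩)
    have h := dim_fiber_preimageToSpec_le f hV _ hP d (hd _ hP)
    rwa [e] at h
  obtain ⟨e⟩ := PicAux.pullback_structure_iso (fibreToPreimage f y hy)
  have hF : Coh.IsCoh (Coh.structureModule (f ⁻¹ᵁ V : X.Opens).toScheme) :=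
    (QCohMod.isCoh_iff _).mpr
      ⟨inferInstance, fun U _ => inferInstanceAs
        (Module.Finite Γ((f ⁻¹ᵁ V : X.Opens).toScheme, U) Γ((f ⁻¹ᵁ V : X.Opens).toScheme, U))⟩
  haveI := h1
  obtain ⟨s, hs, hsh⟩ := exists_smul_eq_zero_of_fibre (X := (f ⁻¹ᵁ V : X.Opens).toScheme) d hd' _ hF
    (Y.residueField y) (gk := fibreToPreimage f y hy) (isPullback_fibreToPreimage f hV y hy)
    (CohC3.hmap_bijective_of_isIso (A := Y.residueField y) e.hom d).1.subsingleton h
  exact ⟨s, (Y.evaluation_ne_zero_iff_mem_basicOpen y hy s).1 hs, hsh⟩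

end Groth.Limits.FibreVanishing
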