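import Groth.Agent.Limits.HomDescent
import Groth.Agent.S4599
import Mathlib.AlgebraicGeometry.Morphisms.FormallyUnramified

/-!
# Descending formally unramified morphisms along limits
-/

set_option backward.isDefEq.respectTransparency false
set_option backward.defeqAttrib.useBackward true

universe u

open CategoryTheory Limits AlgebraicGeometry

namespace Groth.Limits

/-- The diagonal of a base change is a base change of the diagonal. -/
theorem isOpenImmersion_diagonal_iff {X₀ Y₀ S A T XT : Scheme.{u}} {f₀ : X₀ ⟶ Y₀} {g₀ : Y₀ ⟶ S}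
    {a : A ⟶ S} {q : T ⟶ Y₀} {gT : T ⟶ A} {qX : XT ⟶ X₀} {fT : XT ⟶ T}
    (hT : IsPullback q gT g₀ a) (hX : IsPullback qX fT f₀ q) :
    IsOpenImmersion (pullback.diagonal fT) ↔ IsOpenImmersion (pullback.snd (pullback.diagonal f₀)
      (pullback.snd a (pullback.fst f₀ f₀ ≫ f₀ ≫ g₀))) := by
  let M : pullback fT fT ⟶ pullback f₀ f₀ := pullback.map _ _ _ _ qX qX q hX.w.symm hX.w.symm
  have hA : IsPullback M (pullback.fst fT fT) (pullback.fst f₀ f₀) qX := by
    refine IsPullback.of_right (h₁₂ := pullback.snd f₀ f₀) (v₁₃ := f₀) (h₂₂ := f₀) ?_ (by simp [M])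
      (IsPullback.of_hasPullback f₀ f₀).flip
    rw [show M ≫ pullback.snd f₀ f₀ = pullback.snd fT fT ≫ qX by simp [M], hX.w]
    exact (IsPullback.of_hasPullback fT fT).flip.paste_horiz hX
  have hD : IsPullback qX (pullback.diagonal fT) (pullback.diagonal f₀) M :=
    IsPullback.of_bot (h₃₁ := qX) (v₂₁ := pullback.fst fT fT) (v₂₂ := pullback.fst f₀ f₀)
      (by rw [pullback.diagonal_fst, pullback.diagonal_fst]; exact IsPullback.of_vert_isIso ⟨by simp⟩)
      (by apply pullback.hom_ext <;> simp [M]) hA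
  have hM : IsPullback (pullback.fst fT fT ≫ fT ≫ gT) M a (pullback.fst f₀ f₀ ≫ f₀ ≫ g₀) :=
    ((hA.paste_vert hX).paste_vert hT).flip.of_iso (Iso.refl _) (Iso.refl _) (Iso.refl _)
      (Iso.refl _) (by simp) (by simp) (by simp) (by simp)
  have e1 : hM.isoPullback.hom ≫ pullback.snd a _ = M := hM.isoPullback_hom_snd
  have e2 : hM.isoPullback.inv ≫ M = pullback.snd a _ := hM.isoPullback_inv_snd
  have hiso : pullback.diagonal fT = hD.isoPullback.hom ≫ pullback.snd (pullback.diagonal f₀) M :=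
    hD.isoPullback_hom_snd.symm
  rw [hiso, MorphismProperty.cancel_left_of_respectsIso @IsOpenImmersion]
  exact ⟨fun h ↦ prop_snd_comp @IsOpenImmersion _ _ _ _ e2 h,
    fun h ↦ prop_snd_comp @IsOpenImmersion _ _ _ _ e1 h⟩

variable {I : Type u} [Category.{u} I] [IsCofiltered I] {D : I ⥤ Scheme.{u}}
  [∀ (i j : I) (m : i ⟶ j), IsAffineHom (D.map m)] {c : Cone D} (hc : IsLimit c)
  {i₀ : I} {X₀ Y₀ X Y : Scheme.{u}} {f₀ : X₀ ⟶ Y₀} {g₀ : Y₀ ⟶ D.obj i₀} {f : X ⟶ Y}
  {g : Y ⟶ c.pt} {qY : Y ⟶ Y₀} {qX : X ⟶ X₀} (hY : IsPullback qY g g₀ (c.π.app i₀))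
  (hX : IsPullback qX f f₀ qY)

include hc hY hX in
/-- If the base change of `f₀` to the limit is formally unramified, so is it at some stage. -/
theorem exists_formallyUnramified_stage [CompactSpace (pullback f₀ f₀ : Scheme.{u})]
    [QuasiSeparated f₀] [LocallyOfFiniteType f₀] [FormallyUnramified f] :
    ∃ j : Over i₀, FormallyUnramified (pullback.snd f₀ (pullback.snd (D.map j.hom) g₀)) := by
  have : LocallyOfFiniteType f := MorphismProperty.of_isPullback hX inferInstance
  let w := pullback.fst f₀ f₀ ≫ f₀ ≫ g₀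
  let D' := pullbackDiagram D i₀ w
  let p₀ := pullback.snd (D.map (𝟙 i₀)) w
  let k₀ : Over i₀ := Over.mk (𝟙 i₀)
  let δ := pullback.snd (pullback.diagonal f₀) p₀
  have : CompactSpace (D'.obj k₀) :=
    QuasiCompact.compactSpace_of_compactSpace (pullback.snd (D.map (𝟙 i₀)) w)
  have hlim : IsOpenImmersion (pullback.snd (pullback.diagonal f₀) (pullback.snd (c.π.app i₀) w)) :=
    (isOpenImmersion_diagonal_iff hY hX).1 inferInstance
  have hπ : (pullbackCone D i₀ w c).π.app k₀ ≫ p₀ = pullback.snd (c.π.app i₀) w :=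
    pullback.lift_snd _ _ _
  have : LocallyOfFinitePresentation (pullback.diagonal f₀) :=
    Groth.Agent.S4599.result f₀
  have : QuasiCompact (pullback.diagonal f₀) := inferInstance
  have hcomp : ∀ {A B : Scheme.{u}} (r : A ⟶ B) (p : B ⟶ pullback f₀ f₀) (q : A ⟶ pullback f₀ f₀),
      r ≫ p = q → IsOpenImmersion (pullback.snd (pullback.diagonal f₀) q) →
        IsOpenImmersion (pullback.snd (pullback.snd (pullback.diagonal f₀) p) r) := by
    rintro A B r p _ rfl h
    rw [← pullbackLeftPullbackSndIso_hom_snd]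
    infer_instance
  obtain ⟨j, φ, hj⟩ := exists_isOpenImmersion_stage D' (i := k₀) δ (isLimitPullbackCone D i₀ w hc)
    (hcomp _ _ _ hπ hlim)
  refine ⟨j, ?_⟩
  have hb : D'.map φ ≫ p₀ = pullback.snd (D.map j.hom) w := pullback.lift_snd _ _ _
  have h2 : IsOpenImmersion (pullback.snd (pullback.diagonal f₀) (pullback.snd (D.map j.hom) w)) := by
    have h3 : IsOpenImmersion (pullback.snd (pullback.diagonal f₀) (D'.map φ ≫ p₀)) := by
      have := hj
      rw [show pullback.snd (pullback.diagonal f₀) (D'.map φ ≫ p₀) =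
        (pullbackLeftPullbackSndIso (pullback.diagonal f₀) p₀ (D'.map φ)).inv ≫
          pullback.snd δ (D'.map φ) by rw [Iso.eq_inv_comp, pullbackLeftPullbackSndIso_hom_snd]]
      infer_instance
    exact prop_snd_comp @IsOpenImmersion _ (𝟙 _) _ _ (by rw [Category.id_comp, hb]) h3
  have := (isOpenImmersion_diagonal_iff (IsPullback.of_hasPullback (D.map j.hom) g₀).flip
    (IsPullback.of_hasPullback f₀ (pullback.snd (D.map j.hom) g₀))).2 h2
  infer_instance

end Groth.Limits
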